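import Groth.Agent.H26.FMod.Compl
import Groth.Agent.FComplLib.KrullSupp
import Groth.Agent.QCoh.AnnIdeal
import Groth.Agent.QCoh.DevissageP
import Groth.Agent.QCoh.Serre

/-!
# Completion detects injectivity and surjectivity over complete rings
-/

noncomputable section

set_option autoImplicit false
set_option linter.style.haveILetI false
set_option backward.isDefEq.respectTransparency false
set_option backward.isDefEq.respectTransparency.types false

universe u

open CategoryTheory CategoryTheory.Limits TopologicalSpace Opposite AlgebraicGeometry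

namespace Groth.Agent.H26.FMod

/-- A module with zero stalks is zero. -/
lemma isZero_of_support_eq_empty {X : Scheme.{u}} {K : X.Modules} (hK : CohB1.support K = ∅) : IsZero K := by
  rw [IsZero.iff_id_eq_zero]
  refine Scheme.Modules.hom_ext _ _ fun V => ?_
  ext s
  have hz : ∀ t : Γ(K, V), t = 0 := fun t => by
    refine QCoh.eq_zero_of_locally _ t fun p hp => ?_
    obtain ⟨W, hpW, i, j, e⟩ := K.presheaf.germ_eq p hp hp t 0
      ((not_not.1 fun h => (Set.eq_empty_iff_forall_notMem.1 hK p) h : Subsingleton (K.presheaf.stalk p)).elim _ _)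
    exact ⟨W, i, hpW, e.trans (map_zero _)⟩
  exact (hz s).trans (hz _).symm

variable {X : Scheme.{u}} [IsLocallyNoetherian X] (𝓘 : X.IdealSheafData)
  (hl : (FSch.completionAlong X 𝓘).IsLocNoethFormal)

/-- Vanishing of the completion kills the support on the subscheme. -/
lemma disjoint_support_of_isZero_pull {K : X.Modules} (hK : Coh.IsCoh K)
    (h0 : IsZero ((toX 𝓘 hl.1).pull.obj K)) : ∀ x ∈ (𝓘.support : Set X), x ∉ CohB1.support K := by
  intro x hx hxK
  haveI : IsIso (thetaK (FSch.completionAlong X 𝓘) hl.1 (FSch.completionToX X 𝓘) (FSch.completionToX_comm X 𝓘) K 0) :=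
    isIso_thetaK _ _ _ _ K 0
  haveI : (FSch.levelMor (FSch.completionAlong X 𝓘) hl.1 0).pull.PreservesZeroMorphisms :=
    Functor.preservesZeroMorphisms_of_isLeftAdjoint _
  have hz : IsZero ((Scheme.Modules.pullback (FSch.completionToX X 𝓘 0)).obj K) :=
    (((FSch.levelMor (FSch.completionAlong X 𝓘) hl.1 0).pull.map_isZero h0)).of_iso
      (asIso (thetaK (FSch.completionAlong X 𝓘) hl.1 (FSch.completionToX X 𝓘) (FSch.completionToX_comm X 𝓘) K 0)).symm
  have he := QCoh.support_eq_empty_of_isZero hz (QCoh.isQCoh_of_isZero hz)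
  rw [QCoh.support_pullback _ hK.1 hK.2] at he
  rw [← Scheme.IdealSheafData.support_pow_succ (I := 𝓘) 0, ← Scheme.IdealSheafData.range_subschemeι] at hx
  obtain ⟨y, rfl⟩ := hx
  exact Set.eq_empty_iff_forall_notMem.1 he y hxK

variable (A : Type u) [CommRing A] (J : Ideal A) [IsAdicComplete J A]
  (f : X ⟶ Spec (CommRingCat.of A)) (hf : IsClosedMap f.base)
  (h𝓘 : 𝓘 = (FSch.idealSpec A J).comap f)

include hf h𝓘 in
/-- Over a complete base, vanishing of the completion implies vanishing. -/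
theorem isZero_of_isZero_pull {K : X.Modules} (hK : Coh.IsCoh K) (h0 : IsZero ((toX 𝓘 hl.1).pull.obj K)) :
    IsZero K := by
  refine isZero_of_support_eq_empty (Set.eq_empty_iff_forall_notMem.2 fun x hx => ?_)
  have hcl : IsClosed (f.base '' CohB1.support K) := hf _ (QCoh.isClosed_support_of_isFT hK.1 hK.2)
  obtain ⟨m, hm, hle⟩ := Ideal.exists_le_maximal (f.base x).asIdeal (f.base x).isPrime.ne_top
  have hmem : (⟨m, hm.isPrime⟩ : PrimeSpectrum A) ∈ f.base '' CohB1.support K :=
    ((PrimeSpectrum.le_iff_specializes (f.base x) ⟨m, hm.isPrime⟩).1 hle).mem_closed hcl ⟨x, hx, rfl⟩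
  obtain ⟨y, hy, hym⟩ := hmem
  refine disjoint_support_of_isZero_pull 𝓘 hl hK h0 y ?_ hy
  rw [h𝓘, Scheme.IdealSheafData.support_comap]
  show f.base y ∈ ((FSch.idealSpec A J).support : Set _)
  rw [FSch.idealSpec, Scheme.Hom.support_ker, hym]
  refine subset_closure ?_
  have hr := range_comap_of_surjective _ (Ideal.Quotient.mk J) Ideal.Quotient.mk_surjective
  rw [Ideal.mk_ker] at hr
  show (⟨m, hm.isPrime⟩ : PrimeSpectrum A) ∈ Set.range (PrimeSpectrum.comap (Ideal.Quotient.mk J))
  rw [hr]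
  exact (IsAdicComplete.le_jacobson_bot J).trans (sInf_le ⟨bot_le, hm⟩)

include hf h𝓘 in
/-- Mono and epi are detected on the completion. -/
theorem mono_epi_iff (hflat : ModSite.RMor.IsFlat (toX 𝓘 hl.1)) {F G : X.Modules} (hF : Coh.IsCoh F)
    (hG : Coh.IsCoh G) (u : F ⟶ G) :
    (Mono (FSch.ModSys.realModMap hl.1 (FSch.complModMap 𝓘 u)) ↔ Mono u) ∧
      (Epi (FSch.ModSys.realModMap hl.1 (FSch.complModMap 𝓘 u)) ↔ Epi u) := by
  let P := (toX 𝓘 hl.1).pull
  haveI : PreservesFiniteLimits P := hflat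
  haveI : PreservesColimitsOfSize.{0, 0} P := (toX 𝓘 hl.1).adj.leftAdjoint_preservesColimits
  haveI : P.PreservesZeroMorphisms := Functor.preservesZeroMorphisms_of_isLeftAdjoint _
  haveI := isIso_complCmp 𝓘 hl hF
  haveI := isIso_complCmp 𝓘 hl hG
  have n := complCmp_naturality 𝓘 hl.1 u
  have e : Arrow.mk (FSch.ModSys.realModMap hl.1 (FSch.complModMap 𝓘 u)) ≅ Arrow.mk (P.map u) :=
    Arrow.isoMk (asIso (complCmp 𝓘 hl.1 F)).symm (asIso (complCmp 𝓘 hl.1 G)).symm (by
      simp only [Iso.symm_hom, asIso_inv, Arrow.mk_hom, IsIso.inv_comp_eq]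
      rw [← Category.assoc, n]
      simp [P])
  refine ⟨((MorphismProperty.monomorphisms _).arrow_mk_iso_iff e).trans ⟨fun hm => ?_, fun hm => inferInstanceAs (Mono (P.map u))⟩,
    ((MorphismProperty.epimorphisms _).arrow_mk_iso_iff e).trans ⟨fun hm => ?_, fun hm => inferInstanceAs (Epi (P.map u))⟩⟩
  · have hm' : Mono (P.map u) := hm
    refine Abelian.mono_of_kernel_ι_eq_zero _ (IsZero.eq_of_src ?_ _ _)
    refine isZero_of_isZero_pull 𝓘 hl A J f hf h𝓘 (QCoh.isCoh_kernel hF hG u) ?_
    rw [IsZero.iff_id_eq_zero, ← cancel_mono (P.map (kernel.ι u)), ← cancel_mono (P.map u), zero_comp,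
      Category.id_comp, ← P.map_comp, kernel.condition, P.map_zero, zero_comp]
  · have hm' : Epi (P.map u) := hm
    refine Abelian.epi_of_cokernel_π_eq_zero _ (IsZero.eq_of_tgt ?_ _ _)
    refine isZero_of_isZero_pull 𝓘 hl A J f hf h𝓘 (QCoh.isCoh_cokernel hF.1 hG u) ?_
    rw [IsZero.iff_id_eq_zero, ← cancel_epi (P.map (cokernel.π u)), ← cancel_epi (P.map u), comp_zero,
      Category.comp_id, ← P.map_comp, cokernel.condition, P.map_zero, comp_zero]

end Groth.Agent.H26.FMod
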