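import Groth.Agent.H9Misc.BrownGroth
import Groth.Agent.KFlatLib.SmallModel
import Groth.Agent.TriCat.KInjRes
import Groth.Agent.TriCat.DerivedCoproducts
import Mathlib.CategoryTheory.Adjunction.PartialAdjoint

/-!
# Coproduct preserving triangulated functors out of derived categories of Grothendieck categories
-/

noncomputable section

set_option autoImplicit false
set_option linter.style.haveILetI false
set_option backward.isDefEq.respectTransparency false

universe v

open CategoryTheory CategoryTheory.Limits Pretriangulated Opposite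
open scoped Pretriangulated.Opposite

attribute [local instance] HasDerivedCategory.standard

namespace Groth.Agent.H26.BrownAdj

/-- A small model of the derived category. -/
@[implicit_reducible]
def sm (A : Type (v + 1)) [Category.{v} A] [Abelian A] [IsGrothendieckAbelian.{v} A] : HasDerivedCategory.{v} A :=
  H9Misc.BrownGroth.smallDerived A fun K => by
    obtain ⟨I, g, hI, hg, -, -⟩ := TriCat.exists_kInjective_resolution' K
    exact ⟨I, g, hI, hg⟩

/-- The small derived category. -/
abbrev DS (A : Type (v + 1)) [Category.{v} A] [Abelian A] [IsGrothendieckAbelian.{v} A] :=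
  KFlatLib.SmallModel.Der A (sm A)

instance (A : Type (v + 1)) [Category.{v} A] [Abelian A] [IsGrothendieckAbelian.{v} A] (n : ℤ) :
    (shiftFunctor (DS A) n).Additive :=
  letI := sm A; inferInstanceAs ((shiftFunctor (DerivedCategory A) n).Additive)

instance (A : Type (v + 1)) [Category.{v} A] [Abelian A] [IsGrothendieckAbelian.{v} A] : Pretriangulated (DS A) :=
  letI := sm A; inferInstanceAs (Pretriangulated (DerivedCategory A))

variable {A : Type (v + 1)} [Category.{v} A] [Abelian A] [IsGrothendieckAbelian.{v} A]
  {B : Type (v + 1)} [Category.{v} B] [Abelian B] [IsGrothendieckAbelian.{v} B]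

/-- A coproduct preserving exact functor between derived categories is a left adjoint. -/
theorem isLeftAdjoint_of_preservesCoproducts (F : DerivedCategory A ⥤ DerivedCategory B)
    (htri : ∀ T ∈ distTriang (DerivedCategory A), ∃ c : F.obj T.obj₃ ⟶ (F.obj T.obj₁)⟦(1 : ℤ)⟧,
      Triangle.mk (F.map T.mor₁) (F.map T.mor₂) c ∈ distTriang (DerivedCategory B))
    (hsum : ∀ J : Type v, PreservesColimitsOfShape (Discrete J) F) : F.IsLeftAdjoint := by
  haveI : ∀ J : Type v, HasColimitsOfShape (Discrete J) (DerivedCategory A) := fun J => TriCat.hasColimitsOfShape_derivedCategory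
  haveI : ∀ J : Type v, HasColimitsOfShape (Discrete J) (DerivedCategory B) := fun J => TriCat.hasColimitsOfShape_derivedCategory
  haveI := hsum
  haveI : F.Additive := by
    haveI : PreservesColimitsOfShape (Discrete WalkingPair) F :=
      preservesColimitsOfShape_of_equiv (Discrete.equivalence Equiv.ulift.{v}) F
    haveI : HasColimitsOfShape (Discrete WalkingPair) (DerivedCategory A) :=
      hasColimitsOfShape_of_equivalence (Discrete.equivalence Equiv.ulift.{v})
    haveI : HasColimitsOfShape (Discrete PEmpty.{1}) (DerivedCategory A) :=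
      hasColimitsOfShape_of_equivalence (Discrete.equivalence Equiv.ulift.{v})
    haveI : PreservesColimitsOfShape (Discrete PEmpty.{1}) F :=
      preservesColimitsOfShape_of_equiv (Discrete.equivalence Equiv.ulift.{v}) F
    haveI : F.PreservesZeroMorphisms := Functor.preservesZeroMorphisms_of_preserves_initial_object
    haveI : HasBinaryBiproducts (DerivedCategory A) := HasBinaryBiproducts.of_hasBinaryCoproducts
    haveI := preservesBinaryBiproducts_of_preservesBinaryCoproducts F
    exact Functor.additive_of_preservesBinaryBiproducts _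
  let hA := HasDerivedCategory.standard A
  let hB := HasDerivedCategory.standard B
  let eA := KFlatLib.SmallModel.compare A (sm A) hA
  let eB := KFlatLib.SmallModel.compare B hB (sm B)
  haveI : ∀ J : Type v, HasColimitsOfShape (Discrete J) (DS A) := fun J => by
    letI := sm A; exact TriCat.hasColimitsOfShape_derivedCategory
  let F' : (DS A) ⥤ (DS B) := eA.functor ⋙ F ⋙ eB.functor
  suffices F'.IsLeftAdjoint by
    have e : eA.inverse ⋙ F' ⋙ eB.inverse ≅ F :=
      (Functor.associator _ _ _).symm ≪≫ Functor.isoWhiskerRight ((Functor.associator _ _ _).symm ≪≫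
        Functor.isoWhiskerRight eA.counitIso _ ≪≫ Functor.leftUnitor _) _ ≪≫ Functor.associator _ _ _ ≪≫
        Functor.isoWhiskerLeft F eB.unitIso.symm ≪≫ Functor.rightUnitor F
    exact Functor.isLeftAdjoint_of_iso e
  refine F'.isLeftAdjoint_of_rightAdjointObjIsDefined_eq_top ?_
  ext T
  simp only [Pi.top_apply, Prop.top_eq_true, iff_true]
  haveI : ∀ J : Type v, PreservesColimitsOfShape (Discrete J) F' := fun J => inferInstance
  let H : (DS A)ᵒᵖ ⥤ AddCommGrpCat.{v} := F'.op ⋙ preadditiveYoneda.obj (show (DS B) from T)
  haveI : H.IsHomological :=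
    { exact := fun S hS => by
        rw [ShortComplex.ab_exact_iff]
        intro (x₂ : F'.obj S.obj₂.unop ⟶ T) (hx₂ : F'.map S.mor₂.unop ≫ x₂ = 0)
        obtain ⟨c, hc⟩ := KFlatLib.SmallModel.exists_compare_triangle A (sm A) hA _ (unop_distinguished S hS)
        obtain ⟨c', hc'⟩ := htri _ hc
        obtain ⟨d, hd⟩ := KFlatLib.SmallModel.exists_compare_triangle B hB (sm B) _ hc'
        obtain ⟨x₃, hx₃⟩ := Triangle.yoneda_exact₂ _ hd x₂ hx₂
        exact ⟨x₃, hx₃.symm⟩ }
  haveI : ∀ τ : Type v, PreservesLimitsOfShape (Discrete τ) H := fun τ => by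
    have : PreservesColimitsOfShape (Discrete τ)ᵒᵖ F' :=
      preservesColimitsOfShape_of_equiv (Discrete.opposite τ).symm _
    have : PreservesLimitsOfShape (Discrete τ) F'.op := preservesLimitsOfShape_op _ _
    have : PreservesLimitsOfShape (Discrete τ) (preadditiveYoneda.obj (show (DS B) from T) ⋙ forget AddCommGrpCat.{v}) :=
      inferInstanceAs (PreservesLimitsOfShape (Discrete τ) (yoneda.obj (show (DS B) from T)))
    have : PreservesLimitsOfShape (Discrete τ) (preadditiveYoneda.obj (show (DS B) from T)) :=
      preservesLimitsOfShape_of_reflects_of_preserves _ (forget AddCommGrpCat.{v})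
    exact inferInstanceAs (PreservesLimitsOfShape (Discrete τ) (F'.op ⋙ preadditiveYoneda.obj (show (DS B) from T)))
  letI := sm A
  exact H9Misc.BrownGroth.isRepresentable H

end Groth.Agent.H26.BrownAdj
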