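import Groth.Agent.H26.FMod.HFLim
import Groth.Agent.S0058
import Groth.Agent.S3854
import Groth.Agent.Lib.PushHNat
import Groth.Agent.FFun.GoodM
import Groth.Agent.FComplLib.AffSysMod
import Groth.Prelude.Def_Formal

/-!
# Levels of completions of coherent modules on proper schemes
-/

noncomputable section

set_option autoImplicit false
set_option linter.style.haveILetI false
set_option backward.isDefEq.respectTransparency false
set_option backward.isDefEq.respectTransparency.types false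

universe u

open CategoryTheory CategoryTheory.Limits TopologicalSpace Opposite AlgebraicGeometry

namespace Groth.Agent.H26.FMod

variable {A : Type u} [CommRing A] (I : Ideal A) {X : Scheme.{u}} [X.Over (Spec (CommRingCat.of A))]
  (𝓚 : X.IdealSheafData) (h𝓚 : 𝓚 = (FSch.idealSpec A I).comap (X ↘ Spec (CommRingCat.of A)))

include h𝓚 in
lemma ideal_pow_eq_map (U : X.affineOpens) (n : ℕ) :
    (𝓚 ^ n).ideal U = (I ^ n).map (FFun.φsec U.1) := by
  rw [Scheme.IdealSheafData.ideal_pow, Pi.pow_apply, Ideal.map_pow]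
  refine congrArg (· ^ n) ?_
  rw [h𝓚, ModPairLib.ideal_comap _ _ ⟨⊤, isAffineOpen_top _⟩ U le_top, FComplLib.AffData.idealSpec_ideal_top, Ideal.map_map]
  refine congrArg (fun r => Ideal.map r I) ?_
  rfl

include h𝓚 in
lemma unit_app_eq_zero_iff {M : X.Modules} (hM : Coh.IsQCoh M) (k : ℕ) {U : X.Opens} (hU : IsAffineOpen U)
    (s : Γ(M, U)) :
    ((Scheme.Modules.pullbackPushforwardAdjunction (FSch.completionToX X 𝓚 k)).unit.app M).app U s = 0 ↔
      s ∈ (I ^ (k + 1)).map (FFun.φsec U) • (⊤ : Submodule Γ(X, U) Γ(M, U)) := by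
  rw [(QCoh.unit_app_closed _ hM hU).2, Scheme.IdealSheafData.ker_subschemeι,
    ← ideal_pow_eq_map I 𝓚 h𝓚 ⟨U, hU⟩ (k + 1)]

include h𝓚 in
lemma smul_comp_unit {M : X.Modules} (hM : Coh.IsQCoh M) (k : ℕ) {a : A} (ha : a ∈ I ^ (k + 1)) :
    Formal.smulMod A M a ≫ (Scheme.Modules.pullbackPushforwardAdjunction (FSch.completionToX X 𝓚 k)).unit.app M = 0 := by
  refine Scheme.Modules.hom_ext _ _ fun V => ?_
  ext s
  refine QCoh.eq_zero_of_locally _ _ fun p hp => ?_
  obtain ⟨_, ⟨U, hU, rfl⟩, hpU, hle⟩ := X.isBasis_affineOpens.exists_subset_of_mem_open hp V.2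
  refine ⟨U, homOfLE hle, hpU, ?_⟩
  refine (congr($((Formal.smulMod A M a ≫ (Scheme.Modules.pullbackPushforwardAdjunction
    (FSch.completionToX X 𝓚 k)).unit.app M).mapPresheaf.naturality (homOfLE hle).op) s)).symm.trans ?_
  refine (unit_app_eq_zero_iff I 𝓚 h𝓚 hM k hU _).2 ?_
  show (Formal.smulMod A M a).app U _ ∈ _
  rw [FFun.smulMod_app]
  exact Submodule.smul_mem_smul (Ideal.mem_map_of_mem _ ha) Submodule.mem_top

include h𝓚 in
/-- The quotient by a power of the ideal is the restriction to the thickening. -/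
def modPowCmp {M : X.Modules} (hM : Coh.IsQCoh M) (k : ℕ) :
    Formal.modPow I (k + 1) M ⟶
      (Scheme.Modules.pushforward (FSch.completionToX X 𝓚 k)).obj ((Scheme.Modules.pullback (FSch.completionToX X 𝓚 k)).obj M) :=
  cokernel.desc _ ((Scheme.Modules.pullbackPushforwardAdjunction (FSch.completionToX X 𝓚 k)).unit.app M)
    (Sigma.hom_ext _ _ fun a => by
      rw [comp_zero, ← Category.assoc, show Sigma.ι (fun _ : (I ^ (k + 1) : Ideal A) => M) a ≫
        Formal.smulFamily (I ^ (k + 1)) M = Formal.smulMod A M (a : A) from by simp [Formal.smulFamily]]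
      exact smul_comp_unit I 𝓚 h𝓚 hM k a.2)

lemma π_modPowCmp {M : X.Modules} (hM : Coh.IsQCoh M) (k : ℕ) :
    Formal.modPowπ I (k + 1) M ≫ modPowCmp I 𝓚 h𝓚 hM k =
      (Scheme.Modules.pullbackPushforwardAdjunction (FSch.completionToX X 𝓚 k)).unit.app M :=
  cokernel.π_desc _ _ _

variable [IsLocallyNoetherian X]

lemma isIso_modPowCmp {M : X.Modules} (hM : Coh.IsCoh M) (k : ℕ) : IsIso (modPowCmp I 𝓚 h𝓚 hM.1 k) := by
  refine QCoh.isIso_of_isBasis _ X.isBasis_affineOpens fun U (hU : IsAffineOpen U) => ?_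
  have hC : Coh.IsQCoh (Formal.modPow I (k + 1) M) := (FFun.isCoh_modJ (I ^ (k + 1)) hM).1
  haveI : Epi (Formal.modPowπ I (k + 1) M) := inferInstanceAs (Epi (cokernel.π _))
  have e : ∀ s, (modPowCmp I 𝓚 h𝓚 hM.1 k).app U ((Formal.modPowπ I (k + 1) M).app U s) =
      ((Scheme.Modules.pullbackPushforwardAdjunction (FSch.completionToX X 𝓚 k)).unit.app M).app U s :=
    fun s => congrArg (fun t => Scheme.Modules.Hom.app t U s) (π_modPowCmp I 𝓚 h𝓚 hM.1 k)
  refine ⟨(injective_iff_map_eq_zero _).2 fun z hz => ?_, fun y => ?_⟩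
  · obtain ⟨s, rfl⟩ := QCoh.app_surjective_of_epi hM.1 hC (Formal.modPowπ I (k + 1) M) hU z
    rw [e] at hz
    exact FFun.π_app_eq_zero M _ U ((unit_app_eq_zero_iff I 𝓚 h𝓚 hM.1 k hU s).1 hz)
  · obtain ⟨s, rfl⟩ := (QCoh.unit_app_closed (FSch.completionToX X 𝓚 k) hM.1 hU).1 y
    exact ⟨_, e s⟩

variable (hX : (FSch.completionAlong X 𝓚).IsFormal) {M : X.Modules} (hM : Coh.IsCoh M)

/-- The direct image of a level of the completed module. -/
abbrev lvPush (k : ℕ) : X.Modules :=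
  (toX 𝓚 hX).push.obj ((FSch.levelMor (FSch.completionAlong X 𝓚) hX k).push.obj
    ((FSch.levelMor (FSch.completionAlong X 𝓚) hX k).pull.obj ((toX 𝓚 hX).pull.obj M)))

/-- The universal map to a direct image of a level. -/
abbrev lvEta (k : ℕ) : M ⟶ lvPush 𝓚 hX (M := M) k :=
  (toX 𝓚 hX).adj.unit.app M ≫ (toX 𝓚 hX).push.map
    ((FSch.levelMor (FSch.completionAlong X 𝓚) hX k).adj.unit.app ((toX 𝓚 hX).pull.obj M))

lemma lvEta_trans (k : ℕ) :
    lvEta 𝓚 hX (M := M) (k + 1) ≫ (toX 𝓚 hX).push.map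
        (FSch.levelTrans (FSch.completionAlong X 𝓚) hX ((toX 𝓚 hX).pull.obj M) k) = lvEta 𝓚 hX k := by
  rw [Category.assoc, ← Functor.map_comp, FSch.unit_levelTrans]

/-- Comparison of the quotient with the level. -/
def lvCmp (k : ℕ) : Formal.modPow I (k + 1) M ⟶ lvPush 𝓚 hX (M := M) k :=
  haveI : IsIso (thetaK (FSch.completionAlong X 𝓚) hX (FSch.completionToX X 𝓚) (FSch.completionToX_comm X 𝓚) M k) :=
    isIso_thetaK _ _ _ _ M k
  modPowCmp I 𝓚 h𝓚 hM.1 k ≫
    (FSch.schPushCompare (FSch.completionAlong X 𝓚) hX (FSch.completionToX X 𝓚) (FSch.completionToX_comm X 𝓚) k).app _ ≫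
    (toX 𝓚 hX).push.map ((FSch.levelMor (FSch.completionAlong X 𝓚) hX k).push.map
      (inv (thetaK (FSch.completionAlong X 𝓚) hX (FSch.completionToX X 𝓚) (FSch.completionToX_comm X 𝓚) M k)))

lemma isIso_lvCmp (k : ℕ) : IsIso (lvCmp I 𝓚 h𝓚 hX hM k) := by
  haveI : IsIso (thetaK (FSch.completionAlong X 𝓚) hX (FSch.completionToX X 𝓚) (FSch.completionToX_comm X 𝓚) M k) :=
    isIso_thetaK _ _ _ _ M k
  haveI := isIso_modPowCmp I 𝓚 h𝓚 hM k
  exact @IsIso.comp_isIso _ _ _ _ _ _ _ inferInstance (@IsIso.comp_isIso _ _ _ _ _ _ _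
    (isIso_schPushCompare_app _ _ _ _ k _) inferInstance)

omit [X.Over (Spec (CommRingCat.of A))] [IsLocallyNoetherian X] in
/-- Recovering a map from its composite with a comparison. -/
lemma recover_gen {C D E : Type*} [Category C] [Category D] [Category E] {T : D ⥤ C} {L : E ⥤ D} {F Q Q' : C} {U : D}
    {G H : E} (u : F ⟶ T.obj U) (v : U ⟶ L.obj H) (θ : H ⟶ G) [IsIso θ] (w : F ⟶ Q) (π : Q ⟶ Q') (c : Q' ⟶ T.obj (L.obj G))
    (e : u ≫ T.map (v ≫ L.map θ) = w ≫ π ≫ c) :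
    w ≫ π ≫ c ≫ T.map (L.map (inv θ)) = u ≫ T.map v := by
  rw [← reassoc_of% e, ← T.map_comp, Category.assoc, ← L.map_comp, IsIso.hom_inv_id, L.map_id, Category.comp_id]

lemma π_lvCmp (k : ℕ) : Formal.modPowπ I (k + 1) M ≫ lvCmp I 𝓚 h𝓚 hX hM k = lvEta 𝓚 hX k := by
  haveI : IsIso (thetaK (FSch.completionAlong X 𝓚) hX (FSch.completionToX X 𝓚) (FSch.completionToX_comm X 𝓚) M k) :=
    isIso_thetaK _ _ _ _ M k
  refine recover_gen (T := (toX 𝓚 hX).push) (L := (FSch.levelMor (FSch.completionAlong X 𝓚) hX k).push)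
    ((toX 𝓚 hX).adj.unit.app M)
    ((FSch.levelMor (FSch.completionAlong X 𝓚) hX k).adj.unit.app ((toX 𝓚 hX).pull.obj M))
    (thetaK (FSch.completionAlong X 𝓚) hX (FSch.completionToX X 𝓚) (FSch.completionToX_comm X 𝓚) M k)
    (Formal.modPowπ I (k + 1) M) (modPowCmp I 𝓚 h𝓚 hM.1 k)
    ((FSch.schPushCompare (FSch.completionAlong X 𝓚) hX (FSch.completionToX X 𝓚) (FSch.completionToX_comm X 𝓚) k).app _) ?_
  refine Eq.trans ?_ ((congrArg (· ≫ (FSch.schPushCompare (FSch.completionAlong X 𝓚) hX (FSch.completionToX X 𝓚)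
    (FSch.completionToX_comm X 𝓚) k).app _) (π_modPowCmp I 𝓚 h𝓚 hM.1 k)).symm.trans (Category.assoc _ _ _))
  refine Eq.trans ?_ (homEquiv_thetaK (FSch.completionAlong X 𝓚) hX (FSch.completionToX X 𝓚)
    (FSch.completionToX_comm X 𝓚) M k)
  rw [Adjunction.homEquiv_unit, Adjunction.homEquiv_unit]

lemma lvCmp_trans (k : ℕ) :
    lvCmp I 𝓚 h𝓚 hX hM (k + 1) ≫ (toX 𝓚 hX).push.map
        (FSch.levelTrans (FSch.completionAlong X 𝓚) hX ((toX 𝓚 hX).pull.obj M) k) =
      Formal.modPowTrans I (k + 1) M ≫ lvCmp I 𝓚 h𝓚 hX hM k := by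
  haveI : Epi (Formal.modPowπ I (k + 1 + 1) M) := inferInstanceAs (Epi (cokernel.π _))
  rw [← cancel_epi (Formal.modPowπ I (k + 1 + 1) M)]
  refine ((Category.assoc _ _ _).symm.trans ((congrArg (· ≫ _) (π_lvCmp I 𝓚 h𝓚 hX hM (k + 1))).trans
    (lvEta_trans 𝓚 hX (M := M) k))).trans ?_
  refine ((Category.assoc _ _ _).symm.trans ((congrArg (· ≫ _) (Formal.modPowπ_trans I (k + 1) M)).trans ?_)).symm
  exact π_lvCmp I 𝓚 h𝓚 hX hM k

omit [X.Over (Spec (CommRingCat.of A))] [IsLocallyNoetherian X] in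
/-- Isomorphic systems have the same vanishing of `lim¹`. -/
lemma limOne_of_equiv {P Q : ℕ → Type u} [∀ n, AddCommGroup (P n)] [∀ n, AddCommGroup (Q n)]
    {s : ∀ n, P (n + 1) →+ P n} {t : ∀ n, Q (n + 1) →+ Q n} (ψ : ∀ n, P n ≃+ Q n)
    (hψ : ∀ n x, ψ n (s n x) = t n (ψ (n + 1) x)) (hQ : CohCx.LimOneIsZero Q t) : CohCx.LimOneIsZero P s := by
  intro b
  obtain ⟨w, hw⟩ := hQ fun n => ψ n (b n)
  refine ⟨fun n => (ψ n).symm (w n), funext fun n => (ψ n).injective ?_⟩
  rw [map_sub, hψ, AddEquiv.apply_symm_apply, AddEquiv.apply_symm_apply]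
  exact congrFun hw n

section Proper

variable [IsNoetherianRing A] [IsProper (X ↘ Spec (CommRingCat.of A))]

include hM in
omit [IsLocallyNoetherian X] in
lemma limOne_HHmodPow (p : ℕ) :
    CohCx.LimOneIsZero (fun n => Formal.HHmodPow I M p n) (fun n => Formal.HHmodPowTrans I M p n) := by
  obtain ⟨c, hc⟩ := S0058.result A I X M hM p
  let tr : ∀ {n m : ℕ}, n ≤ m → (Formal.HHmodPow I M p m →+ Formal.HHmodPow I M p n) := fun {n m} h =>
    Sheaf.H.map ((SheafOfModules.toSheaf X.ringCatSheaf).map ((Formal.completion I M).map (homOfLE h).op)) p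
  have := FFun.subsingleton_limOne (H := Coh.HH X M p) (G := fun n => Formal.HHmodPow I M p n)
    (Formal.toHHmodPow I M p) (Formal.HHmodPowTrans I M p) (fun n x => (Formal.toHHlim I M p x).2 n) tr
    (fun n x => ?_) (fun {n m} h x => ?_) fun n => ⟨n + c, fun m h hm y => ?_⟩
  · intro b
    obtain ⟨w, hw⟩ := (QuotientAddGroup.eq_zero_iff b).1 (@Subsingleton.elim _ this _ 0)
    exact ⟨w, hw⟩
  · show Sheaf.H.map ((SheafOfModules.toSheaf X.ringCatSheaf).map ((Formal.completion I M).map (homOfLE (le_refl n)).op)) p x = x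
    rw [show (homOfLE (le_refl n)).op = 𝟙 (op n) from Subsingleton.elim _ _, CategoryTheory.Functor.map_id,
      CategoryTheory.Functor.map_id, Sheaf.H.map_id_apply]
  · refine (Formal.HHmap_comp _ _ p x).trans ?_
    refine congrArg (fun q : Formal.modPow I (m + 1) M ⟶ Formal.modPow I (n + 1) M => Sheaf.H.map ((SheafOfModules.toSheaf X.ringCatSheaf).map q) p x) ?_
    rw [show Formal.modPowTrans I (n + 1) M = (Formal.completion I M).map (homOfLE (Nat.le_add_right n 1)).op from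
      (Functor.ofOpSequence_map_homOfLE_succ (X := fun n => Formal.modPow I (n + 1) M)
        (fun n => Formal.modPowTrans I (n + 1) M) n).symm]
    exact ((Formal.completion I M).map_comp _ _).symm.trans (congrArg _ (Subsingleton.elim _ _))
  · have h1 : Sheaf.H.map ((SheafOfModules.toSheaf X.ringCatSheaf).map ((Formal.completion I M).map (homOfLE h).op)) p y ∈
        Set.range (Formal.toHHmodPow I M p n) := by rw [← hc n m h hm]; exact ⟨y, rfl⟩
    exact h1

/-- The closed embedding of the common space. -/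
lemma isClosedEmbedding_toX : Topology.IsClosedEmbedding (FSch.completionToX X 𝓚 0).base :=
  Scheme.Hom.isClosedEmbedding _

/-- The abelian sheaf of a pushed level. -/
abbrev lvPushS (k : ℕ) : Sheaf (Opens.grothendieckTopology X) AddCommGrpCat.{u} :=
  (SheafOfModules.toSheaf X.ringCatSheaf).obj (lvPush 𝓚 hX (M := M) k)

/-- Cohomology of a level and of its direct image. -/
def pushS (p k : ℕ) : Sheaf.H (lvS hX ((toX 𝓚 hX).pull.obj M) k) p →+ Sheaf.H (lvPushS 𝓚 hX (M := M) k) p :=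
  PushHNat.pushH (FSch.completionToX X 𝓚 0).base (isClosedEmbedding_toX 𝓚) (lvS hX ((toX 𝓚 hX).pull.obj M) k) p

lemma bijective_pushS (p k : ℕ) : Function.Bijective (pushS 𝓚 hX (M := M) p k) :=
  PushHNat.bijective_pushH _ _ _ p

lemma pushS_natural (p k : ℕ) (y : Sheaf.H (lvS hX ((toX 𝓚 hX).pull.obj M) (k + 1)) p) :
    pushS 𝓚 hX (M := M) p k (Sheaf.H.map (lvT hX ((toX 𝓚 hX).pull.obj M) k) p y) =
      Sheaf.H.map ((SheafOfModules.toSheaf X.ringCatSheaf).map ((toX 𝓚 hX).push.map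
        (FSch.levelTrans (FSch.completionAlong X 𝓚) hX ((toX 𝓚 hX).pull.obj M) k))) p (pushS 𝓚 hX p (k + 1) y) :=
  PushHNat.pushH_natural (FSch.completionToX X 𝓚 0).base (isClosedEmbedding_toX 𝓚) (lvT hX ((toX 𝓚 hX).pull.obj M) k) p y

/-- Isomorphisms act bijectively on cohomology. -/
def mapEquiv {N N' : X.Modules} (φ : N ⟶ N') [IsIso φ] (p : ℕ) :
    Coh.HH X N p ≃+ Coh.HH X N' p :=
  AddEquiv.ofBijective (Sheaf.H.map ((SheafOfModules.toSheaf X.ringCatSheaf).map φ) p)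
    (Function.bijective_iff_has_inverse.2 ⟨Sheaf.H.map ((SheafOfModules.toSheaf X.ringCatSheaf).map (inv φ)) p,
      fun x => (Formal.HHmap_comp _ _ p x).trans (by rw [IsIso.hom_inv_id, CategoryTheory.Functor.map_id, Sheaf.H.map_id_apply]),
      fun x => (Formal.HHmap_comp _ _ p x).trans (by rw [IsIso.inv_hom_id, CategoryTheory.Functor.map_id, Sheaf.H.map_id_apply])⟩)

end Proper

end Groth.Agent.H26.FMod
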