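import Groth.Agent.H26.FMod.PushCompletion
import Groth.Agent.QCoh.DevissageP
import Groth.Agent.QCoh.ProperOver2

/-!
# Direct images of algebraizable modules
-/

noncomputable section

set_option autoImplicit false
set_option maxHeartbeats 1600000
set_option linter.style.haveILetI false
set_option backward.isDefEq.respectTransparency false
set_option backward.isDefEq.respectTransparency.types false

universe u

open CategoryTheory CategoryTheory.Limits TopologicalSpace Opposite AlgebraicGeometry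

namespace Groth.Agent.H26.FMod

/-- Sections over an open missing the support vanish. -/
lemma section_eq_zero_of_disjoint_support {X : Scheme.{u}} {M : X.Modules} (hM : Coh.IsQCoh M) {V : X.Opens}
    (hV : Disjoint (V : Set X) (CohB1.support M)) (m : Γ(M, V)) : m = 0 := by
  refine QCoh.eq_zero_of_locally _ m fun x hx => ?_
  obtain ⟨_, ⟨W, hW, rfl⟩, hxW, hle⟩ := X.isBasis_affineOpens.exists_subset_of_mem_open hx V.2
  obtain ⟨f, hxf, hf⟩ := (QCoh.notMem_support_iff hM hW hxW).1 (fun h => Set.disjoint_left.1 hV hx h)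
    (M.presheaf.map (homOfLE hle).op m)
  refine ⟨X.basicOpen f, homOfLE ((X.basicOpen_le f).trans hle), hxf, ?_⟩
  have h1 := congrArg (M.presheaf.map (homOfLE (X.basicOpen_le f)).op) hf
  rw [map_zero, QCoh.map_smul'] at h1
  have hu : IsUnit (X.presheaf.map (homOfLE (X.basicOpen_le f)).op f) := by
    exact X.toRingedSpace.isUnit_res_basicOpen f
  have h2 := hu.smul_eq_zero.1 h1
  rw [← h2, ← ConcreteCategory.comp_apply, ← Functor.map_comp]
  rfl

/-- The support of a direct image lies in the image of the support. -/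
lemma support_pushforward_subset {Z X : Scheme.{u}} (g : Z ⟶ X) {M : Z.Modules} (hM : Coh.IsQCoh M)
    (hgM : Coh.IsQCoh ((Scheme.Modules.pushforward g).obj M)) (hc : IsClosed (g '' CohB1.support M)) :
    CohB1.support ((Scheme.Modules.pushforward g).obj M) ⊆ g '' CohB1.support M := fun x hx => by
  by_contra hn
  obtain ⟨_, ⟨U, hU, rfl⟩, hxU, hsub⟩ := X.isBasis_affineOpens.exists_subset_of_mem_open hn hc.isOpen_compl
  refine (QCoh.notMem_support_iff hgM hU hxU).2 (fun m => ⟨1, ?_, ?_⟩) hx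
  · rw [Scheme.basicOpen_of_isUnit _ isUnit_one]; exact hxU
  · rw [one_smul]
    exact section_eq_zero_of_disjoint_support hM (V := g ⁻¹ᵁ U)
      (Set.disjoint_left.2 fun z hz hzs => hsub hz ⟨z, hzs, rfl⟩) m

variable {A : Type u} [CommRing A] (I : Ideal A) {X Z : Scheme.{u}}
  [X.Over (Spec (CommRingCat.of A))] [Z.Over (Spec (CommRingCat.of A))]
  (g : Z ⟶ X) (hg : g ≫ (X ↘ Spec (CommRingCat.of A)) = Z ↘ Spec (CommRingCat.of A))
  (𝓘 : X.IdealSheafData) (h𝓘 : 𝓘 = (FSch.idealSpec A I).comap (X ↘ Spec (CommRingCat.of A)))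
  (𝓚 : Z.IdealSheafData) (h𝓚 : 𝓚 = (FSch.idealSpec A I).comap (Z ↘ Spec (CommRingCat.of A)))
  [IsLocallyNoetherian Z] [AlgebraicGeometry.IsNoetherian X]
  (hX : (FSch.completionAlong X 𝓘).IsFormal) (hZ : (FSch.completionAlong Z 𝓚).IsFormal)
  (hpc : FSch.PowCompat g 𝓚 𝓘) [IsProper g] [LocallyOfFiniteType (X ↘ Spec (CommRingCat.of A))]
  [LocallyOfFiniteType (Z ↘ Spec (CommRingCat.of A))]

include hg h𝓘 h𝓚 in
/-- Direct images of algebraizable modules are algebraizable. -/
theorem alg_pushF (𝔉 : FSch.ModF (FSch.completionAlong Z 𝓚) hZ) (a𝔉 : Alg' (A := A) 𝓚 hZ 𝔉) :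
    Alg' (A := A) 𝓘 hX ((FSch.pushF (FSch.completionMap g 𝓚 𝓘 hpc) hZ hX).obj 𝔉) := by
  obtain ⟨G, hG, hs, ⟨e⟩⟩ := a𝔉
  have hP := ExistEasy.isCoh_pushforward_proper g hG
  have hlX : (FSch.completionAlong X 𝓘).IsLocNoethFormal := S3854.result X 𝓘
  have hlZ : (FSch.completionAlong Z 𝓚).IsLocNoethFormal := S3854.result Z 𝓚
  haveI := isIso_complCmp 𝓚 hlZ hG
  haveI := isIso_complCmp 𝓘 hlX hP
  haveI := isIso_pushTheta I g hg 𝓘 h𝓘 𝓚 h𝓚 hX hZ hpc hG hP
  have hc : IsClosed (g '' CohB1.support G) := g.isClosedMap _ (QCoh.isClosed_support_of_isFT hG.1 hG.2)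
  refine ⟨(Scheme.Modules.pushforward g).obj G, hP,
    QCoh.IsProperOver.subset (QCoh.IsProperOver.image hg hs fun i _ _ => inferInstance)
      (QCoh.isClosed_support_of_isFT hP.1 hP.2) (support_pushforward_subset g hG.1 hP.1 hc),
    ⟨(FSch.pushF (FSch.completionMap g 𝓚 𝓘 hpc) hZ hX).mapIso (e ≪≫ (asIso (complCmp 𝓚 hlZ.1 G)).symm) ≪≫
      (asIso (pushTheta g 𝓘 𝓚 hX hZ hpc G)).symm ≪≫ asIso (complCmp 𝓘 hlX.1 _)⟩⟩

end Groth.Agent.H26.FMod
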