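import Groth.Agent.H26.FMod.HFCompletion
import Groth.Agent.S4473
import Groth.Agent.S13345
import Groth.Agent.FFun.Basic
import Groth.Agent.QCoh.ProperOver2
import Groth.Agent.QCoh.DevissageP

/-!
# Morphisms of completed coherent modules with proper support
-/

noncomputable section

set_option autoImplicit false
set_option linter.style.haveILetI false
set_option backward.isDefEq.respectTransparency false
set_option backward.isDefEq.respectTransparency.types false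

universe u

open CategoryTheory CategoryTheory.Limits TopologicalSpace Opposite AlgebraicGeometry

namespace Groth.Agent.H26.FMod

section Cmp

variable {X : Scheme.{u}} (𝓚 : X.IdealSheafData) [IsLocallyNoetherian X]
  (hl : (FSch.completionAlong X 𝓚).IsLocNoethFormal)

/-- Maps to a completed coherent module are determined on the levels. -/
lemma eq_of_levels {𝔉 : FSch.ModF (FSch.completionAlong X 𝓚) hl.1} {G : X.Modules} (hG : Coh.IsCoh G)
    {a b : 𝔉 ⟶ (toX 𝓚 hl.1).pull.obj G}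
    (e : ∀ k, a ≫ (FSch.levelMor (FSch.completionAlong X 𝓚) hl.1 k).adj.unit.app ((toX 𝓚 hl.1).pull.obj G) =
      b ≫ (FSch.levelMor (FSch.completionAlong X 𝓚) hl.1 k).adj.unit.app ((toX 𝓚 hl.1).pull.obj G)) : a = b := by
  haveI := isIso_complCmp 𝓚 hl hG
  rw [← cancel_mono (complCmp 𝓚 hl.1 G)]
  refine limit.hom_ext fun j => ?_
  have h1 := complCmp_proj 𝓚 hl.1 G j.unop
  rw [Adjunction.homEquiv_unit] at h1
  refine (Category.assoc _ _ _).trans ((congrArg (a ≫ ·) h1).trans ?_)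
  refine Eq.trans ?_ ((Category.assoc _ _ _).trans (congrArg (b ≫ ·) h1)).symm
  exact (Category.assoc _ _ _).symm.trans ((congrArg (· ≫ _) (e j.unop)).trans (Category.assoc _ _ _))

end Cmp

variable {A : Type u} [CommRing A] (I : Ideal A) {X : Scheme.{u}} [X.Over (Spec (CommRingCat.of A))]
  (𝓚 : X.IdealSheafData) (h𝓚 : 𝓚 = (FSch.idealSpec A I).comap (X ↘ Spec (CommRingCat.of A)))
  [IsLocallyNoetherian X] (hX : (FSch.completionAlong X 𝓚).IsFormal)

include h𝓚 in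
omit [IsLocallyNoetherian X] in
lemma smulFamily_comp_eq_zero {G : X.Modules} (n : ℕ) {N : X.Modules} (b : G ⟶ Formal.modPow I n N) :
    Formal.smulFamily (I ^ n) G ≫ b = 0 := by
  refine Sigma.hom_ext _ _ fun a => ?_
  rw [comp_zero, ← Category.assoc, show Sigma.ι (fun _ : (I ^ n : Ideal A) => G) a ≫
    Formal.smulFamily (I ^ n) G = Formal.smulMod A G (a : A) from by simp [Formal.smulFamily],
    FFun.smulMod_naturality]
  haveI : Epi (Formal.modPowπ I n N) := inferInstanceAs (Epi (cokernel.π _))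
  have : Formal.smulMod A (Formal.modPow I n N) (a : A) = 0 := by
    rw [← cancel_epi (Formal.modPowπ I n N), comp_zero, ← FFun.smulMod_naturality]
    have h1 := congrArg (Sigma.ι (fun _ : (I ^ n : Ideal A) => N) a ≫ ·) (cokernel.condition (Formal.smulFamily (I ^ n) N))
    have h0 : Sigma.ι (fun _ : (I ^ n : Ideal A) => N) a ≫ Formal.smulFamily (I ^ n) N =
        Formal.smulMod A N (a : A) := Sigma.ι_desc _ _
    exact (congrArg (· ≫ Formal.modPowπ I n N) h0).symm.trans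
      ((Category.assoc _ _ _).trans (h1.trans comp_zero))
  rw [this, comp_zero]

omit [X.Over (Spec (CommRingCat.of A))] [IsLocallyNoetherian X] in
/-- Transporting compatibility through isomorphisms. -/
lemma inv_trans_gen {C : Type*} [Category C] {G P P' Q Q' : C} {a' : G ⟶ P'} {a : G ⟶ P} {T : P' ⟶ P}
    {L' : Q' ⟶ P'} {L : Q ⟶ P} {t : Q' ⟶ Q} [IsIso L'] [IsIso L] (h1 : a' ≫ T = a) (h2 : L' ≫ T = t ≫ L) :
    (a' ≫ inv L') ≫ t = a ≫ inv L := by
  rw [← h1, Category.assoc, Category.assoc]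
  refine congrArg (a' ≫ ·) ?_
  rw [IsIso.inv_comp_eq, ← Category.assoc, h2, Category.assoc, IsIso.hom_inv_id, Category.comp_id]

/-- The level components of a map of completed modules. -/
abbrev lvAdj {G G' : X.Modules} (ψ : (toX 𝓚 hX).pull.obj G ⟶ (toX 𝓚 hX).pull.obj G') (k : ℕ) :
    G ⟶ lvPush 𝓚 hX (M := G') k :=
  (toX 𝓚 hX).adj.unit.app G ≫ (toX 𝓚 hX).push.map
    (ψ ≫ (FSch.levelMor (FSch.completionAlong X 𝓚) hX k).adj.unit.app ((toX 𝓚 hX).pull.obj G'))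

lemma lvAdj_trans {G G' : X.Modules} (ψ : (toX 𝓚 hX).pull.obj G ⟶ (toX 𝓚 hX).pull.obj G') (k : ℕ) :
    lvAdj 𝓚 hX ψ (k + 1) ≫ (toX 𝓚 hX).push.map
        (FSch.levelTrans (FSch.completionAlong X 𝓚) hX ((toX 𝓚 hX).pull.obj G') k) = lvAdj 𝓚 hX ψ k := by
  rw [Category.assoc, ← Functor.map_comp, Category.assoc, FSch.unit_levelTrans]

lemma lvAdj_map {G G' : X.Modules} (φ : G ⟶ G') (k : ℕ) :
    lvAdj 𝓚 hX ((toX 𝓚 hX).pull.map φ) k = φ ≫ lvEta 𝓚 hX (M := G') k := by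
  show _ ≫ (toX 𝓚 hX).push.map (_ ≫ _) = _
  rw [Functor.map_comp]
  exact (Category.assoc _ _ _).symm.trans ((congrArg (· ≫ _) ((toX 𝓚 hX).adj.unit_naturality φ)).trans
    (Category.assoc _ _ _))

variable [IsNoetherianRing A] [IsAdicComplete I A] [LocallyOfFiniteType (X ↘ Spec (CommRingCat.of A))]
  [QuasiCompact (X ↘ Spec (CommRingCat.of A))]

include h𝓚 in
/-- Completion is full on coherent modules with proper support. -/
theorem exists_pull_map_eq {G G' : X.Modules} (hG : Coh.IsCoh G) (hG' : Coh.IsCoh G')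
    (hs : ClSub.IsProperOver (X ↘ Spec (CommRingCat.of A)) (CohB1.support G ∩ CohB1.support G'))
    (ψ : (toX 𝓚 hX).pull.obj G ⟶ (toX 𝓚 hX).pull.obj G') :
    ∃ φ : G ⟶ G', (toX 𝓚 hX).pull.map φ = ψ := by
  haveI : ∀ k, IsIso (lvCmp I 𝓚 h𝓚 hX hG' k) := fun k => isIso_lvCmp I 𝓚 h𝓚 hX hG' k
  let b : ∀ k, G ⟶ Formal.modPow I (k + 1) G' := fun k => lvAdj 𝓚 hX ψ k ≫ inv (lvCmp I 𝓚 h𝓚 hX hG' k)
  let c : ∀ k, Formal.modPow I (k + 1) G ⟶ Formal.modPow I (k + 1) G' := fun k =>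
    cokernel.desc _ (b k) (smulFamily_comp_eq_zero I 𝓚 h𝓚 (k + 1) (b k))
  have hb : ∀ k, b (k + 1) ≫ Formal.modPowTrans I (k + 1) G' = b k := fun k =>
    inv_trans_gen (lvAdj_trans 𝓚 hX ψ k) (lvCmp_trans I 𝓚 h𝓚 hX hG' k)
  have hc : ∀ k, Formal.modPowπ I (k + 1) G ≫ c k = b k := fun k => cokernel.π_desc _ _ _
  let ψc : Formal.completion I G ⟶ Formal.completion I G' :=
    NatTrans.ofOpSequence c fun k => by
      haveI : Epi (Formal.modPowπ I (k + 1 + 1) G) := inferInstanceAs (Epi (cokernel.π _))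
      rw [show (Formal.completion I G).map (homOfLE (Nat.le_add_right k 1)).op = Formal.modPowTrans I (k + 1) G from
          Functor.ofOpSequence_map_homOfLE_succ (X := fun n => Formal.modPow I (n + 1) G)
            (fun n => Formal.modPowTrans I (n + 1) G) k,
        show (Formal.completion I G').map (homOfLE (Nat.le_add_right k 1)).op = Formal.modPowTrans I (k + 1) G' from
          Functor.ofOpSequence_map_homOfLE_succ (X := fun n => Formal.modPow I (n + 1) G')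
            (fun n => Formal.modPowTrans I (n + 1) G') k]
      refine (cancel_epi (Formal.modPowπ I (k + 1 + 1) G)).1 ?_
      refine ((Category.assoc _ _ _).symm.trans ((congrArg (· ≫ c k) (Formal.modPowπ_trans I (k + 1) G)).trans
        (hc k))).trans ?_
      exact ((Category.assoc _ _ _).symm.trans ((congrArg (· ≫ _) (hc (k + 1))).trans (hb k))).symm
  obtain ⟨φ, hφ, -⟩ := S4473.result A I X G G' hG hG' hs ψc
  refine ⟨φ, eq_of_levels 𝓚 (S3854.result X 𝓚) hG' fun k => ?_⟩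
  apply ((toX 𝓚 hX).adj.homEquiv _ _).injective
  rw [Adjunction.homEquiv_unit, Adjunction.homEquiv_unit]
  refine (lvAdj_map 𝓚 hX φ k).trans ?_
  have h1 : φ ≫ Formal.modPowπ I (k + 1) G' = b k := (hφ k).symm.trans (hc k)
  rw [← π_lvCmp I 𝓚 h𝓚 hX hG' k, ← Category.assoc, h1, Category.assoc, IsIso.inv_hom_id, Category.comp_id]

/-- A module is algebraizable. -/
abbrev Alg' (𝔉 : FSch.ModF (FSch.completionAlong X 𝓚) hX) : Prop :=
  ∃ G : X.Modules, Coh.IsCoh G ∧ ClSub.IsProperOver (X ↘ Spec (CommRingCat.of A)) (CohB1.support G) ∧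
    Nonempty (𝔉 ≅ (FSch.complMod 𝓚 G).realMod hX)

include h𝓚 in
/-- Kernels, images and cokernels of maps of algebraizable modules. -/
theorem alg_ker_im_coker (𝔉 𝔊 : FSch.ModF (FSch.completionAlong X 𝓚) hX) (h𝔉 : Alg' (A := A) 𝓚 hX 𝔉) (h𝔊 : Alg' (A := A) 𝓚 hX 𝔊)
    (u : 𝔉 ⟶ 𝔊) : Alg' (A := A) 𝓚 hX (kernel u) ∧ Alg' (A := A) 𝓚 hX (Abelian.image u) ∧ Alg' (A := A) 𝓚 hX (cokernel u) := by
  have hl : (FSch.completionAlong X 𝓚).IsLocNoethFormal := S3854.result X 𝓚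
  obtain ⟨G, hG, hsG, ⟨eG⟩⟩ := h𝔉
  obtain ⟨G', hG', hsG', ⟨eG'⟩⟩ := h𝔊
  haveI := isIso_complCmp 𝓚 hl hG
  haveI := isIso_complCmp 𝓚 hl hG'
  let a : 𝔉 ≅ (toX 𝓚 hX).pull.obj G := eG ≪≫ (asIso (complCmp 𝓚 hl.1 G)).symm
  let b : 𝔊 ≅ (toX 𝓚 hX).pull.obj G' := eG' ≪≫ (asIso (complCmp 𝓚 hl.1 G')).symm
  have hcl : IsClosed (CohB1.support G ∩ CohB1.support G') :=
    (QCoh.isClosed_support_of_isFT hG.1 hG.2).inter (QCoh.isClosed_support_of_isFT hG'.1 hG'.2)
  obtain ⟨φ, hφ⟩ := exists_pull_map_eq I 𝓚 h𝓚 hX hG hG'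
    (QCoh.IsProperOver.subset hsG hcl Set.inter_subset_left) (a.inv ≫ u ≫ b.hom)
  have w : u ≫ b.hom = a.hom ≫ (toX 𝓚 hX).pull.map φ := by rw [hφ, Iso.hom_inv_id_assoc]
  haveI : PreservesFiniteLimits (toX 𝓚 hX).pull := S13345.result X 𝓚 hX
  haveI : PreservesColimitsOfSize.{0, 0} (toX 𝓚 hX).pull := (toX 𝓚 hX).adj.leftAdjoint_preservesColimits
  haveI : (toX 𝓚 hX).pull.Additive := Functor.additive_of_preserves_binary_products _
  have hK := QCoh.isCoh_kernel hG hG' φ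
  have hQ := QCoh.isCoh_cokernel hG.1 hG' φ
  have hI : Coh.IsCoh (Abelian.image φ) := QCoh.isCoh_kernel hG' hQ (cokernel.π φ)
  haveI := isIso_complCmp 𝓚 hl hK
  haveI := isIso_complCmp 𝓚 hl hQ
  haveI := isIso_complCmp 𝓚 hl hI
  refine ⟨⟨kernel φ, hK, QCoh.IsProperOver.subset hsG (QCoh.isClosed_support_of_isFT hK.1 hK.2)
      (QCoh.mem_support_of_mono hK.1 hG.1 (kernel.ι φ)),
      ⟨kernel.mapIso _ _ a b w ≪≫ (PreservesKernel.iso (toX 𝓚 hX).pull φ).symm ≪≫ asIso (complCmp 𝓚 hl.1 _)⟩⟩,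
    ⟨Abelian.image φ, hI, QCoh.IsProperOver.subset hsG' (QCoh.isClosed_support_of_isFT hI.1 hI.2)
      (QCoh.mem_support_of_mono hI.1 hG'.1 (Abelian.image.ι φ)),
      ⟨kernel.mapIso _ (cokernel.π ((toX 𝓚 hX).pull.map φ)) b (cokernel.mapIso _ _ a b w) (by simp) ≪≫
        kernel.mapIso _ ((toX 𝓚 hX).pull.map (cokernel.π φ)) (Iso.refl _)
          (PreservesCokernel.iso (toX 𝓚 hX).pull φ).symm (by simp) ≪≫
        (PreservesKernel.iso (toX 𝓚 hX).pull (cokernel.π φ)).symm ≪≫ asIso (complCmp 𝓚 hl.1 _)⟩⟩,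
    ⟨cokernel φ, hQ, QCoh.IsProperOver.subset hsG' (QCoh.isClosed_support_of_isFT hQ.1 hQ.2)
      (QCoh.support_of_epi hG'.1 hQ.1 (cokernel.π φ)),
      ⟨cokernel.mapIso _ _ a b w ≪≫ (PreservesCokernel.iso (toX 𝓚 hX).pull φ).symm ≪≫ asIso (complCmp 𝓚 hl.1 _)⟩⟩⟩

end Groth.Agent.H26.FMod
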