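import Groth.Agent.H26.FMod.ExistSupp
import Groth.Agent.H26.FMod.Algebraizable
import Groth.Agent.ZClosLib.CohDescent

/-!
# Extensions of algebraizable modules
-/

noncomputable section

set_option autoImplicit false
set_option maxHeartbeats 1600000
set_option linter.style.haveILetI false
set_option backward.isDefEq.respectTransparency false
set_option backward.isDefEq.respectTransparency.types false

universe u

open CategoryTheory CategoryTheory.Limits TopologicalSpace Opposite AlgebraicGeometry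

namespace Groth.Agent.H26.FMod

variable {X : Scheme.{u}} (𝓚 : X.IdealSheafData) [IsLocallyNoetherian X]
  (hX : (FSch.completionAlong X 𝓚).IsFormal)

/-- Levels of an algebraizable module are quotients of the algebraization. -/
lemma smul_pullK_eq_zero (hl : (FSch.completionAlong X 𝓚).IsLocNoethFormal) {G : X.Modules} (hG : Coh.IsCoh G)
    {𝔉 : FSch.ModF (FSch.completionAlong X 𝓚) hX} (e : 𝔉 ≅ (FSch.complMod 𝓚 G).realMod hX)
    (k : ℕ) {U : X.Opens} (hU : IsAffineOpen U) {a : Γ(X, U)} (ha : ∀ s : Γ(G, U), a • s = 0)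
    (z : Γ(pE 𝓚 hX 𝔉 k, U)) : a • z = 0 := by
  haveI : IsIso (gK hX (FSch.complMod 𝓚 G) k) :=
    isIso_gK hl (FSch.complMod 𝓚 G) (fun k => ZClosLib.isCoh_pullback (FSch.completionToX X 𝓚 k) hG) k
  let θ : pullK k 𝔉 ≅ (Scheme.Modules.pullback (FSch.completionToX X 𝓚 k)).obj G :=
    ((FSch.levelMor (FSch.completionAlong X 𝓚) hX k).pull.mapIso e) ≪≫ asIso (gK hX (FSch.complMod 𝓚 G) k)
  apply QCoh.app_injective ((Scheme.Modules.pushforward (FSch.completionToX X 𝓚 k)).map θ.hom) U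
  rw [map_zero, Scheme.Modules.Hom.app_smul]
  obtain ⟨s, hs⟩ := (QCoh.unit_app_closed (FSch.completionToX X 𝓚 k) hG.1 hU).1
    (((Scheme.Modules.pushforward (FSch.completionToX X 𝓚 k)).map θ.hom).app U z)
  rw [← hs, ← Scheme.Modules.Hom.app_smul, ha, map_zero]

lemma exists_lift_of_exact {W : Scheme.{u}} {S : ShortComplex W.Modules} (hS : S.Exact) [Epi S.g]
    (h1 : Coh.IsQCoh S.X₁) (h2 : Coh.IsQCoh S.X₂) (h3 : Coh.IsQCoh S.X₃) {V : W.Opens} (hV : IsAffineOpen V)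
    (x : Γ(S.X₂, V)) (hx : S.g.app V x = 0) : ∃ y, S.f.app V y = x := by
  haveI : Epi (kernel.lift S.g S.f S.zero) := (S.exact_iff_epi_kernel_lift).1 hS
  obtain ⟨n, hn⟩ := QCoh.exists_app_f_eq (S := ShortComplex.mk (kernel.ι S.g) S.g (kernel.condition S.g))
    { exact := ShortComplex.exact_kernel S.g, mono_f := inferInstance, epi_g := inferInstance } V x hx
  obtain ⟨y, rfl⟩ := QCoh.app_surjective_of_epi h1 (QCoh.isQCoh_kernel h2 h3 S.g) (kernel.lift S.g S.f S.zero) hV n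
  exact ⟨y, (congrArg (fun t => Scheme.Modules.Hom.app t V y) (kernel.lift_ι S.g S.f S.zero)).symm.trans hn⟩

/-- A product kills an extension. -/
lemma smul_eq_zero_of_exact (S : ShortComplex (FSch.ModF (FSch.completionAlong X 𝓚) hX)) (hS : S.ShortExact)
    (h1 : FSch.IsCohF _ hX S.X₁) (h2 : FSch.IsCohF _ hX S.X₂) (h3 : FSch.IsCohF _ hX S.X₃) (k : ℕ) {U : X.Opens}
    (hU : IsAffineOpen U) {a b : Γ(X, U)} (ha : ∀ z : Γ(pE 𝓚 hX S.X₁ k, U), a • z = 0)
    (hb : ∀ z : Γ(pE 𝓚 hX S.X₃ k, U), b • z = 0) (z : Γ(pE 𝓚 hX S.X₂ k, U)) : (a * b) • z = 0 := by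
  let L := (FSch.levelMor (FSch.completionAlong X 𝓚) hX k)
  haveI : PreservesColimitsOfSize.{0, 0} L.pull := L.adj.leftAdjoint_preservesColimits
  haveI : L.pull.Additive := L.adj.left_adjoint_additive
  haveI := hS.epi_g
  have hex : (S.map L.pull).Exact :=
    ShortComplex.exact_of_g_is_cokernel _ (CokernelCofork.mapIsColimit _ hS.gIsCokernel L.pull)
  haveI : Epi (S.map L.pull).g := inferInstanceAs (Epi (L.pull.map S.g))
  let p := FSch.completionToX X 𝓚 k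
  have hg : ((Scheme.Modules.pushforward p).map (L.pull.map S.g)).app U (b • z) = 0 := by
    rw [Scheme.Modules.Hom.app_smul]
    exact hb _
  obtain ⟨y, hy⟩ := exists_lift_of_exact (S := S.map L.pull) hex (isCoh_pullK k _ h1).1 (isCoh_pullK k _ h2).1
    (isCoh_pullK k _ h3).1 (hU.preimage p) (show Γ(pE 𝓚 hX S.X₂ k, U) from b • z) hg
  rw [mul_smul]
  refine (congrArg (fun t : Γ(pE 𝓚 hX S.X₂ k, U) => a • t) hy.symm).trans ?_
  refine ((Scheme.Modules.Hom.app_smul ((Scheme.Modules.pushforward p).map (L.pull.map S.f)) (U := U) a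
    (show Γ(pE 𝓚 hX S.X₁ k, U) from y)).symm).trans ?_
  rw [ha, map_zero]

variable {A : Type u} [CommRing A] (I : Ideal A) [X.Over (Spec (CommRingCat.of A))]
  (h𝓚 : 𝓚 = (FSch.idealSpec A I).comap (X ↘ Spec (CommRingCat.of A)))
  [IsNoetherianRing A] [IsAdicComplete I A] [AlgebraicGeometry.IsNoetherian X]
  [LocallyOfFiniteType (X ↘ Spec (CommRingCat.of A))]

include h𝓚 in
/-- Extensions of algebraizable modules are algebraizable. -/
theorem alg_of_shortExact (S : ShortComplex (FSch.ModF (FSch.completionAlong X 𝓚) hX)) (hS : S.ShortExact)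
    (h1 : FSch.IsCohF _ hX S.X₁) (h2 : FSch.IsCohF _ hX S.X₂) (h3 : FSch.IsCohF _ hX S.X₃)
    (a1 : Alg' (A := A) 𝓚 hX S.X₁) (a3 : Alg' (A := A) 𝓚 hX S.X₃) : Alg' (A := A) 𝓚 hX S.X₂ := by
  obtain ⟨G1, hG1, hs1, ⟨e1⟩⟩ := a1
  obtain ⟨G3, hG3, hs3, ⟨e3⟩⟩ := a3
  have hl : (FSch.completionAlong X 𝓚).IsLocNoethFormal := S3854.result X 𝓚
  let J1 := QCoh.annIdeal hG1.1 hG1.2
  let J3 := QCoh.annIdeal hG3.1 hG3.2
  have hr : Set.range (J1 * J3).subschemeι = CohB1.support G1 ∪ CohB1.support G3 := by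
    rw [Scheme.IdealSheafData.range_subschemeι, Scheme.IdealSheafData.support_mul]
    simp [J1, J3, QCoh.annIdeal]
  have hu := QCoh.IsProperOver.union hs1 hs3
  rw [← hr] at hu
  refine exists_alg_of_killed I 𝓚 h𝓚 hX S.X₂ h2 (J1 * J3) ((QCoh.isProperOver_iff _).1 hu) fun k U c hc m => ?_
  rw [Scheme.IdealSheafData.ideal_mul, Pi.mul_apply] at hc
  refine Submodule.mul_induction_on hc (fun a ha b hb => ?_) fun x y hx hy => ?_
  · have ha' : ∀ s : Γ(G1, U.1), a • s = 0 := Module.mem_annihilator.1 (by simpa [J1, QCoh.annIdeal] using ha)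
    have hb' : ∀ s : Γ(G3, U.1), b • s = 0 := Module.mem_annihilator.1 (by simpa [J3, QCoh.annIdeal] using hb)
    exact smul_eq_zero_of_exact 𝓚 hX S hS h1 h2 h3 k U.2 (smul_pullK_eq_zero 𝓚 hX hl hG1 e1 k U.2 ha')
      (smul_pullK_eq_zero 𝓚 hX hl hG3 e3 k U.2 hb') m
  · exact (add_smul x y (show Γ(pE 𝓚 hX S.X₂ k, U.1) from m)).trans ((congrArg₂ (· + ·) hx hy).trans (add_zero _))

include h𝓚 in
/-- Modules with algebraizable target, kernel and cokernel are algebraizable. -/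
theorem alg_of_kernel_cokernel (𝔉 𝔊 : FSch.ModF (FSch.completionAlong X 𝓚) hX) (h𝔉 : FSch.IsCohF _ hX 𝔉)
    (u : 𝔉 ⟶ 𝔊) (a𝔊 : Alg' (A := A) 𝓚 hX 𝔊) (ak : Alg' (A := A) 𝓚 hX (kernel u))
    (ac : Alg' (A := A) 𝓚 hX (cokernel u)) : Alg' (A := A) 𝓚 hX 𝔉 := by
  haveI : QuasiCompact (X ↘ Spec (CommRingCat.of A)) := inferInstance
  have him : Alg' (A := A) 𝓚 hX (Abelian.image u) :=
    (alg_ker_im_coker I 𝓚 h𝓚 hX 𝔊 (cokernel u) a𝔊 ac (cokernel.π u)).1
  have hcoh : ∀ {𝔐 : FSch.ModF (FSch.completionAlong X 𝓚) hX}, Alg' (A := A) 𝓚 hX 𝔐 → FSch.IsCohF _ hX 𝔐 := by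
    rintro 𝔐 ⟨G, hG, -, ⟨e⟩⟩
    have hl : (FSch.completionAlong X 𝓚).IsLocNoethFormal := S3854.result X 𝓚
    haveI := isIso_complCmp 𝓚 hl hG
    haveI := isFP_pull 𝓚 hX hG
    exact ObjectProperty.prop_of_iso _ (asIso (complCmp 𝓚 hl.1 G) ≪≫ e.symm) (isFP_pull 𝓚 hX hG)
  exact alg_of_shortExact 𝓚 hX I h𝓚 (ShortComplex.mk (kernel.ι u) (Abelian.factorThruImage u)
      (by rw [← cancel_mono (Abelian.image.ι u)]; simp))
    { exact := ShortComplex.exact_of_f_is_kernel _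
        (KernelFork.IsLimit.ofι' _ _ fun {W} x hx =>
          ⟨kernel.lift u x (by rw [← Abelian.image.fac u, ← Category.assoc]; simp [hx]), kernel.lift_ι _ _ _⟩)
      mono_f := inferInstance, epi_g := inferInstance }
    (hcoh ak) h𝔉 (hcoh him) ak him

end Groth.Agent.H26.FMod
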