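import Groth.Agent.H26.FMod.Ker
import Groth.Agent.QCoh.FT

/-!
# Completion of coherent modules as modules on the formal scheme
-/

noncomputable section

set_option autoImplicit false
set_option linter.style.haveILetI false
set_option backward.isDefEq.respectTransparency false
set_option backward.isDefEq.respectTransparency.types false

universe u

open CategoryTheory CategoryTheory.Limits TopologicalSpace Opposite AlgebraicGeometry
open Groth.Agent.ModTensor Groth.Agent.ModPull Groth.Agent.LocalFactor Groth.Agent.SecGen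

namespace Groth.Agent.H26.FMod

/-- Coherent modules on locally Noetherian schemes are finitely presented. -/
lemma isFP_of_isCoh {X : Scheme.{u}} [IsLocallyNoetherian X] {F : X.Modules} (hF : Coh.IsCoh F) :
    SheafOfModules.IsFinitePresentation.{u} (R := X.ringCatSheaf) F := by
  refine (QCoh.isFP_iff hF.1).2 fun U => ?_
  haveI := IsLocallyNoetherian.component_noetherian (X := X) U
  haveI := QCoh.finite_of_isFT hF.1 hF.2 U.2
  exact Module.finitePresentation_of_finite _ _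

/-- The adjunct of the composition isomorphism of inverse images. -/
lemma unit_pullComp {A B Y : Scheme.{u}} (f : A ⟶ B) (g : B ⟶ Y) (p : A ⟶ Y) (e : f ≫ g = p) (M : Y.Modules) :
    (Scheme.Modules.pullbackPushforwardAdjunction g).unit.app M ≫ (Scheme.Modules.pushforward g).map
        ((Scheme.Modules.pullbackPushforwardAdjunction f).homEquiv _ _
          ((Scheme.Modules.pullbackComp f g).hom.app M ≫ (Scheme.Modules.pullbackCongr e).hom.app M)) ≫
      (Scheme.Modules.pushforwardComp f g).hom.app ((Scheme.Modules.pullback p).obj M) ≫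
      (Scheme.Modules.pushforwardCongr e).hom.app ((Scheme.Modules.pullback p).obj M) =
    (Scheme.Modules.pullbackPushforwardAdjunction p).unit.app M := by
  subst e
  have h1 := unit_conjugateEquiv ((Scheme.Modules.pullbackPushforwardAdjunction g).comp
      (Scheme.Modules.pullbackPushforwardAdjunction f)) (Scheme.Modules.pullbackPushforwardAdjunction (f ≫ g))
    (Scheme.Modules.pullbackComp f g).inv M
  rw [Scheme.Modules.conjugateEquiv_pullbackComp_inv, Adjunction.comp_unit_app] at h1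
  have h2 := congrArg (· ≫ (Scheme.Modules.pushforward (f ≫ g)).map ((Scheme.Modules.pullbackComp f g).hom.app M)) h1
  simp only [Category.assoc, ← Functor.map_comp, Iso.inv_hom_id_app, CategoryTheory.Functor.map_id,
    Category.comp_id] at h2
  have hc : (Scheme.Modules.pullbackCongr (rfl : f ≫ g = f ≫ g)).hom.app M = 𝟙 _ := rfl
  have hd : (Scheme.Modules.pushforwardCongr (rfl : f ≫ g = f ≫ g)).hom.app
      ((Scheme.Modules.pullback (f ≫ g)).obj M) = 𝟙 _ := by
    ext U x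
    rw [Scheme.Modules.pushforwardCongr_hom_app_app]
    simp
  rw [hc, hd, Category.comp_id, Category.comp_id, Adjunction.homEquiv_unit, Functor.map_comp, Category.assoc]
  refine Eq.trans ?_ h2
  refine congrArg (_ ≫ ·) (congrArg (_ ≫ ·) ?_)
  exact (Scheme.Modules.pushforwardComp f g).hom.naturality ((Scheme.Modules.pullbackComp f g).hom.app M)

variable (𝔛 : FSch.Sys.{u}) (h : 𝔛.IsFormal) {Y : Scheme.{u}} (p : ∀ n, 𝔛.X n ⟶ Y)
  (hp : ∀ n, 𝔛.ι n ≫ p (n + 1) = p n)

instance isIso_schPushCompare_app (k : ℕ) (G : (𝔛.X k).Modules) :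
    IsIso ((FSch.schPushCompare 𝔛 h p hp k).app G) := by
  suffices hs : ∀ U, Function.Bijective ((show (Scheme.Modules.pushforward (p k)).obj G ⟶
      (show Y.Modules from ((FSch.levelMor 𝔛 h k).push ⋙ (FSch.toSchemeMor 𝔛 h p hp).push).obj G) from
        (FSch.schPushCompare 𝔛 h p hp k).app G).app U) from
    Scheme.Modules.Hom.isIso_iff_isIso_app.2 fun U => (ConcreteCategory.isIso_iff_bijective _).2 (hs U)
  intro U
  have e := (FSch.lvU_p 𝔛 h p hp k U)
  show Function.Bijective (G.presheaf.map (homOfLE e.ge).op)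
  haveI : IsIso (homOfLE e.ge).op := ⟨(homOfLE e.le).op, Subsingleton.elim _ _, Subsingleton.elim _ _⟩
  exact ConcreteCategory.bijective_of_isIso (G.presheaf.map (homOfLE e.ge).op)

variable (F : Y.Modules)

/-- The levels of the inverse image are the inverse images to the levels. -/
abbrev thetaK (k : ℕ) :
    pullK k ((FSch.toSchemeMor 𝔛 h p hp).pull.obj F) ⟶ (Scheme.Modules.pullback (p k)).obj F :=
  ((FSch.levelMor 𝔛 h k).adj.homEquiv _ _).symm (((FSch.toSchemeMor 𝔛 h p hp).adj.homEquiv F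
    ((FSch.levelMor 𝔛 h k).push.obj ((Scheme.Modules.pullback (p k)).obj F))).symm
      ((Scheme.Modules.pullbackPushforwardAdjunction (p k)).unit.app F ≫
        (FSch.schPushCompare 𝔛 h p hp k).app ((Scheme.Modules.pullback (p k)).obj F)))

lemma isIso_thetaK (k : ℕ) : IsIso (thetaK 𝔛 h p hp F k) := by
  exact isIso_trans_gen (FSch.levelMor 𝔛 h k).adj (FSch.toSchemeMor 𝔛 h p hp).adj
    (Scheme.Modules.pullbackPushforwardAdjunction (p k)) (FSch.schPushCompare 𝔛 h p hp k)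
    (haveI := NatIso.isIso_of_isIso_app (FSch.schPushCompare 𝔛 h p hp k); inv (FSch.schPushCompare 𝔛 h p hp k))
    (fun G => by rw [← NatTrans.comp_app]; simp) (fun G => by rw [← NatTrans.comp_app]; simp) F

lemma homEquiv_thetaK (k : ℕ) :
    (FSch.toSchemeMor 𝔛 h p hp).adj.homEquiv _ _ ((FSch.levelMor 𝔛 h k).adj.homEquiv _ _ (thetaK 𝔛 h p hp F k)) =
      (Scheme.Modules.pullbackPushforwardAdjunction (p k)).unit.app F ≫
        (FSch.schPushCompare 𝔛 h p hp k).app ((Scheme.Modules.pullback (p k)).obj F) := by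
  exact (congrArg _ (Equiv.apply_symm_apply _ _)).trans (Equiv.apply_symm_apply _ _)

/-- Composition of units. -/
lemma step_compl {A C M : Type*} [Category A] [Category C] [Category M] {P : A ⥤ M} {R1 : A ⥤ C} {R : C ⥤ M}
    {F Mk : M} {G1 G0' : A} (u1 : F ⟶ P.obj G1) (t : G1 ⟶ G0') {X : C} (pc : R1.obj G0' ⟶ X)
    (c1 : ∀ G, P.obj G ⟶ R.obj (R1.obj G)) {Y' : M} (a : P.obj G0' ⟶ Y') (b : Y' ⟶ Mk) (c0 : Mk ⟶ R.obj X)
    (u0 : F ⟶ Mk) (hu : u1 ≫ P.map t ≫ a ≫ b = u0) (hc : c1 G0' ≫ R.map pc = a ≫ b ≫ c0)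
    (hnat : ∀ {G G'} (f : G ⟶ G'), P.map f ≫ c1 G' = c1 G ≫ R.map (R1.map f)) :
    (u1 ≫ c1 G1) ≫ R.map (R1.map t ≫ pc) = u0 ≫ c0 := by
  rw [← hu, R.map_comp, Category.assoc, ← reassoc_of% (hnat t), hc]
  simp only [Category.assoc]

/-- Naturality of adjuncts. -/
lemma nat_gen {A C M : Type*} [Category A] [Category C] [Category M] {P : A ⥤ M} {R1 : A ⥤ C} {R : C ⥤ M}
    {F G : M} {F1 G1 : A} (φ : F ⟶ G) (φ1 : F1 ⟶ G1) {uF : F ⟶ P.obj F1} {uG : G ⟶ P.obj G1}
    {cF : P.obj F1 ⟶ R.obj (R1.obj F1)} {cG : P.obj G1 ⟶ R.obj (R1.obj G1)}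
    (aF : F ⟶ R.obj (R1.obj F1)) {aG : G ⟶ R.obj (R1.obj G1)}
    (hF : aF = uF ≫ cF) (hG : aG = uG ≫ cG) (hu : uF ≫ P.map φ1 = φ ≫ uG)
    (hc : P.map φ1 ≫ cG = cF ≫ R.map (R1.map φ1)) : aF ≫ R.map (R1.map φ1) = φ ≫ aG := by
  subst hF hG
  rw [Category.assoc, ← hc, reassoc_of% hu]

/-- Compatibility of a map out of the levels of a module with transitions. -/
lemma trans_gen {A B C M : Type*} [Category A] [Category B] [Category C] [Category M]
    {L1 : C ⥤ A} {R1 : A ⥤ C} (adj1 : L1 ⊣ R1) {L0 : C ⥤ B} {R0 : B ⥤ C} (adj0 : L0 ⊣ R0)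
    {Ri : B ⥤ A} (pc : Ri ⋙ R1 ⟶ R0) (pci : R0 ⟶ Ri ⋙ R1) (e : ∀ G, pci.app G ≫ pc.app G = 𝟙 _)
    [∀ G, Mono (pc.app G)] {L : M ⥤ C} {R : C ⥤ M} (adj : L ⊣ R) (F : M)
    {G1 : A} {G0 : B} (t : G1 ⟶ Ri.obj G0) (θ1 : L1.obj (L.obj F) ⟶ G1) (θ0 : L0.obj (L.obj F) ⟶ G0)
    (he : adj.homEquiv _ _ (adj1.homEquiv _ _ θ1) ≫ R.map (R1.map t ≫ pc.app G0) =
      adj.homEquiv _ _ (adj0.homEquiv _ _ θ0)) :
    (adj1.homEquiv _ _).symm (adj0.unit.app (L.obj F) ≫ pci.app _) ≫ Ri.map θ0 = θ1 ≫ t := by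
  apply (adj1.homEquiv _ _).injective
  rw [← cancel_mono (pc.app G0)]
  apply (adj.homEquiv _ _).injective
  rw [adj1.homEquiv_naturality_right, Equiv.apply_symm_apply, adj1.homEquiv_naturality_right]
  conv_rhs => rw [Category.assoc, adj.homEquiv_naturality_right]
  refine Eq.trans ?_ he.symm
  refine congrArg _ ?_
  have n1 := pci.naturality θ0
  simp only [Functor.comp_map] at n1
  rw [adj0.homEquiv_unit, Category.assoc (adj0.unit.app _), ← n1, Category.assoc, Category.assoc, e,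
    Category.comp_id]

/-- The comparisons with direct images are compatible. -/
lemma schPushCompare_succ (k : ℕ) (G : (𝔛.X k).Modules) :
    (FSch.schPushCompare 𝔛 h p hp (k + 1)).app ((Scheme.Modules.pushforward (𝔛.ι k)).obj G) ≫
        (FSch.toSchemeMor 𝔛 h p hp).push.map ((FSch.pushCompare 𝔛 h k).app G) =
      (Scheme.Modules.pushforwardComp (𝔛.ι k) (p (k + 1))).hom.app G ≫
        (Scheme.Modules.pushforwardCongr (hp k)).hom.app G ≫ (FSch.schPushCompare 𝔛 h p hp k).app G := by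
  ext U x
  let a := U
  change G.val.map (homOfLE (𝔛.lvU_le h k (p 0 ⁻¹ᵁ a))).op
      (G.val.map ((Opens.map (𝔛.ι k).base).map (homOfLE (FSch.lvU_p 𝔛 h p hp (k + 1) a).ge)).op x) =
    G.val.map (homOfLE (FSch.lvU_p 𝔛 h p hp k a).ge).op (G.val.map (eqToHom (show p k ⁻¹ᵁ a = (𝔛.ι k ≫ p (k + 1)) ⁻¹ᵁ a by rw [hp k])).op x)
  refine (QCoh.map_map (M := G) _ _ x).trans (Eq.trans ?_
    (QCoh.map_map (M := G) (homOfLE (FSch.lvU_p 𝔛 h p hp k a).ge)
      (eqToHom (show p k ⁻¹ᵁ a = (𝔛.ι k ≫ p (k + 1)) ⁻¹ᵁ a by rw [hp k])) x).symm)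
  exact congrArg (fun q => G.presheaf.map (Quiver.Hom.op q) x) (Subsingleton.elim _ _)


/-- The identification of the levels is compatible with the transitions. -/
lemma thetaK_transK (k : ℕ) :
    transK h ((FSch.toSchemeMor 𝔛 h p hp).pull.obj F) k ≫
        (Scheme.Modules.pushforward (𝔛.ι k)).map (thetaK 𝔛 h p hp F k) =
      thetaK 𝔛 h p hp F (k + 1) ≫ (Scheme.Modules.pullbackPushforwardAdjunction (𝔛.ι k)).homEquiv _ _
        ((Scheme.Modules.pullbackComp (𝔛.ι k) (p (k + 1))).hom.app F ≫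
          (Scheme.Modules.pullbackCongr (hp k)).hom.app F) := by
  haveI : ∀ G, Mono ((FSch.pushCompare 𝔛 h k).app G) := fun G =>
    (SplitMono.mk _ (FSch.pushCompare_pushCompareInv 𝔛 h k G)).mono
  refine trans_gen (FSch.levelMor 𝔛 h (k + 1)).adj (FSch.levelMor 𝔛 h k).adj (FSch.pushCompare 𝔛 h k)
    (FSch.pushCompareInv 𝔛 h k) (FSch.pushCompareInv_pushCompare 𝔛 h k) (FSch.toSchemeMor 𝔛 h p hp).adj F
    _ _ _ ?_
  rw [homEquiv_thetaK, homEquiv_thetaK]
  exact step_compl (P := Scheme.Modules.pushforward (p (k + 1))) (R1 := (FSch.levelMor 𝔛 h (k + 1)).push)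
    (R := (FSch.toSchemeMor 𝔛 h p hp).push) _ _ _ (fun G => (FSch.schPushCompare 𝔛 h p hp (k + 1)).app G) _ _ _ _ (unit_pullComp (𝔛.ι k) (p (k + 1)) (p k) (hp k) F)
    (schPushCompare_succ 𝔛 h p hp k _) (fun f => (FSch.schPushCompare 𝔛 h p hp (k + 1)).naturality f)

/-- Limits of levelwise isomorphisms. -/
lemma isIso_realLimMap {G G' : ∀ k, (𝔛.X k).Modules} {t : ∀ k, G (k + 1) ⟶ (Scheme.Modules.pushforward (𝔛.ι k)).obj (G k)}
    {t' : ∀ k, G' (k + 1) ⟶ (Scheme.Modules.pushforward (𝔛.ι k)).obj (G' k)} (φ : ∀ k, G k ⟶ G' k)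
    [∀ k, IsIso (φ k)] (hφ : ∀ k, t k ≫ (Scheme.Modules.pushforward (𝔛.ι k)).map (φ k) = φ (k + 1) ≫ t' k) :
    IsIso (FSch.realLimMap 𝔛 h φ hφ) := by
  haveI : ∀ j, IsIso ((FSch.levelSysMap 𝔛 h φ hφ).app j) := fun j =>
    inferInstanceAs (IsIso ((FSch.levelMor 𝔛 h j.unop).push.map (φ j.unop)))
  haveI := NatIso.isIso_of_isIso_app (FSch.levelSysMap 𝔛 h φ hφ)
  exact inferInstanceAs (IsIso ((lim (J := ℕᵒᵖ)).map (FSch.levelSysMap 𝔛 h φ hφ)))

lemma transIso_app_hom {A B Y : Scheme.{u}} (f : A ⟶ B) (g : B ⟶ Y) {p : A ⟶ Y} (e : f ≫ g = p) (M : Y.Modules) :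
    ((Scheme.Modules.pullbackComp f g ≪≫ Scheme.Modules.pullbackCongr e).app M).hom =
      (Scheme.Modules.pullbackComp f g).hom.app M ≫ (Scheme.Modules.pullbackCongr e).hom.app M := rfl

section Completion

variable {X : Scheme.{u}} (𝓘 : X.IdealSheafData) (hc : (FSch.completionAlong X 𝓘).IsFormal)

/-- The morphism of ringed spaces from the completion to the scheme. -/
abbrev toX : ModSite.RMor ((FSch.completionAlong X 𝓘).Osh hc) X.sheaf :=
  FSch.toSchemeMor (FSch.completionAlong X 𝓘) hc (FSch.completionToX X 𝓘) (FSch.completionToX_comm X 𝓘)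

lemma complMod_toPush (F : X.Modules) (k : ℕ) :
    (FSch.complMod 𝓘 F).toPush k = (Scheme.Modules.pullbackPushforwardAdjunction ((FSch.completionAlong X 𝓘).ι k)).homEquiv _ _
      ((Scheme.Modules.pullbackComp ((FSch.completionAlong X 𝓘).ι k) (FSch.completionToX X 𝓘 (k + 1))).hom.app F ≫
        (Scheme.Modules.pullbackCongr (FSch.completionToX_comm X 𝓘 k)).hom.app F) := by
  rw [FSch.ModSys.toPush]
  delta FSch.complMod FSch.complTransIso
  dsimp only
  refine congrArg _ ?_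
  exact transIso_app_hom _ _ (FSch.completionToX_comm X 𝓘 k) F

/-- The comparison of the inverse image to the completion with the completed module. -/
def complCmp (F : X.Modules) :
    (toX 𝓘 hc).pull.obj F ⟶ (FSch.complMod 𝓘 F).realMod hc :=
  toReal hc ((toX 𝓘 hc).pull.obj F) ≫ FSch.realLimMap _ hc
    (thetaK (FSch.completionAlong X 𝓘) hc (FSch.completionToX X 𝓘) (FSch.completionToX_comm X 𝓘) F)
    (fun k => (congrArg (fun t => t ≫ (Scheme.Modules.pushforward _).map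
        (thetaK (FSch.completionAlong X 𝓘) hc (FSch.completionToX X 𝓘) (FSch.completionToX_comm X 𝓘) F k))
        (toPush_sysOf ((toX 𝓘 hc).pull.obj F) k)).trans
      ((thetaK_transK (FSch.completionAlong X 𝓘) hc (FSch.completionToX X 𝓘) (FSch.completionToX_comm X 𝓘) F k).trans
        (congrArg (_ ≫ ·) (complMod_toPush 𝓘 F k).symm)))

lemma complCmp_proj (F : X.Modules) (k : ℕ) :
    complCmp 𝓘 hc F ≫ FSch.realProj (FSch.completionAlong X 𝓘) hc (FSch.complMod 𝓘 F).F (FSch.complMod 𝓘 F).toPush k =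
      (FSch.levelMor (FSch.completionAlong X 𝓘) hc k).adj.homEquiv _ _
        (thetaK (FSch.completionAlong X 𝓘) hc (FSch.completionToX X 𝓘) (FSch.completionToX_comm X 𝓘) F k) := by
  refine ((Category.assoc _ _ _).trans (congrArg (_ ≫ ·) (FSch.realLimMap_realProj _ hc _ _ k))).trans ?_
  refine ((Category.assoc _ _ _).symm.trans (congrArg (· ≫ _) (toReal_proj _ k))).trans ?_
  exact ((FSch.levelMor (FSch.completionAlong X 𝓘) hc k).adj.homEquiv_unit _ _ _).symm

lemma complCmp_adj (F : X.Modules) (k : ℕ) :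
    (toX 𝓘 hc).adj.homEquiv _ _ (complCmp 𝓘 hc F) ≫ (toX 𝓘 hc).push.map
        (FSch.realProj (FSch.completionAlong X 𝓘) hc (FSch.complMod 𝓘 F).F (FSch.complMod 𝓘 F).toPush k) =
      (Scheme.Modules.pullbackPushforwardAdjunction (FSch.completionToX X 𝓘 k)).unit.app F ≫
        (FSch.schPushCompare (FSch.completionAlong X 𝓘) hc (FSch.completionToX X 𝓘) (FSch.completionToX_comm X 𝓘) k).app _ :=
  ((toX 𝓘 hc).adj.homEquiv_naturality_right _ _).symm.trans ((congrArg _ (complCmp_proj 𝓘 hc F k)).trans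
    (homEquiv_thetaK _ hc _ _ F k))

lemma isFP_pull [IsLocallyNoetherian X] {F : X.Modules} (hF : Coh.IsCoh F) :
    FSch.IsCohF _ hc ((toX 𝓘 hc).pull.obj F) := by
  haveI := isFP_of_isCoh hF
  exact PullQc.isFinitePresentation_pull (toX 𝓘 hc) F

/-- For coherent modules the comparison is invertible. -/
theorem isIso_complCmp [IsLocallyNoetherian X] (hlnf : (FSch.completionAlong X 𝓘).IsLocNoethFormal)
    {F : X.Modules} (hF : Coh.IsCoh F) : IsIso (complCmp 𝓘 hlnf.1 F) := by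
  haveI := isIso_toReal hlnf _ (isFP_pull 𝓘 hlnf.1 hF)
  haveI : ∀ k, IsIso (thetaK (FSch.completionAlong X 𝓘) hlnf.1 (FSch.completionToX X 𝓘)
      (FSch.completionToX_comm X 𝓘) F k) := fun k => isIso_thetaK _ _ _ _ F k
  haveI := isIso_realLimMap (FSch.completionAlong X 𝓘) hlnf.1
    (thetaK (FSch.completionAlong X 𝓘) hlnf.1 (FSch.completionToX X 𝓘) (FSch.completionToX_comm X 𝓘) F)
    (G := (sysOf hlnf.1 ((toX 𝓘 hlnf.1).pull.obj F)).F) (t := (sysOf hlnf.1 ((toX 𝓘 hlnf.1).pull.obj F)).toPush)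
    (G' := (FSch.complMod 𝓘 F).F) (t' := (FSch.complMod 𝓘 F).toPush)
  exact @IsIso.comp_isIso _ _ _ _ _ _ _ inferInstance (this _)

lemma complModMap_proj {F G : X.Modules} (φ : F ⟶ G) (k : ℕ) :
    complCmp 𝓘 hc F ≫ FSch.ModSys.realModMap hc (FSch.complModMap 𝓘 φ) ≫
        FSch.realProj (FSch.completionAlong X 𝓘) hc (FSch.complMod 𝓘 G).F (FSch.complMod 𝓘 G).toPush k =
      (toX 𝓘 hc).pull.map φ ≫ complCmp 𝓘 hc G ≫
        FSch.realProj (FSch.completionAlong X 𝓘) hc (FSch.complMod 𝓘 G).F (FSch.complMod 𝓘 G).toPush k := by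
  have e1 : FSch.ModSys.realModMap hc (FSch.complModMap 𝓘 φ) ≫
      FSch.realProj (FSch.completionAlong X 𝓘) hc (FSch.complMod 𝓘 G).F (FSch.complMod 𝓘 G).toPush k = _ :=
    FSch.realLimMap_realProj _ hc _ (FSch.ModSys.Hom.toPush_comm (FSch.complModMap 𝓘 φ)) k
  rw [e1, complCmp_proj, ← Category.assoc, complCmp_proj]
  apply ((toX 𝓘 hc).adj.homEquiv _ _).injective
  rw [Adjunction.homEquiv_naturality_right, Adjunction.homEquiv_naturality_left]
  exact nat_gen (P := Scheme.Modules.pushforward (FSch.completionToX X 𝓘 k)) _ _ _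
    (homEquiv_thetaK _ hc _ (FSch.completionToX_comm X 𝓘) F k) (homEquiv_thetaK _ hc _ (FSch.completionToX_comm X 𝓘) G k)
    ((Scheme.Modules.pullbackPushforwardAdjunction (FSch.completionToX X 𝓘 k)).unit_naturality φ)
    ((FSch.schPushCompare (FSch.completionAlong X 𝓘) hc (FSch.completionToX X 𝓘) (FSch.completionToX_comm X 𝓘) k).naturality
      ((Scheme.Modules.pullback (FSch.completionToX X 𝓘 k)).map φ))

/-- Naturality of the comparison. -/
lemma complCmp_naturality {F G : X.Modules} (φ : F ⟶ G) :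
    complCmp 𝓘 hc F ≫ FSch.ModSys.realModMap hc (FSch.complModMap 𝓘 φ) =
      (toX 𝓘 hc).pull.map φ ≫ complCmp 𝓘 hc G :=
  limit.hom_ext fun j => (Category.assoc _ _ _).trans ((complModMap_proj 𝓘 hc φ j.unop).trans
    (Category.assoc _ _ _).symm)

/-- Completion of coherent modules is exact. -/
theorem shortExact_compl [IsLocallyNoetherian X] (hlnf : (FSch.completionAlong X 𝓘).IsLocNoethFormal)
    (hflat : ModSite.RMor.IsFlat (toX 𝓘 hlnf.1)) (S : ShortComplex X.Modules) (hS : S.ShortExact)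
    (h1 : Coh.IsCoh S.X₁) (h2 : Coh.IsCoh S.X₂) (h3 : Coh.IsCoh S.X₃) :
    ∃ w : FSch.ModSys.realModMap hlnf.1 (FSch.complModMap 𝓘 S.f) ≫
        FSch.ModSys.realModMap hlnf.1 (FSch.complModMap 𝓘 S.g) = 0, (ShortComplex.mk _ _ w).ShortExact := by
  haveI := isIso_complCmp 𝓘 hlnf h1
  haveI := isIso_complCmp 𝓘 hlnf h2
  haveI := isIso_complCmp 𝓘 hlnf h3
  haveI : PreservesFiniteLimits (toX 𝓘 hlnf.1).pull := hflat
  haveI : PreservesColimitsOfSize.{0, 0} (toX 𝓘 hlnf.1).pull := (toX 𝓘 hlnf.1).adj.leftAdjoint_preservesColimits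
  haveI : (toX 𝓘 hlnf.1).pull.Additive := Functor.additive_of_preserves_binary_products _
  have n1 := complCmp_naturality 𝓘 hlnf.1 S.f
  have n2 := complCmp_naturality 𝓘 hlnf.1 S.g
  have w : FSch.ModSys.realModMap hlnf.1 (FSch.complModMap 𝓘 S.f) ≫
      FSch.ModSys.realModMap hlnf.1 (FSch.complModMap 𝓘 S.g) = 0 := by
    rw [← cancel_epi (complCmp 𝓘 hlnf.1 S.X₁), reassoc_of% n1, n2, ← Category.assoc, ← Functor.map_comp,
      S.zero, Functor.map_zero, zero_comp, comp_zero]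
  refine ⟨w, ShortComplex.shortExact_of_iso ?_ (hS.map_of_exact (toX 𝓘 hlnf.1).pull)⟩
  exact ShortComplex.isoMk (asIso (complCmp 𝓘 hlnf.1 S.X₁)) (asIso (complCmp 𝓘 hlnf.1 S.X₂))
    (asIso (complCmp 𝓘 hlnf.1 S.X₃)) n1 n2

end Completion

end Groth.Agent.H26.FMod
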