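import Groth.Agent.H26.FMod.HomSec
import Mathlib.Algebra.Category.ModuleCat.Presheaf.Abelian
import Mathlib.CategoryTheory.Preadditive.Injective.Preserves
import Mathlib.RingTheory.Ideal.Colon
import Mathlib.Topology.Sheaves.Sheaf

/-!
# Torsion sections of complexes of injective modules with torsion cohomology
-/

noncomputable section

set_option autoImplicit false
set_option maxHeartbeats 1000000
set_option backward.isDefEq.respectTransparency false
set_option backward.isDefEq.respectTransparency.types false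
set_option linter.style.haveILetI false

universe u

open CategoryTheory CategoryTheory.Limits Opposite TopologicalSpace
open Groth.Agent.ModTensor Groth.Agent.ModPull
open Groth.Agent.H26.FMod.HomSec

namespace Groth.Agent.H26.FMod.GStab

variable {T : TopCat.{u}} {O : Sheaf (Opens.grothendieckTopology T) CommRingCat.{u}}

/-- Sections of a module. -/
abbrev Se (M : ModSite.Mod O) (V : Opens T) := ((fg O).obj M).obj (op V)

/-- Restriction of sections of the ring. -/
abbrev ρ {U V : Opens T} (h : V ≤ U) : O.obj.obj (op U) →+* O.obj.obj (op V) :=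
  (O.obj.map (homOfLE h).op).hom

/-- Restriction of sections of a module. -/
abbrev rm (M : ModSite.Mod O) {U V : Opens T} (h : V ≤ U) (x : Se M U) : Se M V := rz M (homOfLE h) x

lemma rm_smul (M : ModSite.Mod O) {U V : Opens T} (h : V ≤ U) (a : O.obj.obj (op U)) (x : Se M U) :
    rm M h (a • x) = ρ h a • rm M h x := rs_smul (P := (fg O).obj M) (homOfLE h).op a x

lemma rm_rm (M : ModSite.Mod O) {U V W : Opens T} (h : V ≤ U) (h' : W ≤ V) (x : Se M U) :
    rm M h' (rm M h x) = rm M (h'.trans h) x :=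
  (rz_comp M (homOfLE h) (homOfLE h') x).symm

lemma ρ_ρ {U V W : Opens T} (h : V ≤ U) (h' : W ≤ V) (a : O.obj.obj (op U)) :
    ρ (O := O) h' (ρ h a) = ρ (h'.trans h) a :=
  (ConcreteCategory.congr_hom (O.obj.map_comp (homOfLE h).op (homOfLE h').op) a).symm

/-- A pointwise local property gives a local property. -/
lemma locally_of_point {V : Opens T} {P : ∀ ⦃W : Opens T⦄, (W ⟶ V) → Prop}
    (h : ∀ y ∈ V, ∃ (W : Opens T) (hW : W ≤ V), y ∈ W ∧ P (homOfLE hW))
    (hres : ∀ ⦃W W' : Opens T⦄ (g : W ⟶ V) (k : W' ⟶ W), P g → P (k ≫ g)) :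
    ModPull.Locally (Opens.grothendieckTopology T) V P :=
  ⟨{ arrows := fun W g => P g, downward_closed := fun hg k => hres _ k hg },
    fun y hy => by
      obtain ⟨W, hW, hyW, hPW⟩ := h y hy
      exact ⟨W, homOfLE hW, hPW, hyW⟩,
    fun _ _ hg => hg⟩

/-- A local property holds near every point. -/
lemma point_of_locally {V : Opens T} {P : ∀ ⦃W : Opens T⦄, (W ⟶ V) → Prop}
    (h : ModPull.Locally (Opens.grothendieckTopology T) V P) {y : T} (hy : y ∈ V) :
    ∃ (W : Opens T) (hW : W ≤ V), y ∈ W ∧ P (homOfLE hW) := by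
  obtain ⟨S, hS, hP⟩ := h
  obtain ⟨W, g, hg, hyW⟩ := hS y hy
  exact ⟨W, leOfHom g, hyW, hP _ hg⟩

lemma eq_of_point (M : ModSite.Mod O) {V : Opens T} {a b : Se M V}
    (h : ∀ y ∈ V, ∃ (W : Opens T) (hW : W ≤ V), y ∈ W ∧ rm M hW a = rm M hW b) : a = b :=
  eq_of_locally' M (locally_of_point (P := fun W g => rz M g a = rz M g b) h
    fun W W' g k e => by rw [rz_comp, rz_comp, e])

variable (I : FTors.IdealFam O)

/-- An open on which the torsion is that of finitely many sections, with good colon ideals. -/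
structure Good (U : Opens T) : Prop where
  noeth : IsNoetherianRing (O.obj.obj (op U))
  gens : ∃ (r : ℕ) (g : Fin r → O.obj.obj (op U)), (∀ i n, g i ^ (n + 1) ∈ I.ideal n U) ∧
    ∀ (M : ModSite.Mod O) (V : Opens T) (hV : V ≤ U) (x : Se M V) (K : ℕ),
      (∀ i, ρ hV (g i) ^ K • x = 0) → FTors.IsTorsSect I M (U := V) x
  colon : ∀ (L : Ideal (O.obj.obj (op U))) (a : O.obj.obj (op U)) (V : Opens T) (hV : V ≤ U)
    (c : O.obj.obj (op V)), c * ρ hV a ∈ L.map (ρ hV) → ∀ y ∈ V, ∃ (W : Opens T) (hW : W ≤ V), y ∈ W ∧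
      ρ hW c ∈ (L.colon {a}).map (ρ (hW.trans hV))

section Colon

variable {U : Opens T} {r : ℕ}

/-- The colon ideals of a Noetherian ring stabilise. -/
lemma exists_stable_colon [IsNoetherianRing (O.obj.obj (op U))] (L : Ideal (O.obj.obj (op U)))
    (a : O.obj.obj (op U)) : ∃ m, ∀ p, m ≤ p → ∀ c, c * a ^ p ∈ L → c * a ^ m ∈ L := by
  let f : ℕ →o Submodule (O.obj.obj (op U)) (O.obj.obj (op U)) :=
    ⟨fun n => L.colon {a ^ n}, fun n n' hn c hc => by
      rw [Submodule.mem_colon_singleton] at hc ⊢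
      obtain ⟨k, rfl⟩ := Nat.exists_eq_add_of_le hn
      rw [smul_eq_mul, pow_add, ← mul_assoc]
      exact L.mul_mem_right _ hc⟩
  obtain ⟨m, hm⟩ := monotone_stabilizes_iff_noetherian.2 inferInstance f
  refine ⟨m, fun p hp c hc => ?_⟩
  have h1 : c ∈ f p := Submodule.mem_colon_singleton.2 hc
  rw [← hm p hp] at h1
  exact Submodule.mem_colon_singleton.1 h1

/-- Finitely many generators over an open. -/
@[reducible] def genPre (V : Opens T) (ι : Type u) : (Opens T)ᵒᵖ ⥤ Type u where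
  obj X := (X.unop ⟶ V) × ι
  map f := TypeCat.ofHom fun p => (f.unop ≫ p.1, p.2)

/-- The coefficient of a generator. -/
def cf {V X : Opens T} {ι : Type u}
    (t : (PresheafOfModules.freeObj (R := (ModSite.ringSh O).obj) (genPre V ι)).obj (op X)) :
    ((X ⟶ V) × ι) →₀ O.obj.obj (op X) := t

/-- The map out of finitely many generators over an open. -/
def mkHom {V : Opens T} {ι : Type u} (G : PresheafOfModules.{u} (ModSite.ringSh O).obj)
    (s : ι → G.obj (op V)) : PresheafOfModules.freeObj (R := (ModSite.ringSh O).obj) (genPre V ι) ⟶ G :=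
  PresheafOfModules.freeObjDesc
    { app := fun X => TypeCat.ofHom fun p => G.map p.1.op (s p.2)
      naturality := fun X Y f => by
        ext p
        exact G.map_comp_apply p.1.op f (s p.2) }

lemma mkHom_app {V : Opens T} {ι : Type u} [Fintype ι] (G : PresheafOfModules.{u} (ModSite.ringSh O).obj)
    (s : ι → G.obj (op V)) {X : Opens T} (g : X ⟶ V)
    (t : (PresheafOfModules.freeObj (R := (ModSite.ringSh O).obj) (genPre V ι)).obj (op X)) :
    (mkHom G s).app (op X) t = ∑ i, (cf t (g, i) : (ModSite.ringSh O).obj.obj (op X)) • G.map g.op (s i) := by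
  classical
  haveI : Fintype ((X ⟶ V) × ι) := Fintype.ofEquiv ι
    ⟨fun i => (g, i), fun p => p.2, fun i => rfl, fun p => Prod.ext (Subsingleton.elim _ _) rfl⟩
  refine (Finsupp.linearCombination_apply _ t).trans ?_
  refine (Finsupp.sum_fintype (cf t)
    (fun p (c : (ModSite.ringSh O).obj.obj (op X)) => c • (G.map p.1.op (s p.2) : G.obj (op X)))
    fun p => zero_smul ((ModSite.ringSh O).obj.obj (op X)) _).trans ?_
  exact Fintype.sum_equiv ⟨fun p => p.2, fun i => (g, i), fun p => Prod.ext (Subsingleton.elim _ _) rfl,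
    fun i => rfl⟩ _ _ fun p => by
      obtain ⟨g', i⟩ := p
      obtain rfl : g' = g := Subsingleton.elim _ _
      rfl

/-- An exponent from which the colon ideals of the powers of a section are stable. -/
def IsStableExp (g : Fin r → O.obj.obj (op U)) (j k : ℕ) (a : O.obj.obj (op U)) (m : ℕ) : Prop :=
  ∀ p, m ≤ p → ∀ c, c * a ^ p ∈ Ideal.span (Set.range fun i : Fin r => if i.1 < j then g i ^ k else 0) →
    c * a ^ m ∈ Ideal.span (Set.range fun i : Fin r => if i.1 < j then g i ^ k else 0)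

/-- Stable exponents exist on good opens. -/
lemma exists_isStableExp (hU : Good I U) (g : Fin r → O.obj.obj (op U)) (j k : ℕ) (a : O.obj.obj (op U)) :
    ∃ m, IsStableExp g j k a m :=
  haveI := hU.noeth
  exists_stable_colon _ a

/-- Modules in which sections killed by powers of finitely many sections are locally divisible, up to the
stable exponents, by powers of further sections inside the same sections. -/
def DivMod (M : ModSite.Mod O) : Prop :=
  ∀ (U : Opens T), Good I U → ∀ (r : ℕ) (g : Fin r → O.obj.obj (op U)) (j k : ℕ) (a : O.obj.obj (op U)) (m : ℕ),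
    IsStableExp g j k a m → ∀ (L : ℕ) (V : Opens T) (hV : V ≤ U) (x : Se M V),
      (∀ i : Fin r, i.1 < j → ρ hV (g i) ^ k • x = 0) → ∀ y ∈ V, ∃ (W : Opens T) (hW : W ≤ V) (z : Se M W),
        y ∈ W ∧ ρ (hW.trans hV) a ^ (m + L) • z = ρ (hW.trans hV) a ^ m • rm M hW x ∧
          ∀ i : Fin r, i.1 < j → ρ (hW.trans hV) (g i) ^ k • z = 0

/-- Local divisibility, for given sections and up to some exponent, of sections killed by powers of the first
ones by powers of the next one. -/
def DivAt (g : Fin r → O.obj.obj (op U)) (M : ModSite.Mod O) : Prop :=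
  ∀ (j : ℕ) (hj : j < r) (k : ℕ), ∃ m : ℕ, ∀ (L : ℕ) (V : Opens T) (hV : V ≤ U) (x : Se M V),
    (∀ i : Fin r, i.1 < j → ρ hV (g i) ^ k • x = 0) → ∀ y ∈ V, ∃ (W : Opens T) (hW : W ≤ V) (z : Se M W),
      y ∈ W ∧ ρ (hW.trans hV) (g ⟨j, hj⟩) ^ (m + L) • z = ρ (hW.trans hV) (g ⟨j, hj⟩) ^ m • rm M hW x ∧
        ∀ i : Fin r, i.1 < j → ρ (hW.trans hV) (g i) ^ k • z = 0

variable {I} in
lemma DivMod.divAt {M : ModSite.Mod O} (h : DivMod I M) (hU : Good I U) (g : Fin r → O.obj.obj (op U)) :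
    DivAt g M := fun j hj k => by
  obtain ⟨m, hm⟩ := exists_isStableExp I hU g j k (g ⟨j, hj⟩)
  exact ⟨m, fun L V hV x hx y hy => h U hU r g j k _ m hm L V hV x hx y hy⟩

/-- Sections killed by the `k`-th powers of finitely many sections are, up to the stable exponent,
divisible by any power of a further section inside the same sections. -/
theorem exists_div_of_stable (hU : Good I U) (E : ModSite.Mod O) [Injective E] (g : Fin r → O.obj.obj (op U))
    (j k : ℕ) (a : O.obj.obj (op U)) (m : ℕ) (hm : IsStableExp g j k a m) (L : ℕ) (V : Opens T) (hV : V ≤ U)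
    (x : Se E V) (hx : ∀ i : Fin r, i.1 < j → ρ hV (g i) ^ k • x = 0) : ∃ z : Se E V,
      ρ hV a ^ (m + L) • z = ρ hV a ^ m • x ∧ ∀ i : Fin r, i.1 < j → ρ hV (g i) ^ k • z = 0 := by
  classical
  let q : Fin r → O.obj.obj (op U) := fun i => if i.1 < j then g i ^ k else 0
  let Lk : Ideal (O.obj.obj (op U)) := Ideal.span (Set.range q)
  let ι : Type u := ULift.{u} (Option (Fin r))
  let R := (ModSite.ringSh O).obj
  let Y : PresheafOfModules.{u} R := PresheafOfModules.freeObj (R := R) (yoneda.obj V)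
  let e0 : Y.obj (op V) := ModuleCat.freeMk (𝟙 V : (yoneda.obj V).obj (op V))
  let co : ι → O.obj.obj (op V) := fun i => ρ hV (Option.elim i.down (a ^ (m + L)) q)
  let va : ι → Se E V := fun i => Option.elim i.down (ρ hV a ^ m • x) (fun _ => 0)
  let φ := mkHom Y (fun i : ι => (co i : R.obj (op V)) • e0)
  let ψ := mkHom ((fg O).obj E) va
  have hker : kernel.ι φ ≫ ψ = 0 := by
    refine PresheafOfModules.hom_ext fun X => ModuleCat.hom_ext (LinearMap.ext fun s => ?_)
    let t := (kernel.ι φ).app X s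
    have ht : φ.app X t = 0 := by
      show (kernel.ι φ ≫ φ).app X s = 0
      rw [kernel.condition]
      rfl
    show ψ.app X t = 0
    obtain ⟨X⟩ := X
    by_cases hXV : X ≤ V
    swap
    · haveI : IsEmpty ((genPre V ι).obj (op X)) := ⟨fun p => hXV (leOfHom p.1)⟩
      haveI : Subsingleton ((PresheafOfModules.freeObj (R := R) (genPre V ι)).obj (op X)) :=
        inferInstanceAs (Subsingleton ((genPre V ι).obj (op X) →₀ _))
      rw [Subsingleton.elim t 0, map_zero]
    let f := homOfLE hXV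
    let c : ι → O.obj.obj (op X) := fun i => cf t (f, i)
    have hsum : ∑ i, c i * ρ hXV (co i) = 0 := by
      have h1 := (mkHom_app Y _ f t).symm.trans ht
      have h2 : ∀ i : ι, Y.map f.op ((co i : R.obj (op V)) • e0) =
          (ρ hXV (co i) : R.obj (op X)) • ModuleCat.freeMk (f : (yoneda.obj V).obj (op X)) := fun i => by
        refine (Y.map_smul f.op _ _).trans ?_
        refine congrArg ((ρ hXV (co i) : R.obj (op X)) • ·) ?_
        refine (ModuleCat.freeDesc_apply _ _).trans ?_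
        exact congrArg ModuleCat.freeMk (Category.comp_id f)
      have h4 : ∀ i : ι, (c i : R.obj (op X)) • Y.map f.op ((co i : R.obj (op V)) • e0) =
          (Finsupp.single (f : X ⟶ V) (c i * ρ hXV (co i)) : (X ⟶ V) →₀ O.obj.obj (op X)) := fun i => by
        refine (congrArg ((c i : R.obj (op X)) • ·) (h2 i)).trans ?_
        refine (smul_smul (c i : R.obj (op X)) _ _).trans ?_
        exact Finsupp.smul_single_one (f : X ⟶ V) (c i * ρ hXV (co i))
      refine (Finsupp.single_eq_zero (a := (f : X ⟶ V))).1 ?_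
      rw [Finsupp.single_finsetSum]
      exact (Finset.sum_congr rfl fun i _ => (h4 i).symm).trans h1
    refine (mkHom_app ((fg O).obj E) va f t).trans ?_
    rw [Finset.sum_eq_single (ULift.up none : ι) (fun i _ hi => ?_) (fun h => absurd (Finset.mem_univ _) h)]
    swap
    · obtain ⟨_ | i⟩ := i
      · exact absurd rfl hi
      · exact (congrArg _ (map_zero _)).trans (smul_zero _)
    show c ⟨none⟩ • rm E hXV (ρ hV a ^ m • x) = 0
    refine eq_of_point E fun y hy => ?_
    have hmem : c ⟨none⟩ * ρ (hXV.trans hV) (a ^ (m + L)) ∈ Lk.map (ρ (hXV.trans hV)) := by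
      rw [← Finset.add_sum_erase _ _ (Finset.mem_univ (ULift.up none : ι))] at hsum
      have h2 : c ⟨none⟩ * ρ (hXV.trans hV) (a ^ (m + L)) = c ⟨none⟩ * ρ hXV (co ⟨none⟩) :=
        congrArg (c ⟨none⟩ * ·) (ρ_ρ hV hXV (a ^ (m + L))).symm
      rw [h2, eq_neg_of_add_eq_zero_left hsum]
      refine Submodule.neg_mem _ (Submodule.sum_mem _ fun i hi => ?_)
      obtain ⟨_ | i⟩ := i
      · exact absurd rfl (Finset.mem_erase.1 hi).1
      · exact Ideal.mul_mem_left _ _ ((ρ_ρ hV hXV (q i)).symm ▸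
          Ideal.mem_map_of_mem _ (Ideal.subset_span ⟨i, rfl⟩))
    obtain ⟨W, hW, hyW, hc⟩ := hU.colon Lk (a ^ (m + L)) X (hXV.trans hV) _ hmem y hy
    refine ⟨W, hW, hyW, ?_⟩
    rw [show rm E hW (0 : Se E X) = 0 from rz_zero _ _, rm_smul, rm_rm, rm_smul, smul_smul, map_pow, ρ_ρ]
    let x' : Se E W := rm E (hW.trans hXV) x
    have hann : (Lk.map (ρ (hW.trans (hXV.trans hV)))) ≤
        LinearMap.ker (LinearMap.toSpanSingleton (O.obj.obj (op W)) (Se E W) x') := by
      rw [Ideal.map_le_iff_le_comap, Ideal.span_le]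
      rintro _ ⟨i, rfl⟩
      rw [SetLike.mem_coe, Ideal.mem_comap, LinearMap.mem_ker, LinearMap.toSpanSingleton_apply]
      by_cases hi : i.1 < j
      · rw [show q i = g i ^ k from if_pos hi, ← ρ_ρ hV (hW.trans hXV), ← rm_smul, map_pow, hx i hi]
        exact rz_zero _ _
      · rw [show q i = 0 from if_neg hi, map_zero, zero_smul]
    refine hann ?_
    have hle : (Lk.colon {a ^ (m + L)}).map (ρ (hW.trans (hXV.trans hV))) ≤
        (Lk.map (ρ (hW.trans (hXV.trans hV)))).colon {ρ (hW.trans (hXV.trans hV)) a ^ m} := by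
      rw [Ideal.map_le_iff_le_comap]
      intro d hd
      rw [Ideal.mem_comap, Submodule.mem_colon_singleton, smul_eq_mul, ← map_pow, ← map_mul]
      exact Ideal.mem_map_of_mem _ (hm (m + L) (Nat.le_add_right m L) d (Submodule.mem_colon_singleton.1 hd))
    exact Submodule.mem_colon_singleton.1 (hle hc)
  haveI : Injective ((fg O).obj E) := by
    haveI : (sh O).PreservesMonomorphisms := inferInstance
    exact Injective.injective_of_adjoint (shAdj O) E
  let h : Y ⟶ (fg O).obj E :=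
    Injective.factorThru (cokernel.desc (kernel.ι φ) ψ hker) (Abelian.factorThruCoimage φ)
  have hfac : φ ≫ h = ψ := by
    conv_lhs => rw [← Abelian.coimage.fac φ]
    rw [Category.assoc]
    exact (congrArg (Abelian.coimage.π φ ≫ ·) (Injective.comp_factorThru _ _)).trans (cokernel.π_desc _ _ _)
  refine ⟨h.app (op V) e0, ?_, fun i hi => ?_⟩
  all_goals
    have key : ∀ l : ι, co l • (h.app (op V) e0 : Se E V) = va l := fun l => by
      have h1 : (ModuleCat.freeMk ((𝟙 V, l) : (genPre V ι).obj (op V)) :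
          (PresheafOfModules.freeObj (R := R) (genPre V ι)).obj (op V)) = ModuleCat.freeMk (𝟙 V, l) := rfl
      have h2 := congrArg (fun ζ => ζ.app (op V) (ModuleCat.freeMk ((𝟙 V, l) : (genPre V ι).obj (op V)))) hfac
      refine Eq.trans ?_ (h2.trans ((ModuleCat.freeDesc_apply _ _).trans ?_))
      · show co l • h.app (op V) e0 = h.app (op V) (φ.app (op V) _)
        rw [show φ.app (op V) (ModuleCat.freeMk (𝟙 V, l)) = Y.map (𝟙 V : V ⟶ V).op ((co l : R.obj (op V)) • e0) from
          ModuleCat.freeDesc_apply _ _, op_id, PresheafOfModules.map_id]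
        exact (map_smul (h.app (op V)).hom _ _).symm
      · exact (PresheafOfModules.congr_map_apply _ op_id (va l)).trans (ConcreteCategory.congr_hom (PresheafOfModules.map_id _ _) (va l))
  · rw [← map_pow]
    exact key ⟨none⟩
  · have h1 := key ⟨some i⟩
    rw [show co ⟨some i⟩ = ρ hV (g i) ^ k from (congrArg (ρ hV) (if_pos hi)).trans (map_pow _ _ _)] at h1
    exact h1

/-- Divisibility for injective modules. -/
theorem exists_div (hU : Good I U) (E : ModSite.Mod O) [Injective E] (g : Fin r → O.obj.obj (op U))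
    (j k : ℕ) (a : O.obj.obj (op U)) : ∃ m : ℕ, ∀ (L : ℕ) (V : Opens T) (hV : V ≤ U) (x : Se E V),
      (∀ i : Fin r, i.1 < j → ρ hV (g i) ^ k • x = 0) → ∃ z : Se E V,
        ρ hV a ^ (m + L) • z = ρ hV a ^ m • x ∧ ∀ i : Fin r, i.1 < j → ρ hV (g i) ^ k • z = 0 := by
  obtain ⟨m, hm⟩ := exists_isStableExp I hU g j k a
  exact ⟨m, exists_div_of_stable I hU E g j k a m hm⟩

/-- Injective modules have divisibility. -/
theorem divMod_of_injective (E : ModSite.Mod O) [Injective E] : DivMod I E :=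
  fun U hU r g j k a m hm L V hV x hx y hy => by
    obtain ⟨z, hz, hzk⟩ := exists_div_of_stable I hU E g j k a m hm L V hV x hx
    refine ⟨V, le_rfl, z, hy, ?_, hzk⟩
    rw [show rm E (le_refl V) x = x from FTors.res_id _ _]
    exact hz

end Colon

section Stable

variable (K : CochainComplex (ModSite.Mod O) ℤ)

/-- The inclusion of the complex of torsion sections. -/
def gIncl : ((FTors.gamma O I).mapHomologicalComplex (ComplexShape.up ℤ)).obj K ⟶ K where
  f n := (FTors.gammaι I).app (K.X n)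
  comm' i j _ := ((FTors.gammaι I).naturality (K.d i j)).symm

variable {U : Opens T} {r : ℕ} (g : Fin r → O.obj.obj (op U))

/-- Killed by powers of the first sections. -/
def Pk (j : ℕ) {M : ModSite.Mod O} {V : Opens T} (hV : V ≤ U) (x : Se M V) : Prop :=
  ∀ i : Fin r, i.1 < j → ∃ k, ρ hV (g i) ^ k • x = 0

variable {g} {j : ℕ} {M N : ModSite.Mod O} {V W : Opens T}

omit K in
lemma pow_smul_eq_zero {R X : Type*} [CommRing R] [AddCommGroup X] [Module R X] {a : R} {x : X} {k l : ℕ}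
    (hkl : k ≤ l) (h : a ^ k • x = 0) : a ^ l • x = 0 := by
  obtain ⟨c, rfl⟩ := Nat.exists_eq_add_of_le hkl
  rw [add_comm, pow_add, mul_smul, h, smul_zero]

lemma Pk.exists_uniform {hV : V ≤ U} {x : Se M V} (h : Pk g j hV x) :
    ∃ k, ∀ i : Fin r, i.1 < j → ρ hV (g i) ^ k • x = 0 := by
  classical
  choose k hk using h
  exact ⟨Finset.univ.sup fun i : Fin r => if hi : i.1 < j then k i hi else 0, fun i hi => pow_smul_eq_zero
    (le_trans (by rw [dif_pos hi]) (Finset.le_sup (f := fun i : Fin r => if hi : i.1 < j then k i hi else 0)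
      (Finset.mem_univ i))) (hk i hi)⟩

lemma Pk.res {hV : V ≤ U} {x : Se M V} (h : Pk g j hV x) (hW : W ≤ V) :
    Pk g j (hW.trans hV) (rm M hW x) := fun i hi => by
  obtain ⟨k, hk⟩ := h i hi
  refine ⟨k, ?_⟩
  rw [← ρ_ρ hV hW, ← map_pow, ← rm_smul, hk]
  exact rz_zero _ _

lemma Pk.map {hV : V ≤ U} {x : Se M V} (h : Pk g j hV x) (φ : M ⟶ N) : Pk g j hV (ev φ V x) := fun i hi => by
  obtain ⟨k, hk⟩ := h i hi
  exact ⟨k, by rw [← map_smul, hk, map_zero]⟩

lemma Pk.sub {hV : V ≤ U} {x y : Se M V} (hx : Pk g j hV x) (hy : Pk g j hV y) : Pk g j hV (x - y) := fun i hi => by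
  obtain ⟨k, hk⟩ := hx i hi
  obtain ⟨l, hl⟩ := hy i hi
  exact ⟨max k l, by rw [smul_sub, pow_smul_eq_zero (le_max_left k l) hk, pow_smul_eq_zero (le_max_right k l) hl,
    sub_zero]⟩

lemma Pk.smul {hV : V ≤ U} {x : Se M V} (hx : Pk g j hV x) (c : O.obj.obj (op V)) : Pk g j hV (c • x) :=
  fun i hi => by
  obtain ⟨k, hk⟩ := hx i hi
  exact ⟨k, by rw [smul_comm, hk, smul_zero]⟩

lemma Pk.mono {hV : V ≤ U} {x : Se M V} {j' : ℕ} (hx : Pk g j hV x) (h : j' ≤ j) : Pk g j' hV x :=
  fun i hi => hx i (lt_of_lt_of_le hi h)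

lemma rm_pow_smul (hV : V ≤ U) (hW : W ≤ V) (a : O.obj.obj (op U)) (k : ℕ) (x : Se M V) :
    rm M hW (ρ hV a ^ k • x) = ρ (hW.trans hV) a ^ k • rm M hW x := by
  rw [rm_smul, map_pow, ρ_ρ]

lemma rm_d {p q : ℤ} (hW : W ≤ V) (w : Se (K.X p) V) :
    rm (K.X q) hW (ev (K.d p q) V w) = ev (K.d p q) W (rm (K.X p) hW w) := (ev_res _ _ _).symm

lemma d_d {p q s : ℤ} (w : Se (K.X p) V) : ev (K.d q s) V (ev (K.d p q) V w) = 0 := by
  rw [← ev_comp, K.d_comp_d]
  rfl

variable {I K}

/-- Cocycles are locally killed up to coboundaries by a power of a section in all the ideals. -/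
lemma exists_pow_boundary (htors : ∀ n, FTors.IsTors I (K.homology n)) {a : O.obj.obj (op U)}
    (ha : ∀ n, a ^ (n + 1) ∈ I.ideal n U) {p q s : ℤ} (hpq : p + 1 = q) (hqs : q + 1 = s) (hV : V ≤ U)
    (x : Se (K.X q) V) (hx : ev (K.d q s) V x = 0) {y : T} (hy : y ∈ V) :
    ∃ (W : Opens T) (hW : W ≤ V) (L : ℕ) (v : Se (K.X p) W), y ∈ W ∧
      ev (K.d p q) W v = ρ (hW.trans hV) a ^ L • rm (K.X q) hW x := by
  obtain rfl : p = q - 1 := by omega
  subst hqs
  obtain ⟨W, hW, hyW, n, hn⟩ := point_of_locally ((FTors.IsTorsSect.iff_exists _).1 (htors q V (cls x hx))) hy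
  have hxW := ev_d_res (homOfLE hW) hx
  have hmem : ρ (hW.trans hV) a ^ (n + 1) ∈ I.ideal n W := by
    rw [← map_pow]
    exact I.map_mem n (homOfLE (hW.trans hV)) (ha n)
  have h2 := hn (𝟙 W) _ hmem
  rw [FTors.res_id] at h2
  change ρ (hW.trans hV) a ^ (n + 1) • rz (K.homology q) (homOfLE hW) (cls x hx) = 0 at h2
  rw [cls_res] at h2
  have hax : ev (K.d q (q + 1)) W (ρ (hW.trans hV) a ^ (n + 1) • rz (K.X q) (homOfLE hW) x) = 0 := by
    rw [map_smul, hxW, smul_zero]
  obtain ⟨W', hW', hyW', v, hv⟩ := point_of_locally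
    (locally_of_cls_eq_zero _ hax ((cls_smul _ _ hxW hax).trans h2)) hyW
  refine ⟨W', hW'.trans hW, n + 1, v, hyW', hv.trans ?_⟩
  exact (rm_pow_smul (hW.trans hV) hW' a (n + 1) _).trans (congrArg (_ • ·) (rm_rm _ hW hW' x))

/-- The induction on the number of sections. -/
theorem induction_gens (hdiv : ∀ n, DivAt g (K.X n))
    (htors : ∀ n, FTors.IsTors I (K.homology n)) (hg : ∀ i n, g i ^ (n + 1) ∈ I.ideal n U) :
    ∀ j : ℕ,
      (∀ (p q s : ℤ), p + 1 = q → q + 1 = s → ∀ (V : Opens T) (hV : V ≤ U) (x : Se (K.X q) V),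
        ev (K.d q s) V x = 0 → ∀ y ∈ V, ∃ (W : Opens T) (hW : W ≤ V) (x' : Se (K.X q) W) (w : Se (K.X p) W),
          y ∈ W ∧ Pk g j (hW.trans hV) x' ∧ rm (K.X q) hW x - x' = ev (K.d p q) W w) ∧
      (∀ (p q : ℤ), p + 1 = q → ∀ (V : Opens T) (hV : V ≤ U) (x : Se (K.X q) V) (w : Se (K.X p) V),
        Pk g j hV x → ev (K.d p q) V w = x → ∀ y ∈ V, ∃ (W : Opens T) (hW : W ≤ V) (w' : Se (K.X p) W),
          y ∈ W ∧ Pk g j (hW.trans hV) w' ∧ ev (K.d p q) W w' = rm (K.X q) hW x) := by
  intro j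
  induction j with
  | zero =>
    refine ⟨fun p q s _ _ V hV x _ y hy => ⟨V, le_rfl, rm _ le_rfl x, 0, hy, fun i hi => absurd hi (Nat.not_lt_zero _),
      by rw [map_zero, sub_self]⟩, fun p q _ V hV x w _ hw y hy => ⟨V, le_rfl, rm _ le_rfl w, hy,
      fun i hi => absurd hi (Nat.not_lt_zero _), by rw [← rm_d, hw]⟩⟩
  | succ j ih =>
    obtain ⟨ihA, ihB⟩ := ih
    by_cases hjr : j < r
    swap
    · have hup : ∀ {M : ModSite.Mod O} {V : Opens T} {hV : V ≤ U} {x : Se M V},
          Pk g j hV x → Pk g (j + 1) hV x := fun h i _ => h i (lt_of_lt_of_le i.2 (not_lt.1 hjr))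
      refine ⟨fun p q s hpq hqs V hV x hx y hy => ?_, fun p q hpq V hV x w hx hw y hy => ?_⟩
      · obtain ⟨W, hW, x', w, h1, h2, h3⟩ := ihA p q s hpq hqs V hV x hx y hy
        exact ⟨W, hW, x', w, h1, hup h2, h3⟩
      · obtain ⟨W, hW, w', h1, h2, h3⟩ := ihB p q hpq V hV x w (hx.mono (Nat.le_succ j)) hw y hy
        exact ⟨W, hW, w', h1, hup h2, h3⟩
    let a := g ⟨j, hjr⟩
    have key : ∀ (o p q : ℤ), o + 1 = p → p + 1 = q → ∀ (V : Opens T) (hV : V ≤ U) (x : Se (K.X p) V),
        Pk g j hV x → ev (K.d p q) V x = 0 → ∀ y ∈ V, ∃ (W : Opens T) (hW : W ≤ V) (L : ℕ) (z : Se (K.X o) W),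
          y ∈ W ∧ Pk g j (hW.trans hV) z ∧
            ρ (hW.trans hV) a ^ L • (rm (K.X p) hW x - ev (K.d o p) W z) = 0 := by
      intro o p q hop hpq V hV x hx hdx y hy
      obtain ⟨W, hW, L, v, hyW, hv⟩ := exists_pow_boundary htors (hg ⟨j, hjr⟩) hop hpq hV x hdx hy
      obtain ⟨W', hW', v', hyW', hv'P, hv'⟩ := ihB o p hop W (hW.trans hV) _ v ((hx.res hW).smul _) hv y hyW
      obtain ⟨k, hk⟩ := hv'P.exists_uniform
      obtain ⟨m, hm⟩ := hdiv o j hjr k
      obtain ⟨W'', hW'', z, hyW'', hz, hzk⟩ := hm L W' (hW'.trans (hW.trans hV)) v' hk y hyW'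
      refine ⟨W'', hW''.trans (hW'.trans hW), m + L, z, hyW'', fun i hi => ⟨k, hzk i hi⟩, ?_⟩
      rw [smul_sub, ← map_smul, hz, map_smul, ← rm_d, hv', rm_rm, rm_pow_smul, rm_rm, smul_smul, ← pow_add, sub_self]
    refine ⟨fun p q s hpq hqs V hV x hx y hy => ?_, fun p q hpq V hV x w hx hw y hy => ?_⟩
    · obtain ⟨W, hW, x', w, hyW, hP, heq⟩ := ihA p q s hpq hqs V hV x hx y hy
      have hdx' : ev (K.d q s) W x' = 0 := by
        have h1 : x' = rm (K.X q) hW x - ev (K.d p q) W w := by rw [← heq]; abel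
        rw [h1, map_sub, ← rm_d, hx, d_d, sub_zero]
        exact rz_zero _ _
      obtain ⟨W', hW', L, z, hyW', hzP, hL⟩ := key p q s hpq hqs W (hW.trans hV) x' hP hdx' y hyW
      refine ⟨W', hW'.trans hW, rm (K.X q) hW' x' - ev (K.d p q) W' z, rm (K.X p) hW' w + z, hyW', ?_, ?_⟩
      · intro i hi
        rcases Nat.lt_succ_iff_lt_or_eq.1 hi with h | h
        · exact ((hP.res hW').sub (hzP.map _)) i h
        · obtain rfl : i = ⟨j, hjr⟩ := Fin.ext h
          exact ⟨L, hL⟩
      · rw [map_add, ← rm_d, ← heq, ← rm_rm (K.X q) hW hW' x]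
        refine Eq.trans ?_ (congrArg (· + _) (map_sub (((fg O).obj (K.X q)).map (homOfLE hW').op).hom _ _).symm)
        show _ = rm (K.X q) hW' (rm (K.X q) hW x) - rm (K.X q) hW' x' + _
        abel
    · obtain ⟨W, hW, w', hyW, hP, hw'⟩ := ihB p q hpq V hV x w (hx.mono (Nat.le_succ j)) hw y hy
      obtain ⟨k, hk⟩ := hx ⟨j, hjr⟩ (Nat.lt_succ_self j)
      have hd : ev (K.d p q) W (ρ (hW.trans hV) a ^ k • w') = 0 := by
        rw [map_smul, hw', ← rm_pow_smul hV hW]
        exact (congrArg (rm (K.X q) hW) hk).trans (rz_zero _ _)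
      obtain ⟨W', hW', L, z, hyW', hzP, hL⟩ := key (p - 1) p q (by omega) hpq W (hW.trans hV) _ (hP.smul _) hd y hyW
      obtain ⟨k', hk'⟩ := hzP.exists_uniform
      obtain ⟨m, hm⟩ := hdiv (p - 1) j hjr k'
      obtain ⟨W'', hW'', z', hyW'', hz', hz'k⟩ := hm k W' (hW'.trans (hW.trans hV)) z hk' y hyW'
      have hle : W'' ≤ W := hW''.trans hW'
      refine ⟨W'', hle.trans hW, rm (K.X p) hle w' - ev (K.d (p - 1) p) W'' z', hyW'', ?_, ?_⟩
      · intro i hi
        rcases Nat.lt_succ_iff_lt_or_eq.1 hi with h | h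
        · exact ((hP.res hle).sub ((show Pk g j _ z' from fun i hi => ⟨k', hz'k i hi⟩).map _)) i h
        · obtain rfl : i = ⟨j, hjr⟩ := Fin.ext h
          refine ⟨L + (m + k), ?_⟩
          have hL' := (rm_pow_smul (hW'.trans (hW.trans hV)) hW'' a L _).symm.trans
            ((congrArg (rm (K.X p) hW'') hL).trans (rz_zero _ _))
          rw [show rm (K.X p) hW'' (rm (K.X p) hW' (ρ (hW.trans hV) a ^ k • w') - ev (K.d (p - 1) p) W' z) =
            rm (K.X p) hW'' (rm (K.X p) hW' (ρ (hW.trans hV) a ^ k • w')) -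
              rm (K.X p) hW'' (ev (K.d (p - 1) p) W' z) from
                map_sub (((fg O).obj (K.X p)).map (homOfLE hW'').op).hom _ _, rm_rm, rm_d] at hL'
          rw [pow_add, mul_smul, smul_sub, ← map_smul, hz', map_smul, pow_add, mul_smul, ← smul_sub, smul_comm,
            ← rm_pow_smul (hW.trans hV) hle]
          exact (congrArg (ρ _ a ^ m • ·) hL').trans (smul_zero _)
      · rw [map_sub, d_d, sub_zero, ← rm_d, hw']
        exact rm_rm _ hW hle x

variable (hgood : ∀ (V : Opens T), ∀ y ∈ V, ∃ U : Opens T, U ≤ V ∧ y ∈ U ∧ Good I U)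

variable (I) in
/-- Finitely many sections computing the torsion on an open. -/
structure Gens {U : Opens T} {r : ℕ} (g : Fin r → O.obj.obj (op U)) : Prop where
  mem : ∀ i n, g i ^ (n + 1) ∈ I.ideal n U
  tors : ∀ (M : ModSite.Mod O) (V : Opens T) (hV : V ≤ U) (x : Se M V) (k : ℕ),
    (∀ i, ρ hV (g i) ^ k • x = 0) → FTors.IsTorsSect I M (U := V) x

variable (hloc : ∀ (V : Opens T), ∀ y ∈ V, ∃ (U : Opens T) (r : ℕ) (g : Fin r → O.obj.obj (op U)),
  U ≤ V ∧ y ∈ U ∧ Gens I g ∧ ∀ n, DivAt g (K.X n))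

lemma ev_gIncl {n : ℤ} (s : Se ((((FTors.gamma O I).mapHomologicalComplex (ComplexShape.up ℤ)).obj K).X n) V) :
    ev ((gIncl I K).f n) V s = (s : FTors.torsSub I (K.X n) V).1 := rfl

lemma gamma_ext {n : ℤ} {s t : Se ((((FTors.gamma O I).mapHomologicalComplex (ComplexShape.up ℤ)).obj K).X n) V}
    (h : ev ((gIncl I K).f n) V s = ev ((gIncl I K).f n) V t) : s = t := Subtype.ext h

include hloc in
/-- Torsion sections of a complex of locally divisible modules with torsion cohomology give a quasi-isomorphism. -/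
theorem quasiIso_gIncl_gens (htors : ∀ n, FTors.IsTors I (K.homology n)) :
    QuasiIso (gIncl I K) := by
  let G := ((FTors.gamma O I).mapHomologicalComplex (ComplexShape.up ℤ)).obj K
  refine HomSec.quasiIso_of_elements (gIncl I K) (fun n V x hx => ?_) (fun n V y w hy hyw => ?_)
  · refine locally_of_point (fun pt hpt => ?_) (fun W W' k k' ⟨y, w, h1, h2⟩ => ?_)
    · obtain ⟨U, r, g, hUV, hptU, ⟨hg, hgens⟩, hdiv⟩ := hloc V pt hpt
      have hxU := ev_d_res (homOfLE hUV) hx
      obtain ⟨W, hW, x', w, hptW, hP, heq⟩ :=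
        (induction_gens (g := g) hdiv htors hg r).1 (n - 1) n (n + 1) (by omega) rfl U le_rfl _ hxU pt hptU
      obtain ⟨k, hk⟩ := hP.exists_uniform
      let y : Se (G.X n) W := (⟨x', hgens _ W (hW.trans le_rfl) x' k fun i => hk i i.2⟩ : FTors.torsSub I (K.X n) W)
      refine ⟨W, hW.trans hUV, hptW, y, w, gamma_ext ?_, ?_⟩
      · rw [← HomSec.ev_comm (gIncl I K), map_zero]
        have h1 : ev ((gIncl I K).f n) W y = rm (K.X n) hW (rm (K.X n) hUV x) - ev (K.d (n - 1) n) W w := by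
          rw [← heq]
          show x' = _
          abel
        rw [h1, map_sub, d_d, sub_zero, ← rm_d]
        exact (congrArg (rm _ hW) hxU).trans (rz_zero _ _)
      · exact Eq.trans (congrArg (· - x') (rm_rm _ hUV hW x).symm) heq
    · refine ⟨rz _ k' y, rz _ k' w, ev_d_res k' h1, ?_⟩
      rw [ev_res, ev_res, ← h2, rz_comp]
      exact (map_sub (((fg O).obj (K.X n)).map k'.op).hom _ _).symm
  · refine locally_of_point (fun pt hpt => ?_) (fun W W' k k' ⟨v, hv⟩ => ?_)
    · obtain ⟨U, r, g, hUV, hptU, ⟨hg, hgens⟩, hdiv⟩ := hloc V pt hpt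
      obtain ⟨W, hW, hptW, N, hN⟩ := point_of_locally ((FTors.IsTorsSect.iff_exists _).1
        (FTors.IsTorsSect.res (homOfLE hUV) (y : FTors.torsSub I (K.X n) V).2)) hptU
      have hP : Pk g r hW (rm (K.X n) hW (rm (K.X n) hUV (ev ((gIncl I K).f n) V y))) := fun i _ => by
        refine ⟨N + 1, ?_⟩
        have h1 := hN (𝟙 W) (ρ hW (g i) ^ (N + 1)) (by rw [← map_pow]; exact I.map_mem N (homOfLE hW) (hg i N))
        rw [FTors.res_id] at h1
        exact h1
      obtain ⟨W', hW', w', hptW', hwP, hw'⟩ := (induction_gens (g := g) hdiv htors hg r).2 (n - 1) n (by omega)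
        W hW _ (rm (K.X (n - 1)) hW (rm (K.X (n - 1)) hUV w)) hP
        (by rw [← rm_d, ← rm_d, hyw]) pt hptW
      obtain ⟨k, hk⟩ := hwP.exists_uniform
      let v : Se (G.X (n - 1)) W' := (⟨w', hgens _ W' (hW'.trans hW) w' k fun i => hk i i.2⟩ :
        FTors.torsSub I (K.X (n - 1)) W')
      refine ⟨W', hW'.trans (hW.trans hUV), hptW', v, gamma_ext ?_⟩
      rw [← HomSec.ev_comm (gIncl I K), ev_res]
      refine hw'.trans ?_
      rw [rm_rm, rm_rm]
    · exact ⟨rz _ k' v, by rw [ev_res, hv, rz_comp]⟩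

include hgood in
/-- Torsion sections of a complex of divisible modules with torsion cohomology give a quasi-isomorphism. -/
theorem quasiIso_gIncl_div (hdiv : ∀ n, DivMod I (K.X n)) (htors : ∀ n, FTors.IsTors I (K.homology n)) :
    QuasiIso (gIncl I K) :=
  quasiIso_gIncl_gens (fun V y hy => by
    obtain ⟨U, hUV, hyU, hU⟩ := hgood V y hy
    obtain ⟨r, g, hg, hgens⟩ := hU.gens
    exact ⟨U, r, g, hUV, hyU, ⟨hg, hgens⟩, fun n => (hdiv n).divAt hU g⟩) htors

include hgood in
/-- Torsion sections of a complex of injectives with torsion cohomology give a quasi-isomorphism. -/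
theorem quasiIso_gIncl (hinj : ∀ n, Injective (K.X n)) (htors : ∀ n, FTors.IsTors I (K.homology n)) :
    QuasiIso (gIncl I K) :=
  quasiIso_gIncl_div hgood (fun n => haveI := hinj n; divMod_of_injective I (K.X n)) htors

end Stable

end Groth.Agent.H26.FMod.GStab
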