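import Groth.Agent.ModPull.Sections
import Groth.Agent.SiteBase.FreeOnPres
import Groth.Agent.SiteBase.SecGen
import Groth.Prelude.Def_FTors2
import Mathlib.Algebra.Homology.QuasiIso
import Mathlib.Algebra.Homology.HomotopyCategory

/-!
# Cohomology sheaves of a complex of sheaves of modules, elementwise
-/

noncomputable section

set_option autoImplicit false
set_option maxHeartbeats 1000000
set_option backward.isDefEq.respectTransparency false
set_option linter.style.haveILetI false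

universe u

open CategoryTheory CategoryTheory.Limits Opposite
open Groth.Agent.ModTensor Groth.Agent.ModPull

namespace Groth.Agent.H26.FMod.HomSec

variable {C : Type u} [SmallCategory C] {J : GrothendieckTopology C} {O : Sheaf J CommRingCat.{u}}

/-- A morphism on sections. -/
abbrev ev {M N : ModSite.Mod O} (φ : M ⟶ N) (V : C) : ((fg O).obj M).obj (op V) →ₗ[O.obj.obj (op V)] ((fg O).obj N).obj (op V) :=
  (((fg O).map φ).app (op V)).hom

lemma ev_comp {M N P : ModSite.Mod O} (φ : M ⟶ N) (ψ : N ⟶ P) (V : C) (x : ((fg O).obj M).obj (op V)) :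
    ev (φ ≫ ψ) V x = ev ψ V (ev φ V x) := rfl

lemma ev_zero {M N : ModSite.Mod O} (V : C) (x : ((fg O).obj M).obj (op V)) : ev (0 : M ⟶ N) V x = 0 := rfl

/-- Restriction of a section. -/
abbrev rz (M : ModSite.Mod O) {V W : C} (g : W ⟶ V) (x : ((fg O).obj M).obj (op V)) : ((fg O).obj M).obj (op W) :=
  rs ((fg O).obj M) g.op x

lemma rz_zero (M : ModSite.Mod O) {V W : C} (g : W ⟶ V) : rz M g (0 : ((fg O).obj M).obj (op V)) = 0 :=
  FTors.res_zero M g

lemma rz_comp (M : ModSite.Mod O) {U V W : C} (g : V ⟶ U) (h : W ⟶ V) (x : ((fg O).obj M).obj (op U)) :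
    rz M (h ≫ g) x = rz M h (rz M g x) :=
  FTors.res_comp M g h x

lemma ev_res {M N : ModSite.Mod O} (φ : M ⟶ N) {V W : C} (g : W ⟶ V) (x : ((fg O).obj M).obj (op V)) :
    ev φ W (rz M g x) = rz N g (ev φ V x) := (FTors.res_hom M φ g x).symm

lemma ev_toHom {M N : ModSite.Mod O} {V : C} (x : ((fg O).obj M).obj (op V)) (φ : M ⟶ N) :
    FreeOnPres.sec (FreeOnPres.toHom x ≫ φ) = ev φ V x := by
  rw [FreeOnPres.sec_comp, FreeOnPres.sec_toHom]

lemma toHom_zero {M : ModSite.Mod O} {V : C} :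
    FreeOnPres.toHom (0 : ((fg O).obj M).obj (op V)) = (0 : ModSite.freeOn O V ⟶ M) :=
  FreeOnPres.sec_inj <| by
    rw [FreeOnPres.sec_toHom, show (0 : ModSite.freeOn O V ⟶ M) = FreeOnPres.toHom (0 : ((fg O).obj M).obj (op V)) ≫ 0
      from comp_zero.symm, ev_toHom]
    rfl

variable {M N : ModSite.Mod O}

/-- Exactness of a short complex gives local preimages of sections. -/
lemma locally_of_exact {S : ShortComplex (ModSite.Mod O)} (hS : S.Exact) {V : C}
    (x : ((fg O).obj S.X₂).obj (op V)) (hx : ev S.g V x = 0) :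
    ModPull.Locally J V fun W g => ∃ y : ((fg O).obj S.X₁).obj (op W), ev S.f W y = rz S.X₂ g x := by
  haveI := (S.exact_iff_epi_kernel_lift).1 hS
  have h0 : FreeOnPres.toHom x ≫ S.g = 0 := FreeOnPres.sec_inj <| by
    rw [ev_toHom, hx, show (0 : ModSite.freeOn O V ⟶ S.X₃) = FreeOnPres.toHom (0 : ((fg O).obj S.X₃).obj (op V)) from
      toHom_zero.symm, FreeOnPres.sec_toHom]
  let z := FreeOnPres.sec (kernel.lift S.g _ h0)
  have hz : ev (kernel.ι S.g) V z = x := by
    rw [show ev (kernel.ι S.g) V z = FreeOnPres.sec (kernel.lift S.g _ h0 ≫ kernel.ι S.g) from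
      (FreeOnPres.sec_comp _ _).symm, kernel.lift_ι, FreeOnPres.sec_toHom]
  refine (locally_exists_app_eq (kernel.lift S.g S.f S.zero) z).mono fun W g ⟨y, hy⟩ => ⟨y, ?_⟩
  refine (congrArg (fun φ => ev φ W y) (kernel.lift_ι S.g S.f S.zero).symm).trans ?_
  refine (congrArg (ev (kernel.ι S.g) W) hy).trans ?_
  exact (ev_res (kernel.ι S.g) g z).trans (congrArg _ hz)

lemma mono_of_locally (φ : M ⟶ N)
    (h : ∀ (V : C) (x : ((fg O).obj M).obj (op V)), ev φ V x = 0 →
      ModPull.Locally J V fun W g => rz M g x = 0) : Mono φ :=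
  mono_of_app_eq_zero φ fun V x hx => eq_of_locally' M ((h V x hx).mono fun W g hg => by
    refine hg.trans ?_
    exact (rz_zero M g).symm)

lemma epi_of_locally (φ : M ⟶ N)
    (h : ∀ (V : C) (y : ((fg O).obj N).obj (op V)),
      ModPull.Locally J V fun W g => ∃ x, ev φ W x = rz N g y) : Epi φ := ⟨fun {Z} p q hpq => by
  refine (fg O).map_injective (PresheafOfModules.hom_ext fun X => ?_)
  refine ModuleCat.hom_ext (LinearMap.ext fun y => eq_of_locally' Z ((h X.unop y).mono fun W g ⟨x, hx⟩ => ?_))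
  show rz Z g (ev p X.unop y) = rz Z g (ev q X.unop y)
  rw [← ev_res p, ← ev_res q, ← hx, ← ev_comp, ← ev_comp, hpq]⟩

variable (K L : CochainComplex (ModSite.Mod O) ℤ) {n : ℤ}

variable {K} in
/-- The cycle of a cocycle. -/
def cyc {V : C} (x : ((fg O).obj (K.X n)).obj (op V)) (hx : ev (K.d n (n + 1)) V x = 0) :
    ((fg O).obj (K.cycles n)).obj (op V) :=
  FreeOnPres.sec (K.liftCycles (FreeOnPres.toHom x) (n + 1) (by simp) (FreeOnPres.sec_inj (by
    rw [ev_toHom, hx, show (0 : ModSite.freeOn O V ⟶ K.X (n + 1)) =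
      FreeOnPres.toHom (0 : ((fg O).obj (K.X (n + 1))).obj (op V)) from toHom_zero.symm, FreeOnPres.sec_toHom])))

variable {K}

lemma iCycles_cyc {V : C} (x : ((fg O).obj (K.X n)).obj (op V)) (hx : ev (K.d n (n + 1)) V x = 0) :
    ev (K.iCycles n) V (cyc x hx) = x := by
  rw [cyc, show ∀ φ, ev (K.iCycles n) V (FreeOnPres.sec φ) = FreeOnPres.sec (φ ≫ K.iCycles n) from
    fun φ => (FreeOnPres.sec_comp φ _).symm, HomologicalComplex.liftCycles_i, FreeOnPres.sec_toHom]

lemma iCycles_d_ev {V : C} (z : ((fg O).obj (K.cycles n)).obj (op V)) :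
    ev (K.d n (n + 1)) V (ev (K.iCycles n) V z) = 0 := by
  rw [← ev_comp, HomologicalComplex.iCycles_d]
  rfl

/-- The class of a cocycle. -/
def cls {V : C} (x : ((fg O).obj (K.X n)).obj (op V)) (hx : ev (K.d n (n + 1)) V x = 0) :
    ((fg O).obj (K.homology n)).obj (op V) :=
  ev (K.homologyπ n) V (cyc x hx)

lemma ev_d_res {V W : C} (g : W ⟶ V) {x : ((fg O).obj (K.X n)).obj (op V)} (hx : ev (K.d n (n + 1)) V x = 0) :
    ev (K.d n (n + 1)) W (rz (K.X n) g x) = 0 := by
  rw [ev_res, hx]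
  exact rz_zero _ _

lemma cyc_ext {V : C} (a b : ((fg O).obj (K.cycles n)).obj (op V))
    (h : ev (K.iCycles n) V a = ev (K.iCycles n) V b) : a = b := app_injective (K.iCycles n) (op V) h

lemma cls_res {V W : C} (g : W ⟶ V) (x : ((fg O).obj (K.X n)).obj (op V)) (hx : ev (K.d n (n + 1)) V x = 0) :
    rz _ g (cls x hx) = cls (rz (K.X n) g x) (ev_d_res g hx) := by
  rw [cls, ← ev_res]
  refine congrArg (ev (K.homologyπ n) W) (cyc_ext _ _ ?_)
  rw [ev_res, iCycles_cyc, iCycles_cyc]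

lemma cls_smul {V : C} (a : O.obj.obj (op V)) (x : ((fg O).obj (K.X n)).obj (op V))
    (hx : ev (K.d n (n + 1)) V x = 0) (hax : ev (K.d n (n + 1)) V (a • x) = 0) :
    cls (a • x) hax = a • cls x hx := by
  rw [cls, cls, ← map_smul]
  refine congrArg (ev (K.homologyπ n) V) (cyc_ext _ _ ?_)
  rw [map_smul, iCycles_cyc, iCycles_cyc]

/-- Every class is locally the class of a cocycle. -/
lemma locally_exists_cls {V : C} (c : ((fg O).obj (K.homology n)).obj (op V)) :
    ModPull.Locally J V fun W g => ∃ x hx, cls x hx = rz _ g c := by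
  refine (locally_exists_app_eq (K.homologyπ n) c).mono fun W g ⟨z, hz⟩ => ?_
  refine ⟨ev (K.iCycles n) W z, iCycles_d_ev z, Eq.trans ?_ hz⟩
  exact congrArg (ev (K.homologyπ n) W) (cyc_ext _ _ (iCycles_cyc _ _))

/-- A class vanishes iff it is locally a coboundary. -/
lemma locally_of_cls_eq_zero {V : C} (x : ((fg O).obj (K.X n)).obj (op V)) (hx : ev (K.d n (n + 1)) V x = 0)
    (h : cls x hx = 0) :
    ModPull.Locally J V fun W g => ∃ w, ev (K.d (n - 1) n) W w = rz (K.X n) g x := by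
  let S := ShortComplex.mk (K.toCycles (n - 1) n) (K.homologyπ n) (by simp)
  have hS : S.Exact := S.exact_of_g_is_cokernel (K.homologyIsCokernel (n - 1) n (by simp))
  refine (locally_of_exact hS (cyc x hx) h).mono fun W g ⟨w, hw⟩ => ⟨w, ?_⟩
  rw [← K.toCycles_i (n - 1) n, ev_comp]
  refine (congrArg (ev (K.iCycles n) W) hw).trans ?_
  rw [ev_res, iCycles_cyc]

lemma cls_d {V : C} (w : ((fg O).obj (K.X (n - 1))).obj (op V)) (x : ((fg O).obj (K.X n)).obj (op V))
    (hx : ev (K.d n (n + 1)) V x = 0) (h : ev (K.d (n - 1) n) V w = x) : cls x hx = 0 := by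
  have h1 : cyc x hx = ev (K.toCycles (n - 1) n) V w := cyc_ext _ _ <| by
    rw [iCycles_cyc, ← ev_comp, K.toCycles_i, h]
  rw [cls, h1, ← ev_comp, K.toCycles_comp_homologyπ]
  rfl

lemma cls_sub {V : C} (x y : ((fg O).obj (K.X n)).obj (op V)) (hx : ev (K.d n (n + 1)) V x = 0)
    (hy : ev (K.d n (n + 1)) V y = 0) (hxy : ev (K.d n (n + 1)) V (x - y) = 0) :
    cls (x - y) hxy = cls x hx - cls y hy := by
  rw [cls, cls, cls, ← map_sub]
  refine congrArg (ev (K.homologyπ n) V) (cyc_ext _ _ ?_)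
  rw [map_sub, iCycles_cyc, iCycles_cyc, iCycles_cyc]

variable {L} (φ : K ⟶ L)

lemma ev_comm {V : C} (m : ℤ) (x : ((fg O).obj (K.X n)).obj (op V)) :
    ev (L.d n m) V (ev (φ.f n) V x) = ev (φ.f m) V (ev (K.d n m) V x) := by
  rw [← ev_comp, φ.comm, ev_comp]

lemma cls_map {V : C} (x : ((fg O).obj (K.X n)).obj (op V)) (hx : ev (K.d n (n + 1)) V x = 0)
    (hφ : ev (L.d n (n + 1)) V (ev (φ.f n) V x) = 0) :
    ev (HomologicalComplex.homologyMap φ n) V (cls x hx) = cls (ev (φ.f n) V x) hφ := by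
  rw [cls, cls, ← ev_comp, HomologicalComplex.homologyπ_naturality, ev_comp]
  refine congrArg (ev (L.homologyπ n) V) (cyc_ext _ _ ?_)
  rw [iCycles_cyc, ← ev_comp, HomologicalComplex.cyclesMap_i, ev_comp, iCycles_cyc]

/-- An elementwise criterion for quasi-isomorphisms. -/
theorem quasiIso_of_elements
    (hsurj : ∀ (n : ℤ) (V : C) (x : ((fg O).obj (L.X n)).obj (op V)), ev (L.d n (n + 1)) V x = 0 →
      ModPull.Locally J V fun W g => ∃ y w, ev (K.d n (n + 1)) W y = 0 ∧
        rz (L.X n) g x - ev (φ.f n) W y = ev (L.d (n - 1) n) W w)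
    (hinj : ∀ (n : ℤ) (V : C) (y : ((fg O).obj (K.X n)).obj (op V)) (w : ((fg O).obj (L.X (n - 1))).obj (op V)),
      ev (K.d n (n + 1)) V y = 0 → ev (φ.f n) V y = ev (L.d (n - 1) n) V w →
      ModPull.Locally J V fun W g => ∃ w', ev (K.d (n - 1) n) W w' = rz (K.X n) g y) :
    QuasiIso φ := by
  refine ⟨fun n => ?_⟩
  rw [quasiIsoAt_iff_isIso_homologyMap]
  haveI : Mono (HomologicalComplex.homologyMap φ n) := mono_of_locally _ fun V c hc => by
    refine (locally_exists_cls c).bind fun W g ⟨y, hy, hcy⟩ => ?_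
    have hφy : ev (L.d n (n + 1)) W (ev (φ.f n) W y) = 0 := by rw [ev_comm, hy, map_zero]
    have h1 : cls (ev (φ.f n) W y) hφy = 0 := by
      rw [← cls_map φ y hy, hcy, ev_res, hc]
      exact rz_zero _ _
    refine (locally_of_cls_eq_zero _ _ h1).bind fun W' g' ⟨w, hw⟩ => ?_
    have hy' := ev_d_res g' hy
    refine (hinj n W' (rz (K.X n) g' y) w hy' (by rw [ev_res]; exact hw.symm)).mono fun Z k ⟨w', hw'⟩ => ?_
    rw [rz_comp, rz_comp, ← hcy, cls_res g', cls_res k]
    exact cls_d w' _ _ hw'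
  haveI : Epi (HomologicalComplex.homologyMap φ n) := epi_of_locally _ fun V c => by
    refine (locally_exists_cls c).bind fun W g ⟨x, hx, hcx⟩ => ?_
    refine (hsurj n W x hx).mono fun Z k ⟨y, w, hy, hyw⟩ => ?_
    have hφy : ev (L.d n (n + 1)) Z (ev (φ.f n) Z y) = 0 := by rw [ev_comm, hy, map_zero]
    have hx' := ev_d_res k hx
    refine ⟨cls y hy, ?_⟩
    rw [cls_map φ y hy hφy, rz_comp, ← hcx, cls_res k]
    refine Eq.symm (sub_eq_zero.1 ?_)
    rw [← cls_sub _ _ hx' hφy (by rw [map_sub, hx', hφy, sub_zero])]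
    exact cls_d w _ _ hyw.symm
  exact isIso_of_mono_of_epi _

section Tors

variable (I : FTors.IdealFam O)

omit φ in
/-- Homology of a complex of torsion modules is torsion. -/
theorem isTors_homology (hK : ∀ m, FTors.IsTors I (K.X m)) (n : ℤ) : FTors.IsTors I (K.homology n) := by
  intro V c
  obtain ⟨S, hS, hSp⟩ := locally_exists_cls c
  refine FTors.IsTorsSect.of_cover hS fun W g hg => ?_
  obtain ⟨x, hx, hc⟩ := hSp g hg
  show FTors.IsTorsSect I _ (U := W) (rz _ g c)
  rw [← hc]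
  obtain ⟨T, hT, hTp⟩ := (FTors.IsTorsSect.iff_exists _).1 (hK n W x)
  refine FTors.IsTorsSect.of_cover hT fun Z k hk => ?_
  obtain ⟨m, hm⟩ := hTp k hk
  refine FTors.IsTorsSect.of_killedBy (n := m) ?_
  show FTors.KilledBy I (K.homology n) m (V := Z) (rz _ k (cls x hx))
  rw [cls_res k]
  intro Z' k' a ha
  show a • rz (K.homology n) k' (cls (rz (K.X n) k x) _) = 0
  rw [cls_res k', ← cls_smul a _ _ (by rw [map_smul, ev_d_res k' (ev_d_res k hx), smul_zero])]
  have h0 := hm k' a ha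
  exact cls_d (K := K) (0 : ((fg O).obj (K.X (n - 1))).obj (op Z')) _ _ (by rw [map_zero]; exact h0.symm)

end Tors

end Groth.Agent.H26.FMod.HomSec
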