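import Groth.Agent.H26.FMod.Pull

/-!
# Coherent modules and coherent systems
-/

noncomputable section

set_option autoImplicit false
set_option linter.style.haveILetI false
set_option backward.isDefEq.respectTransparency false
set_option backward.isDefEq.respectTransparency.types false

universe u

open CategoryTheory CategoryTheory.Limits TopologicalSpace Opposite AlgebraicGeometry
open Groth.Agent.ModTensor Groth.Agent.ModPull Groth.Agent.LocalFactor Groth.Agent.SecGen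

attribute [local instance] Pres.fκ Pres.fρ

namespace Groth.Agent.H26.FMod

variable {𝔛 : FSch.Sys.{u}} {hF : 𝔛.IsFormal}

/-- The basic opens of affine opens form a basis on every level. -/
lemma isBasis_lvU_D (h : 𝔛.IsLocNoethFormal) (k : ℕ) :
    Opens.IsBasis {W : (𝔛.X k).Opens | ∃ (U : (𝔛.X 0).Opens) (_ : IsAffineOpen U) (a : Rg h.1 U),
      W = 𝔛.lvU h.1 k (D h.1 a)} := by
  refine Opens.isBasis_iff_nbhd.2 fun {W} {x} hx => ?_
  have hy : (𝔛.gInv h.1 k) x ∈ (𝔛.toX k) ⁻¹ᵁ W := by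
    rw [← lvU_toX_preimage (hF := h.1) k W] at hx
    exact hx
  obtain ⟨_, ⟨U, hU, rfl⟩, hyU, hle⟩ :=
    (𝔛.X 0).isBasis_affineOpens.exists_subset_of_mem_open hy ((𝔛.toX k) ⁻¹ᵁ W).2
  obtain ⟨a, ha, ha'⟩ := exists_D h hU le_rfl (x := (𝔛.gInv h.1 k) x) hyU
  refine ⟨_, ⟨U, hU, a, rfl⟩, ha, ?_⟩
  exact ((Opens.map (𝔛.gInv h.1 k)).map (homOfLE (ha'.trans hle))).le.trans (lvU_toX_preimage k W).le

variable (hF) in
/-- The comparison of the inverse image of the module of a system with the system. -/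
abbrev gK (𝔐 : FSch.ModSys 𝔛) (k : ℕ) : pullK k (𝔐.realMod hF) ⟶ 𝔐.F k :=
  ((FSch.levelMor 𝔛 hF k).adj.homEquiv _ _).symm (FSch.realProj 𝔛 hF 𝔐.F 𝔐.toPush k)

lemma gK_puk (𝔐 : FSch.ModSys 𝔛) (k : ℕ) (U : (𝔛.X 0).Opens) (x : Sec (𝔐.realMod hF) U) :
    (gK hF 𝔐 k).app (𝔛.lvU hF k U) (puk k (𝔐.realMod hF) U x) = qm hF 𝔐 k U x := by
  refine ((adj_homEquiv_app (FSch.levelMor 𝔛 hF k) (gK hF 𝔐 k) (U := op U) x).symm).trans ?_
  rw [gK, Equiv.apply_symm_apply]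
  rfl

lemma puk_eq_zero (k : ℕ) (𝔉 : FSch.ModF 𝔛 hF) (U : (𝔛.X 0).Opens) {I : Ideal (Rg hF U)}
    (hI : ∀ r ∈ I, pr hF k U r = 0) {x : Sec 𝔉 U} (hx : x ∈ I • (⊤ : Submodule (Rg hF U) (Sec 𝔉 U))) :
    puk k 𝔉 U x = 0 := by
  refine Submodule.smul_induction_on (p := fun z => puk k 𝔉 U z = 0) hx (fun r hr z _ => ?_)
    fun x y hx hy => by rw [map_add, hx, hy, add_zero]
  rw [puk_smul, hI r hr, zero_smul]

variable (h : 𝔛.IsLocNoethFormal)

include h in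
/-- The levels of a coherent system are recovered from its module. -/
theorem isIso_gK (𝔐 : FSch.ModSys 𝔛) (h𝔐 : 𝔐.IsCoh) (k : ℕ) : IsIso (gK h.1 𝔐 k) := by
  have hc := isCoh_pullK k (𝔐.realMod h.1) (isCohF_realMod h h𝔐)
  refine QCoh.isIso_of_isBasis _ (isBasis_lvU_D h k) ?_
  rintro W ⟨U, hU, a, rfl⟩
  have hV := isAffineOpen_D hU a
  refine ⟨(injective_iff_map_eq_zero _).2 fun z hz => ?_, fun y => ?_⟩
  · obtain ⟨P, -⟩ := exists_pres h h𝔐 hU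
    obtain ⟨c, rfl⟩ := pull_gen h hU P k a hc.1 z
    choose C hC using fun i => pr_surjective h k hV (c i)
    let w := ∑ i, C i • resM (𝔐.realMod h.1) (D_le a) (P.s i)
    have e : puk k (𝔐.realMod h.1) (D h.1 a) w =
        ∑ i, c i • puk k (𝔐.realMod h.1) (D h.1 a) (resM (𝔐.realMod h.1) (D_le a) (P.s i)) := by
      rw [map_sum]
      exact Finset.sum_congr rfl fun i _ => by rw [puk_smul, hC]
    rw [← e, gK_puk] at hz
    rw [← e]
    exact puk_eq_zero k _ _ (fun r hr => by rwa [← ker_pr h k hV, RingHom.mem_ker] at hr)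
      ((((chartM 𝔐 h h𝔐 hV).2 k).2 w).1 hz)
  · obtain ⟨w, rfl⟩ := ((chartM 𝔐 h h𝔐 hV).2 k).1 y
    exact ⟨_, gK_puk 𝔐 k _ w⟩

lemma homEquiv_gK_comp (𝔐 : FSch.ModSys 𝔛) (k : ℕ) {G : (𝔛.X k).Modules} (x : 𝔐.F k ⟶ G) :
    (FSch.levelMor 𝔛 hF k).adj.homEquiv _ _ (gK hF 𝔐 k ≫ x) =
      FSch.realProj 𝔛 hF 𝔐.F 𝔐.toPush k ≫ (FSch.levelMor 𝔛 hF k).push.map x := by
  erw [Adjunction.homEquiv_naturality_right, Equiv.apply_symm_apply]

lemma homEquiv_map_gK {𝔐 𝔑 : FSch.ModSys 𝔛} (ψ : 𝔐.realMod hF ⟶ 𝔑.realMod hF) (k : ℕ) :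
    (FSch.levelMor 𝔛 hF k).adj.homEquiv _ _ ((FSch.levelMor 𝔛 hF k).pull.map ψ ≫ gK hF 𝔑 k) =
      ψ ≫ FSch.realProj 𝔛 hF 𝔑.F 𝔑.toPush k := by
  erw [Adjunction.homEquiv_naturality_left, Equiv.apply_symm_apply]

/-- Isomorphisms are detected by precomposition. -/
lemma isIso_of_precomp {C : Type*} [Category C] {X Y : C} (e : X ⟶ Y)
    (he : ∀ Z, Function.Bijective (fun x : Y ⟶ Z => e ≫ x)) : IsIso e := by
  obtain ⟨r, hr⟩ := (he X).2 (𝟙 X)
  refine ⟨r, hr, (he Y).1 ?_⟩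
  show e ≫ r ≫ e = e ≫ 𝟙 Y
  rw [← Category.assoc, show e ≫ r = 𝟙 X from hr, Category.id_comp, Category.comp_id]

/-- Uniqueness of left adjoints, for one object. -/
lemma isIso_trans_gen {A B C : Type*} [Category A] [Category B] [Category C] {Lι : B ⥤ A} {Rι : A ⥤ B}
    (adjι : Lι ⊣ Rι) {L' : C ⥤ B} {R' : B ⥤ C} (adj' : L' ⊣ R') {L : C ⥤ A} {R : A ⥤ C} (adj : L ⊣ R)
    (c : R ⟶ Rι ⋙ R') (d : Rι ⋙ R' ⟶ R) (cd : ∀ G, c.app G ≫ d.app G = 𝟙 _)
    (dc : ∀ G, d.app G ≫ c.app G = 𝟙 _) (F : C) :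
    IsIso ((adjι.homEquiv _ _).symm ((adj'.homEquiv F (Rι.obj (L.obj F))).symm
      (adj.unit.app F ≫ c.app (L.obj F)))) := by
  refine isIso_of_precomp _ fun Z => ?_
  let H : (L.obj F ⟶ Z) → (F ⟶ R'.obj (Rι.obj Z)) := fun x => adj.homEquiv _ _ x ≫ c.app Z
  have hH : Function.Bijective H := by
    refine ⟨fun x y e => (adj.homEquiv _ _).injective ?_, fun y => ?_⟩
    · have := congrArg (fun t => t ≫ d.app Z) e
      simp only [H, Category.assoc] at this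
      erw [cd, Category.comp_id, Category.comp_id] at this
      exact this
    · refine ⟨(adj.homEquiv _ _).symm (y ≫ d.app Z), ?_⟩
      simp only [H, Equiv.apply_symm_apply, Category.assoc]
      exact (congrArg (y ≫ ·) (dc Z)).trans (Category.comp_id y)
  let E := (adjι.homEquiv (L'.obj F) Z).trans (adj'.homEquiv F (Rι.obj Z))
  refine (Function.Bijective.of_comp_iff' E.bijective _).1 ?_
  convert hH using 1
  funext x
  show adj'.homEquiv _ _ (adjι.homEquiv _ _ (_ ≫ x)) = adj.homEquiv _ _ x ≫ c.app Z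
  rw [Adjunction.homEquiv_naturality_right, Equiv.apply_symm_apply, Adjunction.homEquiv_naturality_right,
    Equiv.apply_symm_apply, Category.assoc, adj.homEquiv_unit, Category.assoc]
  exact congrArg (adj.unit.app F ≫ ·) (c.naturality x).symm

/-- Cancellation of a universal map. -/
lemma cancel_gen {A C : Type*} [Category A] [Category C] {L : C ⥤ A} {R : A ⥤ C} (adj : L ⊣ R) {F : C}
    {B G : A} (g : L.obj F ⟶ B) [Epi g] (x y : B ⟶ G)
    (e : adj.homEquiv F B g ≫ R.map x = adj.homEquiv F B g ≫ R.map y) : x = y := by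
  refine (cancel_epi g).1 ((adj.homEquiv F G).injective ?_)
  rw [adj.homEquiv_naturality_right, adj.homEquiv_naturality_right, e]

/-- Compatibility of transitions. -/
lemma step_eq {C D : Type*} [Category C] [Category D] (R : D ⥤ C) {A A₂ Ma Mb : C} {a b a₂ b₂ : D}
    (p' : A ⟶ R.obj a) (q' : A₂ ⟶ R.obj b) (ψ : A ⟶ A₂) (t : a ⟶ a₂) (x₂ : a₂ ⟶ b₂) (x' : a ⟶ b) (t₂ : b ⟶ b₂)
    (cM : R.obj a₂ ⟶ Ma) (cN : R.obj b₂ ⟶ Mb) (y : Ma ⟶ Mb) (p : A ⟶ Ma) (q : A₂ ⟶ Mb)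
    (hp : p' ≫ R.map t ≫ cM = p) (hq : q' ≫ R.map t₂ ≫ cN = q) (nat : R.map x₂ ≫ cN = cM ≫ y)
    (hx : p ≫ y = ψ ≫ q) (hx' : p' ≫ R.map x' = ψ ≫ q') :
    (p' ≫ R.map (t ≫ x₂)) ≫ cN = (p' ≫ R.map (x' ≫ t₂)) ≫ cN := by
  rw [R.map_comp, R.map_comp]
  simp only [Category.assoc]
  rw [nat, reassoc_of% hp, hx, reassoc_of% hx', hq]

lemma pushCompare_nat (k : ℕ) {G G' : (𝔛.X k).Modules} (φ : G ⟶ G') :
    (FSch.levelMor 𝔛 hF (k + 1)).push.map ((Scheme.Modules.pushforward (𝔛.ι k)).map φ) ≫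
        (FSch.pushCompare 𝔛 hF k).app G' =
      (FSch.pushCompare 𝔛 hF k).app G ≫ (FSch.levelMor 𝔛 hF k).push.map φ :=
  (FSch.pushCompare 𝔛 hF k).naturality φ

include h in
/-- Morphisms of coherent systems are the morphisms of their modules. -/
theorem bijective_realModMap (𝔐 𝔑 : FSch.ModSys 𝔛) (h𝔐 : 𝔐.IsCoh) :
    Function.Bijective (fun φ : 𝔐 ⟶ 𝔑 => FSch.ModSys.realModMap h.1 φ) := by
  haveI : ∀ k, IsIso (gK h.1 𝔐 k) := isIso_gK h 𝔐 h𝔐
  have key : ∀ (k : ℕ) (ψ : 𝔐.realMod h.1 ⟶ 𝔑.realMod h.1) (x : 𝔐.F k ⟶ 𝔑.F k),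
      FSch.realProj 𝔛 h.1 𝔐.F 𝔐.toPush k ≫ (FSch.levelMor 𝔛 h.1 k).push.map x =
          ψ ≫ FSch.realProj 𝔛 h.1 𝔑.F 𝔑.toPush k ↔
        gK h.1 𝔐 k ≫ x = (FSch.levelMor 𝔛 h.1 k).pull.map ψ ≫ gK h.1 𝔑 k := fun k ψ x => by
    rw [← ((FSch.levelMor 𝔛 h.1 k).adj.homEquiv _ _).injective.eq_iff (a := gK h.1 𝔐 k ≫ x)]
    erw [homEquiv_gK_comp, homEquiv_map_gK]
  refine ⟨fun φ φ' e => FSch.ModSys.Hom.ext (funext fun k => ?_), fun ψ => ?_⟩
  · rw [← cancel_epi (gK h.1 𝔐 k),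
      (key k _ _).1 (FSch.realLimMap_realProj 𝔛 h.1 φ.app (FSch.ModSys.Hom.toPush_comm φ) k).symm,
      (key k _ _).1 (FSch.realLimMap_realProj 𝔛 h.1 φ'.app (FSch.ModSys.Hom.toPush_comm φ') k).symm]
    exact congrArg (fun t => (FSch.levelMor 𝔛 h.1 k).pull.map t ≫ gK h.1 𝔑 k) e
  · let x : ∀ k, 𝔐.F k ⟶ 𝔑.F k := fun k =>
      inv (gK h.1 𝔐 k) ≫ (FSch.levelMor 𝔛 h.1 k).pull.map ψ ≫ gK h.1 𝔑 k
    have hx : ∀ k, FSch.realProj 𝔛 h.1 𝔐.F 𝔐.toPush k ≫ (FSch.levelMor 𝔛 h.1 k).push.map (x k) =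
        ψ ≫ FSch.realProj 𝔛 h.1 𝔑.F 𝔑.toPush k := fun k =>
      (key k ψ (x k)).2 (IsIso.hom_inv_id_assoc _ _)
    have ht : ∀ k, 𝔐.toPush k ≫ (Scheme.Modules.pushforward (𝔛.ι k)).map (x k) = x (k + 1) ≫ 𝔑.toPush k := by
      intro k
      refine cancel_gen (FSch.levelMor 𝔛 h.1 (k + 1)).adj (gK h.1 𝔐 (k + 1)) _ _ ?_
      have hm : Mono ((FSch.pushCompare 𝔛 h.1 k).app (𝔑.F k)) :=
        (SplitMono.mk _ (FSch.pushCompare_pushCompareInv 𝔛 h.1 k (𝔑.F k))).mono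
      refine hm.right_cancellation _ _ ?_
      exact step_eq (FSch.levelMor 𝔛 h.1 (k + 1)).push _ (FSch.realProj 𝔛 h.1 𝔑.F 𝔑.toPush (k + 1)) ψ _ _ _ _
        ((FSch.pushCompare 𝔛 h.1 k).app (𝔐.F k)) _ ((FSch.levelMor 𝔛 h.1 k).push.map (x k))
        (FSch.realProj 𝔛 h.1 𝔐.F 𝔐.toPush k) (FSch.realProj 𝔛 h.1 𝔑.F 𝔑.toPush k)
        ((congrArg (· ≫ _) (Equiv.apply_symm_apply _ _)).trans (FSch.realProj_map 𝔛 h.1 _ _ k))
        (FSch.realProj_map 𝔛 h.1 _ _ k) (pushCompare_nat k (x k)) (hx k)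
        ((congrArg (· ≫ _) (Equiv.apply_symm_apply _ _)).trans (hx (k + 1)))
    let Φ : 𝔐 ⟶ 𝔑 := ⟨x, fun k =>
      ((Scheme.Modules.pullbackPushforwardAdjunction (𝔛.ι k)).homEquiv _ _).injective (by
        rw [Adjunction.homEquiv_naturality_left, Adjunction.homEquiv_naturality_right]
        exact (ht k).symm)⟩
    refine ⟨Φ, limit.hom_ext fun j => ?_⟩
    exact (FSch.realLimMap_realProj 𝔛 h.1 x (FSch.ModSys.Hom.toPush_comm Φ) j.unop).trans (hx j.unop)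

variable (hF) in
/-- The transition of the levels of a module. -/
abbrev transK (𝔉 : FSch.ModF 𝔛 hF) (k : ℕ) :
    pullK (k + 1) 𝔉 ⟶ (Scheme.Modules.pushforward (𝔛.ι k)).obj (pullK k 𝔉) :=
  ((FSch.levelMor 𝔛 hF (k + 1)).adj.homEquiv _ _).symm
    ((FSch.levelMor 𝔛 hF k).adj.unit.app 𝔉 ≫ (FSch.pushCompareInv 𝔛 hF k).app (pullK k 𝔉))

lemma isIso_transK (𝔉 : FSch.ModF 𝔛 hF) (k : ℕ) :
    IsIso (((Scheme.Modules.pullbackPushforwardAdjunction (𝔛.ι k)).homEquiv _ _).symm (transK hF 𝔉 k)) := by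
  exact isIso_trans_gen (Scheme.Modules.pullbackPushforwardAdjunction (𝔛.ι k))
    (FSch.levelMor 𝔛 hF (k + 1)).adj (FSch.levelMor 𝔛 hF k).adj (FSch.pushCompareInv 𝔛 hF k)
    (FSch.pushCompare 𝔛 hF k) (FSch.pushCompareInv_pushCompare 𝔛 hF k)
    (FSch.pushCompare_pushCompareInv 𝔛 hF k) 𝔉

variable (hF) in
/-- The system of the levels of a module. -/
def sysOf (𝔉 : FSch.ModF 𝔛 hF) : FSch.ModSys 𝔛 where
  F k := pullK k 𝔉
  e k := haveI := isIso_transK 𝔉 k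
    asIso (((Scheme.Modules.pullbackPushforwardAdjunction (𝔛.ι k)).homEquiv _ _).symm (transK hF 𝔉 k))

lemma toPush_sysOf (𝔉 : FSch.ModF 𝔛 hF) (k : ℕ) : (sysOf hF 𝔉).toPush k = transK hF 𝔉 k :=
  Equiv.apply_symm_apply _ _

variable (hF) in
/-- The cone of the units. -/
def unitCone (𝔉 : FSch.ModF 𝔛 hF) : Cone (FSch.levelSysOf 𝔛 hF (sysOf hF 𝔉).F (sysOf hF 𝔉).toPush) where
  pt := 𝔉
  π := NatTrans.ofOpSequence (fun k => (FSch.levelMor 𝔛 hF k).adj.unit.app 𝔉) fun k => by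
    simp only [Functor.const_obj_obj, Functor.const_obj_map, Category.id_comp]
    rw [FSch.levelSysOf_map_succ, toPush_sysOf]
    exact (FSch.unit_levelTrans 𝔛 hF 𝔉 k).symm

variable (hF) in
/-- The canonical map to the module of the system of the levels. -/
def toReal (𝔉 : FSch.ModF 𝔛 hF) : 𝔉 ⟶ (sysOf hF 𝔉).realMod hF :=
  limit.lift _ (unitCone hF 𝔉)

lemma toReal_proj (𝔉 : FSch.ModF 𝔛 hF) (k : ℕ) :
    toReal hF 𝔉 ≫ FSch.realProj 𝔛 hF (sysOf hF 𝔉).F (sysOf hF 𝔉).toPush k =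
      (FSch.levelMor 𝔛 hF k).adj.unit.app 𝔉 :=
  limit.lift_π _ (op k)

lemma qm_toReal (𝔉 : FSch.ModF 𝔛 hF) (k : ℕ) (U : (𝔛.X 0).Opens) (x : Sec 𝔉 U) :
    qm hF (sysOf hF 𝔉) k U (((fg (𝔛.Osh hF)).map (toReal hF 𝔉)).app (op U) x) = puk k 𝔉 U x :=
  congrArg (fun t : 𝔉 ⟶ (FSch.levelMor 𝔛 hF k).push.obj (pullK k 𝔉) =>
    ((fg (𝔛.Osh hF)).map t).app (op U) x) (toReal_proj 𝔉 k)

/-- An affine open with a presentation around each point. -/
lemma exists_affine_pres {𝔉 : FSch.ModF 𝔛 hF} (h𝔉 : FSch.IsCohF 𝔛 hF 𝔉) {W : (𝔛.X 0).Opens}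
    {x : 𝔛.X 0} (hx : x ∈ W) :
    ∃ (U : (𝔛.X 0).Opens), IsAffineOpen U ∧ x ∈ U ∧ U ≤ W ∧ Nonempty (Pres (𝔛.Osh hF) 𝔉 U) := by
  haveI := h𝔉
  obtain ⟨S, hS, hSp⟩ := locally_exists_pres 𝔉 W
  obtain ⟨V, g, hg, hxV⟩ := hS x hx
  obtain ⟨_, ⟨U, hU, rfl⟩, hxU, hle⟩ := (𝔛.X 0).isBasis_affineOpens.exists_subset_of_mem_open hxV V.2
  exact ⟨U, hU, hxU, fun y hy => leOfHom g (hle hy), (hSp g hg).map fun P => presPull P (homOfLE hle)⟩

include h in
/-- A coherent module is the module of the system of its levels. -/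
theorem isIso_toReal (𝔉 : FSch.ModF 𝔛 h.1) (h𝔉 : FSch.IsCohF 𝔛 h.1 𝔉) : IsIso (toReal h.1 𝔉) := by
  classical
  have h𝔐 : (sysOf h.1 𝔉).IsCoh := fun k => isCoh_pullK k 𝔉 h𝔉
  let θ := fun (W : (𝔛.X 0).Opens) (x : Sec 𝔉 W) => ((fg (𝔛.Osh h.1)).map (toReal h.1 𝔉)).app (op W) x
  have hinj : ∀ W, ∀ x : Sec 𝔉 W, θ W x = 0 → x = 0 := by
    intro W t ht
    refine eq_of_locally' 𝔉 ?_
    refine ⟨{ arrows := fun V g => rs ((fg (𝔛.Osh h.1)).obj 𝔉) g.op t = 0,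
              downward_closed := fun {V V' f} hf g => by
                rw [SecGen.rs_op_comp, hf]; exact map_zero _ }, ?_, fun V g hg => hg.trans (map_zero _).symm⟩
    intro x hx
    obtain ⟨U, hU, hxU, hUW, ⟨P⟩⟩ := exists_affine_pres h𝔉 hx
    obtain ⟨S, hS, hSp⟩ := P.gen (W := U) (𝟙 U) (resM 𝔉 hUW t)
    obtain ⟨V, g, hg, hxV⟩ := hS x hxU
    obtain ⟨c, hc⟩ := hSp g hg
    obtain ⟨a, hxa, haV⟩ := exists_D h hU (leOfHom g) hxV
    refine ⟨D h.1 a, homOfLE ((D_le a).trans hUW), ?_, hxa⟩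
    have hV := isAffineOpen_D hU a
    haveI := noetherian h hV
    haveI := complete h hV
    let C : P.κ → Rg h.1 (D h.1 a) := fun i => res haV (c i)
    have ht' : resM 𝔉 ((D_le a).trans hUW) t = ∑ i, C i • resM 𝔉 (D_le a) (P.s i) := by
      have h1 := congrArg (resM 𝔉 haV) hc
      simp only [resM, ← SecGen.rs_op_comp, rs_sum] at h1
      refine h1.trans (Finset.sum_congr rfl fun i _ => ?_)
      rw [rs_smul, ← SecGen.rs_op_comp]
      rfl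
    have hq : ∀ k, puk k 𝔉 (D h.1 a) (resM 𝔉 ((D_le a).trans hUW) t) = 0 := fun k => by
      rw [← qm_toReal, show ((fg (𝔛.Osh h.1)).map (toReal h.1 𝔉)).app (op (D h.1 a))
        (resM 𝔉 ((D_le a).trans hUW) t) = resM _ ((D_le a).trans hUW) (θ W t) from app_rs _ _ t, ht]
      exact (congrArg _ (map_zero _)).trans (map_zero _)
    show resM 𝔉 ((D_le a).trans hUW) t = 0
    let A' : P.ρ → P.κ → Rg h.1 (D h.1 a) := fun j i => res (D_le a) (P.A j i)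
    have hC : C ∈ Submodule.span (Rg h.1 (D h.1 a)) (Set.range A') := by
      refine mem_of_forall_mem_sup (Jd h.1 (D h.1 a)) _ C fun k => ?_
      obtain ⟨d, hd⟩ := pull_exact h hU P k a (fun i => pr h.1 k (D h.1 a) (C i)) (by
        rw [← hq k, ht', map_sum]
        exact Finset.sum_congr rfl fun i _ => (puk_smul _ _ _ _ _).symm)
      choose e he using fun j => pr_surjective h k hV (d j)
      refine Submodule.mem_sup.2 ⟨∑ j, e j • A' j,
        (Submodule.mem_span_range_iff_exists_fun _).2 ⟨e, rfl⟩, C - ∑ j, e j • A' j, ?_, add_sub_cancel _ _⟩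
      refine mem_smul_top_fun _ _ fun i => Ideal.pow_le_pow_right (Nat.le_succ k) ?_
      rw [← ker_pr h k hV, RingHom.mem_ker, Pi.sub_apply, Finset.sum_apply, map_sub, map_sum, hd i, sub_eq_zero]
      refine Finset.sum_congr rfl fun j _ => ?_
      rw [Pi.smul_apply, smul_eq_mul, map_mul, he]
    obtain ⟨d, hd⟩ := (Submodule.mem_span_range_iff_exists_fun _).1 hC
    rw [ht', ← hd]
    simp only [Finset.sum_apply, Pi.smul_apply, smul_eq_mul, Finset.sum_smul, mul_smul, A']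
    rw [Finset.sum_comm]
    refine Finset.sum_eq_zero fun j _ => ?_
    rw [← Finset.smul_sum]
    have h2 := congrArg (resM 𝔉 (D_le a)) (P.rel j)
    rw [resM, rs_sum] at h2
    refine (congrArg (d j • ·) (Eq.trans ?_ (h2.trans (map_zero _)))).trans (smul_zero _)
    exact Finset.sum_congr rfl fun i _ => (rs_smul _ _ _).symm
  haveI : Mono (toReal h.1 𝔉) := ⟨fun {Z} p q e => (fg (𝔛.Osh h.1)).map_injective
    (PresheafOfModules.hom_ext fun W => ModuleCat.hom_ext (LinearMap.ext fun z => sub_eq_zero.1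
      (hinj W.unop _ ((map_sub (((fg (𝔛.Osh h.1)).map (toReal h.1 𝔉)).app W).hom _ _).trans
        (sub_eq_zero.2 (congrArg (fun t : Z ⟶ _ => ((fg (𝔛.Osh h.1)).map t).app W z) e))))))⟩
  haveI : Epi (toReal h.1 𝔉) := ⟨fun {Z} p q e => (fg (𝔛.Osh h.1)).map_injective
    (PresheafOfModules.hom_ext fun W => ModuleCat.hom_ext (LinearMap.ext fun z => by
      refine eq_of_locally' Z ?_
      refine ⟨{ arrows := fun V g => ∃ m : Sec 𝔉 V, θ V m = rs ((fg (𝔛.Osh h.1)).obj _) g.op z,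
                downward_closed := fun {V V' f} ⟨m, hm⟩ g => ⟨resM 𝔉 (leOfHom g) m, by
                  rw [SecGen.rs_op_comp, ← hm]; exact app_rs _ g.op m⟩ }, ?_, ?_⟩
      · intro x hx
        obtain ⟨U, hU, hxU, hUW, ⟨P⟩⟩ := exists_affine_pres h𝔉 hx
        obtain ⟨a, hxa, haU⟩ := exists_D h hU le_rfl hxU
        refine ⟨D h.1 a, homOfLE ((D_le a).trans hUW), ?_, hxa⟩
        have hV := isAffineOpen_D hU a
        haveI := noetherian h hV
        haveI := complete h hV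
        haveI := (chartM _ h h𝔐 hV).1
        let x' : P.κ → Sec ((sysOf h.1 𝔉).realMod h.1) (D h.1 a) := fun i => θ _ (resM 𝔉 (D_le a) (P.s i))
        let y := resM ((sysOf h.1 𝔉).realMod h.1) ((D_le a).trans hUW) z
        have hy : y ∈ Submodule.span (Rg h.1 (D h.1 a)) (Set.range x') := by
          refine mem_of_forall_mem_sup (Jd h.1 (D h.1 a)) _ y fun k => ?_
          obtain ⟨c, hc⟩ := pull_gen h hU P k a (h𝔐 k).1 (qm h.1 (sysOf h.1 𝔉) k (D h.1 a) y)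
          choose C hC using fun i => pr_surjective h k hV (c i)
          refine Submodule.mem_sup.2 ⟨∑ i, C i • x' i,
            (Submodule.mem_span_range_iff_exists_fun _).2 ⟨C, rfl⟩, y - ∑ i, C i • x' i, ?_, add_sub_cancel _ _⟩
          refine Submodule.smul_mono (Ideal.pow_le_pow_right (Nat.le_succ k)) le_rfl
            ((((chartM _ h h𝔐 hV).2 k).2 _).1 ?_)
          rw [map_sub, map_sum, sub_eq_zero, hc]
          refine Finset.sum_congr rfl fun i _ => ?_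
          rw [qm_smul, hC, qm_toReal]
        obtain ⟨C, hC⟩ := (Submodule.mem_span_range_iff_exists_fun _).1 hy
        refine ⟨∑ i, C i • resM 𝔉 (D_le a) (P.s i), Eq.trans ?_ hC⟩
        exact (map_sum (((fg (𝔛.Osh h.1)).map (toReal h.1 𝔉)).app (op (D h.1 a))).hom _ _).trans
          (Finset.sum_congr rfl fun i _ => map_smul _ _ _)
      · rintro V g ⟨m, hm⟩
        rw [← app_rs, ← app_rs, ← hm]
        exact congrArg (fun t : 𝔉 ⟶ Z => ((fg (𝔛.Osh h.1)).map t).app (op V) m) e))⟩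
  exact isIso_of_mono_of_epi _

end Groth.Agent.H26.FMod
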