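import Groth.Agent.H26.FMod.Alg
import Groth.Agent.H9Misc.TelBij
import Mathlib.RingTheory.AdicCompletion.Basic
import Mathlib.RingTheory.Finiteness.Basic

/-!
# Telescopes on finite modules over adically complete rings
-/

noncomputable section

set_option autoImplicit false

universe u v

namespace Groth.Agent.H26.FMod.AdicTel

variable {R : Type u} [CommRing R] (J : Ideal R)

lemma pow_mem_smul {f : R} (hf : f ∈ J) {M : Type v} [AddCommGroup M] [Module R M] (n : ℕ) (x : M) :
    f ^ n • x ∈ (J ^ n • ⊤ : Submodule R M) :=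
  Submodule.smul_mem_smul (Ideal.pow_mem_pow hf n) trivial

/-- Telescopes can be solved in an adically complete ring. -/
lemma exists_solution [IsAdicComplete J R] {f : R} (hf : f ∈ J) (y : ℕ → R) :
    ∃ x : ℕ → R, ∀ k, x k - f * x (k + 1) = y k := by
  let s : ℕ → ℕ → R := fun k N => ∑ i ∈ Finset.range N, f ^ i * y (k + i)
  have hs : ∀ k m n, m ≤ n → s k m ≡ s k n [SMOD (J ^ m • ⊤ : Submodule R R)] := fun k m n hmn => by
    rw [SModEq.sub_mem, ← Submodule.neg_mem_iff, neg_sub]
    show s k n - s k m ∈ _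
    rw [show s k n = s k m + ∑ i ∈ Finset.Ico m n, f ^ i * y (k + i) from
      (Finset.sum_range_add_sum_Ico _ hmn).symm, add_sub_cancel_left]
    refine Submodule.sum_mem _ fun i hi => ?_
    exact (Submodule.smul_mono_left (Ideal.pow_le_pow_right (Finset.mem_Ico.1 hi).1) :
      (J ^ i • ⊤ : Submodule R R) ≤ J ^ m • ⊤) (pow_mem_smul J hf i _)
  choose x hx using fun k => IsPrecomplete.prec (I := J) inferInstance (f := s k) (hs k _ _)
  refine ⟨x, fun k => sub_eq_zero.1 (IsHausdorff.haus (I := J) inferInstance _ fun n => ?_)⟩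
  rw [SModEq.zero]
  have h1 : s k (n + 1) = y k + f * s (k + 1) n := by
    show ∑ i ∈ Finset.range (n + 1), f ^ i * y (k + i) = _
    rw [Finset.sum_range_succ', Finset.mul_sum, pow_zero, one_mul, add_zero, add_comm]
    refine congrArg (y k + ·) (Finset.sum_congr rfl fun i _ => ?_)
    rw [pow_succ', mul_assoc, show k + (i + 1) = k + 1 + i by omega]
  have h2 : x k - s k (n + 1) ∈ (J ^ n • ⊤ : Submodule R R) :=
    (Submodule.smul_mono_left (Ideal.pow_le_pow_right n.le_succ) :
      (J ^ (n + 1) • ⊤ : Submodule R R) ≤ J ^ n • ⊤) (SModEq.sub_mem.1 (hx k (n + 1)).symm)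
  have h3 : x (k + 1) - s (k + 1) n ∈ (J ^ n • ⊤ : Submodule R R) := SModEq.sub_mem.1 (hx (k + 1) n).symm
  have h4 : x k - f * x (k + 1) - y k = (x k - s k (n + 1)) - f • (x (k + 1) - s (k + 1) n) := by
    rw [smul_eq_mul, h1]; ring
  rw [h4]
  exact Submodule.sub_mem _ h2 (Submodule.smul_mem _ f h3)

/-- Telescopes of elements of the ideal are bijective on finite modules. -/
theorem tb_of_finite [IsNoetherianRing R] [IsAdicComplete J R] (M : Type v) [AddCommGroup M] [Module R M]
    [Module.Finite R M] {f : R} (hf : f ∈ J) :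
    H9Misc.TelBij.TB (DistribSMul.toAddMonoidHom M f) := by
  constructor
  · refine (injective_iff_map_eq_zero _).2 fun x hx => funext fun k => ?_
    have hstep : ∀ i, x i = f • x (i + 1) := fun i => sub_eq_zero.1 (congrFun hx i)
    have h : ∀ i, x k = f ^ i • x (k + i) := fun i => by
      induction i with
      | zero => simp
      | succ i ih => rw [ih, hstep (k + i), smul_smul, ← pow_succ]; rfl
    exact (Submodule.mem_bot R).1 (mem_of_forall_mem_sup J ⊥ (x k) fun i =>
      Submodule.mem_sup_right (by rw [h i]; exact pow_mem_smul J hf i _))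
  · intro y
    obtain ⟨q, s, hs⟩ := Module.Finite.exists_fin (R := R) (M := M)
    choose c hc using fun k => (Submodule.mem_span_range_iff_exists_fun R).1 (hs.ge (trivial : y k ∈ ⊤))
    choose x hx using fun i => exists_solution J hf fun k => c k i
    refine ⟨fun k => ∑ i, x i k • s i, funext fun k => ?_⟩
    show (∑ i, x i k • s i) - f • (∑ i, x i (k + 1) • s i) = y k
    rw [Finset.smul_sum, ← Finset.sum_sub_distrib, ← hc k]
    refine Finset.sum_congr rfl fun i _ => ?_
    rw [smul_smul, ← sub_smul, hx]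

end Groth.Agent.H26.FMod.AdicTel
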