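import Groth.Agent.H26.FMod.Extension
import Groth.Agent.SiteBase.SecGenOps
import Groth.Prelude.Def_WeakSerre

/-!
# Coherent modules on formal schemes form a weak Serre class
-/

noncomputable section

set_option autoImplicit false
set_option maxHeartbeats 1000000
set_option linter.style.haveILetI false
set_option backward.isDefEq.respectTransparency false
set_option backward.isDefEq.respectTransparency.types false

universe u

open CategoryTheory CategoryTheory.Limits TopologicalSpace Opposite AlgebraicGeometry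
open Groth.Agent.ModTensor Groth.Agent.ModPull Groth.Agent.LocalFactor Groth.Agent.SecGen

namespace Groth.Agent.H26.FMod

variable {𝔛 : FSch.Sys.{u}} (h : 𝔛.IsLocNoethFormal)

lemma isCohF_of_iso {hF : 𝔛.IsFormal} {𝔉 𝔊 : FSch.ModF 𝔛 hF} (e : 𝔉 ≅ 𝔊) (h𝔉 : FSch.IsCohF 𝔛 hF 𝔉) :
    FSch.IsCohF 𝔛 hF 𝔊 :=
  ObjectProperty.prop_of_iso (SheafOfModules.isFinitePresentation (ModSite.ringSh (𝔛.Osh hF))) e h𝔉

/-- Cokernels of maps of coherent modules are coherent. -/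
theorem isCohF_cokernel {hF : 𝔛.IsFormal} {𝔉 𝔊 : FSch.ModF 𝔛 hF} (h𝔉 : FSch.IsCohF 𝔛 hF 𝔉)
    (h𝔊 : FSch.IsCohF 𝔛 hF 𝔊) (φ : 𝔉 ⟶ 𝔊) : FSch.IsCohF 𝔛 hF (cokernel φ) := by
  haveI : SheafOfModules.IsFinitePresentation (R := ModSite.ringSh (𝔛.Osh hF)) 𝔉 := h𝔉
  haveI : SheafOfModules.IsFinitePresentation (R := ModSite.ringSh (𝔛.Osh hF)) 𝔊 := h𝔊
  exact SecGenOps.isFinitePresentation_cokernel φ

/-- Zero modules are coherent. -/
theorem isCohF_zero {hF : 𝔛.IsFormal} {Z : FSch.ModF 𝔛 hF} (hZ : IsZero Z) : FSch.IsCohF 𝔛 hF Z :=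
  isCohF_of_iso ((isZero_cokernel_of_epi (𝟙 (FSch.unitF 𝔛 hF))).iso hZ)
    (isCohF_cokernel isCohF_unit isCohF_unit (𝟙 _))

include h in
/-- Extensions of coherent modules are coherent. -/
theorem isCohF_extension {S : ShortComplex (FSch.ModF 𝔛 h.1)} (hS : S.ShortExact)
    (h₁ : FSch.IsCohF 𝔛 h.1 S.X₁) (h₃ : FSch.IsCohF 𝔛 h.1 S.X₃) : FSch.IsCohF 𝔛 h.1 S.X₂ := by
  classical
  refine isFP_of_affine fun U hU => ?_
  obtain ⟨n₁, x, hxg, -⟩ := exists_gens_coh h h₁ hU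
  obtain ⟨n₃, y, hyg, -⟩ := exists_gens_coh h h₃ hU
  choose z hz using fun j => exists_lift_sec h hS (ind_of_coh h h₁) hU (y j)
  let w : Fin n₁ ⊕ Fin n₃ → Sec S.X₂ U := Sum.elim (fun i => mapS S.f U (x i)) z
  refine nonempty_pres_of_hasRel h hU w (fun W f t => ?_) (hasRel_ext h hS (ind_of_coh h h₁) (ind_of_coh h h₃) hU w)
  refine ModPull.Locally.bind (hyg f (mapS S.g W t)) fun V g hg => ?_
  obtain ⟨c, hc⟩ := hg
  let d : Sec S.X₂ V := rs ((fg (𝔛.Osh h.1)).obj S.X₂) g.op t -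
    ∑ j, c j • rs ((fg (𝔛.Osh h.1)).obj S.X₂) (g ≫ f).op (z j)
  have hd : mapS S.g V d = 0 := by
    refine (map_sub _ _ _).trans (sub_eq_zero.2 ?_)
    refine ((mapS_res S.g (leOfHom g) t).trans hc).trans ?_
    rw [map_sum]
    refine Finset.sum_congr rfl fun j _ => ?_
    rw [map_smul]
    exact congrArg (c j • ·) ((congrArg (rs ((fg (𝔛.Osh h.1)).obj S.X₃) (g ≫ f).op) (hz j)).symm.trans
      (mapS_res S.g (leOfHom (g ≫ f)) (z j)).symm)
  haveI : Mono S.f := hS.mono_f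
  obtain ⟨e, he⟩ := exists_app_eq_of_exact hS (U := V) d hd
  refine (hxg (g ≫ f) e).mono fun V' g' hg' => ?_
  obtain ⟨a, ha⟩ := hg'
  refine ⟨Sum.elim a fun j => ((𝔛.Osh h.1).obj.map g'.op).hom (c j), ?_⟩
  have e₁ : rs ((fg (𝔛.Osh h.1)).obj S.X₂) (g' ≫ g).op t =
      mapS S.f V' (rs ((fg (𝔛.Osh h.1)).obj S.X₁) g'.op e) +
        rs ((fg (𝔛.Osh h.1)).obj S.X₂) g'.op (∑ j, c j • rs ((fg (𝔛.Osh h.1)).obj S.X₂) (g ≫ f).op (z j)) := by
    refine (SecGen.rs_op_comp g' g t).trans ?_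
    refine Eq.trans ?_ (congrArg (· + _) ((congrArg (rs ((fg (𝔛.Osh h.1)).obj S.X₂) g'.op) he).symm.trans
      (mapS_res S.f (leOfHom g') e).symm))
    exact (map_add _ _ _).symm.trans (congrArg _ (sub_add_cancel _ _)) |>.symm
  refine e₁.trans ?_
  rw [Fintype.sum_sum_type, ha, map_sum, rs_sum]
  simp only [Sum.elim_inl, Sum.elim_inr, w]
  refine congrArg₂ (· + ·) (Finset.sum_congr rfl fun i _ => ?_) (Finset.sum_congr rfl fun j _ => ?_)
  · rw [map_smul, Category.assoc]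
    exact congrArg (a i • ·) (mapS_res S.f (leOfHom (g' ≫ g ≫ f)) (x i))
  · rw [rs_smul, ← SecGen.rs_op_comp, Category.assoc]

include h in
/-- Coherent modules form a weak Serre class. -/
theorem isWeakSerre_coh :
    WSerre.IsWeakSerre (fun 𝔊 : FSch.ModF 𝔛 h.1 => FSch.IsCohF 𝔛 h.1 𝔊) := by
  exact
    { exists_zero := ⟨kernel (𝟙 (FSch.unitF 𝔛 h.1)), isZero_kernel_of_mono _, isCohF_zero (isZero_kernel_of_mono _)⟩
      kernels_le := fun Z => by
        rintro ⟨f, c, hf, hX, hY⟩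
        exact isCohF_of_iso ((kernelIsKernel f).conePointUniqueUpToIso hf) (isCohF_kernel h hX hY f)
      cokernels_le := fun Z => by
        rintro ⟨f, c, hf, hX, hY⟩
        exact isCohF_of_iso ((cokernelIsCokernel f).coconePointUniqueUpToIso hf) (isCohF_cokernel hX hY f)
      prop_X₂_of_shortExact := fun hS h₁ h₃ => isCohF_extension h hS h₁ h₃ }

end Groth.Agent.H26.FMod
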