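import Groth.Agent.H26.FMod.Union

/-!
# The category of ind-coherent modules
-/

noncomputable section

set_option autoImplicit false
set_option maxHeartbeats 1000000
set_option linter.style.haveILetI false
set_option backward.isDefEq.respectTransparency false
set_option backward.isDefEq.respectTransparency.types false

universe u

open CategoryTheory CategoryTheory.Limits TopologicalSpace Opposite AlgebraicGeometry
open Groth.Agent.ModTensor Groth.Agent.ModPull Groth.Agent.LocalFactor Groth.Agent.SecGen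

attribute [local instance] Pres.fκ Pres.fρ

namespace Groth.Agent.H26.FMod

variable {𝔛 : FSch.Sys.{u}}

/-- Ind-coherent modules. -/
abbrev IndCoh {hF : 𝔛.IsFormal} : ObjectProperty (FSch.ModF 𝔛 hF) :=
  ObjectProperty.ind.{u} fun 𝔊 : FSch.ModF 𝔛 hF => FSch.IsCohF 𝔛 hF 𝔊

variable (h : 𝔛.IsLocNoethFormal) {𝔉 𝔊 : FSch.ModF 𝔛 h.1}

include h in
lemma ind_of_coh (h𝔉 : FSch.IsCohF 𝔛 h.1 𝔉) : IndCoh 𝔉 := ObjectProperty.le_ind _ _ h𝔉

include h in
lemma ind_of_iso (e : 𝔉 ≅ 𝔊) (h𝔉 : IndCoh 𝔉) : IndCoh 𝔊 := by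
  obtain ⟨J, _, _, pres, hp⟩ := h𝔉
  exact ⟨J, inferInstance, inferInstance, pres.ofIso e, hp⟩

/-- Sections of a kernel. -/
lemma mapS_kernel {hF : 𝔛.IsFormal} {𝔄 𝔅 : FSch.ModF 𝔛 hF} (φ : 𝔄 ⟶ 𝔅) (W : (𝔛.X 0).Opens) (t : Sec (kernel φ) W) :
    mapS φ W (mapS (kernel.ι φ) W t) = 0 := by
  rw [← mapS_comp, kernel.condition]
  exact mapS_zero W t

include h in
/-- Kernels of maps from coherent modules to ind-coherent modules are coherent. -/
theorem isCohF_kernel_ind (h𝔉 : FSch.IsCohF 𝔛 h.1 𝔉) (φ : 𝔉 ⟶ 𝔊) (hφ : RelFrom φ) :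
    FSch.IsCohF 𝔛 h.1 (kernel φ) := by
  refine isFP_of_affine fun U hU => ?_
  haveI := noetherian h hU
  haveI := finite_sec h h𝔉 hU
  obtain ⟨n, x, hx, -⟩ := exists_gens_coh h h𝔉 hU
  obtain ⟨m, z, hz⟩ := Submodule.fg_iff_exists_fin_generating_family.1
    (IsNoetherian.noetherian (LinearMap.ker (mapS φ U)))
  choose y hy using fun l : Fin m => exists_kernel_sec φ U (z l)
    (LinearMap.mem_ker.1 (hz ▸ Submodule.subset_span ⟨l, rfl⟩))
  refine nonempty_pres_of_hasRel h hU y (fun W f t => ?_) (hasRel_mono (kernel.ι φ) y ?_)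
  · refine (hx f (mapS (kernel.ι φ) W t)).bind fun V₀ k₀ ⟨c₀, hc₀⟩ => ?_
    refine locally_D h hU (leOfHom (k₀ ≫ f)) _ (fun a ha => ?_) fun V₁ V₂ g k hk => ?_
    · let c : Fin n → Rg h.1 (D h.1 a) := fun i => res ha (c₀ i)
      have hc : resM 𝔉 (ha.trans (leOfHom k₀)) (mapS (kernel.ι φ) W t) = ∑ i, c i • resM 𝔉 (D_le a) (x i) := by
        refine Eq.trans ?_ ((congrArg (resM 𝔉 ha) hc₀).trans ((rs_sum _ _ _).trans ?_))
        · exact SecGen.rs_op_comp (homOfLE ha) k₀ _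
        · exact Finset.sum_congr rfl fun i _ => (rs_smul _ _ _).trans
            (congrArg (c i • ·) (SecGen.rs_op_comp (homOfLE ha) (k₀ ≫ f) (x i)).symm)
      have h0 : ∑ i, c i • resM 𝔊 (D_le a) (mapS φ U (x i)) = 0 := by
        have h1 := congrArg (mapS φ (D h.1 a)) hc
        rw [map_sum, mapS_res φ (ha.trans (leOfHom k₀)), mapS_kernel] at h1
        refine Eq.trans (Finset.sum_congr rfl fun i _ => ?_) (h1.symm.trans (map_zero _))
        rw [map_smul, mapS_res]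
      obtain ⟨p, A, hA⟩ := Submodule.fg_iff_exists_fin_generating_family.1
        (IsNoetherian.noetherian (RelMod fun i => mapS φ U (x i)))
      obtain ⟨d, hd⟩ := spanRes_le (D_le a) A hA (hφ hU x (D_le a) (isAffineOpen_D hU a) c h0)
      have hAz : ∀ j, ∑ i, A j i • x i ∈ Submodule.span (Rg h.1 U) (Set.range z) := fun j => by
        rw [hz, LinearMap.mem_ker, map_sum]
        refine Eq.trans (Finset.sum_congr rfl fun i _ => map_smul _ _ _) ?_
        exact mem_RelMod.1 (hA ▸ Submodule.subset_span ⟨j, rfl⟩ : A j ∈ RelMod fun i => mapS φ U (x i))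
      choose e he using fun j => (Submodule.mem_span_range_iff_exists_fun _).1 (hAz j)
      refine ⟨fun l => ∑ j, d j * res (D_le a) (e j l), app_injective (kernel.ι φ) (op _) ?_⟩
      have h2 : ∀ j, ∑ i, res (D_le a) (A j i) • resM 𝔉 (D_le a) (x i) =
          ∑ l, res (D_le a) (e j l) • resM 𝔉 (D_le a) (z l) := fun j => by
        rw [← resM_sum, ← resM_sum, he j]
      refine ((mapS_res (kernel.ι φ) (ha.trans (leOfHom k₀)) t).trans hc).trans (Eq.trans ?_ (map_sum _ _ _).symm)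
      have h3 : ∀ i, mapS (kernel.ι φ) (D h.1 a) (resM (kernel φ) (D_le a) (y i)) = resM 𝔉 (D_le a) (z i) :=
        fun i => (mapS_res _ _ _).trans (congrArg (resM 𝔉 (D_le a)) (hy i))
      refine Eq.trans ?_ (Finset.sum_congr rfl fun l _ => ((map_smul (mapS (kernel.ι φ) _) _ _).trans
        (congrArg (_ • ·) (h3 l))).symm)
      simp only [Finset.sum_smul, hd, mul_smul]
      rw [Finset.sum_comm, Finset.sum_comm (γ := Fin m)]
      exact Finset.sum_congr rfl fun j _ => by rw [← Finset.smul_sum, h2 j, Finset.smul_sum]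
    · obtain ⟨c, hc⟩ := hk
      refine ⟨fun i => ((𝔛.Osh h.1).obj.map g.op).hom (c i), ?_⟩
      rw [Category.assoc, SecGen.rs_op_comp, hc, rs_sum]
      exact Finset.sum_congr rfl fun i _ => by simp only [rs_smul, ← SecGen.rs_op_comp, Category.assoc]
  · rw [show (fun i => mapS (kernel.ι φ) U (y i)) = z from funext hy]
    exact hasRel_ind h (ind_of_coh h h𝔉) hU z

include h in
/-- Kernels of maps of ind-coherent modules are ind-coherent. -/
theorem ind_kernel (h𝔉 : IndCoh 𝔉) (h𝔊 : IndCoh 𝔊) (φ : 𝔉 ⟶ 𝔊) : IndCoh (kernel φ) := by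
  obtain ⟨J, _, _, pres, hp⟩ := id h𝔉
  let v : ∀ j, kernel (pres.ι.app j ≫ φ) ⟶ kernel φ := fun j =>
    kernel.lift φ (kernel.ι (pres.ι.app j ≫ φ) ≫ pres.ι.app j) (by rw [Category.assoc, kernel.condition])
  refine ind_of_family h (𝟙 (kernel φ)) (fun U hU n x => hasRel_mono (kernel.ι φ) _ (hasRel_ind h h𝔉 hU _))
    (fun j => kernel (pres.ι.app j ≫ φ)) (fun j => isCohF_kernel_ind h (hp j) _ (relFrom_of_ind h h𝔊 _)) v
    fun Z p q hpq => hom_ext_locally p q fun W t => ?_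
  refine (ColimSec.locally_exists_rep pres.isColimit (mapS (kernel.ι φ) W t)).mono fun V k ⟨j, s, hs⟩ => ?_
  obtain ⟨r, hr⟩ := exists_kernel_sec (pres.ι.app j ≫ φ) V s (by
    rw [mapS_comp]
    refine (congrArg (mapS φ V) hs).trans ((mapS_res φ (leOfHom k) _).trans ?_)
    rw [mapS_kernel]
    exact map_zero _)
  have e : mapS (v j) V r = resM (kernel φ) (leOfHom k) t := by
    refine app_injective (kernel.ι φ) (op V) ?_
    refine ((mapS_comp (v j) (kernel.ι φ) V r).symm.trans ?_).trans (mapS_res (kernel.ι φ) (leOfHom k) t).symm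
    rw [show v j ≫ kernel.ι φ = kernel.ι (pres.ι.app j ≫ φ) ≫ pres.ι.app j from kernel.lift_ι _ _ _, mapS_comp, hr]
    exact hs
  have h2 := congrArg (fun f => mapS f V r) (hpq j)
  simp only [Category.id_comp] at h2
  rw [mapS_comp, mapS_comp, e] at h2
  exact h2

include h in
/-- Relations in cokernels of maps of ind-coherent modules. -/
theorem relFrom_cokernel (h𝔉 : IndCoh 𝔉) (h𝔊 : IndCoh 𝔊) (φ : 𝔉 ⟶ 𝔊) : RelFrom (cokernel.π φ) := by
  intro U hU n g V hle hV c hc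
  obtain ⟨J, _, _, pres, hp⟩ := id h𝔉
  haveI := noetherian h hU
  refine mem_spanRes_local h hV hle _ c ?_
  have h0 : mapS (cokernel.π φ) V (∑ i, c i • resM 𝔊 hle (g i)) = 0 := by
    refine Eq.trans ?_ hc
    rw [map_sum]
    exact Finset.sum_congr rfl fun i _ => (map_smul _ _ _).trans (congrArg (c i • ·) (mapS_res _ _ _))
  obtain ⟨y, hy⟩ := exists_kernel_sec (cokernel.π φ) V _ h0
  haveI : Epi (Abelian.factorThruImage φ) := inferInstance
  refine (locally_exists_app_eq (Abelian.factorThruImage φ) (W := V) y).bind fun V₁ k₁ ⟨t, ht⟩ => ?_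
  have ht' : mapS φ V₁ t = resM 𝔊 (leOfHom k₁) (∑ i, c i • resM 𝔊 hle (g i)) := by
    rw [← Abelian.image.fac φ, mapS_comp]
    refine (congrArg (mapS (Abelian.image.ι φ) V₁) ht).trans ((mapS_res _ (leOfHom k₁) y).trans ?_)
    exact congrArg (resM 𝔊 (leOfHom k₁)) hy
  refine (ColimSec.locally_exists_rep pres.isColimit t).bind fun V₂ k₂ ⟨j, s, hs⟩ => ?_
  obtain ⟨m, x, hx, -⟩ := exists_gens_coh h (hp j) hU
  refine (hx ((k₂ ≫ k₁) ≫ homOfLE hle) s).bind fun V₃ k₃ ⟨e, he⟩ => ?_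
  refine locally_D h hU ((leOfHom (k₃ ≫ k₂ ≫ k₁)).trans hle) _ (fun a ha => ?_) fun V₄ V₅ l m' hm' => ?_
  · let Y : Fin n ⊕ Fin m → Sec 𝔊 U := Sum.elim g fun l => mapS φ U (mapS (pres.ι.app j) U (x l))
    have hb : D h.1 a ≤ V := ha.trans (leOfHom (k₃ ≫ k₂ ≫ k₁))
    let cY : Fin n ⊕ Fin m → Rg h.1 (D h.1 a) := Sum.elim (fun i => res hb (c i)) fun l => - res ha (e l)
    have hY : ∑ q, cY q • resM 𝔊 (D_le a) (Y q) = 0 := by
      rw [Fintype.sum_sum_type]
      simp only [cY, Y, Sum.elim_inl, Sum.elim_inr, neg_smul, Finset.sum_neg_distrib]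
      rw [← sub_eq_add_neg, sub_eq_zero]
      have e1 : ∑ i, res hb (c i) • resM 𝔊 (D_le a) (g i) = resM 𝔊 hb (∑ i, c i • resM 𝔊 hle (g i)) := by
        rw [resM_sum]
        exact Finset.sum_congr rfl fun i _ => congrArg (_ • ·) (SecGen.rs_op_comp (homOfLE hb) (homOfLE hle) (g i))
      have e2 : ∑ l, res ha (e l) • resM (pres.diag.obj j) (D_le a) (x l) =
          resM (pres.diag.obj j) (ha.trans (leOfHom k₃)) s := by
        refine Eq.trans ?_ ((congrArg (resM _ ha) he.symm).trans (SecGen.rs_op_comp (homOfLE ha) k₃ s).symm)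
        rw [resM_sum]
        exact Finset.sum_congr rfl fun i _ => congrArg (_ • ·) (SecGen.rs_op_comp (homOfLE ha) _ (x i))
      rw [e1]
      refine Eq.trans ?_ (Finset.sum_congr rfl fun l _ => ((map_smul _ _ _).trans (congrArg (res ha (e l) • ·)
        ((congrArg (mapS φ _) (mapS_res (pres.ι.app j) (D_le a) (x l))).trans (mapS_res φ (D_le a) _)))))
      rw [← map_sum]
      refine Eq.trans ?_ (congrArg (mapS φ (D h.1 a)) (((congrArg (mapS (pres.ι.app j) (D h.1 a)) e2).symm.trans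
        (map_sum _ _ _)).trans (Finset.sum_congr rfl fun l _ => map_smul _ _ _)))
      rw [mapS_res (pres.ι.app j) (ha.trans (leOfHom k₃)), hs]
      refine (Eq.trans ?_ (mapS_res φ (ha.trans (leOfHom k₃)) _).symm)
      refine Eq.trans ?_ (congrArg (resM 𝔊 (ha.trans (leOfHom k₃))) ((mapS_res φ (leOfHom k₂) t).trans
        (congrArg (resM 𝔊 (leOfHom k₂)) ht'))).symm
      exact ((SecGen.rs_op_comp _ _ _).symm.trans (SecGen.rs_op_comp _ _ _).symm).symm
    obtain ⟨p, A, hA⟩ := Submodule.fg_iff_exists_fin_generating_family.1 (IsNoetherian.noetherian (RelMod Y))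
    obtain ⟨d, hd⟩ := spanRes_le (D_le a) A hA (hasRel_ind h h𝔊 hU Y (D_le a) (isAffineOpen_D hU a) cY hY)
    refine mem_spanRes _ (fun l i => A l (Sum.inl i)) (fun l => ?_) d fun i => ?_
    · rw [mem_RelMod]
      have h1 := congrArg (mapS (cokernel.π φ) U) (mem_RelMod.1 (hA ▸ Submodule.subset_span ⟨l, rfl⟩ : A l ∈ RelMod Y))
      rw [map_zero, map_sum, Fintype.sum_sum_type] at h1
      simp only [Y, Sum.elim_inl, Sum.elim_inr, map_smul] at h1
      refine Eq.trans ?_ h1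
      refine (add_zero _).symm.trans (congrArg (_ + ·) (Finset.sum_eq_zero fun q _ => ?_).symm)
      rw [← mapS_comp, cokernel.condition, mapS_zero]
      exact smul_zero _
    · exact (hd (Sum.inl i))
  · have key : ∀ w : Fin n → Rg h.1 V₄, w ∈ SpanRes ((leOfHom ((m' ≫ k₃) ≫ k₂ ≫ k₁)).trans hle) (RelMod fun i => mapS (cokernel.π φ) U (g i)) →
        (fun i => res (leOfHom l) (w i)) ∈ SpanRes ((leOfHom (((l ≫ m') ≫ k₃) ≫ k₂ ≫ k₁)).trans hle) (RelMod fun i => mapS (cokernel.π φ) U (g i)) := by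
      intro w hw
      induction hw using Submodule.span_induction with
      | mem w hw =>
        obtain ⟨r, hr, rfl⟩ := hw
        exact Submodule.subset_span ⟨r, hr, funext fun i => (res_res h _ _ _).symm⟩
      | zero =>
        rw [show (fun i => res (leOfHom l) ((0 : Fin n → Rg h.1 V₄) i)) = 0 from funext fun i => map_zero _]
        exact Submodule.zero_mem _
      | add p q _ _ hp hq =>
        rw [show (fun i => res (leOfHom l) ((p + q) i)) =
          (fun i => res (leOfHom l) (p i)) + fun i => res (leOfHom l) (q i) from funext fun i => map_add _ _ _]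
        exact Submodule.add_mem _ hp hq
      | smul r p _ hp =>
        rw [show (fun i => res (leOfHom l) ((r • p) i)) =
          res (leOfHom l) r • fun i => res (leOfHom l) (p i) from funext fun i => map_mul _ _ _]
        exact Submodule.smul_mem _ _ hp
    have h1 := key _ hm'
    rw [show (fun i => res (leOfHom l) (res _ (c i))) = _ from funext fun i => res_res h _ _ _] at h1
    exact h1

include h in
/-- Cokernels of maps of ind-coherent modules are ind-coherent. -/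
theorem ind_cokernel (h𝔉 : IndCoh 𝔉) (h𝔊 : IndCoh 𝔊) (φ : 𝔉 ⟶ 𝔊) : IndCoh (cokernel φ) := by
  obtain ⟨J, _, _, pres, hp⟩ := id h𝔊
  refine ind_of_family h (cokernel.π φ) (relFrom_cokernel h h𝔉 h𝔊 φ) pres.diag.obj hp
    (fun j => pres.ι.app j) fun Z p q hpq => ?_
  rw [← cancel_epi (cokernel.π φ)]
  exact pres.isColimit.hom_ext hpq

include h in
/-- Coproducts of coherent modules are ind-coherent. -/
theorem ind_sigma_coh {α : Type u} (C : α → FSch.ModF 𝔛 h.1) (hC : ∀ a, FSch.IsCohF 𝔛 h.1 (C a)) :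
    IndCoh (∐ C) := by
  classical
  refine ⟨Finset (Discrete α), inferInstance, inferInstance,
    ⟨CoproductsFromFiniteFiltered.liftToFinsetObj (Discrete.functor C),
      (CoproductsFromFiniteFiltered.finiteSubcoproductsCocone C).ι,
      CoproductsFromFiniteFiltered.isColimitFiniteSubproductsCocone C⟩, fun s => ?_⟩
  exact isCohF_sigma _ fun a => hC a.1.as

include h in
/-- Coproducts of ind-coherent modules are ind-coherent. -/
theorem ind_sigma {α : Type u} (F : α → FSch.ModF 𝔛 h.1) (hF : ∀ a, IndCoh (F a)) : IndCoh (∐ F) := by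
  classical
  choose J cat fil pres hp using hF
  let S : (Σ a, J a) → FSch.ModF 𝔛 h.1 := fun q => (pres q.1).diag.obj q.2
  let R : (Σ q : Σ a, J a, Σ i : J q.1, (q.2 ⟶ i)) → FSch.ModF 𝔛 h.1 := fun q => S q.1
  let d : ∐ R ⟶ ∐ S := Sigma.desc fun q =>
    (pres q.1.1).diag.map q.2.2 ≫ Sigma.ι S ⟨q.1.1, q.2.1⟩ - Sigma.ι S q.1
  let π : ∐ S ⟶ ∐ F := Sigma.desc fun q => (pres q.1).ι.app q.2 ≫ Sigma.ι F q.1
  have hd : ∀ q, Sigma.ι R q ≫ d = (pres q.1.1).diag.map q.2.2 ≫ Sigma.ι S ⟨q.1.1, q.2.1⟩ - Sigma.ι S q.1 :=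
    fun q => Sigma.ι_desc _ _
  have hπ : ∀ q, Sigma.ι S q ≫ π = (pres q.1).ι.app q.2 ≫ Sigma.ι F q.1 := fun q => Sigma.ι_desc _ _
  have w : d ≫ π = 0 := Sigma.hom_ext _ _ fun q => by
    rw [← Category.assoc, hd, Preadditive.sub_comp, Category.assoc, hπ, hπ, ← Category.assoc, comp_zero, sub_eq_zero]
    exact congrArg (· ≫ Sigma.ι F q.1.1) (((pres q.1.1).ι.naturality q.2.2).trans (Category.comp_id _))
  have key : ∀ {Z : FSch.ModF 𝔛 h.1} (s : ∐ S ⟶ Z), d ≫ s = 0 → ∀ (a : α) {i i' : J a} (f : i ⟶ i'),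
      (pres a).diag.map f ≫ Sigma.ι S ⟨a, i'⟩ ≫ s = Sigma.ι S ⟨a, i⟩ ≫ s := fun {Z} s hs a i i' f => by
    have h1 := congrArg (Sigma.ι R ⟨⟨a, i⟩, i', f⟩ ≫ ·) hs
    rw [← Category.assoc, hd, Preadditive.sub_comp, comp_zero, sub_eq_zero, Category.assoc] at h1
    exact h1
  let l : ∀ {Z : FSch.ModF 𝔛 h.1} (s : ∐ S ⟶ Z), d ≫ s = 0 → (∐ F ⟶ Z) := fun {Z} s hs =>
    Sigma.desc fun a => (pres a).isColimit.desc (Cocone.mk Z
      { app := fun i => Sigma.ι S ⟨a, i⟩ ≫ s
        naturality := fun i i' f => (key s hs a f).trans (Category.comp_id _).symm })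
  have hl : ∀ {Z : FSch.ModF 𝔛 h.1} (s : ∐ S ⟶ Z) (hs : d ≫ s = 0), π ≫ l s hs = s := fun {Z} s hs =>
    Sigma.hom_ext _ _ fun q => by
      rw [← Category.assoc, hπ, Category.assoc]
      refine (congrArg ((pres q.1).ι.app q.2 ≫ ·) (Sigma.ι_desc (f := F) _ q.1)).trans ?_
      exact (pres q.1).isColimit.fac _ q.2
  have hcol : IsColimit (CokernelCofork.ofπ π w) := CokernelCofork.IsColimit.ofπ _ _ l hl fun {Z} s hs m hm =>
    Sigma.hom_ext _ _ fun a => (pres a).isColimit.hom_ext fun i => by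
      have h1 := congrArg (Sigma.ι S ⟨a, i⟩ ≫ ·) (hm.trans (hl s hs).symm)
      rwa [← Category.assoc, ← Category.assoc, hπ, Category.assoc, Category.assoc] at h1
  exact ind_of_iso h ((cokernelIsCokernel d).coconePointUniqueUpToIso hcol)
    (ind_cokernel h (ind_sigma_coh h R fun q => hp q.1.1 q.1.2) (ind_sigma_coh h S fun q => hp q.1 q.2) d)

include h in
/-- Colimits of ind-coherent modules are ind-coherent. -/
theorem ind_colimit {K : Type u} [SmallCategory K] {F : K ⥤ FSch.ModF 𝔛 h.1} {c : Cocone F} (hc : IsColimit c)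
    (hF : ∀ j, IndCoh (F.obj j)) : IndCoh c.pt := by
  classical
  let R : (Σ j : K, Σ i : K, (j ⟶ i)) → FSch.ModF 𝔛 h.1 := fun q => F.obj q.1
  let d : ∐ R ⟶ ∐ F.obj := Sigma.desc fun q => F.map q.2.2 ≫ Sigma.ι F.obj q.2.1 - Sigma.ι F.obj q.1
  let π : ∐ F.obj ⟶ c.pt := Sigma.desc fun j => c.ι.app j
  have hd : ∀ q, Sigma.ι R q ≫ d = F.map q.2.2 ≫ Sigma.ι F.obj q.2.1 - Sigma.ι F.obj q.1 :=
    fun q => Sigma.ι_desc _ _
  have hπ : ∀ j, Sigma.ι F.obj j ≫ π = c.ι.app j := fun j => Sigma.ι_desc _ _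
  have w : d ≫ π = 0 := Sigma.hom_ext _ _ fun q => by
    rw [← Category.assoc, hd, Preadditive.sub_comp, Category.assoc, hπ, hπ, c.w, sub_self, comp_zero]
  have key : ∀ {Z : FSch.ModF 𝔛 h.1} (s : ∐ F.obj ⟶ Z), d ≫ s = 0 → ∀ {i i' : K} (f : i ⟶ i'),
      F.map f ≫ Sigma.ι F.obj i' ≫ s = Sigma.ι F.obj i ≫ s := fun {Z} s hs i i' f => by
    have h1 := congrArg (Sigma.ι R ⟨i, i', f⟩ ≫ ·) hs
    rw [← Category.assoc, hd, Preadditive.sub_comp, comp_zero, sub_eq_zero, Category.assoc] at h1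
    exact h1
  let l : ∀ {Z : FSch.ModF 𝔛 h.1} (s : ∐ F.obj ⟶ Z), d ≫ s = 0 → (c.pt ⟶ Z) := fun {Z} s hs =>
    hc.desc (Cocone.mk Z
      { app := fun i => Sigma.ι F.obj i ≫ s
        naturality := fun i i' f => (key s hs f).trans (Category.comp_id _).symm })
  have hl : ∀ {Z : FSch.ModF 𝔛 h.1} (s : ∐ F.obj ⟶ Z) (hs : d ≫ s = 0), π ≫ l s hs = s := fun {Z} s hs =>
    Sigma.hom_ext _ _ fun j => by
      rw [← Category.assoc, hπ]
      exact hc.fac _ j
  have hcol : IsColimit (CokernelCofork.ofπ π w) := CokernelCofork.IsColimit.ofπ _ _ l hl fun {Z} s hs m hm =>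
    hc.hom_ext fun j => by
      have h1 := congrArg (Sigma.ι F.obj j ≫ ·) (hm.trans (hl s hs).symm)
      rwa [← Category.assoc, ← Category.assoc, hπ] at h1
  exact ind_of_iso h ((cokernelIsCokernel d).coconePointUniqueUpToIso hcol)
    (ind_cokernel h (ind_sigma h R fun q => hF q.1) (ind_sigma h F.obj hF) d)

end Groth.Agent.H26.FMod
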