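import Groth.Agent.H26.FMod.Equiv

/-!
# Kernels of maps of coherent modules
-/

noncomputable section

set_option autoImplicit false
set_option linter.style.haveILetI false
set_option backward.isDefEq.respectTransparency false
set_option backward.isDefEq.respectTransparency.types false

universe u

open CategoryTheory CategoryTheory.Limits TopologicalSpace Opposite AlgebraicGeometry
open Groth.Agent.ModTensor Groth.Agent.ModPull Groth.Agent.LocalFactor Groth.Agent.SecGen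

attribute [local instance] Pres.fκ Pres.fρ

namespace Groth.Agent.H26.FMod

variable {𝔛 : FSch.Sys.{u}} {hF : 𝔛.IsFormal}

/-- A morphism on sections, as a linear map. -/
abbrev mapS {𝔉 𝔊 : FSch.ModF 𝔛 hF} (φ : 𝔉 ⟶ 𝔊) (U : (𝔛.X 0).Opens) : Sec 𝔉 U →ₗ[Rg hF U] Sec 𝔊 U :=
  (((fg (𝔛.Osh hF)).map φ).app (op U)).hom

lemma mapS_res {𝔉 𝔊 : FSch.ModF 𝔛 hF} (φ : 𝔉 ⟶ 𝔊) {U V : (𝔛.X 0).Opens} (hle : V ≤ U) (x : Sec 𝔉 U) :
    mapS φ V (resM 𝔉 hle x) = resM 𝔊 hle (mapS φ U x) :=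
  app_rs ((fg (𝔛.Osh hF)).map φ) (homOfLE hle).op x

lemma resM_sum (𝔉 : FSch.ModF 𝔛 hF) {U V : (𝔛.X 0).Opens} (hle : V ≤ U) {κ : Type} [Fintype κ]
    (c : κ → Rg hF U) (x : κ → Sec 𝔉 U) :
    resM 𝔉 hle (∑ i, c i • x i) = ∑ i, res hle (c i) • resM 𝔉 hle (x i) :=
  (rs_sum _ _ _).trans (Finset.sum_congr rfl fun i _ => rs_smul _ _ _)

/-- Sections of an isomorphic module. -/
def mapSEquiv {𝔉 𝔊 : FSch.ModF 𝔛 hF} (e : 𝔉 ≅ 𝔊) (U : (𝔛.X 0).Opens) : Sec 𝔉 U ≃ₗ[Rg hF U] Sec 𝔊 U :=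
  LinearEquiv.ofLinear (mapS e.hom U) (mapS e.inv U)
    (LinearMap.ext fun x => congrArg (fun t => ((fg (𝔛.Osh hF)).map t).app (op U) x) e.inv_hom_id |>.trans
      (by rw [CategoryTheory.Functor.map_id]; rfl))
    (LinearMap.ext fun x => congrArg (fun t => ((fg (𝔛.Osh hF)).map t).app (op U) x) e.hom_inv_id |>.trans
      (by rw [CategoryTheory.Functor.map_id]; rfl))

variable (h : 𝔛.IsLocNoethFormal) {𝔉 : FSch.ModF 𝔛 h.1} (h𝔉 : FSch.IsCohF 𝔛 h.1 𝔉)
  {U : (𝔛.X 0).Opens} (hU : IsAffineOpen U)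

include h h𝔉 in
/-- Transfer to the module of a system. -/
lemma exists_realMod_iso : ∃ (𝔐 : FSch.ModSys 𝔛), 𝔐.IsCoh ∧ Nonempty (𝔉 ≅ 𝔐.realMod h.1) :=
  haveI := isIso_toReal h 𝔉 h𝔉
  ⟨sysOf h.1 𝔉, fun k => isCoh_pullK k 𝔉 h𝔉, ⟨asIso (toReal h.1 𝔉)⟩⟩

include h h𝔉 hU in
/-- Sections of a coherent module over an affine open form a finite module. -/
theorem finite_sec : Module.Finite (Rg h.1 U) (Sec 𝔉 U) := by
  obtain ⟨𝔐, h𝔐, ⟨e⟩⟩ := exists_realMod_iso h h𝔉
  haveI := (chartM 𝔐 h h𝔐 hU).1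
  exact Module.Finite.equiv (mapSEquiv e U).symm

variable (a : Rg h.1 U) {κ : Type} [Fintype κ] (x : κ → Sec 𝔉 U)

include h h𝔉 hU in
/-- Generators on an affine open generate on the basic opens. -/
theorem genC_D (hx : Submodule.span (Rg h.1 U) (Set.range x) = ⊤) (t : Sec 𝔉 (D h.1 a)) :
    ∃ c : κ → Rg h.1 (D h.1 a), t = ∑ i, c i • resM 𝔉 (D_le a) (x i) := by
  obtain ⟨𝔐, h𝔐, ⟨e⟩⟩ := exists_realMod_iso h h𝔉
  have hx' : Submodule.span (Rg h.1 U) (Set.range fun i => mapSEquiv e U (x i)) = ⊤ := by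
    rw [show (fun i => mapSEquiv e U (x i)) = ⇑(mapSEquiv e U).toLinearMap ∘ x from rfl, Set.range_comp,
      ← Submodule.map_span, hx, Submodule.map_top, LinearEquiv.range]
  obtain ⟨c, hc⟩ := gen_D h h𝔐 hU a _ hx' (mapSEquiv e (D h.1 a) t)
  refine ⟨c, (mapSEquiv e (D h.1 a)).injective (hc.trans ?_)⟩
  rw [map_sum]
  refine Finset.sum_congr rfl fun i _ => ?_
  rw [map_smul]
  exact congrArg (c i • ·) (mapS_res e.hom (D_le a) (x i)).symm

include h h𝔉 hU in
/-- Relations on an affine open generate the relations on the basic opens. -/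
theorem exactC_D {ρ : Type} [Fintype ρ] (A : ρ → κ → Rg h.1 U)
    (hA : ∀ r : κ → Rg h.1 U, ∑ i, r i • x i = 0 → r ∈ Submodule.span (Rg h.1 U) (Set.range A))
    (c : κ → Rg h.1 (D h.1 a)) (hc : ∑ i, c i • resM 𝔉 (D_le a) (x i) = 0) :
    ∃ d : ρ → Rg h.1 (D h.1 a), ∀ i, c i = ∑ j, d j * res (D_le a) (A j i) := by
  obtain ⟨𝔐, h𝔐, ⟨e⟩⟩ := exists_realMod_iso h h𝔉
  refine exact_D h h𝔐 hU a (fun i => mapSEquiv e U (x i)) A (fun r hr => hA r ((mapSEquiv e U).injective ?_)) c ?_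
  · rw [map_sum, map_zero]
    refine Eq.trans ?_ hr
    exact Finset.sum_congr rfl fun i _ => map_smul _ _ _
  · have h1 := congrArg (mapS e.hom (D h.1 a)) hc
    rw [map_sum, map_zero] at h1
    refine Eq.trans (Finset.sum_congr rfl fun i _ => ?_) h1
    rw [map_smul, mapS_res]
    rfl

omit [Fintype κ] in
/-- A presentation from generation and exactness on basic opens. -/
def presD {κ ρ : Type} [Fintype κ] [Fintype ρ] (hU : IsAffineOpen U) (x : κ → Sec 𝔉 U)
    (A : ρ → κ → Rg h.1 U) (hrel : ∀ j, ∑ i, A j i • x i = 0)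
    (hgen : ∀ (b : Rg h.1 U) (t : Sec 𝔉 (D h.1 b)), ∃ c : κ → Rg h.1 (D h.1 b),
      t = ∑ i, c i • resM 𝔉 (D_le b) (x i))
    (hex : ∀ (b : Rg h.1 U) (c : κ → Rg h.1 (D h.1 b)), ∑ i, c i • resM 𝔉 (D_le b) (x i) = 0 →
      ∃ d : ρ → Rg h.1 (D h.1 b), ∀ i, c i = ∑ j, d j * res (D_le b) (A j i)) :
    Pres (𝔛.Osh h.1) 𝔉 U where
  κ := κ
  ρ := ρ
  fκ := inferInstance
  fρ := inferInstance
  s := x
  A := A
  rel := hrel
  gen W f t := by
    refine locally_D h hU (leOfHom f) _ (fun b hb => ?_) fun V V' g k hk => ?_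
    · obtain ⟨c, hc⟩ := hgen b (resM 𝔉 hb t)
      exact ⟨c, hc⟩
    · obtain ⟨c, hc⟩ := hk
      refine ⟨fun i => ((𝔛.Osh h.1).obj.map g.op).hom (c i), ?_⟩
      rw [SecGen.rs_op_comp, hc, rs_sum]
      exact Finset.sum_congr rfl fun i _ => by rw [rs_smul, ← SecGen.rs_op_comp, Category.assoc]
  exact W f c hc := by
    refine locally_D h hU (leOfHom f) _ (fun b hb => ?_) fun V V' g k hk => ?_
    · have h1 := congrArg (rs ((fg (𝔛.Osh h.1)).obj 𝔉) (homOfLE hb).op) hc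
      rw [rs_sum] at h1
      obtain ⟨d, hd⟩ := hex b (fun i => res hb (c i)) (by
        refine Eq.trans (Finset.sum_congr rfl fun i _ => ?_) (h1.trans (map_zero _))
        rw [rs_smul, ← SecGen.rs_op_comp]
        rfl)
      exact ⟨d, hd⟩
    · obtain ⟨d, hd⟩ := hk
      refine ⟨fun j => ((𝔛.Osh h.1).obj.map g.op).hom (d j), fun i => ?_⟩
      rw [op_comp, Functor.map_comp]
      refine (congrArg ((𝔛.Osh h.1).obj.map g.op).hom (hd i)).trans ?_
      rw [map_sum]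
      refine Finset.sum_congr rfl fun j _ => ?_
      rw [map_mul, Category.assoc, op_comp (f := g), Functor.map_comp]
      rfl

omit [Fintype κ] in
/-- Finite presentation from presentations on all affine opens. -/
theorem isFP_of_affine {𝔊 : FSch.ModF 𝔛 hF}
    (hP : ∀ U : (𝔛.X 0).Opens, IsAffineOpen U → Nonempty (Pres (𝔛.Osh hF) 𝔊 U)) :
    FSch.IsCohF 𝔛 hF 𝔊 := by
  refine isFinitePresentation_of_pres _ fun X => ?_
  refine ⟨{ arrows := fun V g => ∃ U : (𝔛.X 0).Opens, IsAffineOpen U ∧ V ≤ U,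
            downward_closed := fun {V V' f} ⟨U, h1, h2⟩ g => ⟨U, h1, (leOfHom g).trans h2⟩ }, ?_, ?_⟩
  · intro y hy
    obtain ⟨_, ⟨U, hU', rfl⟩, hyU, hle⟩ := (𝔛.X 0).isBasis_affineOpens.exists_subset_of_mem_open hy X.2
    exact ⟨U, homOfLE hle, ⟨U, hU', le_rfl⟩, hyU⟩
  · rintro V g ⟨U', hU', hVU⟩
    obtain ⟨P⟩ := hP U' hU'
    exact ⟨presPull P (homOfLE hVU)⟩

omit [Fintype κ] in
/-- Exactness of sections at the kernel. -/
theorem exists_kernel_sec {𝔉 𝔊 : FSch.ModF 𝔛 hF} (φ : 𝔉 ⟶ 𝔊) (V : (𝔛.X 0).Opens) (x : Sec 𝔉 V)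
    (hx : mapS φ V x = 0) : ∃ y : Sec (kernel φ) V, mapS (kernel.ι φ) V y = x := by
  let π := cokernel.π (kernel.ι φ)
  have hSS : (ShortComplex.mk (kernel.ι φ) π (cokernel.condition _)).ShortExact :=
    { exact := ShortComplex.exact_of_g_is_cokernel _ (cokernelIsCokernel _)
      mono_f := inferInstanceAs (Mono (kernel.ι φ))
      epi_g := inferInstanceAs (Epi π) }
  refine exists_app_eq_of_exact hSS (U := V) x ?_
  let l : cokernel (kernel.ι φ) ⟶ 𝔊 := cokernel.desc _ φ (kernel.condition φ)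
  haveI : Mono l := (ShortComplex.exact_of_f_is_kernel (ShortComplex.mk (kernel.ι φ) φ (kernel.condition φ))
    (kernelIsKernel φ)).mono_cokernelDesc
  refine app_injective l (op V) (Eq.trans ?_ (map_zero _).symm)
  refine Eq.trans ?_ hx
  exact congrArg (fun t => ((fg (𝔛.Osh hF)).map t).app (op V) x) (cokernel.π_desc _ _ _)

include h h𝔉 in
omit [Fintype κ] in
/-- Kernels of maps of coherent modules are coherent. -/
theorem isCohF_kernel {𝔊 : FSch.ModF 𝔛 h.1} (h𝔊 : FSch.IsCohF 𝔛 h.1 𝔊) (φ : 𝔉 ⟶ 𝔊) :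
    FSch.IsCohF 𝔛 h.1 (kernel φ) := by
  classical
  refine isFP_of_affine fun U hU => ?_
  haveI := noetherian h hU
  haveI := finite_sec h h𝔉 hU
  obtain ⟨n, x, hx⟩ := Module.Finite.exists_fin (R := Rg h.1 U) (M := Sec 𝔉 U)
  obtain ⟨p, A, hA⟩ := Submodule.fg_iff_exists_fin_generating_family.1 (IsNoetherian.noetherian
    (LinearMap.ker (Fintype.linearCombination (Rg h.1 U) fun i => mapS φ U (x i))))
  obtain ⟨m, z, hz⟩ := Submodule.fg_iff_exists_fin_generating_family.1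
    (IsNoetherian.noetherian (LinearMap.ker (mapS φ U)))
  choose y hy using fun l : Fin m => exists_kernel_sec φ U (z l)
    (LinearMap.mem_ker.1 (hz ▸ Submodule.subset_span ⟨l, rfl⟩))
  obtain ⟨q, B, hB⟩ := Submodule.fg_iff_exists_fin_generating_family.1 (IsNoetherian.noetherian
    (LinearMap.ker (Fintype.linearCombination (Rg h.1 U) z)))
  have hinj : ∀ V, Function.Injective (mapS (kernel.ι φ) V) := fun V => app_injective (kernel.ι φ) (op V)
  refine ⟨presD h hU y B (fun j => hinj U ?_) (fun b t => ?_) fun b c hc => ?_⟩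
  · rw [map_sum, map_zero]
    have h1 : B j ∈ LinearMap.ker (Fintype.linearCombination (Rg h.1 U) z) := hB ▸ Submodule.subset_span ⟨j, rfl⟩
    rw [LinearMap.mem_ker, Fintype.linearCombination_apply] at h1
    refine Eq.trans (Finset.sum_congr rfl fun i _ => ?_) h1
    rw [map_smul, hy]
  · obtain ⟨c, hc⟩ := genC_D h h𝔉 hU b x hx (mapS (kernel.ι φ) _ t)
    have h0 : ∑ i, c i • resM 𝔊 (D_le b) (mapS φ U (x i)) = 0 := by
      have h1 := congrArg (mapS φ (D h.1 b)) hc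
      rw [map_sum, show mapS φ (D h.1 b) (mapS (kernel.ι φ) _ t) = 0 from
        congrArg (fun r => ((fg (𝔛.Osh h.1)).map r).app (op (D h.1 b)) t) (kernel.condition φ)] at h1
      refine Eq.trans (Finset.sum_congr rfl fun i _ => ?_) h1.symm
      rw [map_smul, mapS_res]
    obtain ⟨d, hd⟩ := exactC_D h h𝔊 hU b _ A (fun r hr => by
      rw [hA]; simpa [Fintype.linearCombination_apply] using hr) c h0
    have hAz : ∀ j, ∑ i, A j i • x i ∈ Submodule.span (Rg h.1 U) (Set.range z) := fun j => by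
      rw [hz, LinearMap.mem_ker, map_sum]
      have h1 : A j ∈ LinearMap.ker (Fintype.linearCombination (Rg h.1 U) fun i => mapS φ U (x i)) :=
        hA ▸ Submodule.subset_span ⟨j, rfl⟩
      simpa [Fintype.linearCombination_apply] using h1
    choose e he using fun j => (Submodule.mem_span_range_iff_exists_fun _).1 (hAz j)
    refine ⟨fun l => ∑ j, d j * res (D_le b) (e j l), hinj _ (hc.trans ?_)⟩
    have h2 : ∀ j, ∑ i, res (D_le b) (A j i) • resM 𝔉 (D_le b) (x i) =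
        ∑ l, res (D_le b) (e j l) • resM 𝔉 (D_le b) (z l) := fun j => by
      rw [← resM_sum, ← resM_sum, he j]
    rw [map_sum]
    simp only [map_sum, map_smul, mapS_res, hy, Finset.sum_smul, hd, mul_smul]
    rw [Finset.sum_comm, Finset.sum_comm (γ := Fin m)]
    exact Finset.sum_congr rfl fun j _ => by rw [← Finset.smul_sum, h2 j, Finset.smul_sum]
  · refine exactC_D h h𝔉 hU b z B (fun r hr => ?_) c ?_
    · rw [hB]
      simpa [Fintype.linearCombination_apply] using hr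
    · have h1 := congrArg (mapS (kernel.ι φ) (D h.1 b)) hc
      rw [map_sum, map_zero] at h1
      refine Eq.trans (Finset.sum_congr rfl fun i _ => ?_) h1
      rw [map_smul, mapS_res, hy]

omit [Fintype κ] in
/-- Free modules of finite rank are coherent. -/
theorem isCohF_free (ι : Type u) [Finite ι] : FSch.IsCohF 𝔛 hF (fr (𝔛.Osh hF) ι) := by
  classical
  obtain ⟨n, ⟨e⟩⟩ := Finite.exists_equiv_fin ι
  cases nonempty_fintype ι
  refine isFP_of_affine fun U _ => ⟨{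
    κ := Fin n, ρ := Fin 0, fκ := inferInstance, fρ := inferInstance,
    s := fun i => fsec (e.symm i) (op U), A := fun j => j.elim0, rel := fun j => j.elim0,
    gen := fun W f t => ?_, exact := fun W f c hc => ?_ }⟩
  · refine ⟨⊤, GrothendieckTopology.top_mem _ _, fun V g _ => ⟨fun i => coord (e.symm i) (rs _ g.op t), ?_⟩⟩
    refine (decomp (rs _ g.op t)).trans ((Equiv.sum_comp e.symm _).symm.trans ?_)
    exact Finset.sum_congr rfl fun i _ => congrArg (_ • ·) (rs_fsec _ _).symm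
  · refine ⟨⊤, GrothendieckTopology.top_mem _ _, fun V g _ => ⟨fun j => j.elim0, fun i => ?_⟩⟩
    have h1 : ∑ k : ι, c (e k) • fsec (O := 𝔛.Osh hF) k (op W) = 0 := by
      refine (Equiv.sum_comp e.symm _).symm.trans (Eq.trans (Finset.sum_congr rfl fun i _ => ?_) hc)
      rw [Equiv.apply_symm_apply, rs_fsec]
    have h2 := congrArg (coord (O := 𝔛.Osh hF) (e.symm i)) h1
    rw [coord_sum_smul, Equiv.apply_symm_apply] at h2
    rw [h2]
    simp [coord]

omit [Fintype κ] in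
/-- The structure sheaf is coherent. -/
theorem isCohF_unit : FSch.IsCohF 𝔛 hF (FSch.unitF 𝔛 hF) := by
  refine isFP_of_affine fun U _ => ⟨{
    κ := Fin 1, ρ := Fin 0, fκ := inferInstance, fρ := inferInstance,
    s := fun _ => (1 : Rg hF U), A := fun j => j.elim0, rel := fun j => j.elim0,
    gen := fun W f t => ?_, exact := fun W f c hc => ?_ }⟩
  · refine ⟨⊤, GrothendieckTopology.top_mem _ _, fun V g _ => ⟨fun _ => rs _ g.op t, ?_⟩⟩
    rw [Fin.sum_univ_one]
    exact (mul_one (show Rg hF V from rs ((fg (𝔛.Osh hF)).obj (FSch.unitF 𝔛 hF)) g.op t)).symm.trans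
      (congrArg (fun q : Rg hF V => (show Rg hF V from rs ((fg (𝔛.Osh hF)).obj (FSch.unitF 𝔛 hF)) g.op t) * q)
        (map_one ((𝔛.Osh hF).obj.map (g ≫ f).op).hom).symm)
  · refine ⟨⊤, GrothendieckTopology.top_mem _ _, fun V g _ => ⟨fun j => j.elim0, fun i => ?_⟩⟩
    rw [Fin.sum_univ_one] at hc
    have h1 : c 0 = 0 := ((mul_one (c 0)).symm.trans
      (congrArg (fun q : Rg hF W => c 0 * q) (map_one ((𝔛.Osh hF).obj.map f.op).hom).symm)).trans hc
    obtain rfl : i = 0 := Subsingleton.elim _ _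
    rw [h1, map_zero]
    rfl

end Groth.Agent.H26.FMod
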