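import Groth.Agent.H26.FMod.OpenRes
import Groth.Agent.H26.FMod.Ker

/-!
# Coherence is local
-/

noncomputable section

set_option autoImplicit false
set_option maxHeartbeats 1000000
set_option linter.style.haveILetI false
set_option backward.isDefEq.respectTransparency false
set_option backward.isDefEq.respectTransparency.types false

universe u

open CategoryTheory CategoryTheory.Limits TopologicalSpace Opposite AlgebraicGeometry
open Groth.Agent.ModTensor Groth.Agent.ModPull Groth.Agent.LocalFactor Groth.Agent.SecGen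

attribute [local instance] Pres.fκ Pres.fρ

namespace Groth.Agent.H26.FMod.OpenRes

open OpenTransfer

variable {𝔛 : FSch.Sys.{u}} (h : 𝔛.IsLocNoethFormal) (V : (𝔛.X 0).Opens) (M : FSch.ModF 𝔛 h.1)

/-- Scalars of the induced system as scalars. -/
abbrev ph (W : Opens ((sys h V).X 0)) :
    ((sys h V).Osh (hSys h V).1).obj.obj (op W) →+* (𝔛.Osh h.1).obj.obj (op ((imgF h V).obj W)) :=
  ((phi h V).hom.app (op W)).hom

lemma ph_res {W W' : Opens ((sys h V).X 0)} (g : W' ⟶ W) (r : ((sys h V).Osh (hSys h V).1).obj.obj (op W)) :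
    ph h V W' ((((sys h V).Osh (hSys h V).1).obj.map g.op).hom r) =
      ((𝔛.Osh h.1).obj.map ((imgF h V).map g).op).hom (ph h V W r) :=
  congrArg (fun t => t.hom r) ((phi h V).hom.naturality g.op)

lemma exists_pre {W' : (𝔛.X 0).Opens} {W : Opens ((sys h V).X 0)} (hle : W' ≤ (imgF h V).obj W) :
    ∃ W'' : Opens ((sys h V).X 0), W'' ≤ W ∧ (imgF h V).obj W'' = W' := by
  refine ⟨(Opens.map (j0 h V).base).obj W', fun y hy => ?_, Opens.ext (Set.image_preimage_eq_of_subset fun x hx => ?_)⟩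
  · obtain ⟨z, hz, e⟩ := hle hy
    exact (Subtype.val_injective e : z = y) ▸ hz
  · obtain ⟨z, -, rfl⟩ := hle hx
    exact ⟨z, rfl⟩

lemma locally_img {W : Opens ((sys h V).X 0)} {P : ∀ ⦃W' : Opens ((sys h V).X 0)⦄, (W' ⟶ W) → Prop}
    (Q : ∀ ⦃V' : (𝔛.X 0).Opens⦄, (V' ⟶ (imgF h V).obj W) → Prop)
    (hloc : ModPull.Locally (Opens.grothendieckTopology ((sys h V).X 0)) W P)
    (hPQ : ∀ ⦃W' : Opens ((sys h V).X 0)⦄ (g : W' ⟶ W), P g → Q ((imgF h V).map g))
    (hres : ∀ ⦃V' V'' : (𝔛.X 0).Opens⦄ (g : V'' ⟶ V') (k : V' ⟶ (imgF h V).obj W), Q k → Q (g ≫ k)) :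
    ModPull.Locally (Opens.grothendieckTopology (𝔛.X 0)) ((imgF h V).obj W) Q := by
  obtain ⟨S, hS, hP⟩ := hloc
  refine ⟨{ arrows := fun V' g => ∃ (W' : Opens ((sys h V).X 0)) (k : W' ⟶ W), S k ∧ V' ≤ (imgF h V).obj W',
            downward_closed := fun {_ _ _} ⟨W', k, h1, h2⟩ g => ⟨W', k, h1, (leOfHom g).trans h2⟩ }, ?_, ?_⟩
  · rintro _ ⟨z, hz, rfl⟩
    obtain ⟨W', k, hk, hzW⟩ := hS z hz
    exact ⟨(imgF h V).obj W', (imgF h V).map k, ⟨W', k, hk, le_rfl⟩, z, hzW, rfl⟩
  · rintro V' g ⟨W', k, hk, hle⟩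
    rw [Subsingleton.elim g (homOfLE hle ≫ (imgF h V).map k)]
    exact hres _ _ (hPQ k (hP k hk))

/-- Presentations of a restriction give presentations. -/
def presImg {W : Opens ((sys h V).X 0)} (P : Pres ((sys h V).Osh (hSys h V).1) ((res h V).obj M) W) :
    Pres (𝔛.Osh h.1) M ((imgF h V).obj W) where
  κ := P.κ
  ρ := P.ρ
  fκ := P.fκ
  fρ := P.fρ
  s i := P.s i
  A j i := ph h V W (P.A j i)
  rel j := P.rel j
  gen W' f t := by
    obtain ⟨W'', hW, rfl⟩ := exists_pre h V (leOfHom f)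
    refine locally_img h V _ (P.gen (homOfLE hW) t) (fun W₁ g hg => ?_) fun V' V'' g k hk => ?_
    · obtain ⟨c, hc⟩ := hg
      refine ⟨fun i => ph h V W₁ (c i), ?_⟩
      rw [Subsingleton.elim f ((imgF h V).map (homOfLE hW))]
      exact hc
    · obtain ⟨c, hc⟩ := hk
      refine ⟨fun i => ((𝔛.Osh h.1).obj.map g.op).hom (c i), ?_⟩
      rw [SecGen.rs_op_comp, hc, rs_sum]
      exact Finset.sum_congr rfl fun i _ => by rw [rs_smul, ← SecGen.rs_op_comp, Category.assoc]
  exact W' f c hc := by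
    obtain ⟨W'', hW, rfl⟩ := exists_pre h V (leOfHom f)
    obtain rfl : f = (imgF h V).map (homOfLE hW) := Subsingleton.elim _ _
    choose c' hc' using fun i => (by
      haveI := isIso_cSh h V
      haveI : IsIso ((phi h V).hom.app (op W'')) := by
        haveI : IsIso (phi h V) := inferInstanceAs (IsIso (inv (cSh h V)))
        exact inferInstanceAs (IsIso (((sheafToPresheaf _ _).map (phi h V)).app (op W'')))
      exact (ConcreteCategory.bijective_of_isIso ((phi h V).hom.app (op W''))).2 (c i) :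
        ∃ r, ph h V W'' r = c i)
    obtain rfl : (fun i => ph h V W'' (c' i)) = c := funext hc'
    refine locally_img h V _ (P.exact (homOfLE hW) c' hc) (fun W₁ g hg => ?_) fun V' V'' g k hk => ?_
    · obtain ⟨d, hd⟩ := hg
      refine ⟨fun j => ph h V W₁ (d j), fun i => ?_⟩
      rw [← ph_res, hd i, map_sum]
      refine Finset.sum_congr rfl fun j _ => ?_
      rw [map_mul, ← Functor.map_comp, ph_res]
    · obtain ⟨d, hd⟩ := hk
      refine ⟨fun j => ((𝔛.Osh h.1).obj.map g.op).hom (d j), fun i => ?_⟩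
      rw [op_comp, Functor.map_comp]
      refine (congrArg ((𝔛.Osh h.1).obj.map g.op).hom (hd i)).trans ?_
      rw [map_sum]
      refine Finset.sum_congr rfl fun j _ => ?_
      rw [map_mul, Category.assoc, op_comp (f := g), Functor.map_comp]
      rfl

/-- Coherence is local on affine opens. -/
theorem isCohF_of_res (M : FSch.ModF 𝔛 h.1)
    (hM : ∀ U : (𝔛.X 0).Opens, IsAffineOpen U → FSch.IsCohF (sys h U) (hSys h U).1 ((res h U).obj M)) :
    FSch.IsCohF 𝔛 h.1 M := by
  refine isFinitePresentation_of_pres _ fun X => ?_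
  refine ⟨{ arrows := fun V g => Nonempty (Pres (𝔛.Osh h.1) M V),
            downward_closed := fun {V V' f} ⟨P⟩ g => ⟨presPull P g⟩ }, ?_, fun V g hg => hg⟩
  intro y hy
  obtain ⟨_, ⟨U, hU, rfl⟩, hyU, hle⟩ := (𝔛.X 0).isBasis_affineOpens.exists_subset_of_mem_open hy X.2
  obtain ⟨σ, hσ⟩ := (hM U hU).exists_quasicoherentData
  let y' : (sys h U).X 0 := (⟨y, (lvU_zero (hF := h.1) U).ge hyU⟩ : V0 h U)
  obtain ⟨W, g, hg, hyW⟩ := σ.coversTop ⊤ y' (Set.mem_univ y')
  obtain ⟨i, ⟨k⟩⟩ := (Sieve.mem_ofObjects_iff ..).1 hg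
  haveI : (σ.presentation i).IsFinite := hσ.isFinite_presentation i
  obtain ⟨P⟩ := nonempty_pres ((sys h U).Osh (hSys h U).1) ((res h U).obj M) (σ.presentation i)
  exact ⟨(imgF h U).obj W, homOfLE ((img_le h U W).trans hle), ⟨presImg h U M (presPull P k)⟩, y', hyW, rfl⟩

end Groth.Agent.H26.FMod.OpenRes
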