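import Groth.Agent.H26.FMod.RpushAffine
import Groth.Agent.H26.FMod.OpenCoh
import Groth.Agent.S0485

/-!
# Coherence of higher direct images of coherent modules on formal schemes
-/

noncomputable section

set_option autoImplicit false
set_option maxHeartbeats 1000000
set_option linter.style.haveILetI false
set_option backward.isDefEq.respectTransparency false
set_option backward.isDefEq.respectTransparency.types false

universe u

open CategoryTheory CategoryTheory.Limits TopologicalSpace Opposite AlgebraicGeometry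

namespace Groth.Agent.H26.FMod.RpushLim

open OpenTransfer

variable {𝔛 𝔜 : FSch.Sys.{u}} (h : 𝔛.IsLocNoethFormal) (h𝔜 : 𝔜.IsLocNoethFormal) (f : 𝔛 ⟶ 𝔜)

lemma hasInjectiveResolutions_sys (V : (𝔛.X 0).Opens) :
    HasInjectiveResolutions (FSch.ModF (sys h V) (hSys h V).1) := by
  haveI : EnoughInjectives (FSch.ModF (sys h V) (hSys h V).1) :=
    S0485.result _ (ModSite.ringSh ((sys h V).Osh (hSys h V).1))
  exact inferInstance

theorem isCohF_rpush [HasInjectiveResolutions (FSch.ModF 𝔛 h.1)] (hf : FSch.IsProperHom f)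
    (𝔉 : FSch.ModF 𝔛 h.1) (h𝔉 : FSch.IsCohF 𝔛 h.1 𝔉) (q : ℕ) :
    FSch.IsCohF 𝔜 h𝔜.1 ((FSch.RpushF f h.1 h𝔜.1 q).obj 𝔉) := by
  refine OpenRes.isCohF_of_res h𝔜 _ fun U hU => ?_
  haveI := hasInjectiveResolutions_sys h (preU f U)
  obtain ⟨e⟩ := OpenRes.nonempty_rpush_res h h𝔜 f U q
  have hcV : FSch.IsCohF (sys h (preU f U)) (hSys h (preU f U)).1 ((OpenRes.res h (preU f U)).obj 𝔉) :=
    ObjectProperty.prop_of_iso _ ((OpenRes.resPullIso h (preU f U)).app 𝔉).symm
      (isCohF_res h (preU f U) 𝔉 h𝔉)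
  haveI : IsAffine ((sys h𝔜 U).X 0) := (isAffineOpen_lvU h𝔜.1 0 hU : IsAffineOpen (𝔜.lvU h𝔜.1 0 U))
  exact ObjectProperty.prop_of_iso _ (e.app 𝔉).symm (isCohF_rpush_affine (hSys h (preU f U)) (hSys h𝔜 U)
    (OpenRes.fU h h𝔜 f U) (isProperHom_restrictOpen h h𝔜 f hf U) _ hcV q (isAffineOpen_top _))

end Groth.Agent.H26.FMod.RpushLim
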