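import Groth.Agent.H26.FMod.DimD
import Groth.Agent.H26.FMod.CohSerre
import Groth.Agent.H26.FMod.QCat
import Groth.Agent.H26.Edge.RpushMod
import Groth.Agent.QcqsColim.Rpush
import Groth.Agent.S13637
import Groth.Agent.S9065

/-!
# Unbounded direct images of complexes with (ind-)coherent cohomology
-/

noncomputable section

set_option autoImplicit false
set_option maxHeartbeats 1000000
set_option linter.style.haveILetI false
set_option backward.isDefEq.respectTransparency false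
set_option backward.isDefEq.respectTransparency.types false

universe u

open CategoryTheory CategoryTheory.Limits TopologicalSpace Opposite AlgebraicGeometry

attribute [local instance] HasDerivedCategory.standard

namespace Groth.Agent.H26.FMod

variable {𝔛 𝔜 : FSch.Sys.{u}} (h : 𝔛.IsLocNoethFormal) (f : 𝔛 ⟶ 𝔜)

include h in
/-- Ind-coherent modules on compact formal schemes form a weak Serre class. -/
theorem isWeakSerre_ind [CompactSpace (𝔛.X 0)] :
    WSerre.IsWeakSerre (IndCoh : ObjectProperty (FSch.ModF 𝔛 h.1)) :=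
  { exists_zero := ⟨kernel (𝟙 (FSch.unitF 𝔛 h.1)), isZero_kernel_of_mono _,
      ind_of_coh h (isCohF_zero (isZero_kernel_of_mono _))⟩
    kernels_le := fun Z => by
      rintro ⟨φ, c, hc, hX, hY⟩
      exact ind_of_iso h ((kernelIsKernel φ).conePointUniqueUpToIso hc) (ind_kernel h hX hY φ)
    cokernels_le := fun Z => by
      rintro ⟨φ, c, hc, hX, hY⟩
      exact ind_of_iso h ((cokernelIsCokernel φ).coconePointUniqueUpToIso hc) (ind_cokernel h hX hY φ)
    prop_X₂_of_shortExact := fun hS h₁ h₃ => ind_ext_compact h hS h₁ h₃ }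

include h in
/-- Higher direct images on compact formal schemes commute with filtered colimits. -/
theorem preservesColimit_rpushF [CompactSpace (𝔛.X 0)] (h𝔜 : 𝔜.IsFormal)
    [HasInjectiveResolutions (FSch.ModF 𝔛 h.1)]
    (q : ℕ) (Λ : Type u) [SmallCategory Λ] [IsFiltered Λ] :
    PreservesColimitsOfShape Λ (FSch.RpushF f h.1 h𝔜 q) := by
  haveI := noetherianSpace_sys h 0
  haveI : PreservesColimitsOfSize.{u, u} (Sh h.1) := ModTensor.preservesColimits_toSheaf (𝔛.Osh h.1)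
  haveI : PreservesColimitsOfSize.{u, u} (Sh h𝔜) := ModTensor.preservesColimits_toSheaf (𝔜.Osh h𝔜)
  haveI : PreservesColimitsOfShape Λ
      (CohSite.Rpush (Opens.grothendieckTopology (𝔛.X 0)) (Opens.grothendieckTopology (𝔜.X 0))
        (Opens.map ((f : FSch.Hom 𝔛 𝔜).app 0).base) q) :=
    ⟨fun {D} => QcqsColim.preservesColimit_Rpush_of_basis ((f : FSch.Hom 𝔛 𝔜).app 0).base D q
      (Opens.isBasis_iff_nbhd.2 fun {U x} hx => by
        have hgood : ∀ W : Opens (TopCat.of (𝔛.X 0)), QcqsColim.GoodOpen W := fun W =>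
          ⟨NoetherianSpace.isCompact _, fun _ _ _ _ _ _ _ _ => NoetherianSpace.isCompact _⟩
        refine ⟨U, ?_, hx, le_rfl⟩
        haveI := QcqsColim.preservesColimitsOfShape_cohomologyPresheaf (T := TopCat.of (𝔛.X 0))
          (Opens.isBasis_iff_nbhd.2 fun {V y} hy => ⟨V, hgood V, hy, le_rfl⟩)
          (hgood ((Opens.map ((f : FSch.Hom 𝔛 𝔜).app 0).base).obj U)) Λ q
        exact PreservesColimitsOfShape.preservesColimit)⟩
  obtain ⟨e⟩ := Edge.nonempty_rpush_toSheaf (FSch.homMor f h.1 h𝔜) q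
  haveI : PreservesColimitsOfShape Λ (Sh h.1) := inferInstance
  haveI : PreservesColimitsOfShape Λ (Sh h.1 ⋙ CohSite.Rpush (Opens.grothendieckTopology (𝔛.X 0))
      (Opens.grothendieckTopology (𝔜.X 0)) (FSch.homMor f h.1 h𝔜).fn q) :=
    comp_preservesColimitsOfShape (Sh h.1) (CohSite.Rpush (Opens.grothendieckTopology (𝔛.X 0))
      (Opens.grothendieckTopology (𝔜.X 0)) (Opens.map ((f : FSch.Hom 𝔛 𝔜).app 0).base) q)
  haveI : PreservesColimitsOfShape Λ (FSch.RpushF f h.1 h𝔜 q ⋙ Sh h𝔜) :=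
    preservesColimitsOfShape_of_natIso e.symm
  haveI : (Sh h𝔜).ReflectsIsomorphisms := inferInstance
  haveI : ReflectsColimitsOfShape Λ (Sh h𝔜) := reflectsColimitsOfShape_of_reflectsIsomorphisms
  exact preservesColimitsOfShape_of_reflects_of_preserves (FSch.RpushF f h.1 h𝔜 q) (Sh h𝔜)

include h in
/-- Proper higher direct images of ind-coherent modules are ind-coherent. -/
theorem ind_rpushF [CompactSpace (𝔛.X 0)] (h𝔜 : 𝔜.IsLocNoethFormal) (hf : FSch.IsProperHom f)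
    [HasInjectiveResolutions (FSch.ModF 𝔛 h.1)] (𝔐 : FSch.ModF 𝔛 h.1) (h𝔐 : IndCoh 𝔐) (q : ℕ) :
    IndCoh ((FSch.RpushF f h.1 h𝔜.1 q).obj 𝔐) := by
  obtain ⟨Λ, _, _, pres, hp⟩ := h𝔐
  haveI := preservesColimit_rpushF h f h𝔜.1 q Λ
  exact ind_colimit h𝔜 (isColimitOfPreserves (FSch.RpushF f h.1 h𝔜.1 q) pres.isColimit) fun i =>
    ind_of_coh h𝔜 (S13637.result 𝔛 𝔜 h h𝔜 f hf _ (hp i) q)

variable (h𝔜 : 𝔜.IsLocNoethFormal) [CompactSpace (𝔛.X 0)] [CompactSpace (𝔜.X 0)]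

include h h𝔜 in
/-- Direct images of unbounded complexes with cohomology in a class of ind-coherent modules. -/
theorem cohIn_rpushD (A : ObjectProperty (FSch.ModF 𝔛 h.1)) [WSerre.IsWeakSerre A]
    (hA : ∀ F, A F → IndCoh F) (A' : ObjectProperty (FSch.ModF 𝔜 h𝔜.1)) [WSerre.IsWeakSerre A']
    (hA' : ∀ F, A' F → IndCoh F) [HasInjectiveResolutions (FSch.ModF 𝔛 h.1)]
    [SiteCmp.HasRpushD (FSch.homMor f h.1 h𝔜.1)]
    (h3 : ∀ F, A F → ∀ p : ℕ, A' ((FSch.RpushF f h.1 h𝔜.1 p).obj F))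
    (G : DerivedCategory (FSch.ModF 𝔛 h.1)) (hG : WSerre.cohIn A G) :
    WSerre.cohIn A' ((SiteCmp.RpushD (FSch.homMor f h.1 h𝔜.1)).obj G) := by
  obtain ⟨N, hN⟩ := Dim.exists_rpush_bound h h𝔜.1 f
  have key : ∀ {𝔚 : FSch.Sys.{u}} (hW : 𝔚.IsLocNoethFormal) (P : ObjectProperty (FSch.ModF 𝔚 hW.1))
      (hP : ∀ F, P F → IndCoh F), ∀ V ∈ {V : (𝔚.X 0).Opens | IsAffineOpen V},
      ∃ d : ℕ, ∀ T ∈ Opens.grothendieckTopology (𝔚.X 0) V, ∃ (ι : Type u) (Y : ι → (𝔚.X 0).Opens) (g : ∀ i, Y i ⟶ V),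
        (∀ i, T.arrows (g i)) ∧ Sieve.ofArrows Y g ∈ Opens.grothendieckTopology (𝔚.X 0) V ∧
        ∀ (i : ι) (F : FSch.ModF 𝔚 hW.1), P F → ∀ k : ℕ, d < k →
          Subsingleton (ModSite.HU (𝔚.Osh hW.1) F k (Y i)) := fun {𝔚} hW P hP V hV => by
    have hV' : IsAffineOpen V := hV
    refine ⟨0, fun T hT => ?_⟩
    obtain ⟨ι, a, h₁, h₂⟩ := Dim.exists_cover_basic hV' T hT
    refine ⟨ι, _, _, h₁, h₂, fun i F hF k hk => ?_⟩
    obtain ⟨m, rfl⟩ := Nat.exists_eq_succ_of_ne_zero hk.ne'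
    exact subsingleton_HU_ind hW F (hP F hF) (hV'.basicOpen (a i)) m
  exact (S9065.result (FSch.homMor f h.1 h𝔜.1) A A' _ _ (Dim.isCoveredBy_affine _) (key h A hA)
    (Dim.isCoveredBy_affine _) (key h𝔜 A' hA') (N : ℤ) h3
    (fun F hF p hp => hN F (hA F hF) p (by omega)) G hG).1

end Groth.Agent.H26.FMod
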