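import Groth.Agent.H26.FMod.CoprodGen
import Groth.Agent.H26.FMod.DimPush

/-!
# Direct images of formal schemes and coproducts
-/

noncomputable section

set_option autoImplicit false
set_option maxHeartbeats 1000000
set_option linter.style.haveILetI false
set_option backward.isDefEq.respectTransparency false
set_option backward.isDefEq.respectTransparency.types false

universe u

open CategoryTheory CategoryTheory.Limits TopologicalSpace Opposite AlgebraicGeometry

attribute [local instance] HasDerivedCategory.standard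

namespace Groth.Agent.H26.FMod

variable {𝔛 𝔜 : FSch.Sys.{u}} (h : 𝔛.IsLocNoethFormal) (h𝔜 : 𝔜.IsFormal) (f : 𝔛 ⟶ 𝔜)

include h in
/-- Higher direct images commute with coproducts. -/
theorem preservesCoproducts_rpushF [CompactSpace (𝔛.X 0)] [HasInjectiveResolutions (FSch.ModF 𝔛 h.1)]
    (q : ℕ) (ι : Type u) : PreservesColimitsOfShape (Discrete ι) (FSch.RpushF f h.1 h𝔜 q) := by
  haveI : PreservesFilteredColimitsOfSize.{u, u} (FSch.RpushF f h.1 h𝔜 q) :=
    ⟨fun Λ _ _ => preservesColimit_rpushF h f h𝔜 q Λ⟩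
  haveI := (FSch.RpushF f h.1 h𝔜 q).preservesFiniteCoproductsOfAdditive
  exact IndExt.preservesCoproducts_of_finite_of_filtered (FSch.RpushF f h.1 h𝔜 q) ι

include h h𝔜 in
/-- Direct images commute with coproducts of complexes with ind-coherent cohomology. -/
theorem preservesColimit_rpushD_ind [CompactSpace (𝔛.X 0)] [CompactSpace (𝔜.X 0)]
    [SiteCmp.HasRpushD (FSch.homMor f h.1 h𝔜)]
    {ι : Type u} (E : ι → DerivedCategory (FSch.ModF 𝔛 h.1)) (hE : ∀ a, WSerre.cohIn IndCoh (E a)) :
    PreservesColimit (Discrete.functor E) (SiteCmp.RpushD (FSch.homMor f h.1 h𝔜)) := by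
  haveI : HasInjectiveResolutions (FSch.ModF 𝔛 h.1) := inferInstance
  obtain ⟨N, hN⟩ := Dim.exists_rpush_bound h h𝔜 f
  haveI : (IndCoh (hF := h.1)).IsClosedUnderIsomorphisms := Dim.isClosedUnderIsomorphisms_ind h
  exact CoprodGen.preservesColimit_rpushD (FSch.homMor f h.1 h𝔜) IndCoh
    (fun Z hZ => ind_of_coh h (isCohF_zero hZ)) (fun F hF => ind_sigma h F hF) (Dim.isCoveredBy_affine _)
    (Dim.locBound_ind h) (Dim.isCoveredBy_affine _) (fun V hV => Dim.locBound_preimage h h𝔜 f V hV) (N : ℤ)
    (fun F hF p hp => hN F hF p (by omega)) (fun p => preservesCoproducts_rpushF h h𝔜 f p ι) E hE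

end Groth.Agent.H26.FMod
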