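import Groth.Agent.H26.FMod.QCat
import Groth.Agent.SiteBase.FreeOnPres
import Mathlib.CategoryTheory.Adjunction.AdjointFunctorTheorems

/-!
# The coherator of a locally Noetherian formal scheme
-/

noncomputable section

set_option autoImplicit false
set_option maxHeartbeats 1000000
set_option linter.style.haveILetI false
set_option backward.isDefEq.respectTransparency false
set_option backward.isDefEq.respectTransparency.types false

universe u

open CategoryTheory CategoryTheory.Limits TopologicalSpace Opposite AlgebraicGeometry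
open Groth.Agent.ModTensor Groth.Agent.ModPull Groth.Agent.LocalFactor Groth.Agent.SecGen

namespace Groth.Agent.H26.FMod

/-- Separatedness of the candidate coreflection. -/
lemma coherator_unique {A : Type*} [Category A] [Abelian A] (P : A → Prop)
    (hker : ∀ {X Y : A} (φ : X ⟶ Y), P X → P Y → P (kernel φ))
    (hcok : ∀ {X Y : A} (φ : X ⟶ Y), P X → P Y → P (cokernel φ))
    {G T M : A} (g : G ⟶ M) (hG : P G) (π : G ⟶ T) [Epi π] (hT : P T) (t : T ⟶ M) (hπ : π ≫ t = g)
    (hK : ∀ (Z : A) (i : Z ⟶ G), Mono i → P Z → i ≫ g = 0 → i ≫ π = 0)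
    {X : A} (hX : P X) (a : X ⟶ T) (ha : a ≫ t = 0) : a = 0 := by
  let cp := cokernel.π a
  have e1 : g = (π ≫ cp) ≫ cokernel.desc a t ha := by
    rw [Category.assoc, cokernel.π_desc, hπ]
  have hkπ : kernel.ι (π ≫ cp) ≫ π = 0 := hK _ _ inferInstance (hker _ hG (hcok _ hX hT)) (by
    rw [e1, ← Category.assoc, kernel.condition, zero_comp])
  haveI : Mono cp := Abelian.mono_of_kernel_ι_eq_zero _ (by
    rw [← cancel_epi (pullback.fst (kernel.ι cp) π), comp_zero, pullback.condition]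
    have h3 : pullback.snd (kernel.ι cp) π ≫ π ≫ cp = 0 := by
      rw [← Category.assoc, ← pullback.condition, Category.assoc, kernel.condition, comp_zero]
    rw [← kernel.lift_ι (π ≫ cp) _ h3, Category.assoc, hkπ, comp_zero])
  rw [← cancel_mono cp, zero_comp]
  exact cokernel.condition a

/-- The sum of the subobjects with a given property killed by a map absorbs any such subobject. -/
lemma exists_kill {A : Type*} [Category A] [Abelian A] [WellPowered.{u} A] [LocallySmall.{u} A]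
    [HasCoproducts.{u} A] (P : A → Prop) (hiso : ∀ {X Y : A}, (X ≅ Y) → P X → P Y)
    (hsum : ∀ {α : Type u} (F : α → A), (∀ i, P (F i)) → P (∐ F)) {G M : A} (g : G ⟶ M) :
    ∃ (N : A) (k : N ⟶ G), P N ∧ k ≫ g = 0 ∧
      ∀ (Z : A) (i : Z ⟶ G), Mono i → P Z → i ≫ g = 0 → i ≫ cokernel.π k = 0 := by
  let e := equivShrink.{u} (Subobject G)
  let K := {p : Shrink.{u} (Subobject G) // P ((e.symm p : Subobject G) : A) ∧ (e.symm p).arrow ≫ g = 0}
  refine ⟨_, Sigma.desc fun p : K => (e.symm p.1).arrow, hsum _ fun p : K => p.2.1,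
    Sigma.hom_ext _ _ fun p => ?_, fun Z i hi hZ hig => ?_⟩
  · rw [← Category.assoc, Sigma.ι_desc, comp_zero]
    exact p.2.2
  · haveI := hi
    have hp : P ((e.symm (e (Subobject.mk i)) : Subobject G) : A) ∧ (e.symm (e (Subobject.mk i))).arrow ≫ g = 0 := by
      rw [e.symm_apply_apply]
      refine ⟨hiso (Subobject.underlyingIso i).symm hZ, ?_⟩
      rw [← cancel_epi (Subobject.underlyingIso i).inv, ← Category.assoc, Subobject.underlyingIso_arrow, hig, comp_zero]
    have h1 : (e.symm (e (Subobject.mk i))).arrow ≫ cokernel.π (Sigma.desc fun p : K => (e.symm p.1).arrow) = 0 := by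
      have h2 := congrArg (Sigma.ι (fun p : K => ((e.symm p.1 : Subobject G) : A)) ⟨_, hp⟩ ≫ ·)
        (cokernel.condition (Sigma.desc fun p : K => (e.symm p.1).arrow))
      rwa [← Category.assoc, Sigma.ι_desc, comp_zero] at h2
    rw [e.symm_apply_apply] at h1
    rw [← Subobject.underlyingIso_arrow i, Category.assoc, h1, comp_zero]

variable {𝔛 : FSch.Sys.{u}} (h : 𝔛.IsLocNoethFormal)

include h in
/-- Coherent modules form a small set up to isomorphism. -/
theorem exists_small_coh : ∃ (S : Type u) (C : S → FSch.ModF 𝔛 h.1), (∀ s, FSch.IsCohF 𝔛 h.1 (C s)) ∧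
    ∀ 𝔉 : FSch.ModF 𝔛 h.1, FSch.IsCohF 𝔛 h.1 𝔉 → ∃ s, Nonempty (C s ≅ 𝔉) := by
  classical
  haveI := SiteBase.isGrothendieckAbelian_sheafOfModules (ModSite.ringSh (𝔛.Osh h.1))
  let G : FSch.ModF 𝔛 h.1 := ∐ fun q : (𝔛.X 0).Opens × ULift.{u} ℕ => ModSite.freeOn (𝔛.Osh h.1) q.1
  let e := equivShrink.{u} (Subobject G)
  refine ⟨{p : Shrink.{u} (Subobject G) // FSch.IsCohF 𝔛 h.1 (cokernel (e.symm p).arrow)},
    fun p => cokernel (e.symm p.1).arrow, fun p => p.2, fun 𝔉 h𝔉 => ?_⟩
  choose n x hx _ using fun U : {U : (𝔛.X 0).Opens // IsAffineOpen U} => exists_gens_coh h h𝔉 U.2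
  let π : G ⟶ 𝔉 := Sigma.desc fun q : (𝔛.X 0).Opens × ULift.{u} ℕ =>
    if hq : IsAffineOpen q.1 then
      if hk : q.2.down < n ⟨q.1, hq⟩ then FreeOnPres.toHom (x ⟨q.1, hq⟩ ⟨q.2.down, hk⟩) else 0
    else 0
  haveI : Epi π := ⟨fun {Z} p q hpq => hom_ext_locally p q fun W t => by
    refine ⟨{ arrows := fun V g => ∃ c : ∀ U : {U : (𝔛.X 0).Opens // IsAffineOpen U}, True, ∃ (U : (𝔛.X 0).Opens)
                (hU : IsAffineOpen U) (hle : V ≤ U) (d : Fin (n ⟨U, hU⟩) → Rg h.1 V),
                  resM 𝔉 (leOfHom g) t = ∑ i, d i • resM 𝔉 hle (x ⟨U, hU⟩ i)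
              downward_closed := fun {V V' g} ⟨c, U, hU, hle, d, hd⟩ k => ⟨c, U, hU, (leOfHom k).trans hle,
                fun i => res (leOfHom k) (d i), by
                  refine (SecGen.rs_op_comp k g t).trans ((congrArg (resM 𝔉 (leOfHom k)) hd).trans
                    ((resM_sum 𝔉 (leOfHom k) d _).trans (Finset.sum_congr rfl fun i _ => ?_)))
                  exact congrArg (_ • ·) (SecGen.rs_op_comp k (homOfLE hle) _).symm⟩ }, fun y hy => ?_, ?_⟩
    · obtain ⟨_, ⟨U, hU, rfl⟩, hyU, hle⟩ := (𝔛.X 0).isBasis_affineOpens.exists_subset_of_mem_open hy W.2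
      obtain ⟨S, hS, hSp⟩ := hx ⟨U, hU⟩ (𝟙 U) (resM 𝔉 hle t)
      obtain ⟨V, g, hg, hyV⟩ := hS y hyU
      obtain ⟨d, hd⟩ := hSp g hg
      refine ⟨V, homOfLE ((leOfHom g).trans hle), ⟨fun _ => trivial, U, hU, leOfHom g, d, ?_⟩, hyV⟩
      exact (SecGen.rs_op_comp g (homOfLE hle) t).trans hd
    · rintro V g ⟨-, U, hU, hle, d, hd⟩
      rw [hd, map_sum, map_sum]
      refine Finset.sum_congr rfl fun i _ => ?_
      rw [map_smul, map_smul, mapS_res, mapS_res]
      refine congrArg (fun z => d i • resM Z hle z) ?_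
      have h1 := congrArg (Sigma.ι (fun q : (𝔛.X 0).Opens × ULift.{u} ℕ => ModSite.freeOn (𝔛.Osh h.1) q.1)
        (U, ⟨(i : ℕ)⟩) ≫ ·) hpq
      simp only [π, Sigma.ι_desc_assoc, dif_pos hU, dif_pos i.2] at h1
      have h2 := congrArg FreeOnPres.sec h1
      rw [FreeOnPres.sec_comp, FreeOnPres.sec_comp, FreeOnPres.sec_toHom] at h2
      exact h2⟩
  let P : Subobject G := Subobject.mk (kernel.ι π)
  have i1 : cokernel P.arrow ≅ 𝔉 :=
    cokernel.mapIso P.arrow (kernel.ι π) (Subobject.underlyingIso _) (Iso.refl _)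
      (by simp [P]) ≪≫
    (cokernelIsCokernel (kernel.ι π)).coconePointUniqueUpToIso
      (Abelian.epiIsCokernelOfKernel _ (limit.isLimit _))
  refine ⟨⟨e P, ?_⟩, ⟨?_⟩⟩
  · rw [e.symm_apply_apply]
    exact ObjectProperty.prop_of_iso (SheafOfModules.isFinitePresentation (ModSite.ringSh (𝔛.Osh h.1))) i1.symm h𝔉
  · exact (eqToIso (congrArg (fun p : Subobject G => cokernel p.arrow) (e.symm_apply_apply P))) ≪≫ i1

include h in
/-- The inclusion of the ind-coherent modules has a right adjoint. -/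
theorem isLeftAdjoint_indι : (IndCoh (𝔛 := 𝔛) (hF := h.1)).ι.IsLeftAdjoint := by
  classical
  haveI := SiteBase.isGrothendieckAbelian_sheafOfModules (ModSite.ringSh (𝔛.Osh h.1))
  obtain ⟨S, C, hC, hS⟩ := exists_small_coh h
  suffices ∀ M : FSch.ModF 𝔛 h.1, HasTerminal (CostructuredArrow (IndCoh (𝔛 := 𝔛) (hF := h.1)).ι M) from
    isLeftAdjoint_of_costructuredArrowTerminals _
  intro M
  let G : FSch.ModF 𝔛 h.1 := ∐ fun q : (Σ s : S, (C s ⟶ M)) => C q.1
  let g : G ⟶ M := Sigma.desc fun q => q.2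
  have hG : IndCoh G := ind_sigma_coh h _ fun q => hC q.1
  obtain ⟨N, k, hN, hkg, hK⟩ := exists_kill (fun X : FSch.ModF 𝔛 h.1 => IndCoh X) (fun i hX => ind_of_iso h i hX)
    (fun F hF => ind_sigma h F hF) g
  let T := cokernel k
  have hT : IndCoh T := ind_cokernel h hN hG k
  let t : T ⟶ M := cokernel.desc k g hkg
  have huniq : ∀ {X : FSch.ModF 𝔛 h.1}, IndCoh X → ∀ a : X ⟶ T, a ≫ t = 0 → a = 0 := fun hX a ha =>
    coherator_unique (fun X : FSch.ModF 𝔛 h.1 => IndCoh X) (fun φ hX hY => ind_kernel h hX hY φ)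
      (fun φ hX hY => ind_cokernel h hX hY φ) g hG (cokernel.π k) hT t (cokernel.π_desc _ _ _) hK hX a ha
  let T' : (IndCoh (𝔛 := 𝔛) (hF := h.1)).FullSubcategory := ⟨T, hT⟩
  let top : CostructuredArrow (IndCoh (𝔛 := 𝔛) (hF := h.1)).ι M := CostructuredArrow.mk (Y := T') t
  haveI : ∀ A, Nonempty (A ⟶ top) := fun A => by
    obtain ⟨J, _, _, pres, hp⟩ := A.left.2
    choose s φ using fun j => hS (pres.diag.obj j) (hp j)
    let c : ∀ j, pres.diag.obj j ⟶ T := fun j => (φ j).some.inv ≫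
      Sigma.ι (fun q : (Σ s : S, (C s ⟶ M)) => C q.1) ⟨s j, (φ j).some.hom ≫ pres.ι.app j ≫ A.hom⟩ ≫ cokernel.π k
    have hc : ∀ j, c j ≫ t = pres.ι.app j ≫ A.hom := fun j => by
      simp only [c, t, Category.assoc, cokernel.π_desc, g, Sigma.ι_desc, Iso.inv_hom_id_assoc]
    let cc : Cocone pres.diag := Cocone.mk T
      { app := c
        naturality := fun i j f => by
          refine Eq.trans ?_ (Category.comp_id _).symm
          refine sub_eq_zero.1 (huniq (ind_of_coh h (hp i)) _ ?_)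
          rw [Preadditive.sub_comp, Category.assoc, hc, hc, ← Category.assoc, sub_eq_zero]
          exact congrArg (· ≫ A.hom) ((pres.ι.naturality f).trans (Category.comp_id _)) }
    refine ⟨CostructuredArrow.homMk (ObjectProperty.homMk (pres.isColimit.desc cc)) ?_⟩
    refine pres.isColimit.hom_ext fun j => ?_
    show pres.ι.app j ≫ pres.isColimit.desc cc ≫ t = pres.ι.app j ≫ A.hom
    exact (Category.assoc _ _ _).symm.trans ((congrArg (· ≫ t) (pres.isColimit.fac cc j)).trans (hc j))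
  haveI : ∀ A, Subsingleton (A ⟶ top) := fun A => ⟨fun a b => by
    refine CostructuredArrow.hom_ext _ _ (ObjectProperty.hom_ext _ (sub_eq_zero.1 (huniq A.left.2 _ ?_)))
    rw [Preadditive.sub_comp, sub_eq_zero]
    show a.left.hom ≫ t = b.left.hom ≫ t
    have h1 : a.left.hom ≫ t = A.hom := CostructuredArrow.w a
    have h2 : b.left.hom ≫ t = A.hom := CostructuredArrow.w b
    exact h1.trans h2.symm⟩
  haveI : ∀ A, Unique (A ⟶ top) := fun A => uniqueOfSubsingleton (Classical.arbitrary _)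
  exact hasTerminal_of_unique top

end Groth.Agent.H26.FMod
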