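import Groth.Agent.H26.FMod.TorsInd
import Groth.Agent.H26.FMod.Coherator

/-!
# Closure properties of quasi-coherent torsion modules
-/

noncomputable section

set_option autoImplicit false
set_option maxHeartbeats 1000000
set_option linter.style.haveILetI false
set_option backward.isDefEq.respectTransparency false
set_option backward.isDefEq.respectTransparency.types false

universe u

open CategoryTheory CategoryTheory.Limits TopologicalSpace Opposite AlgebraicGeometry
open Groth.Agent.ModTensor Groth.Agent.ModPull Groth.Agent.LocalFactor Groth.Agent.SecGen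
open Groth.Agent.H26.QPres

namespace Groth.Agent.H26.FMod

open OpenTransfer

variable {𝔛 : FSch.Sys.{u}} (h : 𝔛.IsLocNoethFormal) {M : FSch.ModF 𝔛 h.1}

include h in
/-- Colimits of torsion modules are torsion. -/
theorem isTorsF_colimit {K : Type u} [SmallCategory K] {F : K ⥤ FSch.ModF 𝔛 h.1} {c : Cocone F}
    (hc : IsColimit c) (hF : ∀ j, FTors.IsTorsF 𝔛 h.1 (F.obj j)) : FTors.IsTorsF 𝔛 h.1 c.pt := by
  haveI : Epi ((FTors.gammaTι 𝔛 h.1).app c.pt) := ⟨fun {Z} p q hpq => hc.hom_ext fun j => by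
    haveI := isIso_gammaι h (hF j)
    have e : c.ι.app j = inv ((FTors.gammaTι 𝔛 h.1).app (F.obj j)) ≫
        (FTors.gammaT 𝔛 h.1).map (c.ι.app j) ≫ (FTors.gammaTι 𝔛 h.1).app c.pt := by
      rw [IsIso.eq_inv_comp]
      exact ((FTors.gammaTι 𝔛 h.1).naturality (c.ι.app j)).symm
    rw [e]
    simp only [Category.assoc]
    exact congrArg (_ ≫ ·) (congrArg (_ ≫ ·) hpq)⟩
  exact isTorsF_of_epi h ((FTors.gammaTι 𝔛 h.1).app c.pt) (isTorsF_gamma h)

include h in
/-- Extensions of torsion modules are torsion. -/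
theorem isTorsF_ext {S : ShortComplex (FSch.ModF 𝔛 h.1)} (hS : S.ShortExact)
    (h₁ : FTors.IsTorsF 𝔛 h.1 S.X₁) (h₃ : FTors.IsTorsF 𝔛 h.1 S.X₃) : FTors.IsTorsF 𝔛 h.1 S.X₂ := by
  classical
  intro U s
  refine FTors.IsTorsSect.of_cover
    (S := ({ arrows := fun V g => ∃ W : (𝔛.X 0).Opens, IsAffineOpen W ∧ W ≤ U ∧ V ≤ W,
             downward_closed := fun {V V' g} ⟨W, h1, h2, h3⟩ l => ⟨W, h1, h2, (leOfHom l).trans h3⟩ } : Sieve U))
    ?_ ?_
  · intro x hx
    obtain ⟨_, ⟨W, hW, rfl⟩, hxW, hle⟩ := (𝔛.X 0).isBasis_affineOpens.exists_subset_of_mem_open hx U.2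
    exact ⟨W, homOfLE hle, ⟨W, hW, hle, le_rfl⟩, hxW⟩
  rintro V g ⟨W, hW, hWU, hVW⟩
  rw [Subsingleton.elim g (homOfLE hVW ≫ homOfLE hWU), FTors.res_comp]
  refine FTors.IsTorsSect.res _ ?_
  let t : Sec S.X₂ W := resM S.X₂ hWU s
  haveI := noetherian h hW
  obtain ⟨n, hn⟩ := exists_killedBy_of_tors h hW (mapS S.g W t) (h₃ W _)
  obtain ⟨q, z, hz⟩ := Submodule.fg_iff_exists_fin_generating_family.1
    (IsNoetherian.noetherian (Jd h.1 W ^ (n + 1)))
  choose a ha using fun l => exists_app_eq_of_exact hS (U := W) (z l • t)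
    ((map_smul (mapS S.g W) _ _).trans ((killedBy_iff h hW _).1 hn _ (hz ▸ Submodule.subset_span ⟨l, rfl⟩)))
  choose m hm using fun l => exists_killedBy_of_tors h hW (a l) (h₁ W _)
  refine FTors.IsTorsSect.of_killedBy (n := Finset.univ.sup m + n + 1) ((killedBy_iff h hW t).2 fun r hr => ?_)
  rw [show Finset.univ.sup m + n + 1 + 1 = (Finset.univ.sup m + 1) + (n + 1) by omega, pow_add] at hr
  refine (show r ∈ LinearMap.ker (LinearMap.toSpanSingleton (Rg h.1 W) (Sec S.X₂ W) t) from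
    Ideal.mul_le.2 (fun x hx y hy => ?_) hr)
  rw [← hz, Submodule.mem_span_range_iff_exists_fun] at hy
  obtain ⟨c, rfl⟩ := hy
  rw [Finset.mul_sum]
  refine Submodule.sum_mem _ fun l _ => ?_
  show (x * (c l * z l)) • t = 0
  rw [← mul_assoc, mul_comm x, mul_smul, mul_smul]
  have h1 := (killedBy_iff h hW (a l)).1 ((hm l).mono (Finset.le_sup (Finset.mem_univ l))) x hx
  have h2 : x • z l • t = 0 := by
    refine (congrArg (x • ·) (ha l).symm).trans ?_
    refine (map_smul (mapS S.f W) x (a l)).symm.trans ?_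
    rw [h1]
    exact map_zero (mapS S.f W)
  rw [h2, smul_zero]

include h in
/-- The torsion submodule of a module with the coreflection property. -/
theorem isLeftAdjoint_qctι : (FTors.IsQCT 𝔛 h.1).ι.IsLeftAdjoint := by
  haveI := isLeftAdjoint_indι h
  let adj := Adjunction.ofIsLeftAdjoint (IndCoh (𝔛 := 𝔛) (hF := h.1)).ι
  suffices ∀ M : FSch.ModF 𝔛 h.1, HasTerminal (CostructuredArrow (FTors.IsQCT 𝔛 h.1).ι M) from
    isLeftAdjoint_of_costructuredArrowTerminals _
  intro M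
  let T := (Functor.rightAdjoint (IndCoh (𝔛 := 𝔛) (hF := h.1)).ι).obj M
  let γ := (FTors.gammaTι 𝔛 h.1).app T.obj
  have hT : FTors.IsQCT 𝔛 h.1 ((FTors.gammaT 𝔛 h.1).obj T.obj) := by
    haveI : SheafOfModules.IsQuasicoherent.{u} (R := ModSite.ringSh (𝔛.Osh h.1)) T.obj :=
      isQC_of_ind h T.property
    exact isQCT_gamma h
  let T' : (FTors.IsQCT 𝔛 h.1).FullSubcategory := ⟨_, hT⟩
  let top : CostructuredArrow (FTors.IsQCT 𝔛 h.1).ι M := CostructuredArrow.mk (Y := T') (γ ≫ adj.counit.app M)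
  haveI : ∀ A, Nonempty (A ⟶ top) := fun A => by
    let A' : (IndCoh (𝔛 := 𝔛) (hF := h.1)).FullSubcategory := ⟨A.left.obj, ind_of_qct h A.left.property⟩
    let a : A' ⟶ T := adj.homEquiv A' M A.hom
    haveI := isIso_gammaι h A.left.property.1
    refine ⟨CostructuredArrow.homMk (ObjectProperty.homMk
      (inv ((FTors.gammaTι 𝔛 h.1).app A.left.obj) ≫ (FTors.gammaT 𝔛 h.1).map a.hom)) ?_⟩
    show (inv _ ≫ (FTors.gammaT 𝔛 h.1).map a.hom) ≫ γ ≫ adj.counit.app M = A.hom
    rw [Category.assoc, IsIso.inv_comp_eq, ← Category.assoc]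
    refine (congrArg (· ≫ adj.counit.app M) ((FTors.gammaTι 𝔛 h.1).naturality a.hom)).trans ?_
    rw [Category.assoc]
    exact congrArg (_ ≫ ·) (((adj.homEquiv_counit ..).symm).trans ((adj.homEquiv A' M).symm_apply_apply A.hom))
  haveI : ∀ A, Subsingleton (A ⟶ top) := fun A => ⟨fun p q => by
    refine CostructuredArrow.hom_ext _ _ (InducedCategory.hom_ext ?_)
    refine (cancel_mono γ).1 ?_
    let A' : (IndCoh (𝔛 := 𝔛) (hF := h.1)).FullSubcategory := ⟨A.left.obj, ind_of_qct h A.left.property⟩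
    refine congrArg InducedCategory.Hom.hom ((adj.homEquiv A' M).symm.injective (a₁ := (ObjectProperty.homMk
      (p.left.hom ≫ γ) : A' ⟶ T)) (a₂ := ObjectProperty.homMk (q.left.hom ≫ γ)) ?_)
    rw [adj.homEquiv_counit, adj.homEquiv_counit]
    show (p.left.hom ≫ γ) ≫ adj.counit.app M = (q.left.hom ≫ γ) ≫ adj.counit.app M
    rw [Category.assoc, Category.assoc]
    exact (CostructuredArrow.w p).trans (CostructuredArrow.w q).symm⟩
  exact IsTerminal.hasTerminal (IsTerminal.ofUnique top (h := fun A => ⟨⟨Classical.arbitrary _⟩, fun _ => Subsingleton.elim _ _⟩))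

end Groth.Agent.H26.FMod
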