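import Groth.Agent.H26.FMod.TorsPush
import Groth.Agent.SiteBase.HomColimTop

/-!
# The coreflection onto quasi-coherent torsion modules and filtered colimits
-/

noncomputable section

set_option autoImplicit false
set_option maxHeartbeats 1000000
set_option linter.style.haveILetI false
set_option backward.isDefEq.respectTransparency false
set_option backward.isDefEq.respectTransparency.types false

universe u

open CategoryTheory CategoryTheory.Limits TopologicalSpace Opposite AlgebraicGeometry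
open Groth.Agent.ModTensor Groth.Agent.ModPull Groth.Agent.LocalFactor Groth.Agent.SecGen
open Groth.Agent.H26.QPres

namespace Groth.Agent.H26.FMod

open OpenTransfer

variable {𝔛 : FSch.Sys.{u}} (h : 𝔛.IsLocNoethFormal) {M : FSch.ModF 𝔛 h.1}

include h in
/-- Maps out of coherent modules on compact formal schemes commute with filtered colimits. -/
theorem preservesColimit_coyoneda_coh [CompactSpace (𝔛.X 0)] {C : FSch.ModF 𝔛 h.1} (hC : FSch.IsCohF 𝔛 h.1 C)
    {J : Type u} [SmallCategory J] [IsFiltered J] (D : J ⥤ FSch.ModF 𝔛 h.1) :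
    PreservesColimit D (coyoneda.obj (op C)) := by
  haveI := hC
  haveI := noetherianSpace_sys h 0
  refine HomColim.preservesColimit_coyoneda (F := C)
    {K : Sheaf (Opens.grothendieckTopology (𝔛.X 0)) (Type u) | CohCx.IsQcObject (K ⨯ K)}
    (HomColimTop.exists_generators fun ι V hV => ?_) fun K hK => hK
  classical
  obtain ⟨t, ht⟩ := isCompact_univ.elim_finite_subcover (fun i => (V i : Set (𝔛.X 0))) (fun i => (V i).2)
    fun x _ => by
      obtain ⟨i, hi⟩ := Opens.mem_iSup.1 (hV.symm ▸ trivial : x ∈ iSup V)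
      exact Set.mem_iUnion.2 ⟨i, hi⟩
  refine ⟨{i // i ∈ t}, inferInstance, fun j => V j.1, top_unique fun x _ => ?_, fun j => ⟨j.1, le_rfl⟩,
    fun j j' => NoetherianSpace.isCompact _⟩
  obtain ⟨i, hi, hx⟩ := Set.mem_iUnion₂.1 (ht (Set.mem_univ x))
  exact Opens.mem_iSup.2 ⟨⟨i, hi⟩, hx⟩

include h in
/-- Sections of quasi-coherent torsion modules lie in coherent torsion submodules. -/
theorem exists_coh_tors_mem (hM : FTors.IsQCT 𝔛 h.1 M) {U : (𝔛.X 0).Opens} (hU : IsAffineOpen U) (x : Sec M U) :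
    ∃ (C : FSch.ModF 𝔛 h.1) (v : C ⟶ M) (y : Sec C U),
      FSch.IsCohF 𝔛 h.1 C ∧ FTors.IsTorsF 𝔛 h.1 C ∧ mapS v U y = x := by
  haveI := hM.2
  obtain ⟨n, hn⟩ := exists_killedBy_of_tors h hU x (hM.1 U x)
  obtain ⟨C, v, y, hC, hy⟩ := exists_coh_killed h hU x hn
  refine ⟨Abelian.image v, Abelian.image.ι v, mapS (Abelian.factorThruImage v) U y, isCohF_image_qc h hC v,
    isTorsF_of_mono h (Abelian.image.ι v) hM.1, ?_⟩
  rw [← mapS_comp, Abelian.image.fac, hy]

include h in
/-- The coreflection onto quasi-coherent torsion modules commutes with filtered colimits on compact formal schemes. -/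
theorem preservesColimit_qct [CompactSpace (𝔛.X 0)]
    (Q : FSch.ModF 𝔛 h.1 ⥤ (FTors.IsQCT 𝔛 h.1).FullSubcategory) (adj : (FTors.IsQCT 𝔛 h.1).ι ⊣ Q)
    {J : Type u} [SmallCategory J] [IsFiltered J] (K : J ⥤ FSch.ModF 𝔛 h.1) : PreservesColimit K Q := by
  haveI := SiteBase.isGrothendieckAbelian_sheafOfModules (ModSite.ringSh (𝔛.Osh h.1))
  refine ⟨fun {c} hc => ⟨isColimitOfReflects (FTors.IsQCT 𝔛 h.1).ι ?_⟩⟩
  let E : J ⥤ FSch.ModF 𝔛 h.1 := (K ⋙ Q) ⋙ (FTors.IsQCT 𝔛 h.1).ι
  let c' : Cocone E := (FTors.IsQCT 𝔛 h.1).ι.mapCocone (Q.mapCocone c)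
  let φ : colimit E ⟶ c'.pt := colimit.desc E c'
  have hφ : ∀ j, colimit.ι E j ≫ φ = (Q.map (c.ι.app j)).hom := fun j => colimit.ι_desc c' j
  have hE : FTors.IsQCT 𝔛 h.1 (colimit E) := ⟨isTorsF_colimit h (colimit.isColimit E) fun j => (Q.obj (K.obj j)).2.1,
    isQC_of_ind h (ind_colimit h (colimit.isColimit E) fun j => ind_of_qct h (Q.obj (K.obj j)).2)⟩
  have hz : ∀ {C : FSch.ModF 𝔛 h.1}, FSch.IsCohF 𝔛 h.1 C → FTors.IsTorsF 𝔛 h.1 C →
      ∀ a : C ⟶ colimit E, a ≫ φ = 0 → a = 0 := fun {C} hC hCt a ha => by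
    haveI := preservesColimit_coyoneda_coh h hC E
    haveI := preservesColimit_coyoneda_coh h hC K
    let C' : (FTors.IsQCT 𝔛 h.1).FullSubcategory := ⟨C, hCt, isQC_of_ind h (ind_of_coh h hC)⟩
    obtain ⟨j, b, hb⟩ := Types.jointly_surjective _
      (isColimitOfPreserves (coyoneda.obj (op C)) (colimit.isColimit E)) a
    have hb' : (b : C ⟶ E.obj j) ≫ colimit.ι E j = a := hb
    let b' : C' ⟶ Q.obj (K.obj j) := ObjectProperty.homMk b
    have h0 : b' ≫ Q.map (c.ι.app j) = 0 := by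
      ext1
      show b ≫ (Q.map (c.ι.app j)).hom = 0
      rw [← hφ j, ← Category.assoc, hb', ha]
    have h1 : ((adj.homEquiv C' (K.obj j)).symm b') ≫ c.ι.app j = 0 := by
      rw [← Adjunction.homEquiv_naturality_right_symm, h0, adj.homEquiv_counit]
      show (0 : C ⟶ _) ≫ _ = 0
      exact zero_comp
    obtain ⟨j', t, t', htt⟩ := (Types.FilteredColimit.isColimit_eq_iff _
      (isColimitOfPreserves (coyoneda.obj (op C)) hc) (i := j) (j := j)
      (xi := (adj.homEquiv C' (K.obj j)).symm b') (xj := (0 : C ⟶ K.obj j))).1 (h1.trans zero_comp.symm)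
    have h2 : (adj.homEquiv C' (K.obj j)).symm b' ≫ K.map t = 0 :=
      htt.trans (zero_comp (X := C) (f := K.map t'))
    rw [← Adjunction.homEquiv_naturality_right_symm] at h2
    have h3 : b' ≫ Q.map (K.map t) = 0 := (adj.homEquiv C' (K.obj j')).symm.injective (h2.trans (by
      rw [adj.homEquiv_counit]
      show 0 = (0 : C ⟶ _) ≫ _
      exact zero_comp.symm))
    rw [← hb', ← colimit.w E t, ← Category.assoc]
    refine (congrArg (· ≫ _) (?_ : (b : C ⟶ E.obj j) ≫ E.map t = 0)).trans zero_comp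
    have h4 := congrArg (fun r : C' ⟶ Q.obj (K.obj j') => r.hom) h3
    exact h4
  haveI : Mono φ := Preadditive.mono_of_cancel_zero _ fun {Z} a ha => hom_ext_affine h fun U hU z => by
    obtain ⟨C, v, y, hC, hCt, hy⟩ := exists_coh_tors_mem h
      (M := kernel φ) (by
        haveI := hE.2
        haveI : SheafOfModules.IsQuasicoherent.{u} (R := ModSite.ringSh (𝔛.Osh h.1)) c'.pt := (Q.obj c.pt).2.2
        exact ⟨isTorsF_of_mono h (kernel.ι φ) hE.1, isQC_kernel h φ⟩) hU (mapS (kernel.lift φ a ha) U z)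
    have h1 := hz hC hCt (v ≫ kernel.ι φ) (by rw [Category.assoc, kernel.condition, comp_zero])
    have h2 : mapS a U z = mapS (v ≫ kernel.ι φ) U y := by
      rw [mapS_comp, hy, ← mapS_comp, kernel.lift_ι]
    rw [h2, h1, mapS_zero, mapS_zero]
  haveI : Epi φ := ⟨fun {Z} p q hpq => hom_ext_affine h fun U hU x => by
    obtain ⟨C, v, y, hC, hCt, hy⟩ := exists_coh_tors_mem h (Q.obj c.pt).2 hU x
    haveI := preservesColimit_coyoneda_coh h hC K
    let C' : (FTors.IsQCT 𝔛 h.1).FullSubcategory := ⟨C, hCt, isQC_of_ind h (ind_of_coh h hC)⟩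
    let v' : C' ⟶ Q.obj c.pt := ObjectProperty.homMk v
    obtain ⟨j, b, hb⟩ := Types.jointly_surjective _ (isColimitOfPreserves (coyoneda.obj (op C)) hc)
      ((adj.homEquiv C' c.pt).symm v')
    have hb' : (b : C ⟶ K.obj j) ≫ c.ι.app j = (adj.homEquiv C' c.pt).symm v' := hb
    have h2 : adj.homEquiv C' (K.obj j) b ≫ Q.map (c.ι.app j) = v' := by
      rw [← Adjunction.homEquiv_naturality_right]
      exact (congrArg (adj.homEquiv C' c.pt) hb').trans ((adj.homEquiv C' c.pt).apply_symm_apply v')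
    have h3 : v = ((adj.homEquiv C' (K.obj j) b).hom ≫ colimit.ι E j) ≫ φ := by
      rw [Category.assoc, hφ]
      exact (congrArg InducedCategory.Hom.hom h2).symm
    have h4 := congrArg (fun r => mapS r U (mapS ((adj.homEquiv C' (K.obj j) b).hom ≫ colimit.ι E j) U y)) hpq
    simp only [mapS_comp] at h4
    rw [← hy, h3, mapS_comp, mapS_comp]
    exact h4⟩
  haveI : IsIso φ := isIso_of_mono_of_epi φ
  exact IsColimit.ofIsoColimit (colimit.isColimit E) (Cocone.ext (asIso φ) fun j => hφ j)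

end Groth.Agent.H26.FMod
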