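import Groth.Agent.H26.FMod.Coherator
import Groth.Agent.H26.FMod.TorsClose
import Groth.Agent.H26.FMod.TorsCompact
import Groth.Agent.H9Misc.FaithfulLeftAdjMain
import Groth.Agent.SiteBase.RpushD.Gen
import Groth.Agent.SiteBase.ModGroth

/-!
# Grothendieck categories of ind-coherent modules
-/

noncomputable section

set_option autoImplicit false
set_option maxHeartbeats 1000000
set_option linter.style.haveILetI false
set_option backward.isDefEq.respectTransparency false
set_option backward.isDefEq.respectTransparency.types false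

universe u

open CategoryTheory CategoryTheory.Limits TopologicalSpace Opposite AlgebraicGeometry

attribute [local instance] HasDerivedCategory.standard

namespace Groth.Agent.H26.FMod

/-- Exact left adjoints into Grothendieck categories derive to left adjoints. -/
theorem isLeftAdjoint_mapDerived {A : Type (u + 1)} [Category.{u} A] [Abelian A] [IsGrothendieckAbelian.{u} A]
    {B : Type (u + 1)} [Category.{u} B] [Abelian B] (L : B ⥤ A) [L.Additive] [PreservesFiniteLimits L]
    [PreservesFiniteColimits L] [L.IsLeftAdjoint] : L.mapDerivedCategory.IsLeftAdjoint := by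
  let adj := Adjunction.ofIsLeftAdjoint L
  haveI : L.rightAdjoint.Additive := adj.right_adjoint_additive
  haveI := SiteBase.RpushD.qh_isLeftAdjoint (A := A)
  let adjQ := Adjunction.ofIsLeftAdjoint (DerivedCategory.Qh (C := A))
  let W := HomotopyCategory.quasiIso A (ComplexShape.up ℤ)
  let Φ := L.rightAdjoint.mapHomotopyCategory (ComplexShape.up ℤ) ⋙ DerivedCategory.Qh
  have := TriCat.isRightDerivedFunctor_of_adjunction adjQ W Φ
  haveI : Φ.HasRightDerivedFunctor W :=
    Functor.HasRightDerivedFunctor.mk' (W := W) (DerivedCategory.Qh.rightAdjoint ⋙ Φ)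
      (Functor.whiskerRight adjQ.unit Φ : Φ ⟶ DerivedCategory.Qh ⋙ DerivedCategory.Qh.rightAdjoint ⋙ Φ)
  obtain ⟨a⟩ := SiteBase.RpushD.nonempty_adj (A := A) L.rightAdjoint adj
  exact a.isLeftAdjoint

/-- A full subcategory closed under colimits with a small separating family is Grothendieck. -/
theorem isGrothendieckAbelian_full {C : Type (u + 1)} [Category.{u} C] [Abelian C] [IsGrothendieckAbelian.{u} C]
    (P : ObjectProperty C) [Abelian P.FullSubcategory] [P.ι.Additive] [PreservesFiniteLimits P.ι]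
    [PreservesFiniteColimits P.ι]
    (hP : ∀ {K : Type u} [SmallCategory K] {F : K ⥤ C} {c : Cocone F}, IsColimit c → (∀ j, P (F.obj j)) → P c.pt)
    {S : Type u} (s : S → P.FullSubcategory)
    (hsep : ∀ ⦃X Y : P.FullSubcategory⦄ (f g : X ⟶ Y), (∀ (i : S) (a : s i ⟶ X), a ≫ f = a ≫ g) → f = g) :
    IsGrothendieckAbelian.{u} P.FullSubcategory := by
  haveI : ∀ (K : Type u) [SmallCategory K], P.IsClosedUnderColimitsOfShape K := fun K _ =>
    ⟨fun _ ⟨h⟩ => hP h.isColimit h.prop_diag_obj⟩
  haveI : HasColimitsOfSize.{u, u} P.FullSubcategory := ⟨fun K _ => hasColimitsOfShape_of_closedUnderColimits K P⟩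
  haveI : AB5OfSize.{u, u} P.FullSubcategory := ⟨fun K _ _ => by
    haveI : CreatesColimitsOfShape K P.ι := createsColimitsOfShapeFullSubcategoryInclusion K P
    haveI : PreservesColimitsOfShape K P.ι := inferInstance
    haveI : ReflectsFiniteLimits P.ι := ⟨fun J _ _ => reflectsLimitsOfShape_of_reflectsIsomorphisms⟩
    exact HasExactColimitsOfShape.domain_of_functor K P.ι⟩
  exact H9Misc.FaithfulLeftAdj.isGrothendieckAbelian (s := s) hsep

variable {𝔛 : FSch.Sys.{u}} (h : 𝔛.IsLocNoethFormal)

include h in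
/-- Ind-coherent modules form a Grothendieck category. -/
theorem isGrothendieckAbelian_ind [Abelian (IndCoh (hF := h.1)).FullSubcategory]
    [(IndCoh (hF := h.1)).ι.Additive] [PreservesFiniteLimits (IndCoh (hF := h.1)).ι]
    [PreservesFiniteColimits (IndCoh (hF := h.1)).ι] :
    IsGrothendieckAbelian.{u} (IndCoh (hF := h.1)).FullSubcategory := by
  obtain ⟨S, C, hC, hS⟩ := exists_small_coh h
  haveI := SiteBase.isGrothendieckAbelian_sheafOfModules (ModSite.ringSh (𝔛.Osh h.1))
  refine isGrothendieckAbelian_full (C := FSch.ModF 𝔛 h.1) _ (fun hc hF => ind_colimit h hc hF)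
    (fun i => ⟨C i, ind_of_coh h (hC i)⟩) fun X Y f g hfg => ?_
  obtain ⟨J, _, _, p, hp⟩ := X.property
  refine ObjectProperty.hom_ext _ (p.isColimit.hom_ext fun j => ?_)
  obtain ⟨i, ⟨e⟩⟩ := hS _ (hp j)
  refine (cancel_epi e.hom).1 ?_
  have h1 := congrArg (fun t => t.hom) (hfg i (ObjectProperty.homMk (e.hom ≫ p.ι.app j)))
  exact (Category.assoc _ _ _).symm.trans (h1.trans (Category.assoc _ _ _))

include h in
/-- Quasi-coherent torsion modules form a Grothendieck category. -/
theorem isGrothendieckAbelian_qct [Abelian (FTors.IsQCT 𝔛 h.1).FullSubcategory]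
    [(FTors.IsQCT 𝔛 h.1).ι.Additive] [PreservesFiniteLimits (FTors.IsQCT 𝔛 h.1).ι]
    [PreservesFiniteColimits (FTors.IsQCT 𝔛 h.1).ι] :
    IsGrothendieckAbelian.{u} (FTors.IsQCT 𝔛 h.1).FullSubcategory := by
  obtain ⟨S, C, hC, hS⟩ := exists_small_coh h
  haveI := SiteBase.isGrothendieckAbelian_sheafOfModules (ModSite.ringSh (𝔛.Osh h.1))
  refine isGrothendieckAbelian_full (C := FSch.ModF 𝔛 h.1) (FTors.IsQCT 𝔛 h.1)
    (fun hc hF => ⟨isTorsF_colimit h hc fun j => (hF j).1,
      isQC_of_ind h (ind_colimit h hc fun j => ind_of_qct h (hF j))⟩)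
    (S := {i : S // FTors.IsTorsF 𝔛 h.1 (C i)}) (fun i => ⟨C i.1, i.2, isQC_of_ind h (ind_of_coh h (hC i.1))⟩)
    fun X Y f g hfg => ObjectProperty.hom_ext _ (hom_ext_affine h fun U hU x => ?_)
  obtain ⟨D, v, y, hD, hDt, hy⟩ := exists_coh_tors_mem h X.property hU x
  obtain ⟨i, ⟨e⟩⟩ := hS _ hD
  have h1 := congrArg (fun t => t.hom) (hfg ⟨i, isTorsF_of_mono h e.hom hDt⟩ (ObjectProperty.homMk (e.hom ≫ v)))
  have h2 : v ≫ f.hom = v ≫ g.hom :=
    (cancel_epi e.hom).1 ((Category.assoc _ _ _).symm.trans (h1.trans (Category.assoc _ _ _)))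
  have h3 := congrArg (fun t => mapS t U y) h2
  simp only [mapS_comp, hy] at h3
  exact h3

end Groth.Agent.H26.FMod
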