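import Groth.Agent.H26.FMod.BrownAdj
import Groth.Agent.H26.FMod.IndGroth
import Groth.Agent.H26.FMod.CoprodPush

/-!
# Right adjoints to derived direct images of formal schemes
-/

noncomputable section

set_option autoImplicit false
set_option maxHeartbeats 1000000
set_option linter.style.haveILetI false
set_option backward.isDefEq.respectTransparency false
set_option backward.isDefEq.respectTransparency.types false

universe u

open CategoryTheory CategoryTheory.Limits TopologicalSpace Opposite AlgebraicGeometry Pretriangulated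

attribute [local instance] HasDerivedCategory.standard

namespace Groth.Agent.H26.FMod

variable {𝔛 𝔜 : FSch.Sys.{u}} (h : 𝔛.IsLocNoethFormal) (h𝔜 : 𝔜.IsFormal) (f : 𝔛 ⟶ 𝔜)
  [CompactSpace (𝔛.X 0)] [CompactSpace (𝔜.X 0)] [SiteCmp.HasRpushD (FSch.homMor f h.1 h𝔜)]

include h h𝔜 in
/-- Derived direct images restricted to derived categories of classes of ind-coherent modules are left adjoints. -/
theorem isLeftAdjoint_mapD_rpushD (P : ObjectProperty (FSch.ModF 𝔛 h.1)) [P.IsClosedUnderIsomorphisms]
    (hP : ∀ M, P M → IndCoh M) [P.ContainsZero] [P.IsClosedUnderKernels] [P.IsClosedUnderCokernels]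
    [P.IsClosedUnderFiniteProducts] [IsGrothendieckAbelian.{u} P.FullSubcategory] [PreservesFiniteLimits P.ι] [PreservesFiniteColimits P.ι] [P.ι.IsLeftAdjoint] :
    (P.ι.mapDerivedCategory ⋙ SiteCmp.RpushD (FSch.homMor f h.1 h𝔜)).IsLeftAdjoint := by
  haveI := SiteBase.isGrothendieckAbelian_sheafOfModules (ModSite.ringSh (𝔛.Osh h.1))
  haveI := SiteBase.isGrothendieckAbelian_sheafOfModules (ModSite.ringSh (𝔜.Osh h𝔜))
  refine BrownAdj.isLeftAdjoint_of_preservesCoproducts (A := P.FullSubcategory) (B := FSch.ModF 𝔜 h𝔜) _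
    (fun T hT => ?_) fun J => ?_
  · obtain ⟨c, hc⟩ := SiteBase.RpushD.exists_triangle (A := FSch.ModF 𝔛 h.1) (B := FSch.ModF 𝔜 h𝔜)
      (FSch.homMor f h.1 h𝔜).push _ (P.ι.mapDerivedCategory.map_distinguished T hT)
    exact ⟨c, hc⟩
  · haveI := isLeftAdjoint_mapDerived P.ι
    haveI : PreservesColimitsOfShape (Discrete J) P.ι.mapDerivedCategory :=
      ((Adjunction.ofIsLeftAdjoint P.ι.mapDerivedCategory).leftAdjoint_preservesColimits : PreservesColimitsOfSize.{u, u} _).preservesColimitsOfShape
    haveI : ∀ M : J → DerivedCategory P.FullSubcategory,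
        PreservesColimit (Discrete.functor M) (P.ι.mapDerivedCategory ⋙ SiteCmp.RpushD (FSch.homMor f h.1 h𝔜)) := fun M => by
      haveI := preservesColimit_rpushD_ind h h𝔜 f (fun j => P.ι.mapDerivedCategory.obj (M j)) fun j i => by
        obtain ⟨e⟩ := SiteBase.RpushD.nonempty_homology_mapDerived P.ι (M j) i
        exact ind_of_iso h e.symm (hP _ ((DerivedCategory.homologyFunctor P.FullSubcategory i).obj (M j)).property)
      haveI : PreservesColimit (Discrete.functor M ⋙ P.ι.mapDerivedCategory) (SiteCmp.RpushD (FSch.homMor f h.1 h𝔜)) :=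
        preservesColimit_of_iso_diagram _ (Discrete.natIso fun _ => Iso.refl _ :
          Discrete.functor (fun j => P.ι.mapDerivedCategory.obj (M j)) ≅ Discrete.functor M ⋙ P.ι.mapDerivedCategory)
      infer_instance
    exact preservesColimitsOfShape_of_discrete _

end Groth.Agent.H26.FMod
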