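import Groth.Agent.FComplLib.AffineSys
import Mathlib.RingTheory.Filtration

/-!
# Algebra for modules on formal schemes
-/

set_option autoImplicit false

universe u

namespace Groth.Agent.H26.FMod

/-- The limit of an adic system of Noetherian rings. -/
theorem exists_adic {G : ℕ → Type u} [∀ n, CommRing (G n)] (hG0 : IsNoetherianRing (G 0))
    (hG1 : IsNoetherianRing (G 1)) (res : ∀ n, G (n + 1) →+* G n) (hres : ∀ n, Function.Surjective (res n))
    (N : ∀ n, Ideal (G n)) (hker : ∀ n, RingHom.ker (res n) = N (n + 1) ^ (n + 1))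
    (hmap : ∀ n, (N (n + 1)).map (res n) = N n) (hbot : ∀ n, N n ^ (n + 1) = ⊥)
    {L : Type u} [CommRing L] (π : ∀ n, L →+* G n) (hπr : ∀ n x, res n (π (n + 1) x) = π n x)
    (hext : ∀ x, (∀ n, π n x = 0) → x = 0)
    (hlift : ∀ y : (∀ n, G n), (∀ n, res n (y (n + 1)) = y n) → ∃ x, ∀ n, π n x = y n) :
    IsNoetherianRing L ∧ IsAdicComplete (RingHom.ker (π 0)) L ∧
      ∀ n, Function.Surjective (π n) ∧ RingHom.ker (π n) = RingHom.ker (π 0) ^ (n + 1) := by
  classical
  obtain ⟨r, g, hg⟩ :=
    Submodule.fg_iff_exists_fin_generating_family.mp (hG1.noetherian (N 1))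
  let y : Fin r → ∀ n, G n := fun i n =>
    Nat.rec (motive := G) 0 (fun m v => Nat.casesOn (motive := fun m => G m → G (m + 1)) m
      (fun _ => g i) (fun m v => Function.surjInv (hres (m + 1)) v) v) n
  have hy0 : ∀ i, y i 0 = 0 := fun i => rfl
  have hy1 : ∀ i, y i 1 = g i := fun i => rfl
  have hy : ∀ i n, res n (y i (n + 1)) = y i n := by
    intro i n
    cases n with
    | zero =>
      change res 0 (g i) = 0
      rw [← RingHom.mem_ker, hker 0]
      refine (pow_one (N (0 + 1))).symm ▸ ?_
      exact hg ▸ Submodule.subset_span ⟨i, rfl⟩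
    | succ n => exact Function.surjInv_eq (hres (n + 1)) _
  have hspan : ∀ n, Ideal.span (Set.range fun i => y i (n + 1)) = N (n + 1) := by
    intro n
    induction n with
    | zero => exact hg
    | succ n ih =>
      set N' := N (n + 1 + 1) with hN'
      have hkN : RingHom.ker (res (n + 1)) ≤ N' :=
        (hker (n + 1)).le.trans (Ideal.pow_le_self (by omega))
      refine (FComplLib.eq_of_le_sup_pow N' _ (n + 1) (by omega) (hbot _) ?_ ?_).symm
      · intro a ha
        have h1 : res (n + 1) a ∈ (Ideal.span (Set.range fun i => y i (n + 1 + 1))).map (res (n + 1)) := by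
          rw [Ideal.map_span, ← Set.range_comp]
          simp only [Function.comp_def, hy]
          rw [ih, ← hmap (n + 1)]
          exact Ideal.mem_map_of_mem _ ha
        rw [← Ideal.mem_comap, Ideal.comap_map_of_surjective' _ (hres (n + 1)), hker (n + 1)] at h1
        exact h1
      · rw [Ideal.span_le]
        rintro _ ⟨i, rfl⟩
        have h1 : res (n + 1) (y i (n + 1 + 1)) ∈ N'.map (res (n + 1)) := by
          rw [hy, hmap, ← ih]
          exact Ideal.subset_span ⟨i, rfl⟩
        rw [← Ideal.mem_comap, Ideal.comap_map_of_surjective' _ (hres (n + 1)),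
          sup_eq_left.mpr hkN] at h1
        exact h1
  let P := MvPolynomial (Fin r) ℤ
  let ev : ∀ n, P →+* G n := fun n =>
    MvPolynomial.eval₂Hom (Int.castRingHom (G n)) fun i => y i n
  letI : ∀ n, Algebra P (G n) := fun n => (ev n).toAlgebra
  choose yL hyL using fun i => hlift (y i) (hy i)
  let evL : P →+* L :=
    MvPolynomial.eval₂Hom (Int.castRingHom L) yL
  letI : Algebra P L := evL.toAlgebra
  let I : Ideal P := Ideal.span (Set.range MvPolynomial.X)
  have hI : I.FG := Submodule.fg_span (Set.finite_range _)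
  have hIn : ∀ n, I.map (algebraMap P (G (n + 1))) = N (n + 1) := fun n => by
    rw [← hspan n, Ideal.map_span, ← Set.range_comp]
    congr 1
    congr 1
    funext i
    exact MvPolynomial.eval₂Hom_X' _ _ i
  have hfc : ∀ n, (res n).comp (ev (n + 1)) = ev n := fun n =>
    MvPolynomial.ringHom_ext (fun k => by simp [ev]) fun i => by simp [ev, hy]
  let f : ∀ n, G (n + 1) →ₗ[P] G n := fun n =>
    ({ res n with commutes' := fun p => RingHom.congr_fun (hfc n) p } : G (n + 1) →ₐ[P] G n).toLinearMap
  have hπc : ∀ n, (π n).comp evL = ev n := fun n =>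
    MvPolynomial.ringHom_ext (fun k => by simp [ev, evL]) fun i => by
      rw [RingHom.comp_apply, MvPolynomial.eval₂Hom_X', MvPolynomial.eval₂Hom_X']
      exact hyL i n
  let πl : ∀ n, L →ₗ[P] G n := fun n =>
    ({ π n with commutes' := fun p => RingHom.congr_fun (hπc n) p } : L →ₐ[P] G n).toLinearMap
  obtain ⟨hcomp, hπ, -⟩ := Adic7.limit_quotient_system P I hI G f hres (fun n => by
      refine SetLike.ext fun x => ?_
      rw [LinearMap.mem_ker, Ideal.smul_top_eq_map, Submodule.restrictScalars_mem, Ideal.map_pow,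
        hIn n, ← hker n]
      rfl)
    L πl (fun n => LinearMap.ext fun s => hπr n s) hext (fun s hs => hlift s hs)
  set J : Ideal L := I.map (algebraMap P L)
  have hJker : ∀ n, RingHom.ker (π n) = J ^ (n + 1) := fun n => by
    refine SetLike.ext fun s => ?_
    rw [← Ideal.map_pow]
    exact (SetLike.ext_iff.mp (hπ n).2 s).trans
      (by rw [Ideal.smul_top_eq_map, Submodule.restrictScalars_mem])
  have hJ : IsAdicComplete J L := (IsAdicComplete.map_algebraMap_iff (R := P) (S := L) (M := L) (I := I)).mpr hcomp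
  have h1 : RingHom.ker (π 0) = J := (hJker 0).trans (by rw [zero_add, pow_one])
  rw [h1]
  have : IsNoetherianRing (L ⧸ J) := by
    rw [← h1]
    exact isNoetherianRing_of_ringEquiv (G 0)
      (RingHom.quotientKerEquivOfSurjective (f := π 0) (hπ 0).1).symm
  exact ⟨LocalCrit.isNoetherianRing_of_isAdicComplete J (hI.map _), hJ, fun n => ⟨(hπ n).1, hJker n⟩⟩

/-- Krull: membership in a span can be tested modulo every power. -/
theorem mem_of_forall_mem_sup {R M : Type*} [CommRing R] [IsNoetherianRing R] [AddCommGroup M] [Module R M]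
    [Module.Finite R M] (J : Ideal R) [IsAdicComplete J R] (N : Submodule R M) (x : M)
    (h : ∀ k : ℕ, x ∈ N ⊔ J ^ k • ⊤) : x ∈ N := by
  have hH : IsHausdorff J (M ⧸ N) := IsHausdorff.of_le_jacobson J _ (IsAdicComplete.le_jacobson_bot J)
  rw [← Submodule.Quotient.mk_eq_zero]
  refine hH.haus _ fun k => ?_
  obtain ⟨a, ha, b, hb, rfl⟩ := Submodule.mem_sup.1 (h k)
  rw [SModEq.zero]
  have hb' := Submodule.mem_map_of_mem (f := N.mkQ) hb
  rw [Submodule.map_smul'', Submodule.map_top, Submodule.range_mkQ] at hb'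
  rw [Submodule.Quotient.mk_add, (Submodule.Quotient.mk_eq_zero N).2 ha, zero_add]
  exact hb'

/-- Artin–Rees for a linear map. -/
theorem exists_artinRees {R M N : Type*} [CommRing R] [IsNoetherianRing R] [AddCommGroup M] [Module R M]
    [AddCommGroup N] [Module R N] [Module.Finite R N] (J : Ideal R) (f : M →ₗ[R] N) :
    ∃ c : ℕ, ∀ (n : ℕ) (x : M), f x ∈ J ^ (n + c) • (⊤ : Submodule R N) →
      x ∈ LinearMap.ker f ⊔ J ^ n • ⊤ := by
  obtain ⟨c, hc⟩ := J.exists_pow_inf_eq_pow_smul (LinearMap.range f)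
  refine ⟨c, fun n x hx => ?_⟩
  have h1 : f x ∈ J ^ (n + c) • (⊤ : Submodule R N) ⊓ LinearMap.range f := ⟨hx, ⟨x, rfl⟩⟩
  rw [hc (n + c) (Nat.le_add_left c n), Nat.add_sub_cancel] at h1
  have h2 : f x ∈ J ^ n • LinearMap.range f := Submodule.smul_mono le_rfl inf_le_right h1
  rw [← Submodule.map_top, ← Submodule.map_smul''] at h2
  obtain ⟨y, hy, hy'⟩ := h2
  refine Submodule.mem_sup.2 ⟨x - y, ?_, y, hy, sub_add_cancel x y⟩
  rw [LinearMap.mem_ker, map_sub, hy', sub_self]

/-- A vector with entries in an ideal. -/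
theorem mem_smul_top_fun {R : Type*} [CommRing R] {ι : Type*} [Fintype ι] (I : Ideal R) (x : ι → R)
    (h : ∀ i, x i ∈ I) : x ∈ I • (⊤ : Submodule R (ι → R)) := by
  classical
  rw [pi_eq_sum_univ x]
  exact Submodule.sum_mem _ fun i _ => Submodule.smul_mem_smul (h i) trivial

/-- The converse. -/
theorem mem_of_mem_smul_top_fun {R : Type*} [CommRing R] {ι : Type*} (I : Ideal R) (x : ι → R)
    (h : x ∈ I • (⊤ : Submodule R (ι → R))) (i : ι) : x i ∈ I := by
  refine Submodule.smul_induction_on (p := fun z => z i ∈ I) h ?_ ?_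
  · exact fun a ha y _ => I.mul_mem_right _ ha
  · exact fun a b ha hb => I.add_mem ha hb

end Groth.Agent.H26.FMod
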