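import Groth.Agent.H26.FMod.FormalSys
import Groth.Agent.H26.FMod.Compl
import Groth.Agent.ExistEasy.PP.Existence
import Groth.Agent.QCoh.ProperOver2
import Groth.Agent.QCoh.DevissageP
import Groth.Agent.QCoh.AnnIdeal

/-!
# Algebraization of coherent modules killed by an ideal with proper zero locus
-/

noncomputable section

set_option autoImplicit false
set_option maxHeartbeats 1600000
set_option linter.style.haveILetI false
set_option backward.isDefEq.respectTransparency false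
set_option backward.isDefEq.respectTransparency.types false

universe u

open CategoryTheory CategoryTheory.Limits TopologicalSpace Opposite AlgebraicGeometry

namespace Groth.Agent.H26.FMod

section Gen

/-- Direct image along a closed immersion reflects isomorphisms. -/
lemma isIso_of_isIso_push {W Y : Scheme.{u}} (p : W ⟶ Y) [IsClosedImmersion p] {P Q : W.Modules} (θ : P ⟶ Q)
    [IsIso ((Scheme.Modules.pushforward p).map θ)] : IsIso θ := by
  refine QCoh.isIso_of_isBasis θ (B := Set.range fun U : Y.Opens => p ⁻¹ᵁ U) ?_ ?_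
  · refine Opens.isBasis_iff_nbhd.2 fun {V} {x} hx => ?_
    obtain ⟨t, ht, hVt⟩ := p.isClosedEmbedding.isInducing.isOpen_iff.1 V.2
    refine ⟨V, ⟨⟨t, ht⟩, Opens.ext hVt⟩, hx, le_rfl⟩
  · rintro _ ⟨U, rfl⟩
    have h1 : IsIso ((Scheme.Modules.pushforward p).map θ) := inferInstance
    exact (ConcreteCategory.isIso_iff_bijective _).1 (Scheme.Modules.Hom.isIso_iff_isIso_app.1 h1 U)

/-- Adjuncts of compatible maps to direct images are compatible. -/
lemma adjunct_compat {T0 T1 Y : Scheme.{u}} (f : T0 ⟶ T1) (g : T1 ⟶ Y) (p : T0 ⟶ Y) (hfg : f ≫ g = p)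
    {M : Y.Modules} {P' : T1.Modules} {P : T0.Modules} (t : P' ⟶ (Scheme.Modules.pushforward f).obj P)
    (c' : M ⟶ (Scheme.Modules.pushforward g).obj P') (c : M ⟶ (Scheme.Modules.pushforward p).obj P)
    (hc : c' ≫ pushTrans f g p hfg t = c) :
    (Scheme.Modules.pullbackPushforwardAdjunction f).homEquiv _ _
        ((Scheme.Modules.pullbackComp f g).hom.app M ≫ (Scheme.Modules.pullbackCongr hfg).hom.app M) ≫
      (Scheme.Modules.pushforward f).map (((Scheme.Modules.pullbackPushforwardAdjunction p).homEquiv _ _).symm c) =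
    ((Scheme.Modules.pullbackPushforwardAdjunction g).homEquiv _ _).symm c' ≫ t := by
  have he : ∀ (W : T0.Modules), IsIso ((Scheme.Modules.pushforwardComp f g).hom.app W ≫
      (Scheme.Modules.pushforwardCongr hfg).hom.app W) := fun W => inferInstance
  apply ((Scheme.Modules.pullbackPushforwardAdjunction g).homEquiv _ _).injective
  refine (((Scheme.Modules.pullbackPushforwardAdjunction g).homEquiv_naturality_right _ _).trans ?_).trans
    ((Scheme.Modules.pullbackPushforwardAdjunction g).homEquiv_naturality_right _ _).symm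
  rw [Equiv.apply_symm_apply]
  refine (congrArg (· ≫ _) (Adjunction.homEquiv_unit _ _ _ _)).trans ?_
  haveI := he P
  rw [← cancel_mono ((Scheme.Modules.pushforwardComp f g).hom.app P ≫
      (Scheme.Modules.pushforwardCongr hfg).hom.app P)]
  refine ((Category.assoc _ _ _).trans ?_).trans ((Category.assoc _ _ _).trans hc).symm
  let cs := ((Scheme.Modules.pullbackPushforwardAdjunction p).homEquiv _ _).symm c
  have n1 : (Scheme.Modules.pushforward g).map ((Scheme.Modules.pushforward f).map cs) ≫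
      (Scheme.Modules.pushforwardComp f g).hom.app P ≫ (Scheme.Modules.pushforwardCongr hfg).hom.app P =
      ((Scheme.Modules.pushforwardComp f g).hom.app _ ≫ (Scheme.Modules.pushforwardCongr hfg).hom.app _) ≫
        (Scheme.Modules.pushforward p).map cs := by
    refine ((Category.assoc _ _ _).symm.trans (congrArg (· ≫ _)
      ((Scheme.Modules.pushforwardComp f g).hom.naturality cs))).trans ?_
    refine ((Category.assoc _ _ _).trans (congrArg (_ ≫ ·)
      ((Scheme.Modules.pushforwardCongr hfg).hom.naturality cs))).trans (Category.assoc _ _ _).symm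
  refine (congrArg (_ ≫ ·) n1).trans ?_
  have n2 := unit_pullComp f g p hfg M
  refine Eq.trans ?_ ((congrArg (· ≫ (Scheme.Modules.pushforward p).map cs) n2).trans
    ((Adjunction.homEquiv_unit _ _ _ _).symm.trans (Equiv.apply_symm_apply _ _)))
  simp only [Category.assoc]

end Gen

variable {A : Type u} [CommRing A] (I : Ideal A) {X : Scheme.{u}} [X.Over (Spec (CommRingCat.of A))]
  (𝓚 : X.IdealSheafData) (h𝓚 : 𝓚 = (FSch.idealSpec A I).comap (X ↘ Spec (CommRingCat.of A)))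
  (hX : (FSch.completionAlong X 𝓚).IsFormal) [IsLocallyNoetherian X]
  (𝔉 : FSch.ModF (FSch.completionAlong X 𝓚) hX) (h𝔉 : FSch.IsCohF _ hX 𝔉)

variable {M : X.Modules} (β : Formal.completion I M ≅ GE 𝓚 hX 𝔉)

/-- The maps to the levels given by an algebraization. -/
abbrev cmpC (k : ℕ) : M ⟶ pE 𝓚 hX 𝔉 k := Formal.modPowπ I (k + 1) M ≫ β.hom.app (op k)

/-- Their adjuncts. -/
abbrev cmpE (k : ℕ) : (Scheme.Modules.pullback (FSch.completionToX X 𝓚 k)).obj M ⟶ pullK k 𝔉 :=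
  ((Scheme.Modules.pullbackPushforwardAdjunction (FSch.completionToX X 𝓚 k)).homEquiv _ _).symm (cmpC I 𝓚 hX 𝔉 β k)

include h𝓚 in
lemma isIso_cmpE (hM : Coh.IsCoh M) (k : ℕ) : IsIso (cmpE I 𝓚 hX 𝔉 β k) := by
  haveI := isIso_modPowCmp I 𝓚 h𝓚 hM k
  haveI : Epi (Formal.modPowπ I (k + 1) M) := inferInstanceAs (Epi (cokernel.π _))
  have h1 : modPowCmp I 𝓚 h𝓚 hM.1 k ≫
      (Scheme.Modules.pushforward (FSch.completionToX X 𝓚 k)).map (cmpE I 𝓚 hX 𝔉 β k) =
      β.hom.app (op k) := by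
    refine (cancel_epi (Formal.modPowπ I (k + 1) M)).1 ?_
    refine ((Category.assoc _ _ _).symm.trans (congrArg (· ≫ _) (π_modPowCmp I 𝓚 h𝓚 hM.1 k))).trans ?_
    exact (Adjunction.homEquiv_unit _ _ _ _).symm.trans (Equiv.apply_symm_apply _ _)
  haveI : IsIso (modPowCmp I 𝓚 h𝓚 hM.1 k ≫
      (Scheme.Modules.pushforward (FSch.completionToX X 𝓚 k)).map (cmpE I 𝓚 hX 𝔉 β k)) := by
    rw [h1]; infer_instance
  haveI := IsIso.of_isIso_comp_left (modPowCmp I 𝓚 h𝓚 hM.1 k)
    ((Scheme.Modules.pushforward (FSch.completionToX X 𝓚 k)).map (cmpE I 𝓚 hX 𝔉 β k))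
  exact isIso_of_isIso_push (FSch.completionToX X 𝓚 k) (cmpE I 𝓚 hX 𝔉 β k)

lemma cmpC_trans (k : ℕ) : cmpC I 𝓚 hX 𝔉 β (k + 1) ≫ tE 𝓚 hX 𝔉 k = cmpC I 𝓚 hX 𝔉 β k := by
  rw [← GE_succ 𝓚 hX 𝔉 k, Category.assoc, ← β.hom.naturality, ← Category.assoc]
  refine congrArg (· ≫ β.hom.app (op k)) ?_
  rw [show (Formal.completion I M).map (homOfLE (Nat.le_succ k)).op = Formal.modPowTrans I (k + 1) M from
    Functor.ofOpSequence_map_homOfLE_succ (X := fun n => Formal.modPow I (n + 1) M)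
      (fun n => Formal.modPowTrans I (n + 1) M) k]
  exact Formal.modPowπ_trans I (k + 1) M

lemma cmpE_comm (k : ℕ) : (FSch.complMod 𝓚 M).toPush k ≫
    (Scheme.Modules.pushforward ((FSch.completionAlong X 𝓚).ι k)).map (cmpE I 𝓚 hX 𝔉 β k) =
    cmpE I 𝓚 hX 𝔉 β (k + 1) ≫ transK hX 𝔉 k :=
  (congrArg (· ≫ _) (complMod_toPush 𝓚 M k)).trans
    (adjunct_compat ((FSch.completionAlong X 𝓚).ι k) (FSch.completionToX X 𝓚 (k + 1))
      (FSch.completionToX X 𝓚 k) (FSch.completionToX_comm X 𝓚 k) (transK hX 𝔉 k) (cmpC I 𝓚 hX 𝔉 β (k + 1)) (cmpC I 𝓚 hX 𝔉 β k)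
      (cmpC_trans I 𝓚 hX 𝔉 β k))

include h𝓚 h𝔉 in
/-- A module whose system is the completion of a coherent module is algebraic. -/
theorem nonempty_iso_of_completion (hM : Coh.IsCoh M) (β : Formal.completion I M ≅ GE 𝓚 hX 𝔉) :
    Nonempty (𝔉 ≅ (FSch.complMod 𝓚 M).realMod hX) := by
  have hl : (FSch.completionAlong X 𝓚).IsLocNoethFormal := S3854.result X 𝓚
  have hcomm : ∀ k, (FSch.complMod 𝓚 M).toPush k ≫
      (Scheme.Modules.pushforward ((FSch.completionAlong X 𝓚).ι k)).map (cmpE I 𝓚 hX 𝔉 β k) =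
      cmpE I 𝓚 hX 𝔉 β (k + 1) ≫ (sysOf hX 𝔉).toPush k := fun k =>
    (cmpE_comm I 𝓚 hX 𝔉 β k).trans (congrArg (_ ≫ ·) (toPush_sysOf 𝔉 k).symm)
  haveI := isIso_toReal hl 𝔉 h𝔉
  haveI : ∀ k, IsIso (cmpE I 𝓚 hX 𝔉 β k) := fun k => isIso_cmpE I 𝓚 h𝓚 hX 𝔉 β hM k
  haveI := isIso_realLimMap (FSch.completionAlong X 𝓚) hX (G := (FSch.complMod 𝓚 M).F)
    (G' := (sysOf hX 𝔉).F) (t := (FSch.complMod 𝓚 M).toPush) (t' := (sysOf hX 𝔉).toPush) (cmpE I 𝓚 hX 𝔉 β) hcomm
  exact ⟨asIso (toReal hX 𝔉) ≪≫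
    (asIso (FSch.realLimMap (FSch.completionAlong X 𝓚) hX (cmpE I 𝓚 hX 𝔉 β) hcomm)).symm⟩

variable [IsNoetherianRing A] [IsAdicComplete I A] [AlgebraicGeometry.IsNoetherian X]

/-- Existence for formal modules killed by an ideal with proper zero locus. -/
theorem exists_completion_iso_of_killed (J : X.IdealSheafData)
    (hprop : IsProper (J.subschemeι ≫ (X ↘ Spec (CommRingCat.of A))))
    (G : ℕᵒᵖ ⥤ X.Modules) (hG : Formal.IsCohFormal I G) (hJ : ∀ k, ClSub.KilledByIdeal J (G.obj (op k))) :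
    ∃ M : X.Modules, Coh.IsCoh M ∧ ClSub.IsProperOver (X ↘ Spec (CommRingCat.of A)) (CohB1.support M) ∧
      Nonempty (Formal.completion I M ≅ G) := by
  let W : Scheme.{u} := J.subscheme
  let k : W ⟶ X := J.subschemeι
  letI : W.Over (Spec (CommRingCat.of A)) := ⟨k ≫ (X ↘ Spec (CommRingCat.of A))⟩
  haveI : IsProper (W ↘ Spec (CommRingCat.of A)) := hprop
  haveI : IsProper (k ≫ (X ↘ Spec (CommRingCat.of A))) := hprop
  haveI : CompactSpace W := QuasiCompact.compactSpace_of_compactSpace (W ↘ Spec (CommRingCat.of A))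
  haveI : IsLocallyNoetherian W := LocallyOfFiniteType.isLocallyNoetherian (W ↘ Spec (CommRingCat.of A))
  haveI : AlgebraicGeometry.IsNoetherian W := { __ := ‹IsLocallyNoetherian W›, __ := ‹CompactSpace W› }
  obtain ⟨M, hM, ⟨γ⟩⟩ := ExistEasy.exists_algebraization_proper I W (G ⋙ Scheme.Modules.pullback k)
    (Algz7.isCohFormal_pullback k rfl hG)
  have hkM : Coh.IsCoh ((Scheme.Modules.pushforward k).obj M) := QCoh.isCoh_pushforward_finite k hM
  refine ⟨(Scheme.Modules.pushforward k).obj M, hkM, ?_, ⟨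
    ExistEasy.pushCompIso k rfl I M hM ≪≫ Functor.isoWhiskerRight γ (Scheme.Modules.pushforward k) ≪≫
      (NatIso.ofComponents (fun n =>
        haveI := ExistEasy.isIso_ηK_of_killed J (hG.1 n.unop).1 (hJ n.unop)
        asIso (ExistEasy.ηK J (G.obj n)))
        (fun {n m} f => (ExistEasy.ηK_natural J (G.map f)).symm)).symm⟩⟩
  exact QCoh.isProperOver_of_subset k (QCoh.isClosed_support_of_isFT hkM.1 hkM.2)
    (QCoh.support_push_subset k hM.1)

include h𝓚 h𝔉 in
/-- Existence for systems killed by an ideal with proper zero locus. -/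
theorem exists_alg_of_killed (J : X.IdealSheafData)
    (hprop : IsProper (J.subschemeι ≫ (X ↘ Spec (CommRingCat.of A))))
    (hJ : ∀ k, ClSub.KilledByIdeal J (pE 𝓚 hX 𝔉 k)) :
    ∃ M : X.Modules, Coh.IsCoh M ∧ ClSub.IsProperOver (X ↘ Spec (CommRingCat.of A)) (CohB1.support M) ∧
      Nonempty (𝔉 ≅ (FSch.complMod 𝓚 M).realMod hX) := by
  obtain ⟨M, h1, h2, ⟨β⟩⟩ :=
    exists_completion_iso_of_killed I J hprop (GE 𝓚 hX 𝔉) (isCohFormal_GE I 𝓚 h𝓚 hX 𝔉 h𝔉) hJ
  exact ⟨M, h1, h2, nonempty_iso_of_completion I 𝓚 h𝓚 hX 𝔉 h𝔉 h1 β⟩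

end Groth.Agent.H26.FMod
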