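import Groth.Agent.H26.FMod.HFCompletionBase

/-!
# Cohomology of completions of coherent modules on proper schemes
-/

noncomputable section

set_option autoImplicit false
set_option linter.style.haveILetI false
set_option backward.isDefEq.respectTransparency false
set_option backward.isDefEq.respectTransparency.types false

universe u

open CategoryTheory CategoryTheory.Limits TopologicalSpace Opposite AlgebraicGeometry

namespace Groth.Agent.H26.FMod

variable {A : Type u} [CommRing A] (I : Ideal A) {X : Scheme.{u}} [X.Over (Spec (CommRingCat.of A))]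
  (𝓚 : X.IdealSheafData) (h𝓚 : 𝓚 = (FSch.idealSpec A I).comap (X ↘ Spec (CommRingCat.of A)))

variable [IsLocallyNoetherian X] (hX : (FSch.completionAlong X 𝓚).IsFormal) {M : X.Modules} (hM : Coh.IsCoh M)

section Proper

variable [IsNoetherianRing A] [IsProper (X ↘ Spec (CommRingCat.of A))]

/-- The comparison of the cohomology of the levels with the quotients. -/
def hfCmp (p k : ℕ) :
    Sheaf.H (lvS hX ((toX 𝓚 hX).pull.obj M) k) p ≃+ Formal.HHmodPow I M p k :=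
  haveI := isIso_lvCmp I 𝓚 h𝓚 hX hM k
  (AddEquiv.ofBijective (pushS 𝓚 hX (M := M) p k) (bijective_pushS 𝓚 hX p k)).trans
    (mapEquiv (inv (lvCmp I 𝓚 h𝓚 hX hM k)) p)

lemma hfCmp_trans (p k : ℕ) (y : Sheaf.H (lvS hX ((toX 𝓚 hX).pull.obj M) (k + 1)) p) :
    hfCmp I 𝓚 h𝓚 hX hM p k (Sheaf.H.map (lvT hX ((toX 𝓚 hX).pull.obj M) k) p y) =
      Formal.HHmodPowTrans I M p k (hfCmp I 𝓚 h𝓚 hX hM p (k + 1) y) := by
  haveI := isIso_lvCmp I 𝓚 h𝓚 hX hM k
  haveI := isIso_lvCmp I 𝓚 h𝓚 hX hM (k + 1)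
  refine (congrArg (Sheaf.H.map ((SheafOfModules.toSheaf X.ringCatSheaf).map (inv (lvCmp I 𝓚 h𝓚 hX hM k))) p)
    (pushS_natural 𝓚 hX p k y)).trans ?_
  refine (Formal.HHmap_comp ((toX 𝓚 hX).push.map
    (FSch.levelTrans (FSch.completionAlong X 𝓚) hX ((toX 𝓚 hX).pull.obj M) k)) (inv (lvCmp I 𝓚 h𝓚 hX hM k)) p _).trans ?_
  refine Eq.trans ?_ (Formal.HHmap_comp (inv (lvCmp I 𝓚 h𝓚 hX hM (k + 1))) (Formal.modPowTrans I (k + 1) M) p _).symm
  refine congrArg (fun q : lvPush 𝓚 hX (M := M) (k + 1) ⟶ Formal.modPow I (k + 1) M =>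
    Sheaf.H.map ((SheafOfModules.toSheaf X.ringCatSheaf).map q) p (pushS 𝓚 hX p (k + 1) y)) ?_
  rw [IsIso.eq_inv_comp, ← Category.assoc, IsIso.comp_inv_eq, lvCmp_trans]

include h𝓚 hM in
/-- Cohomology of the completion as a limit. -/
theorem nonempty_HF_equiv (p : ℕ) :
    Nonempty (FSch.HF (FSch.completionAlong X 𝓚) hX ((toX 𝓚 hX).pull.obj M) p ≃+ Formal.HHlim I M p) := by
  have hl : (FSch.completionAlong X 𝓚).IsLocNoethFormal := S3854.result X 𝓚
  have hcoh : FSch.IsCohF (FSch.completionAlong X 𝓚) hl.1 ((toX 𝓚 hl.1).pull.obj M) := isFP_pull 𝓚 hl.1 hM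
  let r : ∀ k, FSch.HF (FSch.completionAlong X 𝓚) hX ((toX 𝓚 hX).pull.obj M) p →+ Formal.HHmodPow I M p k := fun k =>
    (hfCmp I 𝓚 h𝓚 hX hM p k).toAddMonoidHom.comp (Sheaf.H.map ((Sh hX).map
      ((FSch.levelMor (FSch.completionAlong X 𝓚) hX k).adj.unit.app ((toX 𝓚 hX).pull.obj M))) p)
  have hr : ∀ x k, Formal.HHmodPowTrans I M p k (r (k + 1) x) = r k x := fun x k => by
    refine (hfCmp_trans I 𝓚 h𝓚 hX hM p k _).symm.trans ?_
    refine congrArg (hfCmp I 𝓚 h𝓚 hX hM p k) ((Sheaf.H.map_comp_apply _ _ x).symm.trans ?_)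
    rw [← Functor.map_comp, FSch.unit_levelTrans]
  let Φ : FSch.HF (FSch.completionAlong X 𝓚) hX ((toX 𝓚 hX).pull.obj M) p →+ Formal.HHlim I M p :=
    AddMonoidHom.mk' (fun x => ⟨fun k => r k x, hr x⟩) fun x y => Subtype.ext (funext fun k => map_add (r k) x y)
  refine ⟨AddEquiv.ofBijective Φ ⟨(injective_iff_map_eq_zero Φ).2 fun x hx => ?_, fun y => ?_⟩⟩
  · refine HF_eq_zero hl ((toX 𝓚 hl.1).pull.obj M) hcoh p (fun m _ => ?_) x fun k => ?_
    · exact limOne_of_equiv (fun k => hfCmp I 𝓚 h𝓚 hX hM m k) (fun k z => hfCmp_trans I 𝓚 h𝓚 hX hM m k z)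
        (limOne_HHmodPow I hM m)
    · refine (hfCmp I 𝓚 h𝓚 hX hM p k).injective (Eq.trans ?_ (map_zero _).symm)
      exact congrFun (congrArg Subtype.val hx) k
  · obtain ⟨x, hx⟩ := exists_HF_lift hl ((toX 𝓚 hl.1).pull.obj M) hcoh p
      (fun k => (hfCmp I 𝓚 h𝓚 hX hM p k).symm (y.1 k)) fun k => (hfCmp I 𝓚 h𝓚 hX hM p k).injective (by
        rw [AddEquiv.apply_symm_apply]
        refine (hfCmp_trans I 𝓚 h𝓚 hX hM p k _).trans ?_
        rw [AddEquiv.apply_symm_apply]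
        exact y.2 k)
    exact ⟨x, Subtype.ext (funext fun k => (congrArg (hfCmp I 𝓚 h𝓚 hX hM p k) (hx k)).trans
      (AddEquiv.apply_symm_apply _ _))⟩

end Proper

end Groth.Agent.H26.FMod
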