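import Groth.Agent.H26.FMod.Ker

/-!
# Reduction to the levels
-/

noncomputable section

set_option autoImplicit false
set_option linter.style.haveILetI false
set_option backward.isDefEq.respectTransparency false
set_option backward.isDefEq.respectTransparency.types false

universe u

open CategoryTheory CategoryTheory.Limits TopologicalSpace Opposite AlgebraicGeometry
open Groth.Agent.ModTensor Groth.Agent.ModPull Groth.Agent.LocalFactor Groth.Agent.SecGen

attribute [local instance] Pres.fκ Pres.fρ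

namespace Groth.Agent.H26.FMod

variable {𝔛 : FSch.Sys.{u}} (h : 𝔛.IsLocNoethFormal) {𝔉 : FSch.ModF 𝔛 h.1}
  (h𝔉 : FSch.IsCohF 𝔛 h.1 𝔉) {U : (𝔛.X 0).Opens} (hU : IsAffineOpen U)

include h h𝔉 hU in
/-- The sections killed on a level. -/
theorem puk_eq_zero_iff (k : ℕ) (x : Sec 𝔉 U) :
    puk k 𝔉 U x = 0 ↔ x ∈ Jd h.1 U ^ (k + 1) • (⊤ : Submodule (Rg h.1 U) (Sec 𝔉 U)) := by
  refine ⟨fun hx => ?_, puk_eq_zero k 𝔉 U fun r hr => by rwa [← ker_pr h k hU, RingHom.mem_ker] at hr⟩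
  haveI := isIso_toReal h 𝔉 h𝔉
  let e := asIso (toReal h.1 𝔉)
  have h1 : qm h.1 (sysOf h.1 𝔉) k U (mapSEquiv e U x) = 0 := (qm_toReal 𝔉 k U x).trans hx
  have h2 := Submodule.mem_map_of_mem (f := (mapSEquiv e U).symm.toLinearMap)
    ((((chartM _ h (fun k => isCoh_pullK k 𝔉 h𝔉) hU).2 k).2 _).1 h1)
  rw [Submodule.map_smul'', Submodule.map_top, LinearEquiv.range] at h2
  simpa using h2

include h hU in
/-- The ideals of definition restrict to the ideals of definition. -/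
theorem Jd_map (a : Rg h.1 U) :
    (Jd h.1 U).map (res (D_le a)) = Jd h.1 (D h.1 a) := by
  have hV := isAffineOpen_D hU a
  haveI := noetherian h hV
  haveI := complete h hV
  refine le_antisymm (Ideal.map_le_iff_le_comap.2 fun y hy => ?_) fun r hr => ?_
  · rw [Ideal.mem_comap, RingHom.mem_ker, pr_res, RingHom.mem_ker.1 hy, map_zero]
  refine mem_of_forall_mem_sup (Jd h.1 (D h.1 a)) ((Jd h.1 U).map (res (D_le a))) r fun k => ?_
  obtain ⟨m, b, hb⟩ := num h hU a k (pr h.1 k (D h.1 a) r)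
  have h0 : pr h.1 0 (D h.1 a) (res (D_le a) b) = 0 := by
    rw [← rt_pr k, ← hb, map_mul, map_pow, rt_pr, rt_pr, RingHom.mem_ker.1 hr, mul_zero]
  obtain ⟨N, hN⟩ := den hU a b 0 h0
  obtain ⟨v, hv⟩ := ((isUnit_res h hU a).pow (N + m)).exists_left_inv
  refine Submodule.mem_sup.2 ⟨v * res (D_le a) (a ^ N * b),
    Ideal.mul_mem_left _ v (Ideal.mem_map_of_mem _ hN), r - v * res (D_le a) (a ^ N * b), ?_,
    add_sub_cancel _ _⟩
  rw [smul_eq_mul, Ideal.mul_top]
  refine Ideal.pow_le_pow_right (Nat.le_succ k) ?_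
  have e : r - v * res (D_le a) (a ^ N * b) =
      v * (res (D_le a) a ^ (N + m) * r - res (D_le a) (a ^ N * b)) := by
    rw [mul_sub, ← mul_assoc, hv, one_mul]
  rw [e, ← ker_pr h k hV, RingHom.mem_ker, map_mul, map_sub, map_mul, map_pow, pow_add, mul_assoc, hb,
    map_mul (res (D_le a)), map_pow (res (D_le a)), map_mul, map_pow, sub_self, mul_zero]

include h in
/-- The kernel of the unit at a level is of finite type. -/
theorem isFiniteType_kernel_unit (n : ℕ) :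
    SheafOfModules.IsFiniteType (R := ModSite.ringSh (𝔛.Osh h.1))
      (kernel ((FSch.levelMor 𝔛 h.1 n).adj.unit.app (FSch.unitF 𝔛 h.1))) := by
  classical
  let η := (FSch.levelMor 𝔛 h.1 n).adj.unit.app (FSch.unitF 𝔛 h.1)
  let one : ∀ V, Sec (FSch.unitF 𝔛 h.1) V := fun V => (1 : Rg h.1 V)
  refine isFiniteType_of_gens _ fun X => ?_
  refine ⟨{ arrows := fun V g => ∃ U : (𝔛.X 0).Opens, IsAffineOpen U ∧ V ≤ U,
            downward_closed := fun {V V' f} ⟨U, h1, h2⟩ g => ⟨U, h1, (leOfHom g).trans h2⟩ }, ?_, ?_⟩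
  · intro y hy
    obtain ⟨_, ⟨U, hU', rfl⟩, hyU, hle⟩ := (𝔛.X 0).isBasis_affineOpens.exists_subset_of_mem_open hy X.2
    exact ⟨U, homOfLE hle, ⟨U, hU', le_rfl⟩, hyU⟩
  rintro V g ⟨U, hU, hVU⟩
  haveI := noetherian h hU
  obtain ⟨m, z, hz⟩ := Submodule.fg_iff_exists_fin_generating_family.1
    (IsNoetherian.noetherian (Jd h.1 U ^ (n + 1)))
  have hmap : ∀ (W : (𝔛.X 0).Opens) (x : Sec (FSch.unitF 𝔛 h.1) W),
      mapS η W x = puk n (FSch.unitF 𝔛 h.1) W x := fun W x => rfl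
  choose y hy using fun l : Fin m => exists_kernel_sec η U (show Sec (FSch.unitF 𝔛 h.1) U from z l)
    ((hmap U _).trans ((puk_eq_zero_iff h isCohF_unit hU n _).2 (by
      have hzl : z l ∈ Jd h.1 U ^ (n + 1) := hz ▸ Submodule.subset_span ⟨l, rfl⟩
      have := Submodule.smul_mem_smul hzl (Submodule.mem_top (x := one U))
      exact (mul_one (z l)) ▸ this)))
  refine ⟨m, fun l => rs ((fg (𝔛.Osh h.1)).obj (kernel η)) (homOfLE hVU).op (y l), ?_⟩
  refine Gens.pull (s := y) (fun W f t => ?_) (homOfLE hVU)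
  refine locally_D h hU (leOfHom f) _ (fun b hb => ?_) fun V V' g k hk => ?_
  · have hV := isAffineOpen_D hU b
    let t' := resM (kernel η) hb t
    have h1 : puk n (FSch.unitF 𝔛 h.1) (D h.1 b) (mapS (kernel.ι η) _ t') = 0 :=
      (hmap _ _).symm.trans
        (congrArg (fun r => ((fg (𝔛.Osh h.1)).map r).app (op (D h.1 b)) t') (kernel.condition η))
    have h2 : (show Rg h.1 (D h.1 b) from mapS (kernel.ι η) _ t') ∈ Jd h.1 (D h.1 b) ^ (n + 1) := by
      have h3 := (puk_eq_zero_iff h isCohF_unit hV n _).1 h1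
      have h4 : Jd h.1 (D h.1 b) ^ (n + 1) • (⊤ : Submodule (Rg h.1 (D h.1 b)) (Sec (FSch.unitF 𝔛 h.1) (D h.1 b))) ≤
          (show Submodule (Rg h.1 (D h.1 b)) (Sec (FSch.unitF 𝔛 h.1) (D h.1 b)) from Jd h.1 (D h.1 b) ^ (n + 1)) :=
        Submodule.smul_le.2 fun r hr s _ => Ideal.mul_mem_right (show Rg h.1 (D h.1 b) from s) _ hr
      exact h4 h3
    rw [← Jd_map h hU b, ← Ideal.map_pow, ← hz, Ideal.submodule_span_eq, Ideal.map_span, ← Set.range_comp] at h2
    obtain ⟨c, hc⟩ := (Submodule.mem_span_range_iff_exists_fun _).1 h2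
    refine ⟨c, app_injective (kernel.ι η) _ ?_⟩
    refine hc.symm.trans (Eq.trans ?_ (map_sum (mapS (kernel.ι η) (D h.1 b)) _ _).symm)
    refine Finset.sum_congr rfl fun l _ => ?_
    refine Eq.trans ?_ (map_smul (mapS (kernel.ι η) (D h.1 b)) _ _).symm
    refine congrArg (c l • ·) ?_
    refine Eq.trans ?_ (mapS_res (kernel.ι η) (D_le b) (y l)).symm
    rw [hy]
    rfl
  · obtain ⟨c, hc⟩ := hk
    refine ⟨fun i => ((𝔛.Osh h.1).obj.map g.op).hom (c i), ?_⟩
    rw [SecGen.rs_op_comp, hc, rs_sum]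
    exact Finset.sum_congr rfl fun i _ => by rw [rs_smul, ← SecGen.rs_op_comp, Category.assoc]

include h in
/-- A coherent module vanishing on the special fibre vanishes. -/
theorem isZero_of_level0 {C : FSch.ModF 𝔛 h.1} (hC : FSch.IsCohF 𝔛 h.1 C) (h0 : IsZero (pullK 0 C)) :
    IsZero C := by
  rw [IsZero.iff_id_eq_zero]
  refine (fg (𝔛.Osh h.1)).map_injective (PresheafOfModules.hom_ext fun W =>
    ModuleCat.hom_ext (LinearMap.ext fun z => ?_))
  refine eq_of_locally' C ?_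
  obtain ⟨W⟩ := W
  refine ⟨{ arrows := fun V g => ∃ U : (𝔛.X 0).Opens, IsAffineOpen U ∧ V ≤ U ∧ U ≤ W,
            downward_closed := fun {V V' f} ⟨U, h1, h2, h3⟩ g => ⟨U, h1, (leOfHom g).trans h2, h3⟩ }, ?_, ?_⟩
  · intro y hy
    obtain ⟨_, ⟨U, hU', rfl⟩, hyU, hle⟩ := (𝔛.X 0).isBasis_affineOpens.exists_subset_of_mem_open hy W.2
    exact ⟨U, homOfLE hle, ⟨U, hU', le_rfl, hle⟩, hyU⟩
  rintro V g ⟨U, hU, hVU, hUW⟩
  haveI := noetherian h hU
  haveI := complete h hU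
  haveI := finite_sec h hC hU
  have hz0 : ∀ k x, x ∈ Jd h.1 U ^ k • (⊤ : Submodule (Rg h.1 U) (Sec C U)) := by
    intro k
    induction k with
    | zero => intro x; rw [pow_zero, Ideal.one_eq_top, Submodule.top_smul]; trivial
    | succ k ih =>
      intro x
      have h1 : (⊤ : Submodule (Rg h.1 U) (Sec C U)) ≤ Jd h.1 U • ⊤ := fun y _ => by
        have h2 := (puk_eq_zero_iff h hC hU 0 y).1
          (congrArg (fun r : pullK 0 C ⟶ pullK 0 C => r.app (𝔛.lvU h.1 0 U) (puk 0 C U y))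
            ((IsZero.iff_id_eq_zero _).1 h0))
        rwa [zero_add, pow_one] at h2
      rw [pow_succ, Submodule.mul_smul]
      exact Submodule.smul_mono le_rfl h1 (ih x)
  have hx : resM C hUW z = 0 := (Submodule.mem_bot (Rg h.1 U)).1
    (mem_of_forall_mem_sup (Jd h.1 U) ⊥ _ fun k => Submodule.mem_sup_right (hz0 k _))
  have hg : rs ((fg (𝔛.Osh h.1)).obj C) g.op z = 0 := by
    have e : g = homOfLE hVU ≫ homOfLE hUW := Subsingleton.elim _ _
    rw [e, SecGen.rs_op_comp]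
    exact (congrArg _ hx).trans (map_zero _)
  refine ((app_rs ((fg (𝔛.Osh h.1)).map (𝟙 C)) g.op z).symm.trans ?_).trans
    (app_rs ((fg (𝔛.Osh h.1)).map (0 : C ⟶ C)) g.op z)
  rw [hg, map_zero, map_zero]

include h h𝔉 in
/-- Surjectivity is detected on the special fibre. -/
theorem epi_iff_level0 {𝔊 : FSch.ModF 𝔛 h.1} (h𝔊 : FSch.IsCohF 𝔛 h.1 𝔊) (θ : 𝔉 ⟶ 𝔊) :
    Epi θ ↔ Epi ((FSch.levelMor 𝔛 h.1 0).pull.map θ) := by
  haveI := (FSch.levelMor 𝔛 h.1 0).adj.leftAdjoint_preservesColimits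
  haveI : PreservesColimitsOfShape WalkingSpan (FSch.levelMor 𝔛 h.1 0).pull := inferInstance
  refine ⟨fun _ => inferInstance, fun hθ => ?_⟩
  haveI := h𝔉
  haveI := h𝔊
  have hC : FSch.IsCohF 𝔛 h.1 (cokernel θ) := SecGenOps.isFinitePresentation_cokernel θ
  let P := (FSch.levelMor 𝔛 h.1 0).pull
  have h0 : IsZero (pullK 0 (cokernel θ)) := by
    rw [IsZero.iff_id_eq_zero]
    refine ((FSch.levelMor 𝔛 h.1 0).adj.homEquiv _ _).injective ((cancel_epi (cokernel.π θ)).1 ?_)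
    have key : ∀ r : pullK 0 (cokernel θ) ⟶ pullK 0 (cokernel θ),
        cokernel.π θ ≫ (FSch.levelMor 𝔛 h.1 0).adj.homEquiv _ _ r =
          (FSch.levelMor 𝔛 h.1 0).adj.homEquiv _ _ (P.map (cokernel.π θ) ≫ r) := fun r =>
      ((FSch.levelMor 𝔛 h.1 0).adj.homEquiv_naturality_left _ _).symm
    rw [key, key]
    refine congrArg _ ((cancel_epi (P.map θ)).1 ?_)
    rw [← Category.assoc, ← Category.assoc, ← P.map_comp, cokernel.condition]
    have hz : P.map (0 : 𝔉 ⟶ cokernel θ) = 0 := by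
      refine ((FSch.levelMor 𝔛 h.1 0).adj.homEquiv _ _).injective ?_
      rw [Adjunction.homEquiv_unit, Adjunction.homEquiv_unit]
      rw [(FSch.levelMor 𝔛 h.1 0).adj.unit_naturality (0 : 𝔉 ⟶ cokernel θ)]
      simp
    rw [hz, zero_comp, zero_comp]
  exact Preadditive.epi_of_isZero_cokernel θ (isZero_of_level0 h hC h0)

include h h𝔉 in
/-- Small perturbations preserve injectivity and surjectivity. -/
theorem exists_perturb [CompactSpace (𝔛.X 0)] {𝔊 : FSch.ModF 𝔛 h.1} (h𝔊 : FSch.IsCohF 𝔛 h.1 𝔊)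
    (θ : 𝔉 ⟶ 𝔊) : ∃ n : ℕ, ∀ ψ : 𝔉 ⟶ 𝔊, ψ ≫ (FSch.levelMor 𝔛 h.1 n).adj.unit.app 𝔊 = 0 →
      (Mono θ → Mono (θ + ψ)) ∧ (Epi θ → Epi (θ + ψ)) := by
  classical
  choose U hU hxU using fun x : 𝔛.X 0 =>
    (show ∃ U : (𝔛.X 0).Opens, IsAffineOpen U ∧ x ∈ U by
      obtain ⟨_, ⟨U, hU', rfl⟩, hxU, -⟩ := (𝔛.X 0).isBasis_affineOpens.exists_subset_of_mem_open
        (Set.mem_univ x) isOpen_univ
      exact ⟨U, hU', hxU⟩)
  obtain ⟨T, hT⟩ := isCompact_univ.elim_finite_subcover (fun x => (U x : Set (𝔛.X 0)))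
    (fun x => (U x).2) fun x _ => Set.mem_iUnion.2 ⟨x, hxU x⟩
  have hc : ∀ i, ∃ c : ℕ, ∀ (n : ℕ) (x : Sec 𝔉 (U i)),
      mapS θ (U i) x ∈ Jd h.1 (U i) ^ (n + c) • (⊤ : Submodule (Rg h.1 (U i)) (Sec 𝔊 (U i))) →
      x ∈ LinearMap.ker (mapS θ (U i)) ⊔ Jd h.1 (U i) ^ n • ⊤ := fun i => by
    haveI := noetherian h (hU i)
    haveI := finite_sec h h𝔊 (hU i)
    exact exists_artinRees (Jd h.1 (U i)) (mapS θ (U i))
  choose c hc using hc
  refine ⟨T.sup c, fun ψ hψ => ?_⟩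
  have hψn : ∀ (W : (𝔛.X 0).Opens), IsAffineOpen W → ∀ x : Sec 𝔉 W,
      mapS ψ W x ∈ Jd h.1 W ^ (T.sup c + 1) • (⊤ : Submodule (Rg h.1 W) (Sec 𝔊 W)) :=
    fun W hW x => (puk_eq_zero_iff h h𝔊 hW _ _).1
      (congrArg (fun r => ((fg (𝔛.Osh h.1)).map r).app (op W) x) hψ)
  refine ⟨fun hm => ?_, fun he => ?_⟩
  · refine Preadditive.mono_of_isZero_kernel _ ?_
    let φ := θ + ψ
    have hK := isCohF_kernel h h𝔉 h𝔊 φ
    rw [IsZero.iff_id_eq_zero]
    refine (fg (𝔛.Osh h.1)).map_injective (PresheafOfModules.hom_ext fun W =>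
      ModuleCat.hom_ext (LinearMap.ext fun z => ?_))
    refine eq_of_locally' (kernel φ) ?_
    obtain ⟨W⟩ := W
    refine ⟨{ arrows := fun V g => ∃ i ∈ T, ∃ a : Rg h.1 (U i), V ≤ D h.1 a ∧ D h.1 a ≤ W,
              downward_closed := fun {V V' f} ⟨i, hi, a, h1, h2⟩ g =>
                ⟨i, hi, a, (leOfHom g).trans h1, h2⟩ }, ?_, ?_⟩
    · intro y hy
      obtain ⟨i, hi, hyi⟩ := Set.mem_iUnion₂.1 (hT (Set.mem_univ y))
      obtain ⟨a, hya, ha⟩ := exists_D h (hU i) (inf_le_left : U i ⊓ W ≤ U i) ⟨hyi, hy⟩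
      exact ⟨D h.1 a, homOfLE (ha.trans inf_le_right), ⟨i, hi, a, le_rfl, ha.trans inf_le_right⟩, hya⟩
    rintro V g ⟨i, hi, a, hV, haW⟩
    have hKU : ∀ x : Sec (kernel φ) (U i), x = 0 := by
      intro x
      haveI := noetherian h (hU i)
      haveI := complete h (hU i)
      haveI := finite_sec h h𝔉 (hU i)
      apply app_injective (kernel.ι φ) (op (U i))
      refine Eq.trans ?_ (map_zero _).symm
      let y := mapS (kernel.ι φ) (U i) x
      show y = 0
      have hy : mapS θ (U i) y + mapS ψ (U i) y = 0 :=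
        congrArg (fun r => ((fg (𝔛.Osh h.1)).map r).app (op (U i)) x) (kernel.condition φ)
      have hker : LinearMap.ker (mapS θ (U i)) = ⊥ :=
        LinearMap.ker_eq_bot.2 (app_injective θ (op (U i)))
      have key : ∀ k : ℕ, y ∈ Jd h.1 (U i) ^ k • (⊤ : Submodule (Rg h.1 (U i)) (Sec 𝔉 (U i))) := by
        intro k
        induction k with
        | zero => rw [pow_zero, Ideal.one_eq_top, Submodule.top_smul]; trivial
        | succ k ih =>
          have h1 := Submodule.mem_map_of_mem (f := mapS ψ (U i)) ih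
          rw [Submodule.map_smul''] at h1
          have h2 : mapS ψ (U i) y ∈ Jd h.1 (U i) ^ (k + 1 + c i) •
              (⊤ : Submodule (Rg h.1 (U i)) (Sec 𝔊 (U i))) := by
            refine Submodule.smul_mono (Ideal.pow_le_pow_right (by
              have := Finset.le_sup (f := c) hi; omega : k + 1 + c i ≤ k + (T.sup c + 1))) le_rfl ?_
            rw [pow_add, Submodule.mul_smul]
            refine Submodule.smul_mono le_rfl ?_ h1
            rintro _ ⟨w, -, rfl⟩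
            exact hψn _ (hU i) w
          have h3 := hc i (k + 1) y (by rw [eq_neg_of_add_eq_zero_left hy]; exact neg_mem h2)
          rwa [hker, bot_sup_eq] at h3
      exact (Submodule.mem_bot _).1 (mem_of_forall_mem_sup (Jd h.1 (U i)) ⊥ y
        fun k => Submodule.mem_sup_right (key k))
    obtain ⟨d, hd⟩ := genC_D h hK (hU i) a (κ := Fin 0) Fin.elim0 (eq_top_iff.2 fun x _ => by
      rw [hKU x]; exact zero_mem _) (resM (kernel φ) haW z)
    have hg : rs ((fg (𝔛.Osh h.1)).obj (kernel φ)) g.op z = 0 := by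
      have e : g = homOfLE hV ≫ homOfLE haW := Subsingleton.elim _ _
      rw [e, SecGen.rs_op_comp]
      exact (congrArg _ (hd.trans (by simp))).trans (map_zero _)
    refine ((app_rs ((fg (𝔛.Osh h.1)).map (𝟙 (kernel φ))) g.op z).symm.trans ?_).trans
      (app_rs ((fg (𝔛.Osh h.1)).map (0 : kernel φ ⟶ kernel φ)) g.op z)
    rw [hg, map_zero, map_zero]
  · have hψ0 : ψ ≫ (FSch.levelMor 𝔛 h.1 0).adj.unit.app 𝔊 = 0 := by
      refine (fg (𝔛.Osh h.1)).map_injective (PresheafOfModules.hom_ext fun W =>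
        ModuleCat.hom_ext (LinearMap.ext fun z => ?_))
      obtain ⟨W⟩ := W
      refine eq_of_locally' _ ?_
      refine ⟨{ arrows := fun V g => ∃ U' : (𝔛.X 0).Opens, IsAffineOpen U' ∧ V ≤ U' ∧ U' ≤ W,
                downward_closed := fun {V V' f} ⟨U', h1, h2, h3⟩ g => ⟨U', h1, (leOfHom g).trans h2, h3⟩ }, ?_, ?_⟩
      · intro y hy
        obtain ⟨_, ⟨U', hU', rfl⟩, hyU, hle⟩ := (𝔛.X 0).isBasis_affineOpens.exists_subset_of_mem_open hy W.2
        exact ⟨U', homOfLE hle, ⟨U', hU', le_rfl, hle⟩, hyU⟩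
      rintro V g ⟨U', hU', hVU, hUW⟩
      obtain rfl : g = homOfLE hVU ≫ homOfLE hUW := Subsingleton.elim _ _
      rw [← app_rs, ← app_rs]
      show puk 0 𝔊 V (mapS ψ V (rs _ (homOfLE hVU ≫ homOfLE hUW).op z)) = 0
      rw [SecGen.rs_op_comp]
      erw [mapS_res ψ hVU, puk_res]
      erw [(puk_eq_zero_iff h h𝔊 hU' 0 _).2
        (Submodule.smul_mono (Ideal.pow_le_pow_right (Nat.le_add_left 1 (T.sup c))) le_rfl
          (hψn U' hU' (resM 𝔉 hUW z)))]
      exact map_zero _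
    rw [epi_iff_level0 h h𝔉 h𝔊]
    have e : (FSch.levelMor 𝔛 h.1 0).pull.map (θ + ψ) = (FSch.levelMor 𝔛 h.1 0).pull.map θ := by
      refine ((FSch.levelMor 𝔛 h.1 0).adj.homEquiv _ _).injective ?_
      rw [Adjunction.homEquiv_unit, Adjunction.homEquiv_unit,
        (FSch.levelMor 𝔛 h.1 0).adj.unit_naturality (θ + ψ),
        (FSch.levelMor 𝔛 h.1 0).adj.unit_naturality θ, Preadditive.add_comp, hψ0, add_zero]
    rw [e]
    exact (epi_iff_level0 h h𝔉 h𝔊 θ).1 he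

end Groth.Agent.H26.FMod
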