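import Groth.Agent.H26.FMod.Level
import Groth.Prelude.Def_KLin

/-!
# Levels of coherent modules as modules on the formal scheme, and global scalars
-/

noncomputable section

set_option autoImplicit false
set_option maxHeartbeats 1000000
set_option linter.style.haveILetI false
set_option backward.isDefEq.respectTransparency false
set_option backward.isDefEq.respectTransparency.types false

universe u

open CategoryTheory CategoryTheory.Limits TopologicalSpace Opposite AlgebraicGeometry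
open Groth.Agent.ModTensor Groth.Agent.ModPull

namespace Groth.Agent.H26.FMod

variable {𝔛 : FSch.Sys.{u}}

/-- A level, as a module on the formal scheme. -/
abbrev lvl {hF : 𝔛.IsFormal} (k : ℕ) (𝔉 : FSch.ModF 𝔛 hF) : FSch.ModF 𝔛 hF :=
  (FSch.levelMor 𝔛 hF k).push.obj (pullK k 𝔉)

/-- The map to a level. -/
abbrev toLvl {hF : 𝔛.IsFormal} (k : ℕ) (𝔉 : FSch.ModF 𝔛 hF) : 𝔉 ⟶ lvl k 𝔉 :=
  (FSch.levelMor 𝔛 hF k).adj.unit.app 𝔉

section Scalar

variable {hF : 𝔛.IsFormal}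

/-- Restriction of a global function. -/
abbrev rTop (r : Rg hF ⊤) (U : (𝔛.X 0).Opens) : Rg hF U := res (le_top : U ≤ ⊤) r

lemma res_rTop (r : Rg hF ⊤) {U V : (𝔛.X 0).Opens} (hle : V ≤ U) : res hle (rTop r U) = rTop r V := by
  show ((𝔛.Osh hF).obj.map (homOfLE hle).op).hom (((𝔛.Osh hF).obj.map (homOfLE le_top).op).hom r) = _
  rw [← ConcreteCategory.comp_apply, ← Functor.map_comp]
  rfl

/-- Multiplication by a global function. -/
def smulF (r : Rg hF ⊤) (𝔐 : FSch.ModF 𝔛 hF) : 𝔐 ⟶ 𝔐 :=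
  ⟨PresheafOfModules.homMk
    { app := fun V => AddCommGrpCat.ofHom (DistribMulAction.toAddMonoidHom (Sec 𝔐 V.unop) (rTop r V.unop))
      naturality := fun V W g => by
        ext x
        show rTop r W.unop • (rs ((fg (𝔛.Osh hF)).obj 𝔐) g (show Sec 𝔐 V.unop from x) : Sec 𝔐 W.unop) =
          rs ((fg (𝔛.Osh hF)).obj 𝔐) g (rTop r V.unop • (show Sec 𝔐 V.unop from x))
        rw [rs_smul]
        refine congrArg (· • _) ?_
        exact (res_rTop r (leOfHom g.unop)).symm }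
    (fun V a x => by
      show rTop r V.unop • (show Rg hF V.unop from a) • (show Sec 𝔐 V.unop from x) =
        (show Rg hF V.unop from a) • rTop r V.unop • (show Sec 𝔐 V.unop from x)
      exact smul_comm _ _ _)⟩

lemma smulF_app (r : Rg hF ⊤) (𝔐 : FSch.ModF 𝔛 hF) (U : (𝔛.X 0).Opens) (x : Sec 𝔐 U) :
    mapS (smulF r 𝔐) U x = rTop r U • x := rfl

lemma ext_mapS {𝔐 𝔑 : FSch.ModF 𝔛 hF} {φ ψ : 𝔐 ⟶ 𝔑} (e : ∀ U x, mapS φ U x = mapS ψ U x) : φ = ψ := by
  apply (fg (𝔛.Osh hF)).map_injective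
  ext V x
  exact e V.unop x

lemma smulF_naturality (r : Rg hF ⊤) {𝔐 𝔑 : FSch.ModF 𝔛 hF} (φ : 𝔐 ⟶ 𝔑) :
    smulF r 𝔐 ≫ φ = φ ≫ smulF r 𝔑 :=
  ext_mapS fun U x => map_smul (mapS φ U) (rTop r U) x

lemma smulF_comm (r s : Rg hF ⊤) (𝔐 : FSch.ModF 𝔛 hF) : smulF r 𝔐 ≫ smulF s 𝔐 = smulF s 𝔐 ≫ smulF r 𝔐 :=
  ext_mapS fun U x => smul_comm (rTop s U) (rTop r U) (show Sec 𝔐 U from x)

lemma push_smulModΓ (k : ℕ) (r : Rg hF ⊤) (W : (𝔛.X k).Modules) :
    (FSch.levelMor 𝔛 hF k).push.map (Formal.smulModΓ W (pr hF k ⊤ r)) =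
      smulF r ((FSch.levelMor 𝔛 hF k).push.obj W) := by
  refine ext_mapS fun U x => ?_
  refine (KLin.smulModΓ_app_apply W (pr hF k ⊤ r) (𝔛.lvU hF k U) x).trans ?_
  show _ = pr hF k U (rTop r U) • (show Γ(W, 𝔛.lvU hF k U) from x)
  rw [rTop, pr_res]
  rfl

lemma pull_smulF (k : ℕ) (r : Rg hF ⊤) (𝔐 : FSch.ModF 𝔛 hF) :
    (FSch.levelMor 𝔛 hF k).pull.map (smulF r 𝔐) = Formal.smulModΓ (pullK k 𝔐) (pr hF k ⊤ r) := by
  apply ((FSch.levelMor 𝔛 hF k).adj.homEquiv _ _).injective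
  rw [Adjunction.homEquiv_unit, Adjunction.homEquiv_unit]
  refine ((FSch.levelMor 𝔛 hF k).adj.unit_naturality (smulF r 𝔐)).trans ?_
  refine (smulF_naturality r _).trans (congrArg (_ ≫ ·) ?_)
  exact (push_smulModΓ k r _).symm

end Scalar

variable (h : 𝔛.IsLocNoethFormal) {𝔉 : FSch.ModF 𝔛 h.1} (h𝔉 : FSch.IsCohF 𝔛 h.1 𝔉)

include h h𝔉 in
lemma puk_surjective (k : ℕ) {U : (𝔛.X 0).Opens} (hU : IsAffineOpen U) :
    Function.Surjective (puk k 𝔉 U) := fun z => by
  haveI := isIso_toReal h 𝔉 h𝔉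
  obtain ⟨w, hw⟩ := ((chartM (sysOf h.1 𝔉) h (fun j => isCoh_pullK j 𝔉 h𝔉) hU).2 k).1 z
  refine ⟨(mapSEquiv (asIso (toReal h.1 𝔉)) U).symm w, ?_⟩
  refine (qm_toReal 𝔉 k U _).symm.trans (Eq.trans ?_ hw)
  exact congrArg (qm h.1 (sysOf h.1 𝔉) k U) ((mapSEquiv (asIso (toReal h.1 𝔉)) U).apply_symm_apply w)

lemma mapS_toLvl (k : ℕ) (U : (𝔛.X 0).Opens) (x : Sec 𝔉 U) : mapS (toLvl k 𝔉) U x = puk k 𝔉 U x := rfl

include h h𝔉 in
/-- Levels of coherent modules are coherent. -/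
theorem isCohF_lvl (k : ℕ) : FSch.IsCohF 𝔛 h.1 (lvl k 𝔉) := by
  classical
  refine isFP_of_affine fun U hU => ?_
  haveI := noetherian h hU
  haveI := finite_sec h h𝔉 hU
  obtain ⟨n, x, hx⟩ := Module.Finite.exists_fin (R := Rg h.1 U) (M := Sec 𝔉 U)
  obtain ⟨p, A, hA⟩ := Submodule.fg_iff_exists_fin_generating_family.1 (IsNoetherian.noetherian
    (LinearMap.ker (Fintype.linearCombination (Rg h.1 U) x)))
  obtain ⟨m, z, hz⟩ := Submodule.fg_iff_exists_fin_generating_family.1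
    (IsNoetherian.noetherian (Jd h.1 U ^ (k + 1)))
  have hzJ : ∀ l, z l ∈ Jd h.1 U ^ (k + 1) := fun l => hz ▸ Submodule.subset_span ⟨l, rfl⟩
  let A' : Fin p ⊕ Fin m × Fin n → Fin n → Rg h.1 U :=
    Sum.elim A fun li i => if i = li.2 then z li.1 else 0
  have h0 : ∀ (V : (𝔛.X 0).Opens) (hV : IsAffineOpen V) (r : Rg h.1 V) (y : Sec 𝔉 V),
      r ∈ Jd h.1 V ^ (k + 1) → r • mapS (toLvl k 𝔉) V y = 0 := fun V hV r y hr => by
    rw [← map_smul, mapS_toLvl h]
    exact (puk_eq_zero_iff h h𝔉 hV k _).2 (Submodule.smul_mem_smul hr Submodule.mem_top)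
  refine ⟨presD h hU (fun i => mapS (toLvl k 𝔉) U (x i)) A' (fun j => ?_) (fun b t => ?_) fun b c hc => ?_⟩
  · rcases j with j | ⟨l, i₀⟩
    · have h1 : A j ∈ LinearMap.ker (Fintype.linearCombination (Rg h.1 U) x) :=
        hA ▸ Submodule.subset_span ⟨j, rfl⟩
      rw [LinearMap.mem_ker, Fintype.linearCombination_apply] at h1
      refine Eq.trans (Finset.sum_congr rfl fun i _ => ?_) ((map_sum (mapS (toLvl k 𝔉) U) _ _).symm.trans
        ((congrArg _ h1).trans (map_zero _)))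
      rw [map_smul]
      rfl
    · refine (Finset.sum_eq_single i₀ (fun i _ hi => ?_) (fun hn => absurd (Finset.mem_univ _) hn)).trans ?_
      · show (if i = i₀ then z l else 0) • _ = _
        rw [if_neg hi, zero_smul]
      · show (if i₀ = i₀ then z l else 0) • _ = _
        rw [if_pos rfl]
        exact h0 U hU _ _ (hzJ l)
  · obtain ⟨t₀, ht₀⟩ := puk_surjective h h𝔉 k (isAffineOpen_D hU b) t
    obtain ⟨c, hc⟩ := genC_D h h𝔉 hU b x hx t₀
    refine ⟨c, ht₀.symm.trans ((mapS_toLvl h k _ _).symm.trans ((congrArg _ hc).trans ?_))⟩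
    rw [map_sum]
    exact Finset.sum_congr rfl fun i _ => by rw [map_smul, mapS_res]
  · have hD := isAffineOpen_D hU b
    have h1 : puk k 𝔉 (D h.1 b) (∑ i, c i • resM 𝔉 (D_le b) (x i)) = 0 := by
      rw [← mapS_toLvl h, map_sum, ← hc]
      exact Finset.sum_congr rfl fun i _ => by rw [map_smul, mapS_res]
    have h2 := (puk_eq_zero_iff h h𝔉 hD k _).1 h1
    have h3 : Jd h.1 (D h.1 b) ^ (k + 1) = Ideal.span (Set.range fun l => res (D_le b) (z l)) := by
      rw [← Jd_map h hU b, ← Ideal.map_pow, ← hz, Ideal.submodule_span_eq, Ideal.map_span, ← Set.range_comp]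
      rfl
    rw [h3] at h2
    have htop : (⊤ : Submodule (Rg h.1 (D h.1 b)) (Sec 𝔉 (D h.1 b))) =
        Submodule.span (Rg h.1 (D h.1 b)) (Set.range fun i => resM 𝔉 (D_le b) (x i)) := by
      refine (eq_top_iff.2 fun t _ => ?_).symm
      obtain ⟨c', hc'⟩ := genC_D h h𝔉 hU b x hx t
      exact (Submodule.mem_span_range_iff_exists_fun _).2 ⟨c', hc'.symm⟩
    rw [htop, Submodule.span_smul_span, Set.range_smul_range] at h2
    obtain ⟨v, hv⟩ := (Submodule.mem_span_range_iff_exists_fun _).1 h2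
    obtain ⟨d, hd⟩ := exactC_D h h𝔉 hU b x A (fun r hr => by
      rw [hA]; simpa [Fintype.linearCombination_apply] using hr)
      (fun i => c i - ∑ l, v (l, i) * res (D_le b) (z l)) (by
        simp only [sub_smul, Finset.sum_sub_distrib, Finset.sum_smul, mul_smul]
        rw [Finset.sum_comm, ← hv, Fintype.sum_prod_type, sub_self])
    refine ⟨Sum.elim d v, fun i => ?_⟩
    rw [Fintype.sum_sum_type]
    have h4 := hd i
    rw [sub_eq_iff_eq_add] at h4
    refine h4.trans (congrArg₂ (· + ·) rfl ?_)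
    rw [Fintype.sum_prod_type]
    refine Finset.sum_congr rfl fun l _ => ?_
    refine Eq.trans ?_ (Finset.sum_eq_single i (fun i' _ hi' => ?_) (fun hn => absurd (Finset.mem_univ _) hn)).symm
    · show _ = v (l, i) * res (D_le b) (if i = i then z l else 0)
      rw [if_pos rfl]
    · show v (l, i') * res (D_le b) (if i = i' then z l else 0) = 0
      rw [if_neg (Ne.symm hi'), map_zero, mul_zero]

end Groth.Agent.H26.FMod
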