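import Groth.Agent.H26.FMod.Compl
import Groth.Agent.H26.FMod.HFCompletion
import Groth.Agent.H26.FMod.Level
import Groth.Agent.H26.FMod.LevelCoh

/-!
# Sections of completed modules and of their levels
-/

noncomputable section

set_option autoImplicit false
set_option maxHeartbeats 1000000
set_option linter.style.haveILetI false
set_option backward.isDefEq.respectTransparency false
set_option backward.isDefEq.respectTransparency.types false

universe u

open CategoryTheory CategoryTheory.Limits TopologicalSpace Opposite AlgebraicGeometry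
open Groth.Agent.ModTensor Groth.Agent.ModPull

namespace Groth.Agent.H26.FMod

lemma unit_step_gen {C D E : Type*} [Category C] [Category D] [Category E] {L : C ⥤ D} {R : D ⥤ C} (adj : L ⊣ R)
    {L' : D ⥤ E} {R' : E ⥤ D} (adj' : L' ⊣ R') {F : C} {G : E} (θ : L'.obj (L.obj F) ⟶ G) :
    (adj.unit.app F ≫ R.map (adj'.unit.app (L.obj F))) ≫ R.map (R'.map θ) =
      adj.homEquiv _ _ (adj'.homEquiv _ _ θ) := by
  rw [Adjunction.homEquiv_unit, Adjunction.homEquiv_unit, Category.assoc, Functor.map_comp]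

variable {X : Scheme.{u}} (𝓚 : X.IdealSheafData) (hX : (FSch.completionAlong X 𝓚).IsFormal)

lemma isClosedImmersion_completionToX (k : ℕ) : IsClosedImmersion (FSch.completionToX X 𝓚 k) :=
  inferInstanceAs (IsClosedImmersion (𝓚 ^ (k + 1)).subschemeι)

/-- Sections over an affine open of the map to a level. -/
theorem lvEta_app {F : X.Modules} (hF : Coh.IsQCoh F) (k : ℕ) {V : X.Opens} (hV : IsAffineOpen V) :
    Function.Surjective ((lvEta 𝓚 hX (M := F) k).app V) ∧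
      ∀ x, (lvEta 𝓚 hX (M := F) k).app V x = 0 ↔
        x ∈ (𝓚 ^ (k + 1)).ideal ⟨V, hV⟩ • (⊤ : Submodule Γ(X, V) Γ(F, V)) := by
  haveI : IsIso (thetaK (FSch.completionAlong X 𝓚) hX (FSch.completionToX X 𝓚) (FSch.completionToX_comm X 𝓚) F k) :=
    isIso_thetaK _ _ _ _ F k
  let cmp : (Scheme.Modules.pushforward (FSch.completionToX X 𝓚 k)).obj
        ((Scheme.Modules.pullback (FSch.completionToX X 𝓚 k)).obj F) ⟶
      (toX 𝓚 hX).push.obj ((FSch.levelMor (FSch.completionAlong X 𝓚) hX k).push.obj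
        ((Scheme.Modules.pullback (FSch.completionToX X 𝓚 k)).obj F)) :=
    (FSch.schPushCompare (FSch.completionAlong X 𝓚) hX (FSch.completionToX X 𝓚) (FSch.completionToX_comm X 𝓚) k).app _
  haveI : IsIso cmp := isIso_schPushCompare_app _ _ _ _ k _
  let θ := thetaK (FSch.completionAlong X 𝓚) hX (FSch.completionToX X 𝓚) (FSch.completionToX_comm X 𝓚) F k
  let τ : lvPush 𝓚 hX (M := F) k ⟶ (toX 𝓚 hX).push.obj ((FSch.levelMor (FSch.completionAlong X 𝓚) hX k).push.obj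
        ((Scheme.Modules.pullback (FSch.completionToX X 𝓚 k)).obj F)) :=
    (toX 𝓚 hX).push.map ((FSch.levelMor (FSch.completionAlong X 𝓚) hX k).push.map θ)
  have e : lvEta 𝓚 hX (M := F) k ≫ τ =
      (Scheme.Modules.pullbackPushforwardAdjunction (FSch.completionToX X 𝓚 k)).unit.app F ≫ cmp :=
    (unit_step_gen (toX 𝓚 hX).adj (FSch.levelMor (FSch.completionAlong X 𝓚) hX k).adj θ).trans
      (homEquiv_thetaK (FSch.completionAlong X 𝓚) hX (FSch.completionToX X 𝓚) (FSch.completionToX_comm X 𝓚) F k)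
  haveI : IsIso τ := inferInstanceAs (IsIso ((toX 𝓚 hX).push.map _))
  haveI : IsIso (τ.app V) := Scheme.Modules.Hom.isIso_iff_isIso_app.mp inferInstance V
  haveI : IsIso (cmp.app V) := Scheme.Modules.Hom.isIso_iff_isIso_app.mp inferInstance V
  have hτ := ConcreteCategory.bijective_of_isIso (τ.app V)
  have hc := ConcreteCategory.bijective_of_isIso (cmp.app V)
  haveI := isClosedImmersion_completionToX 𝓚 k
  obtain ⟨hs, hk⟩ := QCoh.unit_app_closed (FSch.completionToX X 𝓚 k) hF hV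
  have e' : ∀ x, τ.app V ((lvEta 𝓚 hX (M := F) k).app V x) =
      cmp.app V (((Scheme.Modules.pullbackPushforwardAdjunction (FSch.completionToX X 𝓚 k)).unit.app F).app V x) :=
    fun x => congrArg (fun t => Scheme.Modules.Hom.app t V x) e
  refine ⟨fun y => ?_, fun x => ?_⟩
  · obtain ⟨w, hw⟩ := hc.2 (τ.app V y)
    obtain ⟨x, rfl⟩ := hs w
    exact ⟨x, hτ.1 ((e' x).trans hw)⟩
  · refine Iff.trans ⟨fun h0 => hc.1 (by rw [← e', h0, map_zero, map_zero]), fun h0 => hτ.1 (by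
      rw [e', h0, map_zero, map_zero])⟩ ((hk x).trans ?_)
    rw [show (FSch.completionToX X 𝓚 k).ker = 𝓚 ^ (k + 1) from Scheme.IdealSheafData.ker_subschemeι _]

/-- The open of the completion over an open of the scheme. -/
abbrev hatU (V : X.Opens) : ((FSch.completionAlong X 𝓚).X 0).Opens := (FSch.completionToX X 𝓚 0) ⁻¹ᵁ V

lemma isAffineOpen_hatU {V : X.Opens} (hV : IsAffineOpen V) : IsAffineOpen (hatU 𝓚 V) := by
  haveI := isClosedImmersion_completionToX 𝓚 0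
  exact hV.preimage _

/-- The completion map of functions. -/
abbrev shU (V : X.Opens) : Γ(X, V) →+* Rg hX (hatU 𝓚 V) :=
  ((FSch.schSharp (FSch.completionAlong X 𝓚) hX (FSch.completionToX X 𝓚)
    (FSch.completionToX_comm X 𝓚)).hom.app (op V)).hom

lemma shU_mem {V : X.Opens} (hV : IsAffineOpen V) {a : Γ(X, V)} (ha : a ∈ 𝓚.ideal ⟨V, hV⟩) :
    shU 𝓚 hX V a ∈ Jd hX (hatU 𝓚 V) := by
  rw [RingHom.mem_ker]
  refine (congrArg (fun t => t.hom.app (op V) a)
    (FSch.schSharp_proj (FSch.completionAlong X 𝓚) hX (FSch.completionToX X 𝓚) (FSch.completionToX_comm X 𝓚) 0)).trans ?_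
  show ((FSch.completionToX X 𝓚 0).appLE V _ _).hom a = 0
  haveI := isClosedImmersion_completionToX 𝓚 0
  refine RingHom.mem_ker.1 ?_
  rw [(ComplFlat.appLE_closedImmersion (FSch.completionToX X 𝓚 0) ⟨V, hV⟩ _
    (FSch.lvU_p (FSch.completionAlong X 𝓚) hX (FSch.completionToX X 𝓚) (FSch.completionToX_comm X 𝓚) 0 V).symm).2,
    show (FSch.completionToX X 𝓚 0).ker = 𝓚 ^ (0 + 1) from Scheme.IdealSheafData.ker_subschemeι _, pow_one]
  exact ha

/-- Sections into the completed module. -/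
abbrev uU (F : X.Modules) (V : X.Opens) : Γ(F, V) →+ Sec ((toX 𝓚 hX).pull.obj F) (hatU 𝓚 V) :=
  (Scheme.Modules.Hom.app (M := F) (N := (toX 𝓚 hX).push.obj ((toX 𝓚 hX).pull.obj F))
    ((toX 𝓚 hX).adj.unit.app F) V).hom

lemma uU_smul (F : X.Modules) (V : X.Opens) (a : Γ(X, V)) (x : Γ(F, V)) :
    uU 𝓚 hX F V (a • x) = shU 𝓚 hX V a • uU 𝓚 hX F V x :=
  Scheme.Modules.Hom.app_smul ((toX 𝓚 hX).adj.unit.app F) a x

lemma puk_uU (F : X.Modules) (k : ℕ) (V : X.Opens) (x : Γ(F, V)) :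
    puk k ((toX 𝓚 hX).pull.obj F) (hatU 𝓚 V) (uU 𝓚 hX F V x) = (lvEta 𝓚 hX (M := F) k).app V x := rfl

lemma uU_mem {V : X.Opens} (hV : IsAffineOpen V) (F : X.Modules) (i : ℕ) {x : Γ(F, V)}
    (hx : x ∈ 𝓚.ideal ⟨V, hV⟩ ^ i • (⊤ : Submodule Γ(X, V) Γ(F, V))) :
    uU 𝓚 hX F V x ∈ Jd hX (hatU 𝓚 V) ^ i • (⊤ : Submodule (Rg hX (hatU 𝓚 V)) (Sec ((toX 𝓚 hX).pull.obj F) (hatU 𝓚 V))) := by
  refine Submodule.smul_induction_on hx (fun a ha y _ => ?_) fun y y' hy hy' => by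
    rw [map_add]; exact Submodule.add_mem _ hy hy'
  rw [uU_smul]
  refine Submodule.smul_mem_smul ?_ Submodule.mem_top
  have h1 : (𝓚.ideal ⟨V, hV⟩).map (shU 𝓚 hX V) ≤ Jd hX (hatU 𝓚 V) :=
    Ideal.map_le_iff_le_comap.2 fun b hb => shU_mem 𝓚 hX hV hb
  have h2 := Ideal.mem_map_of_mem (shU 𝓚 hX V) ha
  rw [Ideal.map_pow] at h2
  exact Ideal.pow_right_mono h1 i h2

variable [IsLocallyNoetherian X]

/-- Sections of the scheme are dense in the completed module. -/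
theorem exists_uU_approx (hl : (FSch.completionAlong X 𝓚).IsLocNoethFormal) {F : X.Modules} (hF : Coh.IsCoh F)
    {V : X.Opens} (hV : IsAffineOpen V) (k : ℕ) (p : Sec ((toX 𝓚 hl.1).pull.obj F) (hatU 𝓚 V)) :
    ∃ m, p - uU 𝓚 hl.1 F V m ∈ Jd hl.1 (hatU 𝓚 V) ^ (k + 1) • (⊤ : Submodule (Rg hl.1 (hatU 𝓚 V)) (Sec ((toX 𝓚 hl.1).pull.obj F) (hatU 𝓚 V))) := by
  obtain ⟨m, hm⟩ := (lvEta_app 𝓚 hl.1 hF.1 k hV).1 (puk k _ _ p)
  refine ⟨m, (puk_eq_zero_iff hl (isFP_pull 𝓚 hl.1 hF) (isAffineOpen_hatU 𝓚 hV) k _).1 ?_⟩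
  exact (map_sub (puk k _ _) _ _).trans (sub_eq_zero.2 (hm.symm.trans (puk_uU 𝓚 hl.1 F k V m).symm))

end Groth.Agent.H26.FMod
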