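import Groth.Agent.H26.FMod.Algebraizable
import Groth.Agent.H26.FMod.ToXLevel
import Groth.Agent.H26.FMod.ExistSupp
import Groth.Agent.H26.FMod.TorsCompact
import Groth.Agent.SiteBase.EtExcision.Compactify
import Groth.Agent.QCoh.Support
import Groth.Agent.QCoh.Tilde
import Groth.Agent.S2128
import Groth.Agent.S3854

/-!
# Quasi-coherent modules on a proper scheme and on its completion
-/

noncomputable section

set_option autoImplicit false
set_option maxHeartbeats 1000000
set_option linter.style.haveILetI false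
set_option backward.isDefEq.respectTransparency false
set_option backward.isDefEq.respectTransparency.types false

universe u

open CategoryTheory CategoryTheory.Limits TopologicalSpace Opposite AlgebraicGeometry

namespace Groth.Agent.H26.FMod

namespace AlgQC

variable {A : Type u} [CommRing A] [IsNoetherianRing A] (I : Ideal A) [IsAdicComplete I A]
  {X : Scheme.{u}} [X.Over (Spec (CommRingCat.of A))] [IsProper (X ↘ Spec (CommRingCat.of A))]
  [AlgebraicGeometry.IsNoetherian X]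
  (𝓚 : X.IdealSheafData) (h𝓚 : 𝓚 = (FSch.idealSpec A I).comap (X ↘ Spec (CommRingCat.of A)))
  (hl : (FSch.completionAlong X 𝓚).IsLocNoethFormal)

omit [IsNoetherianRing A] [IsAdicComplete I A] in
lemma isProperOver_support {M : X.Modules} (hM : Coh.IsCoh M) :
    ClSub.IsProperOver (X ↘ Spec (CommRingCat.of A)) (CohB1.support M) :=
  EtExcision.isProperOver_of_isProper _ (QCoh.isClosed_support_of_isFT hM.1 hM.2)

include h𝓚 in
/-- Full faithfulness on coherent modules. -/
theorem bijective_coh {G G' : X.Modules} (hG : Coh.IsCoh G) (hG' : Coh.IsCoh G') :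
    Function.Bijective fun φ : G ⟶ G' => (toX 𝓚 hl.1).pull.map φ := by
  have hs : ClSub.IsProperOver (X ↘ Spec (CommRingCat.of A)) (CohB1.support G ∩ CohB1.support G') :=
    EtExcision.isProperOver_of_isProper _ ((QCoh.isClosed_support_of_isFT hG.1 hG.2).inter
      (QCoh.isClosed_support_of_isFT hG'.1 hG'.2))
  haveI : (toX 𝓚 hl.1).pull.Additive := SiteCmp.additive_pull _
  refine ⟨fun a b hab => ?_, fun ψ => exists_pull_map_eq I 𝓚 h𝓚 hl.1 hG hG' hs ψ⟩
  obtain ⟨φ₀, -, huniq⟩ := S4473.result A I X G G' hG hG' hs 0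
  suffices h : ∀ φ : G ⟶ G', (toX 𝓚 hl.1).pull.map φ = 0 → φ = φ₀ from
    sub_eq_zero.1 ((h (a - b) (by rw [Functor.map_sub]; exact sub_eq_zero.2 hab)).trans (h 0 (Functor.map_zero _ _ _)).symm)
  intro φ hφ
  refine huniq φ fun n => ?_
  haveI := isIso_lvCmp I 𝓚 h𝓚 hl.1 hG' n
  have h1 : φ ≫ lvEta 𝓚 hl.1 (M := G') n = 0 := by
    rw [← lvAdj_map 𝓚 hl.1 φ n, hφ]
    show _ ≫ (toX 𝓚 hl.1).push.map (0 ≫ _) = 0
    haveI := (toX 𝓚 hl.1).adj.right_adjoint_additive
    rw [zero_comp, Functor.map_zero, comp_zero]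
  rw [← π_lvCmp I 𝓚 h𝓚 hl.1 hG' n, ← Category.assoc] at h1
  have h2 : φ ≫ Formal.modPowπ I (n + 1) G' = 0 := by
    rw [← cancel_mono (lvCmp I 𝓚 h𝓚 hl.1 hG' n), h1, zero_comp]
  rw [h2]
  show _ ≫ 0 = _
  rw [comp_zero]

omit [IsNoetherianRing A] [IsAdicComplete I A] [X.Over (Spec (CommRingCat.of A))]
  [IsProper (X ↘ Spec (CommRingCat.of A))] in
/-- Maps out of coherent modules on a Noetherian scheme commute with filtered colimits. -/
theorem preservesColimit_coyoneda_scheme {G : X.Modules} (hG : Coh.IsCoh G)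
    {J : Type u} [SmallCategory J] [IsFiltered J] (D : J ⥤ ModSite.Mod X.sheaf) :
    PreservesColimit D (coyoneda.obj (op (show ModSite.Mod X.sheaf from G))) := by
  haveI : SheafOfModules.IsFinitePresentation (R := ModSite.ringSh X.sheaf) G := isFP_of_isCoh hG
  refine HomColim.preservesColimit_coyoneda (F := (show ModSite.Mod X.sheaf from G))
    {K : Sheaf (Opens.grothendieckTopology X) (Type u) | CohCx.IsQcObject (K ⨯ K)}
    (HomColimTop.exists_generators fun ι V hV => ?_) fun K hK => hK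
  classical
  obtain ⟨t, ht⟩ := isCompact_univ.elim_finite_subcover (fun i => (V i : Set X)) (fun i => (V i).2)
    fun x _ => by
      obtain ⟨i, hi⟩ := Opens.mem_iSup.1 (hV.symm ▸ trivial : x ∈ iSup V)
      exact Set.mem_iUnion.2 ⟨i, hi⟩
  refine ⟨{i // i ∈ t}, inferInstance, fun j => V j.1, top_unique fun x _ => ?_, fun j => ⟨j.1, le_rfl⟩,
    fun j j' => NoetherianSpace.isCompact _⟩
  obtain ⟨i, hi, hx⟩ := Set.mem_iUnion₂.1 (ht (Set.mem_univ x))
  exact Opens.mem_iSup.2 ⟨⟨i, hi⟩, hx⟩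

omit [IsNoetherianRing A] [IsAdicComplete I A] [X.Over (Spec (CommRingCat.of A))]
  [IsProper (X ↘ Spec (CommRingCat.of A))] in
/-- Quasi-coherent modules are filtered colimits of coherent modules. -/
theorem exists_pres {G : X.Modules} (hG : Coh.IsQCoh G) :
    ∃ (J : Type u) (_ : SmallCategory J) (_ : IsFiltered J) (pres : ColimitPresentation J G),
      ∀ j, Coh.IsCoh (pres.diag.obj j) := by
  obtain ⟨J, _, _, D, c, hc, hD, rfl⟩ := S2128.result X G hG
  exact ⟨J, inferInstance, inferInstance, ⟨D, c.ι, hc⟩, fun j => QCoh.isCoh_iff_isFP.2 (hD j)⟩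

omit [IsNoetherianRing A] [IsAdicComplete I A] [X.Over (Spec (CommRingCat.of A))]
  [IsProper (X ↘ Spec (CommRingCat.of A))] in
include hl in
theorem compactSpace_level : CompactSpace ((FSch.completionAlong X 𝓚).X 0) :=
  haveI := isClosedImmersion_completionToX 𝓚 0
  (FSch.completionToX X 𝓚 0).isClosedEmbedding.compactSpace

include h𝓚 in
/-- Full faithfulness on quasi-coherent modules. -/
theorem bijective_qcoh {G H : X.Modules} (hG : Coh.IsQCoh G) (hH : Coh.IsQCoh H) :
    Function.Bijective fun φ : G ⟶ H => (toX 𝓚 hl.1).pull.map φ := by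
  haveI := compactSpace_level 𝓚 hl
  let Φ := toX 𝓚 hl.1
  haveI : PreservesColimitsOfSize.{u, u} Φ.pull := Φ.adj.leftAdjoint_preservesColimits
  haveI : Φ.pull.Additive := SiteCmp.additive_pull _
  obtain ⟨J', _, _, PH, hPH⟩ := exists_pres hH
  let hcH := isColimitOfPreserves Φ.pull PH.isColimit
  have key : ∀ {C : X.Modules}, Coh.IsCoh C → Function.Bijective fun φ : C ⟶ H => Φ.pull.map φ := fun {C} hC => by
    haveI := preservesColimit_coyoneda_scheme hC PH.diag
    haveI := preservesColimit_coyoneda_coh hl (isFP_pull 𝓚 hl.1 hC) (PH.diag ⋙ Φ.pull)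
    have hhom : ∀ (φ : C ⟶ H), ∃ j, ∃ φ' : C ⟶ PH.diag.obj j, φ' ≫ PH.ι.app j = φ := fun φ => by
      obtain ⟨j, φ', h⟩ := Types.jointly_surjective _
        (isColimitOfPreserves (coyoneda.obj (op (show ModSite.Mod X.sheaf from C))) PH.isColimit) φ
      exact ⟨j, φ', h⟩
    refine ⟨fun a b hab => ?_, fun ψ => ?_⟩
    · obtain ⟨i, a', ha⟩ := hhom (a - b)
      have h0 : Φ.pull.map a' ≫ (Φ.pull.mapCocone PH.cocone).ι.app i = 0 := by
        show Φ.pull.map a' ≫ Φ.pull.map (PH.ι.app i) = 0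
        rw [← Φ.pull.map_comp, ha, Φ.pull.map_sub]
        exact sub_eq_zero.2 hab
      obtain ⟨k, t, t', hk⟩ := (Types.FilteredColimit.isColimit_eq_iff _
        (isColimitOfPreserves (coyoneda.obj (op (Φ.pull.obj C))) hcH)).1
          (show ((coyoneda.obj (op (Φ.pull.obj C))).mapCocone (Φ.pull.mapCocone PH.cocone)).ι.app i (Φ.pull.map a') =
            ((coyoneda.obj (op (Φ.pull.obj C))).mapCocone (Φ.pull.mapCocone PH.cocone)).ι.app i
              (0 : Φ.pull.obj C ⟶ Φ.pull.obj (PH.diag.obj i)) from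
            h0.trans zero_comp.symm)
      have h1 : Φ.pull.map a' ≫ Φ.pull.map (PH.diag.map t) = 0 :=
        (show Φ.pull.map a' ≫ Φ.pull.map (PH.diag.map t) =
          (0 : Φ.pull.obj C ⟶ Φ.pull.obj (PH.diag.obj i)) ≫ Φ.pull.map (PH.diag.map t') from hk).trans zero_comp
      rw [← Φ.pull.map_comp] at h1
      have h2 : a' ≫ PH.diag.map t = 0 :=
        (bijective_coh I 𝓚 h𝓚 hl hC (hPH k)).1 (h1.trans (Φ.pull.map_zero _ _).symm)
      refine sub_eq_zero.1 (ha.symm.trans ?_)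
      rw [← PH.cocone.w t]
      show a' ≫ PH.diag.map t ≫ PH.ι.app k = 0
      rw [← Category.assoc, h2, zero_comp]
    · obtain ⟨j, ψ', hψ⟩ := Types.jointly_surjective _ (isColimitOfPreserves (coyoneda.obj (op (Φ.pull.obj C))) hcH) ψ
      obtain ⟨φ', hφ⟩ := (bijective_coh I 𝓚 h𝓚 hl hC (hPH j)).2 ψ'
      refine ⟨φ' ≫ PH.ι.app j, ?_⟩
      show Φ.pull.map _ = ψ
      rw [Φ.pull.map_comp]
      exact (congrArg (· ≫ Φ.pull.map (PH.ι.app j)) hφ).trans hψ
  obtain ⟨J, _, _, PG, hPG⟩ := exists_pres hG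
  let hcG := isColimitOfPreserves Φ.pull PG.isColimit
  refine ⟨fun a b hab => PG.isColimit.hom_ext fun j => (key (hPG j)).1 ?_, fun ψ => ?_⟩
  · show Φ.pull.map (PG.ι.app j ≫ a) = Φ.pull.map (PG.ι.app j ≫ b)
    rw [Φ.pull.map_comp, Φ.pull.map_comp]
    exact congrArg (_ ≫ ·) hab
  · choose φ hφ using fun j => (key (hPG j)).2 (Φ.pull.map (PG.ι.app j) ≫ ψ)
    let cc : Cocone PG.diag := Cocone.mk H
      { app := φ
        naturality := fun i j g => (key (hPG i)).1 (by
          show Φ.pull.map (PG.diag.map g ≫ φ j) = Φ.pull.map (φ i ≫ 𝟙 H)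
          rw [Φ.pull.map_comp, show Φ.pull.map (φ j) = Φ.pull.map (PG.ι.app j) ≫ ψ from hφ j, ← Category.assoc,
            ← Φ.pull.map_comp, Category.comp_id]
          exact (congrArg (fun r => Φ.pull.map r ≫ ψ) (PG.cocone.w g)).trans (hφ i).symm) }
    refine ⟨PG.isColimit.desc cc, hcG.hom_ext fun j => ?_⟩
    show Φ.pull.map (PG.ι.app j) ≫ Φ.pull.map (PG.isColimit.desc cc) = Φ.pull.map (PG.ι.app j) ≫ ψ
    rw [← Φ.pull.map_comp, ← hφ j]
    exact congrArg Φ.pull.map (PG.isColimit.fac cc j)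

include h𝓚 in
/-- Coherent modules on the completion are algebraic. -/
theorem exists_coh_alg {𝔉 : FSch.ModF (FSch.completionAlong X 𝓚) hl.1}
    (h : FSch.IsCohF (FSch.completionAlong X 𝓚) hl.1 𝔉) :
    ∃ M : X.Modules, Coh.IsCoh M ∧ Nonempty ((toX 𝓚 hl.1).pull.obj M ≅ 𝔉) := by
  have hprop : IsProper ((⊥ : X.IdealSheafData).subschemeι ≫ (X ↘ Spec (CommRingCat.of A))) := inferInstance
  obtain ⟨M, hM, -, ⟨e⟩⟩ := exists_alg_of_killed I 𝓚 h𝓚 hl.1 𝔉 h ⊥ hprop fun k U a ha s => by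
    have h0 : a = 0 := by simpa using ha
    rw [h0, zero_smul]
  haveI := isIso_complCmp 𝓚 hl hM
  exact ⟨M, hM, ⟨asIso (complCmp 𝓚 hl.1 M) ≪≫ e.symm⟩⟩

include h𝓚 in
/-- Ind-coherent modules on the completion are completions of quasi-coherent modules. -/
theorem ind_iff (𝔉 : FSch.ModF (FSch.completionAlong X 𝓚) hl.1) :
    IndCoh 𝔉 ↔ ∃ G : X.Modules, Coh.IsQCoh G ∧ Nonempty ((toX 𝓚 hl.1).pull.obj G ≅ 𝔉) := by
  let Φ := toX 𝓚 hl.1
  haveI : PreservesColimitsOfSize.{u, u} Φ.pull := Φ.adj.leftAdjoint_preservesColimits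
  refine ⟨fun ⟨J, _, _, pres, hp⟩ => ?_, fun ⟨G, hG, ⟨e⟩⟩ => ?_⟩
  · choose M hM α using fun j => exists_coh_alg I 𝓚 h𝓚 hl (hp j)
    have bij := fun i j => bijective_coh I 𝓚 h𝓚 hl (hM i) (hM j)
    choose m hm using fun (i j : J) (g : i ⟶ j) =>
      (bij i j).2 ((α i).some.hom ≫ pres.diag.map g ≫ (α j).some.inv)
    have hm' : ∀ (i j : J) (g : i ⟶ j), Φ.pull.map (m i j g) =
        (α i).some.hom ≫ pres.diag.map g ≫ (α j).some.inv := hm
    let D : J ⥤ X.Modules :=
      { obj := M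
        map := fun {i j} g => m i j g
        map_id := fun i => (bij i i).1 (by
          refine (hm i i (𝟙 i)).trans ?_
          show _ = Φ.pull.map (𝟙 (M i))
          rw [Φ.pull.map_id, pres.diag.map_id, Category.id_comp, Iso.hom_inv_id])
        map_comp := fun {i j k} f g => (bij i k).1 (by
          refine (hm i k (f ≫ g)).trans ?_
          show _ = Φ.pull.map (m i j f ≫ m j k g)
          rw [Φ.pull.map_comp, hm' i j f, hm' j k g, pres.diag.map_comp]
          simp) }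
    let eD : D ⋙ Φ.pull ≅ pres.diag := NatIso.ofComponents (fun j => (α j).some) fun {i j} g => by
      show Φ.pull.map (m i j g) ≫ (α j).some.hom = (α i).some.hom ≫ pres.diag.map g
      rw [hm' i j g]
      simp
    refine ⟨colimit D, QCoh.isQCoh_colimit D fun j => (hM j).1, ⟨?_⟩⟩
    exact (isColimitOfPreserves Φ.pull (colimit.isColimit D)).coconePointUniqueUpToIso
      ((IsColimit.precomposeHomEquiv eD _).symm pres.isColimit)
  · obtain ⟨J, _, _, PG, hPG⟩ := exists_pres hG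
    refine ⟨J, inferInstance, inferInstance, ⟨PG.diag ⋙ Φ.pull, ?_, ?_⟩, fun j => isFP_pull 𝓚 hl.1 (hPG j)⟩
    · exact (Φ.pull.mapCocone PG.cocone).ι ≫ (Functor.const J).map e.hom
    · exact IsColimit.ofIsoColimit (isColimitOfPreserves Φ.pull PG.isColimit) (Cocone.ext e fun j => rfl)

end AlgQC

end Groth.Agent.H26.FMod
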