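import Groth.Agent.H26.FMod.Alg
import Groth.Agent.H26.ComplFlat

/-!
# Affine charts of a locally Noetherian formal scheme
-/

noncomputable section

set_option autoImplicit false
set_option linter.style.haveILetI false
set_option backward.isDefEq.respectTransparency false
set_option backward.isDefEq.respectTransparency.types false

universe u

open CategoryTheory CategoryTheory.Limits TopologicalSpace Opposite AlgebraicGeometry

namespace Groth.Agent.H26.FMod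

variable {𝔛 : FSch.Sys.{u}} {hF : 𝔛.IsFormal}

variable (hF) in
/-- Sections of the structure sheaf. -/
abbrev Rg (U : (𝔛.X 0).Opens) : CommRingCat.{u} := (𝔛.Osh hF).obj.obj (op U)

variable (hF) in
/-- Sections of a level. -/
abbrev Lv (n : ℕ) (U : (𝔛.X 0).Opens) : CommRingCat.{u} := Γ(𝔛.X n, 𝔛.lvU hF n U)

variable (hF) in
/-- The projection to a level. -/
def pr (n : ℕ) (U : (𝔛.X 0).Opens) : Rg hF U →+* Lv hF n U :=
  ((𝔛.OshProj hF n).hom.app (op U)).hom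

variable (hF) in
/-- The transition map of the levels. -/
def tr (n : ℕ) (U : (𝔛.X 0).Opens) : Lv hF (n + 1) U →+* Lv hF n U :=
  ((𝔛.ι n).appLE (𝔛.lvU hF (n + 1) U) (𝔛.lvU hF n U) (𝔛.lvU_le hF n U)).hom

/-- Restriction of sections. -/
abbrev res {U V : (𝔛.X 0).Opens} (h : V ≤ U) : Rg hF U →+* Rg hF V :=
  ((𝔛.Osh hF).obj.map (homOfLE h).op).hom

/-- Restriction of sections of a level. -/
abbrev resL (n : ℕ) {U V : (𝔛.X 0).Opens} (h : V ≤ U) : Lv hF n U →+* Lv hF n V :=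
  ((𝔛.X n).presheaf.map ((Opens.map (𝔛.gInv hF n)).map (homOfLE h)).op).hom

lemma pr_res (n : ℕ) {U V : (𝔛.X 0).Opens} (h : V ≤ U) (x : Rg hF U) :
    pr hF n V (res h x) = resL n h (pr hF n U x) :=
  ConcreteCategory.congr_hom ((𝔛.OshProj hF n).hom.naturality (homOfLE h).op) x

lemma tr_pr (n : ℕ) (U : (𝔛.X 0).Opens) (x : Rg hF U) : tr hF n U (pr hF (n + 1) U x) = pr hF n U x :=
  ConcreteCategory.congr_hom (congrArg (fun t => t.hom.app (op U)) (ComplFlat.OshProj_levelMap 𝔛 hF n)) x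

variable (hF) in
/-- Evaluation of sheaves of rings at an open. -/
abbrev evU (U : (𝔛.X 0).Opens) :
    Sheaf (Opens.grothendieckTopology (𝔛.X 0)) CommRingCat.{u} ⥤ Type u :=
  sheafToPresheaf _ _ ⋙ (evaluation _ _).obj (op U) ⋙ CategoryTheory.forget CommRingCat.{u}

lemma pr_ext (U : (𝔛.X 0).Opens) {x y : Rg hF U} (h : ∀ n, pr hF n U x = pr hF n U y) : x = y := by
  have hlim : IsLimit ((evU U).mapCone (limit.cone (𝔛.levelRing hF))) :=
    isLimitOfPreserves _ (limit.isLimit _)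
  exact (Types.isLimitEquivSections hlim).injective (Subtype.ext (funext fun n => h n.unop))

lemma pr_lift (U : (𝔛.X 0).Opens) (y : ∀ n, Lv hF n U) (hy : ∀ n, tr hF n U (y (n + 1)) = y n) :
    ∃ x : Rg hF U, ∀ n, pr hF n U x = y n := by
  have hlim : IsLimit ((evU U).mapCone (limit.cone (𝔛.levelRing hF))) :=
    isLimitOfPreserves _ (limit.isLimit _)
  let v : ∀ j : ℕᵒᵖ, (𝔛.levelRing hF ⋙ evU U).obj j := fun j => y j.unop
  have hv : ∀ n : ℕ, (𝔛.levelRing hF ⋙ evU U).map (homOfLE (Nat.le_add_right n 1)).op (v (op (n + 1))) =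
      v (op n) := fun n => by
    rw [Functor.comp_map, FSch.Sys.levelRing_map_succ]
    exact hy n
  exact ⟨(Types.isLimitEquivSections hlim).symm
      ⟨v, fun {a b} r => ComplFlat.map_eq_of_step (𝔛.levelRing hF ⋙ evU U) v hv r⟩,
    fun n => Types.isLimitEquivSections_symm_apply hlim
      ⟨v, fun {a b} r => ComplFlat.map_eq_of_step (𝔛.levelRing hF ⋙ evU U) v hv r⟩ (op n)⟩

lemma toX_preimage_lvU (n : ℕ) (U : (𝔛.X 0).Opens) : (𝔛.toX n) ⁻¹ᵁ 𝔛.lvU hF n U = U := by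
  change (Opens.map ((𝔛.toX n).base ≫ 𝔛.gInv hF n)).obj U = U
  rw [FSch.Sys.toX_base_gInv]
  rfl

lemma lvU_toX_preimage (n : ℕ) (W : (𝔛.X n).Opens) : 𝔛.lvU hF n ((𝔛.toX n) ⁻¹ᵁ W) = W := by
  change (Opens.map (𝔛.gInv hF n ≫ (𝔛.toX n).base)).obj W = W
  rw [FSch.Sys.gInv_toX_base]
  rfl

lemma lvU_zero (U : (𝔛.X 0).Opens) : 𝔛.lvU hF 0 U = U := toX_preimage_lvU 0 U

variable (hF) in
lemma isAffineOpen_lvU (n : ℕ) {U : (𝔛.X 0).Opens} (hU : IsAffineOpen U) :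
    IsAffineOpen (𝔛.lvU hF n U) := by
  have := FComplLib.isClosedImmersion_toX hF n
  refine MorLib.Thick.isAffineOpen_of_preimage (𝔛.toX n) (FComplLib.surjective_toX hF n).surj ?_
  rw [toX_preimage_lvU]
  exact hU

lemma tr_surjective (n : ℕ) {U : (𝔛.X 0).Opens} (hU : IsAffineOpen U) :
    Function.Surjective (tr hF n U) := by
  have := (hF n).1
  exact (ComplFlat.appLE_closedImmersion (𝔛.ι n) ⟨_, isAffineOpen_lvU hF (n + 1) hU⟩ _
    (𝔛.lvU_succ hF n U).symm).1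

lemma le_toX_preimage (n : ℕ) (U : (𝔛.X 0).Opens) : 𝔛.lvU hF 0 U ≤ (𝔛.toX n) ⁻¹ᵁ 𝔛.lvU hF n U := by
  rw [toX_preimage_lvU, lvU_zero]

variable (hF) in
/-- The map of a level to the special fibre. -/
def rt (n : ℕ) (U : (𝔛.X 0).Opens) : Lv hF n U →+* Lv hF 0 U :=
  ((𝔛.toX n).appLE (𝔛.lvU hF n U) (𝔛.lvU hF 0 U) (le_toX_preimage n U)).hom

lemma rt_zero (U : (𝔛.X 0).Opens) (x : Lv hF 0 U) : rt hF 0 U x = x :=
  ConcreteCategory.congr_hom (show (𝟙 (𝔛.X 0) : 𝔛.X 0 ⟶ 𝔛.X 0).appLE (𝔛.lvU hF 0 U) (𝔛.lvU hF 0 U) le_rfl = 𝟙 _ by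
    simp [Scheme.Hom.appLE]; exact (𝔛.X 0).presheaf.map_id _) x

lemma rt_tr (n : ℕ) (U : (𝔛.X 0).Opens) (x : Lv hF (n + 1) U) :
    rt hF n U (tr hF n U x) = rt hF (n + 1) U x :=
  ConcreteCategory.congr_hom (FSch.appLE_comp_appLE_of_eq (𝔛.toX n) (𝔛.ι n) (𝔛.toX (n + 1)) rfl
    (𝔛.lvU hF (n + 1) U) (𝔛.lvU hF n U) (𝔛.lvU hF 0 U) (𝔛.lvU_le hF n U) (le_toX_preimage n U)
    (le_toX_preimage (n + 1) U)) x

lemma rt_pr (n : ℕ) (U : (𝔛.X 0).Opens) (x : Rg hF U) : rt hF n U (pr hF n U x) = pr hF 0 U x := by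
  induction n with
  | zero => rw [rt_zero]
  | succ n ih => rw [← rt_tr, tr_pr, ih]

variable (hF) in
/-- The ideal of definition on an open. -/
abbrev Jd (U : (𝔛.X 0).Opens) : Ideal (Rg hF U) := RingHom.ker (pr hF 0 U)

/-- The structure of an affine chart. -/
theorem chart (hA : 𝔛.IsAdic) (hN : ∀ n, IsLocallyNoetherian (𝔛.X n)) {U : (𝔛.X 0).Opens}
    (hU : IsAffineOpen U) :
    IsNoetherianRing (Rg hF U) ∧ IsAdicComplete (Jd hF U) (Rg hF U) ∧
      ∀ n, Function.Surjective (pr hF n U) ∧ RingHom.ker (pr hF n U) = Jd hF U ^ (n + 1) := by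
  have hG : ∀ n, IsNoetherianRing (Lv hF n U) := fun n => by
    haveI := hN n
    exact IsLocallyNoetherian.component_noetherian ⟨_, isAffineOpen_lvU hF n hU⟩
  let W : ∀ n, (𝔛.X n).affineOpens := fun n => ⟨_, isAffineOpen_lvU hF n hU⟩
  have hNe : ∀ n, RingHom.ker (rt hF n U) = (𝔛.toX n).ker.ideal (W n) := fun n => by
    haveI := FComplLib.isClosedImmersion_toX hF n
    exact (ComplFlat.appLE_closedImmersion (𝔛.toX n) (W n) _ (by rw [lvU_zero, toX_preimage_lvU])).2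
  refine exists_adic (hG 0) (hG 1) (fun n => tr hF n U) (fun n => tr_surjective n hU)
    (fun n => RingHom.ker (rt hF n U)) (fun n => ?_) (fun n => ?_) (fun n => ?_)
    (fun n => pr hF n U) (fun n x => tr_pr n U x)
    (fun x hx => pr_ext U fun n => by rw [hx n, map_zero]) (fun y hy => pr_lift U y hy)
  · haveI := (hF n).1
    have h1 : RingHom.ker (tr hF n U) = (𝔛.ι n).ker.ideal (W (n + 1)) :=
      (ComplFlat.appLE_closedImmersion (𝔛.ι n) (W (n + 1)) _ (𝔛.lvU_succ hF n U).symm).2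
    rw [h1, hNe, hA n, Scheme.IdealSheafData.ideal_pow, Pi.pow_apply]
  · have h1 : RingHom.ker (rt hF (n + 1) U) = (RingHom.ker (rt hF n U)).comap (tr hF n U) := by
      refine Ideal.ext fun x => ?_
      rw [Ideal.mem_comap, RingHom.mem_ker, RingHom.mem_ker, rt_tr]
    rw [h1, Ideal.map_comap_of_surjective _ (tr_surjective n hU)]
  · rw [hNe, ← Pi.pow_apply, ← Scheme.IdealSheafData.ideal_pow, FComplLib.pow_ker_toX hF hA n]
    rfl

lemma noetherian (h : 𝔛.IsLocNoethFormal) {U : (𝔛.X 0).Opens} (hU : IsAffineOpen U) :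
    IsNoetherianRing (Rg h.1 U) := (chart h.2.1 h.2.2 hU).1

lemma complete (h : 𝔛.IsLocNoethFormal) {U : (𝔛.X 0).Opens} (hU : IsAffineOpen U) :
    IsAdicComplete (Jd h.1 U) (Rg h.1 U) := (chart h.2.1 h.2.2 hU).2.1

lemma pr_surjective (h : 𝔛.IsLocNoethFormal) (n : ℕ) {U : (𝔛.X 0).Opens} (hU : IsAffineOpen U) :
    Function.Surjective (pr h.1 n U) := ((chart h.2.1 h.2.2 hU).2.2 n).1

lemma ker_pr (h : 𝔛.IsLocNoethFormal) (n : ℕ) {U : (𝔛.X 0).Opens} (hU : IsAffineOpen U) :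
    RingHom.ker (pr h.1 n U) = Jd h.1 U ^ (n + 1) := ((chart h.2.1 h.2.2 hU).2.2 n).2

section Basic

variable (hF) in
/-- Basic opens from sections of the structure sheaf. -/
def D {U : (𝔛.X 0).Opens} (a : Rg hF U) : (𝔛.X 0).Opens := (𝔛.X 0).basicOpen (pr hF 0 U a)

lemma D_le {U : (𝔛.X 0).Opens} (a : Rg hF U) : D hF a ≤ U :=
  ((𝔛.X 0).basicOpen_le _).trans (lvU_zero U).le

lemma lvU_D {U : (𝔛.X 0).Opens} (a : Rg hF U) (n : ℕ) :
    𝔛.lvU hF n (D hF a) = (𝔛.X n).basicOpen (pr hF n U a) := by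
  have e : (𝔛.toX n) ⁻¹ᵁ (𝔛.X n).basicOpen (pr hF n U a) = D hF a := by
    rw [D, ← rt_pr n U a]
    simp only [rt, Scheme.Hom.appLE]
    erw [Scheme.basicOpen_res]
    rw [Scheme.preimage_basicOpen]
    refine (inf_eq_right.2 ?_).symm
    refine ((𝔛.X 0).basicOpen_le _).trans ?_
    rw [toX_preimage_lvU, lvU_zero]
  rw [← e, lvU_toX_preimage]

lemma isAffineOpen_D {U : (𝔛.X 0).Opens} (hU : IsAffineOpen U) (a : Rg hF U) : IsAffineOpen (D hF a) :=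
  (isAffineOpen_lvU hF 0 hU).basicOpen _

lemma exists_D (h : 𝔛.IsLocNoethFormal) {U W : (𝔛.X 0).Opens} (hU : IsAffineOpen U) (hW : W ≤ U)
    {x : 𝔛.X 0} (hx : x ∈ W) : ∃ a : Rg h.1 U, x ∈ D h.1 a ∧ D h.1 a ≤ W := by
  have hx' : x ∈ 𝔛.lvU h.1 0 U := (lvU_zero (hF := h.1) U).ge (hW hx)
  obtain ⟨f, hf, hxf⟩ := (isAffineOpen_lvU h.1 0 hU).exists_basicOpen_le ⟨x, hx⟩ hx'
  obtain ⟨a, rfl⟩ := pr_surjective h 0 hU f
  exact ⟨a, hxf, hf⟩

/-- The restriction to a basic open is a localisation on every level. -/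
lemma level_loc {X : Scheme.{u}} {U V : X.Opens} (hU : IsAffineOpen U) (s : Γ(X, U)) (i : V ⟶ U)
    (e : V = X.basicOpen s) :
    (∀ c : Γ(X, V), ∃ (m : ℕ) (b : Γ(X, U)), X.presheaf.map i.op s ^ m * c = X.presheaf.map i.op b) ∧
      (∀ b : Γ(X, U), X.presheaf.map i.op b = 0 → ∃ N : ℕ, s ^ N * b = 0) ∧
      IsUnit (X.presheaf.map i.op s) := by
  subst e
  have := hU.isLocalization_basicOpen s
  obtain rfl : i = homOfLE (X.basicOpen_le s) := Subsingleton.elim _ _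
  refine ⟨fun c => ?_, fun b hb => ?_, IsLocalization.Away.algebraMap_isUnit s⟩
  · obtain ⟨⟨b, ⟨_, m, rfl⟩⟩, hm⟩ := IsLocalization.surj (Submonoid.powers s) c
    refine ⟨m, b, ?_⟩
    rw [mul_comm, ← map_pow]
    exact hm
  · obtain ⟨⟨_, N, rfl⟩, hN⟩ := (IsLocalization.map_eq_zero_iff (Submonoid.powers s) _ b).1 hb
    exact ⟨N, hN⟩

lemma num (h : 𝔛.IsLocNoethFormal) {U : (𝔛.X 0).Opens} (hU : IsAffineOpen U) (a : Rg h.1 U) (n : ℕ)
    (c : Lv h.1 n (D h.1 a)) : ∃ (m : ℕ) (b : Rg h.1 U),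
      pr h.1 n (D h.1 a) (res (D_le a) a) ^ m * c = pr h.1 n (D h.1 a) (res (D_le a) b) := by
  obtain ⟨m, b, hb⟩ := (level_loc (isAffineOpen_lvU h.1 n hU) (pr h.1 n U a)
    ((Opens.map (𝔛.gInv h.1 n)).map (homOfLE (D_le a))) (lvU_D a n)).1 c
  obtain ⟨b', rfl⟩ := pr_surjective h n hU b
  refine ⟨m, b', ?_⟩
  rw [pr_res, pr_res]
  exact hb

lemma den {U : (𝔛.X 0).Opens} (hU : IsAffineOpen U) (a b : Rg hF U) (n : ℕ)
    (hb : pr hF n (D hF a) (res (D_le a) b) = 0) : ∃ N : ℕ, pr hF n U (a ^ N * b) = 0 := by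
  rw [pr_res] at hb
  obtain ⟨N, hN⟩ := (level_loc (isAffineOpen_lvU hF n hU) (pr hF n U a)
    ((Opens.map (𝔛.gInv hF n)).map (homOfLE (D_le a))) (lvU_D a n)).2.1 _ hb
  exact ⟨N, by rw [map_mul, map_pow]; exact hN⟩

lemma isUnit_pr {U : (𝔛.X 0).Opens} (hU : IsAffineOpen U) (a : Rg hF U) (n : ℕ) :
    IsUnit (pr hF n (D hF a) (res (D_le a) a)) := by
  rw [pr_res]
  exact (level_loc (isAffineOpen_lvU hF n hU) (pr hF n U a)
    ((Opens.map (𝔛.gInv hF n)).map (homOfLE (D_le a))) (lvU_D a n)).2.2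

lemma isUnit_res (h : 𝔛.IsLocNoethFormal) {U : (𝔛.X 0).Opens} (hU : IsAffineOpen U) (a : Rg h.1 U) :
    IsUnit (res (D_le a) a) := by
  obtain ⟨v, hv⟩ := (isUnit_pr hU a 0).exists_right_inv
  obtain ⟨b, rfl⟩ := pr_surjective h 0 (isAffineOpen_D hU a) v
  have hj : res (D_le a) a * b - 1 ∈ Jd h.1 (D h.1 a) := by
    rw [RingHom.mem_ker, map_sub, map_mul, hv, map_one, sub_self]
  haveI := complete h (isAffineOpen_D hU a)
  have h1 := Ideal.mem_jacobson_bot.1 (IsAdicComplete.le_jacobson_bot _ hj) 1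
  rw [mul_one, sub_add_cancel] at h1
  exact isUnit_of_mul_isUnit_left h1

end Basic

end Groth.Agent.H26.FMod
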