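import Groth.Prelude.Def_FSch5
import Groth.Agent.FComplLib.Thicken
import Groth.Agent.FComplLib.Sys

/-!
# Levels of morphisms with proper smallest level
-/

noncomputable section

set_option autoImplicit false
set_option linter.style.haveILetI false

universe u

open CategoryTheory CategoryTheory.Limits TopologicalSpace AlgebraicGeometry

namespace Groth.Agent.H26.FMod

variable {𝔛 𝔜 : FSch.Sys.{u}}

lemma toX_comp_app (f : 𝔛 ⟶ 𝔜) : ∀ n, 𝔛.toX n ≫ (f : FSch.Hom 𝔛 𝔜).app n = (f : FSch.Hom 𝔛 𝔜).app 0 ≫ 𝔜.toX n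
  | 0 => by simp [FSch.Sys.toX]
  | n + 1 => by
    simp only [FSch.Sys.toX, Category.assoc]
    rw [← (f : FSch.Hom 𝔛 𝔜).comm n, ← Category.assoc, toX_comp_app f n, Category.assoc]

/-- The levels are proper if the smallest one is, also for morphisms which are not adic. -/
theorem isProper_app (h : 𝔛.IsLocNoethFormal) (h𝔜 : 𝔜.IsLocNoethFormal) (f : 𝔛 ⟶ 𝔜)
    [IsProper ((f : FSch.Hom 𝔛 𝔜).app 0)] (n : ℕ) : IsProper ((f : FSch.Hom 𝔛 𝔜).app n) := by
  haveI := h.2.2 n
  haveI := FComplLib.isClosedImmersion_toX h𝔜.1 n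
  haveI := FComplLib.isClosedImmersion_toX h.1 n
  haveI := FComplLib.surjective_toX h.1 n
  have e := toX_comp_app f n
  haveI : IsProper (𝔛.toX n ≫ (f : FSch.Hom 𝔛 𝔜).app n) := by rw [e]; infer_instance
  have h1 : IsSeparated ((f : FSch.Hom 𝔛 𝔜).app n) :=
    (FComplLib.isSeparated_iff_of_thickening e.symm).mpr inferInstance
  have h2 : UniversallyClosed ((f : FSch.Hom 𝔛 𝔜).app n) :=
    UniversallyClosed.of_comp_surjective (𝔛.toX n) _
  have h3 : LocallyOfFiniteType ((f : FSch.Hom 𝔛 𝔜).app n) := by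
    refine FComplLib.locallyOfFiniteType_of_nilpotent (iX := 𝔛.toX n) fun U V _ => ?_
    have hfg : ((𝔛.toX n).ker.ideal V).FG := (IsLocallyNoetherian.component_noetherian V).noetherian _
    have hsupp : (𝔛.toX n).ker.support = ⊤ := by
      ext1
      rw [Scheme.Hom.support_ker, Set.range_eq_univ.mpr (𝔛.toX n).surjective, closure_univ]
      rfl
    obtain ⟨m, hm⟩ := (Ideal.FG.isNilpotent_iff_le_nilradical hfg).mpr (FComplLib.ideal_le_nilradical hsupp V)
    exact ⟨hfg, m, by rw [hm, Ideal.zero_eq_bot]⟩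
  exact { toIsSeparated := h1, toUniversallyClosed := h2, toLocallyOfFiniteType := h3 }

end Groth.Agent.H26.FMod
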