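import Groth.Agent.H26.FMod.RpushLim
import Groth.Agent.QCoh.RpushModel
import Groth.Agent.S0036
import Groth.Agent.KFlatLib.Scheme.RpushQCoh

/-!
# Higher direct images of the levels
-/

noncomputable section

set_option autoImplicit false
set_option maxHeartbeats 1000000
set_option linter.style.haveILetI false
set_option backward.isDefEq.respectTransparency false
set_option backward.isDefEq.respectTransparency.types false

universe u

open CategoryTheory CategoryTheory.Limits TopologicalSpace Opposite AlgebraicGeometry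
open Groth.Agent.ModTensor Groth.Agent.ModPull

namespace Groth.Agent.H26.FMod.RpushLim

open OpenTransfer

variable {𝔛 : FSch.Sys.{u}} (h : 𝔛.IsLocNoethFormal) (k : ℕ)

lemma preservesFiniteLimits_pushLvl : PreservesFiniteLimits (FSch.levelMor 𝔛 h.1 k).push :=
  haveI : PreservesLimitsOfSize.{0, 0} (FSch.levelMor 𝔛 h.1 k).push :=
    (FSch.levelMor 𝔛 h.1 k).adj.rightAdjoint_preservesLimits
  PreservesLimitsOfSize.preservesFiniteLimits _

lemma preservesFiniteColimits_pushLvl : PreservesFiniteColimits (FSch.levelMor 𝔛 h.1 k).push := by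
  haveI : PreservesFiniteColimits (CohTop.push (𝔛.gInv h.1 k)) :=
    ClosedEmb.preservesFiniteColimits_push (𝔛.levelHomeo h.1 k).symm.isClosedEmbedding
  let e : (FSch.levelMor 𝔛 h.1 k).push ⋙ Sh h.1 ≅
      SheafOfModules.toSheaf (𝔛.X k).ringCatSheaf ⋙ CohTop.push (𝔛.gInv h.1 k) :=
    NatIso.ofComponents (fun _ => Iso.refl _) fun _ => (Category.comp_id _).trans (Category.id_comp _).symm
  haveI : PreservesFiniteColimits ((FSch.levelMor 𝔛 h.1 k).push ⋙ Sh h.1) :=
    preservesFiniteColimits_of_natIso e.symm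
  haveI : ReflectsFiniteColimits (Sh h.1) :=
    { reflects := fun {J} _ _ => reflectsColimitsOfShape_of_reflectsIsomorphisms }
  exact preservesFiniteColimits_of_reflects_of_preserves (FSch.levelMor 𝔛 h.1 k).push (Sh h.1)

variable {𝔜 : FSch.Sys.{u}} (h𝔜 : 𝔜.IsLocNoethFormal) (f : 𝔛 ⟶ 𝔜)
  [HasInjectiveResolutions (FSch.ModF 𝔛 h.1)] [HasInjectiveResolutions (𝔛.X k).Modules]

/-- Higher direct images of modules on a level. -/
theorem nonempty_rpush_lvl (q : ℕ) :
    Nonempty ((FSch.levelMor 𝔛 h.1 k).push ⋙ FSch.RpushF f h.1 h𝔜.1 q ≅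
      Coh.Rpush ((f : FSch.Hom 𝔛 𝔜).app k) q ⋙ (FSch.levelMor 𝔜 h𝔜.1 k).push) := by
  haveI := SpObjSS.enoughInjectives_of_hasInjectiveResolutions (C := FSch.ModF 𝔛 h.1)
  haveI := SpObjSS.enoughInjectives_of_hasInjectiveResolutions (C := (𝔛.X k).Modules)
  haveI := preservesFiniteLimits_pushLvl h k
  haveI := preservesFiniteColimits_pushLvl h k
  haveI := preservesFiniteLimits_pushLvl h𝔜 k
  haveI := preservesFiniteColimits_pushLvl h𝔜 k
  let E' : (𝔛.X k).Modules ⥤ FSch.ModF 𝔛 h.1 := (FSch.levelMor 𝔛 h.1 k).push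
  let P' : (𝔜.X k).Modules ⥤ FSch.ModF 𝔜 h𝔜.1 := (FSch.levelMor 𝔜 h𝔜.1 k).push
  haveI : E'.Additive := inferInstanceAs ((FSch.levelMor 𝔛 h.1 k).push).Additive
  haveI : P'.Additive := inferInstanceAs ((FSch.levelMor 𝔜 h𝔜.1 k).push).Additive
  haveI : PreservesFiniteLimits E' := preservesFiniteLimits_pushLvl h k
  haveI : PreservesFiniteColimits E' := preservesFiniteColimits_pushLvl h k
  haveI : PreservesFiniteLimits P' := preservesFiniteLimits_pushLvl h𝔜 k
  haveI : PreservesFiniteColimits P' := preservesFiniteColimits_pushLvl h𝔜 k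
  obtain ⟨e⟩ := SiteBase.nonempty_rightDerived_precomp_of_acyclic E' (FSch.pushF f h.1 h𝔜.1)
    (fun Q hQ i => by
      obtain ⟨eY⟩ := Edge.nonempty_rpush_toSheaf (FSch.homMor f h.1 h𝔜.1) (i + 1)
      have z := SiteBase.isZero_rpush_of_subsingleton (Opens.grothendieckTopology (𝔛.X 0))
        (Opens.grothendieckTopology (𝔜.X 0)) (Opens.map ((f : FSch.Hom 𝔛 𝔜).app 0).base) (i + 1)
        ((Sh h.1).obj (E'.obj Q)) (fun W => by
          haveI := hQ
          have hs : Subsingleton (CohSite.HU ((SheafOfModules.toSheaf (𝔛.X k).ringCatSheaf).obj Q) (i + 1)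
              ((Opens.map (𝔛.gInv h.1 k)).obj ((Opens.map ((f : FSch.Hom 𝔛 𝔜).app 0).base).obj W))) :=
            SiteBase.subsingleton_HU_of_totallyAcyclic
              (SiteBase.isTotallyAcyclic_toSheaf_injective (𝔛.X k).ringCatSheaf Q) _ i
          exact @Function.Surjective.subsingleton _ _ _ hs (Edge.bijective_pushHU (𝔛.gInv h.1 k)
            (𝔛.levelHomeo h.1 k).symm.isClosedEmbedding ((SheafOfModules.toSheaf (𝔛.X k).ringCatSheaf).obj Q) (i + 1)
            ((Opens.map ((f : FSch.Hom 𝔛 𝔜).app 0).base).obj W)).2)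
      have z' := z.of_iso (eY.app (E'.obj Q))
      rw [IsZero.iff_id_eq_zero] at z' ⊢
      exact (Sh h𝔜.1).map_injective (((Sh h𝔜.1).map_id _).trans (z'.trans ((Sh h𝔜.1).map_zero _ _).symm))) q
  exact ⟨e.symm ≪≫ SiteBase.rightDerivedCongr
      (show E' ⋙ FSch.pushF f h.1 h𝔜.1 ≅ Scheme.Modules.pushforward ((f : FSch.Hom 𝔛 𝔜).app k) ⋙ P' from
        FSch.lvPushSq f h.1 h𝔜.1 k) q ≪≫
    SiteBase.rightDerivedCompIso (Scheme.Modules.pushforward ((f : FSch.Hom 𝔛 𝔜).app k)) P' q⟩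

omit [HasInjectiveResolutions (𝔛.X k).Modules] in
/-- The higher direct image of a level is a coherent module on the level. -/
theorem exists_coh_lvl (hf : FSch.IsProperHom f) (𝔉 : FSch.ModF 𝔛 h.1) (h𝔉 : FSch.IsCohF 𝔛 h.1 𝔉) (q : ℕ) :
    ∃ N : (𝔜.X k).Modules, Coh.IsCoh N ∧
      Nonempty ((FSch.RpushF f h.1 h𝔜.1 q).obj (lvl k 𝔉) ≅ (FSch.levelMor 𝔜 h𝔜.1 k).push.obj N) := by
  haveI : HasInjectiveResolutions (𝔛.X k).Modules := KFlatLib.hasInjectiveResolutions_modules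
  haveI := hf.2
  haveI : IsProper ((f : FSch.Hom 𝔛 𝔜).app k) := S5738.result f h h𝔜 hf.1 k
  haveI := h𝔜.2.2 k
  obtain ⟨e⟩ := nonempty_rpush_lvl h k h𝔜 f q
  exact ⟨(Coh.Rpush ((f : FSch.Hom 𝔛 𝔜).app k) q).obj (pullK k 𝔉),
    S0036.result ((f : FSch.Hom 𝔛 𝔜).app k) (pullK k 𝔉) (isCoh_pullK k 𝔉 h𝔉) q, ⟨e.app (pullK k 𝔉)⟩⟩

end Groth.Agent.H26.FMod.RpushLim
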