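import Groth.Agent.H26.FMod.PushLevel
import Groth.Agent.H26.FMod.TorsClose
import Groth.Agent.H26.FMod.LevelProper
import Groth.Agent.H26.FMod.RpushLevel
import Groth.Agent.ExistEasy.PP.HatLemmas

/-!
# Direct images of quasi-coherent torsion modules
-/

noncomputable section

set_option autoImplicit false
set_option maxHeartbeats 1000000
set_option linter.style.haveILetI false
set_option backward.isDefEq.respectTransparency false
set_option backward.isDefEq.respectTransparency.types false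

universe u

open CategoryTheory CategoryTheory.Limits TopologicalSpace Opposite AlgebraicGeometry
open Groth.Agent.ModTensor Groth.Agent.ModPull Groth.Agent.LocalFactor Groth.Agent.SecGen
open Groth.Agent.H26.QPres

namespace Groth.Agent.H26.FMod

open OpenTransfer

variable {𝔛 : FSch.Sys.{u}} (h : 𝔛.IsLocNoethFormal) {M : FSch.ModF 𝔛 h.1}

include h in
/-- Opens of compact locally Noetherian formal schemes are compact. -/
theorem noetherianSpace_sys [CompactSpace (𝔛.X 0)] (n : ℕ) : NoetherianSpace (𝔛.X n) := by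
  haveI := h.2.2 n
  haveI : CompactSpace (𝔛.X n) := (𝔛.levelHomeo h.1 n).compactSpace
  haveI : IsNoetherian (𝔛.X n) := ⟨⟩
  infer_instance

include h in
/-- Torsion sections over compact opens are killed by a single member. -/
theorem exists_killedBy_of_compact {U : (𝔛.X 0).Opens} (hU : IsCompact (U : Set (𝔛.X 0))) (x : Sec M U)
    (hx : FTors.IsTorsSect (opI h) M (U := U) x) : ∃ n, FTors.KilledBy (opI h) M n (V := U) x := by
  classical
  have h1 : ∀ y : (U : Set (𝔛.X 0)), ∃ (V : (𝔛.X 0).Opens) (g : V ⟶ U) (n : ℕ),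
      y.1 ∈ V ∧ FTors.KilledBy (opI h) M n (V := V) (FTors.res M g x) := fun y => by
    obtain ⟨V, g, ⟨n, hn⟩, hyV⟩ := hx y.1 y.2
    exact ⟨V, g, n, hyV, hn⟩
  choose V g n hy hn using h1
  obtain ⟨t, ht⟩ := hU.elim_finite_subcover (fun y => (V y : Set (𝔛.X 0))) (fun y => (V y).2)
    fun y hy' => Set.mem_iUnion.2 ⟨⟨y, hy'⟩, hy _⟩
  refine ⟨t.sup n, killedBy_of_locally h x ⟨{
      arrows := fun W k => ∃ y ∈ t, W ≤ V y,
      downward_closed := fun {W W' k} ⟨y, hy1, hy2⟩ l => ⟨y, hy1, (leOfHom l).trans hy2⟩ }, ?_, ?_⟩⟩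
  · intro z hz
    obtain ⟨y, hyt, hzy⟩ := Set.mem_iUnion₂.1 (ht hz)
    exact ⟨V y, g y, ⟨y, hyt, le_rfl⟩, hzy⟩
  · rintro W k ⟨y, hyt, hWy⟩
    rw [Subsingleton.elim k (homOfLE hWy ≫ g y), FTors.res_comp]
    exact ((hn y).res _).mono (Finset.le_sup hyt)

lemma killSub_mono {m n : ℕ} (hmn : m ≤ n) :
    (killSub h M m).ι ≫ cokernel.π (killSub h M n).ι = 0 := by
  refine hom_ext_affine h fun U _ y => ?_
  obtain ⟨z, hz⟩ := (killSub h M n).exists_pre
    (show mapS (killSub h M m).ι U y ∈ (killSub h M n).mem U from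
      FTors.KilledBy.mono hmn ((killSub h M m).ι_mem y))
  rw [mapS_comp, ← hz, ← mapS_comp, cokernel.condition, mapS_zero, mapS_zero]

include h in
/-- The killed sections of a quasi-coherent module live on a level. -/
theorem exists_level_iso [SheafOfModules.IsQuasicoherent.{u} (R := ModSite.ringSh (𝔛.Osh h.1)) M] (n : ℕ) :
    ∃ F : (𝔛.X n).Modules, Coh.IsQCoh F ∧
      Nonempty ((FSch.levelMor 𝔛 h.1 n).push.obj F ≅ (killSub h M n).obj) ∧
      Nonempty ((FSch.levelMor 𝔛 h.1 n).pull.obj (killSub h M n).obj ≅ F) := by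
  let S := killSub h M n
  haveI : SheafOfModules.IsQuasicoherent.{u} (R := ModSite.ringSh (𝔛.Osh h.1)) S.obj :=
    isQC_sub h S.ι {n} (fun W t => ModPull.Locally.of_id fun V g =>
        ⟨n, rfl, FTors.KilledBy.res g (S.ι_mem t)⟩)
      fun U _ m hm z hz => S.exists_pre (show z ∈ S.mem U from by
        obtain rfl : m = n := hm
        exact hz)
  let i := 𝔛.gInv h.1 n
  have hi : Topology.IsClosedEmbedding i.hom := (𝔛.levelHomeo h.1 n).symm.isClosedEmbedding
  have hc := isLocallySurjective_OshProj h n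
  have hK : ClosedPushEq.Killed i (𝔛.OshProj h.1 n) S.obj := fun W a ha s =>
    app_injective S.ι (op W) (by
      refine (map_smul (mapS S.ι W) a _).trans (Eq.trans ?_ (map_zero (mapS S.ι W)).symm)
      have h1 := S.ι_mem s (𝟙 W) a ((mem_opI h a).2 ha)
      rwa [FTors.res_id] at h1)
  let Φ := FSch.levelMor 𝔛 h.1 n
  obtain ⟨F, ⟨e⟩⟩ := ClosedPushEq.essImage_of_killed i (𝔛.OshProj h.1 n) S.obj (hi := hi) hc hK
  haveI : Φ.push.Faithful := ClosedPushEq.faithful_push i (𝔛.OshProj h.1 n) hi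
  haveI : Φ.push.Full := ClosedPushEq.full_push i (𝔛.OshProj h.1 n) hi hc
  haveI : IsIso Φ.adj.counit := inferInstance
  let e' : Φ.push.obj F ≅ S.obj := e
  refine ⟨F, ?_, ⟨e'⟩, ⟨Φ.pull.mapIso e'.symm ≪≫ asIso (Φ.adj.counit.app F)⟩⟩
  haveI := PullQc.isQuasicoherent_pull Φ S.obj
  exact (SheafOfModules.isQuasicoherent (R := (𝔛.X n).ringCatSheaf)).prop_of_iso
    (Φ.pull.mapIso e'.symm ≪≫ asIso (Φ.adj.counit.app F))
    (inferInstanceAs (SheafOfModules.IsQuasicoherent (R := ModSite.ringSh (𝔛.X n).sheaf) (Φ.pull.obj S.obj)))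

include h in
/-- Modules on a level are torsion. -/
theorem isTorsF_pushLvl (n : ℕ) (G : (𝔛.X n).Modules) :
    FTors.IsTorsF 𝔛 h.1 ((FSch.levelMor 𝔛 h.1 n).push.obj G) := fun U s =>
  FTors.IsTorsSect.of_killedBy (n := n) fun W g a ha => by
    show pr h.1 n W a • (show Γ(G, 𝔛.lvU h.1 n W) from FTors.res ((FSch.levelMor 𝔛 h.1 n).push.obj G) g s) = (0 : Γ(G, 𝔛.lvU h.1 n W))
    rw [(mem_opI h a).1 ha, zero_smul]

variable {𝔜 : FSch.Sys.{u}} (h𝔜 : 𝔜.IsLocNoethFormal) (f : 𝔛 ⟶ 𝔜) [CompactSpace (𝔛.X 0)]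

include h h𝔜 in
/-- Direct images of quasi-coherent torsion modules are quasi-coherent torsion and ind-coherent. -/
theorem ind_qct_pushF (hM : FTors.IsQCT 𝔛 h.1 M) :
    IndCoh ((FSch.pushF f h.1 h𝔜.1).obj M) ∧ FTors.IsTorsF 𝔜 h𝔜.1 ((FSch.pushF f h.1 h𝔜.1).obj M) := by
  haveI := hM.2
  haveI := SiteBase.isGrothendieckAbelian_sheafOfModules (ModSite.ringSh (𝔜.Osh h𝔜.1))
  haveI : PreservesLimitsOfSize.{0, 0} (FSch.pushF f h.1 h𝔜.1) :=
    (FSch.homMor f h.1 h𝔜.1).adj.rightAdjoint_preservesLimits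
  let S := fun n : ULift.{u} ℕ => killSub h M n.down
  let R := FSch.pushF f h.1 h𝔜.1
  let D : ULift.{u} ℕ ⥤ MonoOver (R.obj M) :=
    { obj := fun n => haveI : Mono (R.map (S n).ι) := preserves_mono_of_preservesLimit _ _
        MonoOver.mk (R.map (S n).ι)
      map := fun {m n} g => MonoOver.homMk
        (R.map ((Abelian.monoIsKernelOfCokernel _ (colimit.isColimit _)).lift
          (KernelFork.ofι (S m).ι (killSub_mono h (m := m.down) (n := n.down) (show m ≤ n from leOfHom g)))))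
        (by
          show R.map _ ≫ R.map (S n).ι = R.map (S m).ι
          rw [← R.map_comp]
          exact congrArg R.map ((Abelian.monoIsKernelOfCokernel _ (colimit.isColimit _)).fac _
            WalkingParallelPair.zero))
      map_id := fun _ => Subsingleton.elim _ _
      map_comp := fun _ _ => Subsingleton.elim _ _ }
  let E : ULift.{u} ℕ ⥤ FSch.ModF 𝔜 h𝔜.1 := D ⋙ MonoOver.forget _ ⋙ Over.forget _
  let v : colimit E ⟶ R.obj M := colimit.desc E (Cocone.mk (R.obj M)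
    { app := fun n => (D.obj n).obj.hom
      naturality := fun {j j'} g => (MonoOver.w (D.map g)).trans (Category.comp_id _).symm })
  haveI : Mono v := IsGrothendieckAbelian.mono_of_isColimit_monoOver D (colimit.isColimit E) v
    (fun j => colimit.ι_desc _ _)
  haveI : Epi v := ⟨fun {Z} p q e => hom_ext_affine h𝔜 fun W hW t => by
    have hc : IsCompact (((Opens.map ((f : FSch.Hom 𝔛 𝔜).app 0).base).obj W : (𝔛.X 0).Opens) : Set (𝔛.X 0)) := by
      haveI := noetherianSpace_sys h 0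
      exact NoetherianSpace.isCompact _
    obtain ⟨n, hn⟩ := exists_killedBy_of_compact h hc (show Sec M _ from t) (hM.1 _ _)
    obtain ⟨y, hy⟩ := (killSub h M n).exists_pre hn
    have h1 := congrArg (colimit.ι E ⟨n⟩ ≫ ·) e
    rw [← Category.assoc, ← Category.assoc, colimit.ι_desc] at h1
    have h2 := congrArg (fun r => mapS r W (show Sec (R.obj (killSub h M n).obj) W from y)) h1
    simp only [mapS_comp] at h2
    have hy' : mapS (R.map (killSub h M n).ι) W (show Sec (R.obj (killSub h M n).obj) W from y) = t := hy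
    rw [← hy']
    exact h2⟩
  haveI : IsIso v := isIso_of_mono_of_epi v
  have hobj : ∀ n, IndCoh (E.obj n) ∧ FTors.IsTorsF 𝔜 h𝔜.1 (E.obj n) := fun n => by
    obtain ⟨F, hF, ⟨e⟩, -⟩ := exists_level_iso h (M := M) n.down
    haveI := noetherianSpace_sys h n.down
    haveI := h.2.2 n.down
    haveI : QuasiCompact ((f : FSch.Hom 𝔛 𝔜).app n.down) := ⟨fun U _ _ => NoetherianSpace.isCompact _⟩
    haveI : QuasiSeparated ((f : FSch.Hom 𝔛 𝔜).app n.down) := inferInstance
    let e' : E.obj n ≅ (FSch.levelMor 𝔜 h𝔜.1 n.down).push.obj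
        ((Scheme.Modules.pushforward ((f : FSch.Hom 𝔛 𝔜).app n.down)).obj F) :=
      R.mapIso e.symm ≪≫ (FSch.lvPushSq f h.1 h𝔜.1 n.down).app F
    exact ⟨ind_of_iso h𝔜 e'.symm (ind_pushLvl h𝔜 _ (QCoh.isQCoh_pushforward _ hF)),
      isTorsF_of_mono h𝔜 e'.hom (isTorsF_pushLvl h𝔜 _ _)⟩
  refine ⟨ind_of_iso h𝔜 (asIso v) (ind_colimit h𝔜 (colimit.isColimit E) fun n => (hobj n).1), ?_⟩
  exact isTorsF_of_mono h𝔜 (inv v) (isTorsF_colimit h𝔜 (colimit.isColimit E) fun n => (hobj n).2)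

include h in
/-- Coherent torsion modules on compact formal schemes are killed by one member. -/
theorem exists_isIso_killSub (hM : FSch.IsCohF 𝔛 h.1 M) (ht : FTors.IsTorsF 𝔛 h.1 M) :
    ∃ n, IsIso (killSub h M n).ι := by
  classical
  obtain ⟨F, hF⟩ := isCompact_univ.elim_finite_subcover (fun V : (𝔛.X 0).affineOpens => (V.1 : Set (𝔛.X 0)))
    (fun V => V.1.2) fun x _ => by
      obtain ⟨_, ⟨V, hV, rfl⟩, hxV, -⟩ := (𝔛.X 0).isBasis_affineOpens.exists_subset_of_mem_open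
        (Set.mem_univ x) isOpen_univ
      exact Set.mem_iUnion.2 ⟨⟨V, hV⟩, hxV⟩
  choose p x hx _ using fun V : (𝔛.X 0).affineOpens => exists_gens_coh h hM V.2
  choose n hn using fun (V : (𝔛.X 0).affineOpens) (i : Fin (p V)) =>
    exists_killedBy_of_tors h V.2 (x V i) (ht V.1 _)
  let N := F.sup fun V => Finset.univ.sup (n V)
  have key : ∀ (U : (𝔛.X 0).Opens) (s : Sec M U), FTors.KilledBy (opI h) M N (V := U) s := fun U s => by
    refine killedBy_of_locally h s ?_
    refine ModPull.Locally.bind (P := fun V g => ∃ A ∈ F, V ≤ A.1) ⟨{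
        arrows := fun V g => ∃ A ∈ F, V ≤ A.1,
        downward_closed := fun {V V' g} ⟨A, h1, h2⟩ l => ⟨A, h1, (leOfHom l).trans h2⟩ }, ?_, fun V g hg => hg⟩
      fun V g ⟨A, hA, hVA⟩ => ?_
    · intro z hz
      obtain ⟨A, hA, hzA⟩ := Set.mem_iUnion₂.1 (hF (Set.mem_univ z))
      exact ⟨U ⊓ A.1, homOfLE inf_le_left, ⟨A, hA, inf_le_right⟩, hz, hzA⟩
    · refine (hx A (homOfLE hVA) (rs ((fg (𝔛.Osh h.1)).obj M) g.op s)).mono fun V' k ⟨c, hc⟩ => ?_
      rw [show FTors.res M (k ≫ g) s = rs ((fg (𝔛.Osh h.1)).obj M) (k ≫ g).op s from rfl, SecGen.rs_op_comp, hc]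
      refine ((killSub h M N).mem V').sum_mem fun i _ => ((killSub h M N).mem V').smul_mem _ ?_
      exact ((hn A i).res _).mono ((Finset.le_sup (Finset.mem_univ i)).trans
        (Finset.le_sup (f := fun V => Finset.univ.sup (n V)) hA))
  refine ⟨N, ?_⟩
  haveI : Epi (killSub h M N).ι := ⟨fun {Z} a b hab => hom_ext_affine h fun U _ s => by
    obtain ⟨y, hy⟩ := (killSub h M N).exists_pre (key U s)
    have h1 := congrArg (fun r => mapS r U y) hab
    simp only [mapS_comp, hy] at h1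
    exact h1⟩
  exact isIso_of_mono_of_epi _

include h h𝔜 in
/-- Proper direct images of coherent torsion modules are coherent. -/
theorem isCohF_pushF_tors [IsProper ((f : FSch.Hom 𝔛 𝔜).app 0)] (hM : FSch.IsCohF 𝔛 h.1 M)
    (ht : FTors.IsTorsF 𝔛 h.1 M) : FSch.IsCohF 𝔜 h𝔜.1 ((FSch.pushF f h.1 h𝔜.1).obj M) := by
  haveI := hM
  obtain ⟨n, hn⟩ := exists_isIso_killSub h hM ht
  obtain ⟨F, -, ⟨e⟩, ⟨e₂⟩⟩ := exists_level_iso h (M := M) n
  haveI := isProper_app h h𝔜 f n
  haveI := h𝔜.2.2 n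
  have hFc : Coh.IsCoh F := SheafHomX.isCoh_of_iso
    (((FSch.levelMor 𝔛 h.1 n).pull.mapIso (asIso (killSub h M n).ι)).symm ≪≫ e₂)
    (isCoh_pullK n M hM)
  have hP := ExistEasy.isCoh_pushforward_proper ((f : FSch.Hom 𝔛 𝔜).app n) hFc
  exact ObjectProperty.prop_of_iso _ (((FSch.lvPushSq f h.1 h𝔜.1 n).app F).symm ≪≫
      (FSch.pushF f h.1 h𝔜.1).mapIso (e ≪≫ asIso (killSub h M n).ι))
    (isCohF_pushLvl h𝔜 n hP.1 hP.2)

end Groth.Agent.H26.FMod
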