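import Groth.Agent.H26.FMod.Dim
import Groth.Agent.H26.FMod.TorsPush

/-!
# Bounded cohomological dimension on unbounded complexes
-/

noncomputable section

set_option autoImplicit false
set_option maxHeartbeats 1000000
set_option linter.style.haveILetI false
set_option backward.isDefEq.respectTransparency false
set_option backward.isDefEq.respectTransparency.types false

universe u

open CategoryTheory CategoryTheory.Limits TopologicalSpace Opposite AlgebraicGeometry Pretriangulated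
  DerivedCategory

attribute [local instance] HasDerivedCategory.standard

namespace Groth.Agent.H26.Dim

open Groth.Agent.SiteBase

section Generic

variable {A : Type (u + 1)} [Category.{u} A] [Abelian A] [IsGrothendieckAbelian.{u} A]
  {B : Type (u + 1)} [Category.{u} B] [Abelian B]
  (G : A ⥤ B) [G.Additive]
  [(G.mapHomotopyCategory (ComplexShape.up ℤ) ⋙ DerivedCategory.Qh).HasRightDerivedFunctor
    (HomotopyCategory.quasiIso A (ComplexShape.up ℤ))]

local notation "R" => RpushD.RD G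
local notation "HA" => DerivedCategory.homologyFunctor A
local notation "HB" => DerivedCategory.homologyFunctor B

/-- Vanishing of derived images of bounded objects above a bound. -/
theorem isZero_RD_bounded (Y : DerivedCategory A) (a : ℤ) [Y.IsGE a] (e N : ℤ) [Y.IsLE e]
    (h : ∀ q i : ℤ, N < i → IsZero ((HB i).obj ((R).obj ((singleFunctor A 0).obj ((HA q).obj Y)))))
    (j : ℤ) (hj : e + N < j) : IsZero ((HB j).obj ((R).obj Y)) := by
  let P : ObjectProperty (DerivedCategory A) := fun Z => IsZero ((HB j).obj ((R).obj Z))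
  have : P.IsClosedUnderIsomorphisms := ⟨fun i he => he.of_iso ((HB j).mapIso ((R).mapIso i)).symm⟩
  have hP : ∀ T ∈ distTriang (DerivedCategory A), P T.obj₁ → P T.obj₃ → P T.obj₂ := fun T hT h₁ h₃ => by
    obtain ⟨c, hc⟩ := RpushD.exists_triangle G T hT
    exact ShortComplex.Exact.isZero_of_both_zeros (HomologySequence.exact₂ _ hc j)
      (h₁.eq_of_src _ _) (h₃.eq_of_tgt _ _)
  have : Y.IsLE (a + (e - a).toNat) := (DerivedCategory.TStructure.t).isLE_of_le Y e _ (by omega)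
  refine RpushD.prop_of_bounded P hP (e - a).toNat Y a fun q _ _ => ?_
  obtain ⟨e'⟩ := DLimA.nonempty_homology_RD_singleFunctor G ((HA q).obj Y) q j
  by_cases hq : q ≤ e
  · exact (h q (j - q) (by omega)).of_iso e'
  · have hz : IsZero ((singleFunctor A q).obj ((HA q).obj Y)) :=
      (singleFunctor A q).map_isZero (isZero_of_isLE Y e q (by omega))
    have : ((singleFunctor A q).obj ((HA q).obj Y)).IsGE (j + 1) :=
      (isGE_iff _ _).2 fun s _ => (HA s).map_isZero hz
    have := RpushD.isGE_RD G ((singleFunctor A q).obj ((HA q).obj Y)) (j + 1)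
    exact isZero_of_isGE _ (j + 1) _ (by omega)

end Generic

section Site

variable {C : Type u} [SmallCategory C] {J : GrothendieckTopology C} {O_C : Sheaf J CommRingCat.{u}}
  {D : Type u} [SmallCategory D] {K : GrothendieckTopology D} {O_D : Sheaf K CommRingCat.{u}}
  (f : ModSite.RMor O_C O_D) [SiteCmp.HasRpushD f]

/-- Higher direct images of unbounded objects vanish above the cohomological dimension. -/
theorem isZero_rpushD (A : ObjectProperty (ModSite.Mod O_C))
    {B : Set C} (hB : DLim.IsCoveredBy J B) (hA : (DLimA.modData O_C).LocBound A B)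
    {B' : Set D} (hB' : DLim.IsCoveredBy K B')
    (hA' : ∀ V ∈ B', ∃ d : ℕ, ∀ T ∈ K V, ∃ (ι : Type u) (Y : ι → D) (g : ∀ i, Y i ⟶ V),
      (∀ i, T.arrows (g i)) ∧ Sieve.ofArrows Y g ∈ K V ∧
      ∀ (i : ι) (F : ModSite.Mod O_C), A F → ∀ k : ℕ, d < k →
        (DLimA.modData O_C).Vanish (f.fn.obj (Y i)) F k)
    [HasInjectiveResolutions (ModSite.Mod O_C)] (N : ℤ)
    (hN : ∀ F : ModSite.Mod O_C, A F → ∀ p : ℕ, N < (p : ℤ) → IsZero ((f.Rpush p).obj F))
    (hA0 : A.IsClosedUnderIsomorphisms) (hz : ∀ Z, IsZero Z → A Z)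
    (X : DerivedCategory (ModSite.Mod O_C)) (hX : WSerre.cohIn A X) (e : ℤ)
    (he : ∀ i, e < i → IsZero (SiteCmp.HMod X i)) (j : ℤ) (hj : e + N < j) :
    IsZero (SiteCmp.HMod ((SiteCmp.RpushD f).obj X) j) := by
  have : (RpushD.RD (A := ModSite.Mod O_C) (B := ModSite.Mod O_D) f.push).IsRightAdjoint :=
    H9Misc.RpushLeftAdj.isRightAdjoint_RpushD f
  have k4 := fun M (hM : A M) (i : ℤ) (hi : N < i) =>
    DLimA.isZero_homology_RD_single (A := ModSite.Mod O_C) (B := ModSite.Mod O_D)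
      f.push M i fun p hp => hN M hM p (by omega)
  let n := (N - j).toNat
  have hiso := DLimA.isIso_RD_trunc (A := ModSite.Mod O_C) (B := ModSite.Mod O_D) (G := f.push)
    (DLimA.modData O_C) (DLimA.modData O_D) hB hA hB' N k4 X hX
    (DLimA.eventBijOn_upstairs (A := ModSite.Mod O_C) (B := ModSite.Mod O_D) f.push
      (DLimA.modData O_C) (DLimA.modData O_D) f.adj (H9Misc.RpushLeftAdj.exists_good f)
      (DLimA.good_freeAt f) f.fn.obj (DLimA.nonempty_pull_freeAt_iso f) hA' X hX) n j (by omega)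
  refine IsZero.of_iso ?_ (@asIso _ _ _ _ _ hiso)
  have : X.IsLE e := (isLE_iff _ _).2 he
  have : (CohCx.truncTower X n).IsGE (-(n : ℤ)) := (DerivedCategory.TStructure.t).isGE_truncGE_obj ..
  have : (CohCx.truncTower X n).IsLE e := RpushD.isLE_truncGE X e (-(n : ℤ))
  refine isZero_RD_bounded (A := ModSite.Mod O_C) (B := ModSite.Mod O_D) f.push
    (CohCx.truncTower X n) (-(n : ℤ)) e N (fun q i hi => k4 _ ?_ i hi) j hj
  by_cases hq : -(n : ℤ) ≤ q
  · have := DLimA.isIso_toTruncTower X n q hq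
    exact A.prop_of_iso (asIso ((DerivedCategory.homologyFunctor _ q).map (CohCx.toTruncTower X n))) (hX q)
  · exact hz _ (isZero_of_isGE _ (-(n : ℤ)) q (by omega))

end Site

section FSch

open Groth.Agent.H26.FMod

variable {𝔛 𝔜 : FSch.Sys.{u}} (h : 𝔛.IsLocNoethFormal) (h𝔜 : 𝔜.IsFormal) (f : 𝔛 ⟶ 𝔜)

/-- Ind-coherent modules. -/
abbrev IndCoh : ObjectProperty (FSch.ModF 𝔛 h.1) :=
  ObjectProperty.ind.{u} fun 𝔊 : FSch.ModF 𝔛 h.1 => FSch.IsCohF 𝔛 h.1 𝔊

include h in
lemma acAff_ind (𝔐 : FSch.ModF 𝔛 h.1) (h𝔐 : IndCoh h 𝔐) : AcAff ((Sh h.1).obj 𝔐) :=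
  fun _ hV n => subsingleton_HU_ind h 𝔐 h𝔐 hV n

include h in
lemma vanish_ind {𝔐 : FSch.ModF 𝔛 h.1} (h𝔐 : IndCoh h 𝔐) {U : (𝔛.X 0).Opens} (hU : IsAffineOpen U)
    (k : ℕ) (hk : 0 < k) : (DLimA.modData (𝔛.Osh h.1)).Vanish U 𝔐 k := by
  obtain ⟨m, rfl⟩ := Nat.exists_eq_succ_of_ne_zero hk.ne'
  exact DLimA.vanish_of_subsingleton_HU _ _ _ _ (subsingleton_HU_ind h 𝔐 h𝔐 hU m)

/-- Affine opens cover. -/
lemma isCoveredBy_affine (X : Scheme.{u}) :
    DLim.IsCoveredBy (Opens.grothendieckTopology X.toPresheafedSpace.carrier) {V : X.Opens | IsAffineOpen V} := by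
  intro U
  refine ⟨{V : X.Opens // IsAffineOpen V ∧ V ≤ U}, fun V => V.1, fun V => homOfLE V.2.2, ?_, fun V => V.2.1⟩
  intro x hx
  obtain ⟨_, ⟨A, hA, rfl⟩, hxA, hAU⟩ := X.isBasis_affineOpens.exists_subset_of_mem_open hx U.2
  exact ⟨A, homOfLE hAU, Sieve.ofArrows_mk _ _ (⟨A, hA, hAU⟩ : {V : X.Opens // IsAffineOpen V ∧ V ≤ U}), hxA⟩

/-- Coverings of affine opens by basic opens. -/
lemma exists_cover_basic {X : Scheme.{u}} {V : X.Opens} (hV : IsAffineOpen V)
    (T : Sieve V) (hT : T ∈ Opens.grothendieckTopology X.toPresheafedSpace.carrier V) :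
    ∃ (ι : Type u) (a : ι → Γ(X, V)), (∀ i, T.arrows (homOfLE (X.basicOpen_le (a i)))) ∧
      Sieve.ofArrows (fun i => X.basicOpen (a i)) (fun i => homOfLE (X.basicOpen_le (a i))) ∈
        Opens.grothendieckTopology X.toPresheafedSpace.carrier V := by
  refine ⟨{a : Γ(X, V) // T.arrows (homOfLE (X.basicOpen_le a))}, fun a => a.1, fun a => a.2, ?_⟩
  intro x hx
  obtain ⟨W, g, hg, hxW⟩ := hT x hx
  obtain ⟨a, ha, hxa⟩ := hV.exists_basicOpen_le ⟨x, hxW⟩ hx
  have : T.arrows (homOfLE (X.basicOpen_le a)) := by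
    have := T.downward_closed hg (homOfLE ha)
    exact this
  exact ⟨_, _, Sieve.ofArrows_mk _ _ (⟨a, this⟩ : {a : Γ(X, V) // T.arrows (homOfLE (X.basicOpen_le a))}), hxa⟩

include h in
lemma locBound_ind : (DLimA.modData (𝔛.Osh h.1)).LocBound (IndCoh h) {V : (𝔛.X 0).Opens | IsAffineOpen V} := by
  intro V hV
  refine ⟨0, fun T hT => ?_⟩
  have hV' : IsAffineOpen V := hV
  obtain ⟨ι, a, h₁, h₂⟩ := exists_cover_basic hV' T hT
  exact ⟨ι, _, _, h₁, h₂, fun i F hF k hk => vanish_ind h hF (hV'.basicOpen (a i)) k hk⟩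

include h in
/-- A uniform bound over basic opens of an affine open of the base. -/
lemma exists_bound_preimage [CompactSpace (𝔛.X 0)] {V : (𝔜.X 0).Opens} :
    ∃ d : ℕ, ∀ (a : Γ(𝔜.X 0, V)) (𝔐 : FSch.ModF 𝔛 h.1), IndCoh h 𝔐 → ∀ p, d ≤ p →
      Subsingleton (ModSite.HU (𝔛.Osh h.1) 𝔐 p ((f : FSch.Hom 𝔛 𝔜).app 0 ⁻¹ᵁ (𝔜.X 0).basicOpen a)) := by
  haveI := noetherianSpace_sys h 0
  obtain ⟨d, hd⟩ := exists_bound ((f : FSch.Hom 𝔛 𝔜).app 0 ⁻¹ᵁ V) (NoetherianSpace.isCompact _)
    (fun U W _ _ _ _ _ _ => NoetherianSpace.isCompact _)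
  refine ⟨d, fun a 𝔐 h𝔐 p hp => ?_⟩
  rw [Scheme.preimage_basicOpen]
  exact hd (((f : FSch.Hom 𝔛 𝔜).app 0).app V a) ((Sh h.1).obj 𝔐) (acAff_ind h 𝔐 h𝔐) p hp

include h in
lemma locBound_preimage [CompactSpace (𝔛.X 0)] (V : (𝔜.X 0).Opens) (hV : IsAffineOpen V) :
    ∃ d : ℕ, ∀ T ∈ Opens.grothendieckTopology (𝔜.X 0) V, ∃ (ι : Type u) (Y : ι → (𝔜.X 0).Opens) (g : ∀ i, Y i ⟶ V),
      (∀ i, T.arrows (g i)) ∧ Sieve.ofArrows Y g ∈ Opens.grothendieckTopology (𝔜.X 0) V ∧
      ∀ (i : ι) (F : FSch.ModF 𝔛 h.1), IndCoh h F → ∀ k : ℕ, d < k →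
        (DLimA.modData (𝔛.Osh h.1)).Vanish ((FSch.homMor f h.1 h𝔜).fn.obj (Y i)) F k := by
  obtain ⟨d, hd⟩ := exists_bound_preimage h f (V := V)
  refine ⟨d, fun T hT => ?_⟩
  obtain ⟨ι, a, h₁, h₂⟩ := exists_cover_basic hV T hT
  exact ⟨ι, _, _, h₁, h₂, fun i F hF k hk =>
    DLimA.vanish_of_subsingleton_HU _ _ _ _ (hd (a i) F hF k hk.le)⟩

include h in
lemma isClosedUnderIsomorphisms_ind : (IndCoh h).IsClosedUnderIsomorphisms := inferInstance

include h in
/-- The higher direct images of ind-coherent modules vanish in large degrees. -/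
theorem exists_rpush_bound [CompactSpace (𝔛.X 0)] [CompactSpace (𝔜.X 0)]
    [HasInjectiveResolutions (FSch.ModF 𝔛 h.1)] :
    ∃ N : ℕ, ∀ (𝔐 : FSch.ModF 𝔛 h.1), IndCoh h 𝔐 → ∀ p : ℕ, N < p →
      IsZero ((FSch.RpushF f h.1 h𝔜 p).obj 𝔐) := by
  obtain ⟨s, hs, hsT⟩ := isCompact_iff_finite_and_eq_biUnion_affineOpens.mp
    (show IsCompact ((⊤ : (𝔜.X 0).Opens) : Set (𝔜.X 0)) by simpa using isCompact_univ)
  have hb := fun W : (𝔜.X 0).affineOpens => exists_bound_preimage h f (V := W.1)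
  choose d hd using hb
  refine ⟨hs.toFinset.sup d, fun 𝔐 h𝔐 p hp => ?_⟩
  obtain ⟨e⟩ := Edge.nonempty_rpush_toSheaf (FSch.homMor f h.1 h𝔜) p
  have z := SiteBase.isZero_rpush (Opens.grothendieckTopology (𝔛.X 0))
    (Opens.grothendieckTopology (𝔜.X 0)) (Opens.map ((f : FSch.Hom 𝔛 𝔜).app 0).base) p ((Sh h.1).obj 𝔐)
    fun V ξ => ⟨{ arrows := fun W t => CohSite.res ((Sh h.1).obj 𝔐) p
                    ((Opens.map ((f : FSch.Hom 𝔛 𝔜).app 0).base).map t) ξ = 0
                  downward_closed := fun {W W' t} ht k => by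
                    rw [Functor.map_comp, CompareSit.res_comp_apply, ht, map_zero] },
      fun y hy => by
        have hy' : y ∈ (⊤ : (𝔜.X 0).Opens) := trivial
        rw [hsT] at hy'
        obtain ⟨U, hUs, hyU⟩ : ∃ U ∈ s, y ∈ (U : (𝔜.X 0).affineOpens).1 := by simpa using hy'
        obtain ⟨a, ha, hya⟩ := U.2.exists_basicOpen_le (V := V) ⟨y, hy⟩ hyU
        exact ⟨(𝔜.X 0).basicOpen a, homOfLE ha, @Subsingleton.elim _ (hd U a 𝔐 h𝔐 p
          ((Finset.le_sup (hs.mem_toFinset.2 hUs)).trans hp.le)) _ _, hya⟩,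
      fun W t ht => ht⟩
  have z' := z.of_iso (e.app 𝔐)
  rw [IsZero.iff_id_eq_zero] at z' ⊢
  exact (Sh h𝔜).map_injective (((Sh h𝔜).map_id _).trans (z'.trans ((Sh h𝔜).map_zero _ _).symm))

end FSch

section Hom

variable {C : Type u} [SmallCategory C] {J : GrothendieckTopology C} (O : Sheaf J CommRingCat.{u})
  {T : C} (hT : IsTerminal T)

/-- Maps out of the unit are sections over a terminal object. -/
def evT {F : ModSite.Mod O} (φ : ModSite.unit O ⟶ F) : (ModSite.toAb F).obj.obj (op T) :=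
  (φ.val.app (op T)).hom (1 : O.obj.obj (op T))

include hT in
lemma evT_injective {F : ModSite.Mod O} (φ ψ : ModSite.unit O ⟶ F)
    (h : evT O (T := T) φ = evT O (T := T) ψ) : φ = ψ := by
  refine F.unitHomEquiv.injective (Subtype.ext (funext fun U => ?_))
  exact ((F.unitHomEquiv φ).2 (hT.from U.unop).op).symm.trans
    ((congrArg (F.val.map (hT.from U.unop).op).hom h).trans ((F.unitHomEquiv ψ).2 (hT.from U.unop).op))

include hT in
/-- The unit module corepresents sections over a terminal object. -/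
theorem nonempty_freeAt_iso_unit : Nonempty ((DLimA.freeAt O).obj T ≅ ModSite.unit O) := by
  let P := (DLimA.freeAt O).obj T
  let s₀ := DLimA.freeAtEquiv O T P (𝟙 P)
  let s : P.sections := PresheafOfModules.sectionsMk
    (fun U => (P.val.map (hT.from U.unop).op).hom s₀) fun {U V} g => by
      have hg : (hT.from V.unop).op = (hT.from U.unop).op ≫ g :=
        Quiver.Hom.unop_inj (hT.hom_ext _ _)
      rw [hg]
      exact (P.val.map_comp_apply _ _ s₀).symm
  let u : ModSite.unit O ⟶ P := P.unitHomEquiv.symm s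
  let v : P ⟶ ModSite.unit O := (DLimA.freeAtEquiv O T _).symm (1 : O.obj.obj (op T))
  have hu : evT O (T := T) u = s₀ := by
    refine (congrArg (fun t : P.sections => t.1 (op T)) (P.unitHomEquiv.apply_symm_apply s)).trans ?_
    show (P.val.map (hT.from T).op).hom s₀ = s₀
    rw [show (hT.from T).op = 𝟙 (op T) from Quiver.Hom.unop_inj (hT.hom_ext _ _)]
    exact congrArg (fun t => t.hom s₀) (P.val.map_id (op T))
  have he := fun {Y : ModSite.Mod O} (φ : P ⟶ Y) => (DLimA.modData O).e_comp T (𝟙 P) φ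
  refine ⟨⟨v, u, (DLimA.freeAtEquiv O T P).injective ?_, evT_injective O hT _ _ ?_⟩⟩
  · refine ((DLimA.modData O).e_comp T v u).trans ?_
    refine (congrArg _ ((DLimA.freeAtEquiv O T _).apply_symm_apply _)).trans ?_
    exact hu
  · show (v.val.app (op T)).hom (evT O (T := T) u) = _
    rw [hu]
    refine ((he v).symm.trans ?_)
    exact (congrArg (fun t => (DLimA.freeAtEquiv O T _) t) (Category.id_comp v)).trans
      ((DLimA.freeAtEquiv O T _).apply_symm_apply _)

/-- Maps out of the unit into objects bounded above vanish in high degrees. -/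
theorem hom_unit_eq_zero (A : ObjectProperty (ModSite.Mod O)) {B : Set C} (hB : DLim.IsCoveredBy J B)
    (hA : (DLimA.modData O).LocBound A B) (hT : IsTerminal T) (d : ℕ)
    (hd : ∀ F, A F → ∀ k : ℕ, d ≤ k → (DLimA.modData O).Vanish T F k)
    (G : DerivedCategory (ModSite.Mod O)) (hG : WSerre.cohIn A G) (i₀ : ℤ)
    (hG₀ : ∀ q, i₀ ≤ q → IsZero (SiteCmp.HMod G q)) (m : ℤ) (hm : i₀ + d ≤ m)
    (φ : SiteCmp.inD O (ModSite.unit O) ⟶ G⟦m⟧) : φ = 0 := by
  obtain ⟨ei⟩ := nonempty_freeAt_iso_unit O hT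
  let D := DLimA.modData O
  let x : D.HU G m T := (singleFunctor (ModSite.Mod O) 0).map ei.hom ≫ φ
  suffices hx : x = 0 by
    refine (cancel_epi ((singleFunctor (ModSite.Mod O) 0).map ei.hom)).1 ?_
    rw [comp_zero]
    exact hx
  have := DLimA.hasProduct_nat (CohCx.truncTower G)
  have hL := D.isRlimVia_trunc_of_cohIn G hB hA hG
  let N := (d + 1 - m).toNat
  refine D.eq_zero_of_eventBij hL T m N (fun n hn => ?_) (fun n hn => ?_) x ?_
  · exact D.bijective_trunc_step G _ _ (by omega) T (m - 1) fun k hk => hd _ (hG _) k (by omega)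
  · exact D.bijective_trunc_step G _ _ (by omega) T m fun k hk => hd _ (hG _) k (by omega)
  · have : (CohCx.truncTower G N).IsGE (-(N : ℤ)) := (DerivedCategory.TStructure.t).isGE_truncGE_obj ..
    refine D.eq_zero_of_window (CohCx.truncTower G N) (-(N : ℤ)) T m (fun q k hk => ?_) _
    by_cases hq : -(N : ℤ) ≤ q
    · have := DLimA.isIso_toTruncTower G N q hq
      let ι := asIso ((DerivedCategory.homologyFunctor _ q).map (CohCx.toTruncTower G N))
      by_cases hq' : i₀ ≤ q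
      · exact D.vanish_of_isZero ((hG₀ q hq').of_iso ι.symm)
      · exact (hd _ (hG q) k (by omega)).of_iso D ι
    · exact D.vanish_of_isZero (isZero_of_isGE _ (-(N : ℤ)) q (by omega))

end Hom

end Groth.Agent.H26.Dim
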