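import Groth.Agent.H26.FMod.DefIdeal
import Groth.Agent.H26.FMod.AdicTel
import Groth.Agent.H26.FMod.DimD
import Groth.Agent.H26.FMod.Ker
import Groth.Agent.H26.FMod.CohSerre
import Groth.Agent.H26.FMod.QCat
import Groth.Agent.H9Misc.DerCompIdeal
import Groth.Agent.H9Misc.KosOrth
import Groth.Agent.SiteBase.RpushD.Devissage
import Groth.Agent.SiteBase.DLim.Basic

/-!
# Complexes with coherent cohomology on a formal scheme are derived complete
-/

noncomputable section

set_option autoImplicit false
set_option maxHeartbeats 1000000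
set_option linter.style.haveILetI false
set_option backward.isDefEq.respectTransparency false
set_option backward.isDefEq.respectTransparency.types false

universe u

open CategoryTheory CategoryTheory.Category CategoryTheory.Limits Opposite

attribute [local instance] HasDerivedCategory.standard

namespace Groth.Agent.H26.FMod.CohComp

open Groth.Agent.SiteBase Groth.Agent.H9Misc Groth.Agent.H9Misc.DerCompTel Groth.Agent.H9Misc.DerCompIdeal

section Site

variable {C : Type u} [SmallCategory C] {J : GrothendieckTopology C} {O : Sheaf J CommRingCat.{u}}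

/-- Derived completeness is invariant under isomorphisms. -/
lemma isDerComp_of_iso {I : DerComp.IdealSh O} {K L : DerivedCategory (ModSite.Mod O)} (e : K ≅ L)
    (hK : DerComp.IsDerComp O I K) : DerComp.IsDerComp O I L := fun U f hf n => by
  have := hK U f hf n
  exact ((shiftFunctor _ n).mapIso e).homToEquiv.symm.subsingleton

/-- Derived completeness is closed under extensions. -/
lemma isDerComp_obj₂ {I : DerComp.IdealSh O} (T : Pretriangulated.Triangle (DerivedCategory (ModSite.Mod O)))
    (hT : T ∈ Pretriangulated.distinguishedTriangles) (h₁ : DerComp.IsDerComp O I T.obj₁)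
    (h₃ : DerComp.IsDerComp O I T.obj₃) : DerComp.IsDerComp O I T.obj₂ := fun U f hf n => by
  have := h₁ U f hf n
  have := h₃ U f hf n
  refine ⟨fun x y => sub_eq_zero.1 ?_⟩
  obtain ⟨z, hz⟩ := DLim.exact₂_shift T hT n (x - y) (Subsingleton.elim _ _)
  rw [← hz, Subsingleton.elim z 0, zero_comp]

/-- Telescopes are bijective as soon as they are so on the members of a covering class. -/
theorem tbOn_local' (K : DerivedCategory (ModSite.Mod O)) (U : C) (f : O.obj.obj (op U)) {B : Set C}
    (hB : DLim.IsCoveredBy J B) (h : ∀ ⦃V : C⦄ (g : V ⟶ U), V ∈ B →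
      TelOrth.TBOn (ModSite.freeOn O V) (mulOn V ((O.obj.map g.op).hom f)) K) :
    TelOrth.TBOn (ModSite.freeOn O U) (mulOn U f) K := by
  have := ModTensor.preservesFiniteLimits_extZero O U
  have := ModTensor.preservesFiniteColimits_extZero O U
  have := SuppCore.preservesFiniteColimits_restr (O := O) U
  have : PreservesLimitsOfSize.{0, 0} (ModSite.restr O U) :=
    (ModSite.extZeroAdj O U).rightAdjoint_preservesLimits
  have : PreservesFiniteLimits (ModSite.restr O U) := ⟨fun _ => inferInstance⟩
  have : (ModSite.restr O U).Additive := (ModSite.extZeroAdj O U).right_adjoint_additive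
  have : HasLimitsOfShape (Discrete ℕ) (DerivedCategory (ModSite.Mod (O.over U))) :=
    TriCat.hasProductsOfShape_derivedCategory fun L => by
      obtain ⟨I, i, hI, hi, -, -⟩ := TriCat.exists_kInjective_resolution'.{u} L
      exact ⟨I, i, hI, hi⟩
  let s := DerComp.GSec.ofSect O U f
  refine (TelLocal.tbOn_map_iff (ModSite.extZeroAdj O U) (ModSite.unit (O.over U))
    (DerComp.smulEnd s (ModSite.unit (O.over U))) K).2 ?_
  rw [show DerComp.smulEnd s (ModSite.unit (O.over U)) = s • 𝟙 _ from (comp_id _).symm]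
  let G : Set (Over U) := {Y | Y.left ∈ B}
  refine TelLocal.tbOn_of_separating s _ (ObjectProperty.ofObj fun X : G => ModSite.freeOn (O.over U) (X : Over U))
    (ModTensor.isSeparating_freeOn G fun X => ?_) (fun P hP => ?_) _
  · obtain ⟨ι, Y, g, hg, hY⟩ := hB X.left
    refine ⟨ι, fun i => Over.mk (g i ≫ X.hom),
      fun i => (Over.homMk (g i) : Over.mk (g i ≫ X.hom) ⟶ X), ?_, hY⟩
    refine (J.over U).superset_covering ?_ (GrothendieckTopology.overEquiv_symm_mem_over J X _ hg)
    intro Z k hk
    obtain ⟨W, a, b, ⟨i⟩, hab⟩ := (Sieve.overEquiv_symm_iff _ _).1 hk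
    refine ⟨Over.mk (g i ≫ X.hom), Over.homMk a ?_, Over.homMk (g i), ⟨i⟩, Over.OverMorphism.ext ?_⟩
    · show a ≫ g i ≫ X.hom = Z.hom
      rw [← assoc, hab, Over.w]
    · exact hab
  · obtain ⟨⟨Y, hY⟩⟩ := hP
    show TelOrth.TBOn (ModSite.freeOn (O.over U) Y) (s • 𝟙 _) _
    rw [show s • 𝟙 (ModSite.freeOn (O.over U) Y) = DerComp.smulEnd s _ from comp_id _]
    refine (TelLocal.tbOn_map_iff (ModSite.extZeroAdj O U) _ _ K).1 ?_
    exact tbOn_of_iso (extFreeIso U Y).symm
      ((Iso.inv_comp_eq _).2 ((comp_id _).symm.trans (congrArg (_ ≫ ·) (Iso.hom_inv_id _).symm) |>.trans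
        ((assoc _ _ _).symm.trans ((congrArg (· ≫ _) (extFreeIso_comm U Y f).symm).trans (assoc _ _ _)))))
      (h Y.hom hY)

/-- Sections as morphisms out of the free module, additively. -/
def secOnAdd (U : C) (F : ModSite.Mod O) : (ModSite.freeOn O U ⟶ F) ≃+ ModSite.sect F U :=
  { secOn U F with
    map_add' := fun φ ψ => by
      have h : ∀ χ : ModSite.freeOn O U ⟶ F, secOn U F χ = (χ.val.app (op U)).hom (secOn U _ (𝟙 _)) := fun χ =>
        (congrArg (secOn U F) (id_comp χ).symm).trans (secOn_comp U _ χ)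
      show secOn U F (φ + ψ) = secOn U F φ + secOn U F ψ
      rw [h, h φ, h ψ]
      rfl }

/-- The two models of the free module on an object. -/
def freeOnIsoFreeAt (U : C) : ModSite.freeOn O U ≅ (DLimA.freeAt O).obj U where
  hom := (secOn U _).symm (DLimA.freeAtEquiv O U _ (𝟙 _))
  inv := (DLimA.freeAtEquiv O U _).symm (secOn U _ (𝟙 _))
  hom_inv_id := (secOn U _).injective ((secOn_comp U _ _).trans (by
    rw [Equiv.apply_symm_apply]
    exact ((DLimA.modData O).e_comp U (𝟙 _) _).symm.trans
      ((congrArg (DLimA.freeAtEquiv O U _) (id_comp _)).trans (AddEquiv.apply_symm_apply _ _))))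
  inv_hom_id := (DLimA.freeAtEquiv O U _).injective (((DLimA.modData O).e_comp U _ _).trans (by
    refine (congrArg _ (AddEquiv.apply_symm_apply _ _)).trans ?_
    exact (secOn_comp U (𝟙 _) _).symm.trans
      ((congrArg (secOn U _) (id_comp _)).trans (Equiv.apply_symm_apply _ _))))

/-- Telescopes on morphisms into a module in degree zero, from telescopes on its sections. -/
theorem tbOn_single (V : C) (f : O.obj.obj (op V)) (M : ModSite.Mod O)
    (hpos : ∀ k : ℕ, 0 < k → (DLimA.modData O).Vanish V M k)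
    (h0 : TelBij.TB (DistribSMul.toAddMonoidHom (ModSite.sect M V)
      (show (ModSite.ringSh O).obj.obj (op V) from f))) :
    TelOrth.TBOn (ModSite.freeOn O V) (mulOn V f) ((DerivedCategory.singleFunctor _ 0).obj M) := by
  let S := DerivedCategory.singleFunctor (ModSite.Mod O) 0
  let t := DerivedCategory.TStructure.t (C := ModSite.Mod O)
  intro n
  by_cases hn : n = 0
  · subst hn
    let a := (shiftFunctorZero (DerivedCategory (ModSite.Mod O)) ℤ).app (S.obj M)
    let φ : ModSite.sect M V ≃+ (S.obj (ModSite.freeOn O V) ⟶ (S.obj M)⟦(0 : ℤ)⟧) :=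
      (secOnAdd V M).symm.trans
        { toFun := fun ψ => S.map ψ ≫ a.inv
          invFun := fun x => S.preimage (x ≫ a.hom)
          left_inv := fun ψ => S.map_injective (by simp)
          right_inv := fun x => by simp
          map_add' := fun ψ ψ' => by
            show S.map (ψ + ψ') ≫ a.inv = _
            rw [S.map_add, Preadditive.add_comp] }
    refine TelBij.tb_of_injective_surjective φ (fun x => ?_) h0
    show S.map ((secOnAdd V M).symm _) ≫ a.inv = S.map (mulOn V f) ≫ S.map ((secOnAdd V M).symm x) ≫ a.inv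
    rw [← assoc, ← S.map_comp]
    refine congrArg (fun t => S.map t ≫ a.inv) ((secOn V M).injective ?_)
    refine ((secOn V M).apply_symm_apply _).trans (Eq.trans ?_ (secOn_mulOn V f _).symm)
    exact congrArg (fun y => (show (ModSite.ringSh O).obj.obj (op V) from f) • y)
      ((secOn V M).apply_symm_apply x).symm
  · have hsub : Subsingleton (S.obj (ModSite.freeOn O V) ⟶ (S.obj M)⟦n⟧) := by
      refine ⟨fun x y => sub_eq_zero.1 ?_⟩
      rcases lt_or_gt_of_ne hn with hn' | hn'
      · exact t.zero_of_isLE_of_isGE _ 0 (-n) (by omega) inferInstance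
          (t.isGE_shift (S.obj M) 0 n (-n) (by omega))
      · obtain ⟨k, rfl⟩ : ∃ k : ℕ, n = (k : ℤ) := ⟨n.toNat, by omega⟩
        refine (cancel_epi (S.map (freeOnIsoFreeAt V).inv)).1 ?_
        rw [comp_zero]
        exact hpos k (by omega) _
    exact ⟨fun a b _ => funext fun k => Subsingleton.elim _ _,
      fun y => ⟨y, funext fun k => Subsingleton.elim _ _⟩⟩

/-- Bounded objects are complete as soon as their cohomology objects are. -/
theorem isDerComp_of_bounded {I : DerComp.IdealSh O} (Y : DerivedCategory (ModSite.Mod O)) (a : ℤ) (d : ℕ)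
    [Y.IsGE a] [Y.IsLE (a + d)]
    (h : ∀ q, DerComp.IsDerComp O I ((DerivedCategory.singleFunctor _ 0).obj (SiteCmp.HMod Y q))) :
    DerComp.IsDerComp O I Y := by
  haveI : (DerComp.IsDerComp O I).IsClosedUnderIsomorphisms := ⟨fun e hX => isDerComp_of_iso e hX⟩
  refine RpushD.prop_of_bounded (DerComp.IsDerComp O I) (fun T hT h₁ h₃ => isDerComp_obj₂ T hT h₁ h₃) d Y a
    fun q _ _ => ?_
  refine isDerComp_of_iso ?_ (Kos.isDerComp_shift (h q) (-q))
  exact (((DerivedCategory.singleFunctors (ModSite.Mod O)).shiftIso (-q) q 0 (by omega)).app _)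

/-- Bounded below objects are complete as soon as their cohomology objects are. -/
theorem isDerComp_of_isGE {I : DerComp.IdealSh O} (Y : DerivedCategory (ModSite.Mod O)) (a : ℤ) [Y.IsGE a]
    (hz : ∀ Z : ModSite.Mod O, IsZero Z → DerComp.IsDerComp O I ((DerivedCategory.singleFunctor _ 0).obj Z))
    (h : ∀ q, DerComp.IsDerComp O I ((DerivedCategory.singleFunctor _ 0).obj (SiteCmp.HMod Y q))) :
    DerComp.IsDerComp O I Y := fun U f hf n => by
  let t := DerivedCategory.TStructure.t (C := ModSite.Mod O)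
  let T := (t.triangleLTGE (n + 1)).obj Y
  have hT := t.triangleLTGE_distinguished (n + 1) Y
  haveI : T.obj₁.IsLE n := t.isLE_truncLT_obj ..
  haveI : T.obj₁.IsLE (min a n + ((n - min a n).toNat : ℕ)) := t.isLE_of_le _ n _ (by omega)
  haveI : T.obj₁.IsGE a := RpushD.isGE_truncLT Y a (n + 1)
  haveI : T.obj₁.IsGE (min a n) := t.isGE_of_ge _ _ a (min_le_left _ _)
  have h₁ := isDerComp_of_bounded T.obj₁ (min a n) (n - min a n).toNat (fun q => by
    by_cases hq : q < n + 1
    · have := H9Misc.isIso_map_truncLTι (n + 1) q hq Y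
      exact isDerComp_of_iso ((DerivedCategory.singleFunctor _ 0).mapIso
        (asIso ((DerivedCategory.homologyFunctor _ q).map ((t.truncLTι (n + 1)).app Y))).symm) (h q)
    · exact hz _ (DerivedCategory.isZero_of_isLE T.obj₁ n q (by omega))) U f hf n
  haveI : T.obj₃.IsGE (n + 1) := t.isGE_truncGE_obj ..
  refine ⟨fun x y => sub_eq_zero.1 ?_⟩
  obtain ⟨z, hz'⟩ := DLim.exact₂_shift T hT n (x - y)
    (t.zero_of_isLE_of_isGE _ 0 1 (by omega) inferInstance (t.isGE_shift T.obj₃ (n + 1) n 1 (by omega)))
  rw [← hz', Subsingleton.elim z 0, zero_comp]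

end Site

section FSch

open TopologicalSpace AlgebraicGeometry Groth.Agent.ModTensor

variable {𝔛 : FSch.Sys.{u}} (h : 𝔛.IsLocNoethFormal)

include h in
/-- A coherent module is derived complete. -/
theorem isDerComp_single (M : FSch.ModF 𝔛 h.1) (hM : FSch.IsCohF 𝔛 h.1 M) :
    DerComp.IsDerComp (𝔛.Osh h.1) (defIdeal h) ((DerivedCategory.singleFunctor _ 0).obj M) := by
  refine (isDerComp_iff (defIdeal h) _).2 fun U f hf => tbOn_local' _ U f (Dim.isCoveredBy_affine _) ?_
  intro V g hV
  refine tbOn_single V _ M (fun k hk => Dim.vanish_ind h (ind_of_coh h hM) hV k hk) ?_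
  haveI := noetherian h hV
  haveI := complete h hV
  haveI := finite_sec h hM hV
  exact AdicTel.tb_of_finite (Jd h.1 V) (Sec M V) ((defIdeal h).map_mem g hf)

include h in
/-- Objects with coherent cohomology are derived complete. -/
theorem isDerComp_of_coh (F : DerivedCategory (FSch.ModF 𝔛 h.1))
    (hF : ∀ i : ℤ, FSch.IsCohF 𝔛 h.1 (SiteCmp.HMod F i)) :
    DerComp.IsDerComp (𝔛.Osh h.1) (defIdeal h) F := fun U f hf n => by
  haveI := DLimA.hasProduct_nat (CohCx.truncTower F)
  have hL := (DLimA.modData (𝔛.Osh h.1)).isRlimVia_trunc_of_cohIn (PA := Dim.IndCoh h) F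
    (Dim.isCoveredBy_affine _) (Dim.locBound_ind h) fun q => ind_of_coh h (hF q)
  have hk : ∀ (k : ℕ) (m : ℤ), Subsingleton
      (SiteCmp.inD (𝔛.Osh h.1) ((ModSite.extZero (𝔛.Osh h.1) U).obj (DerComp.awayOver (𝔛.Osh h.1) U f)) ⟶
        (CohCx.truncTower F k)⟦m⟧) := fun k m => by
    haveI : (CohCx.truncTower F k).IsGE (-(k : ℤ)) := (DerivedCategory.TStructure.t).isGE_truncGE_obj ..
    refine isDerComp_of_isGE (CohCx.truncTower F k) (-(k : ℤ))
      (fun Z hZ => isDerComp_single h Z (isCohF_zero hZ)) (fun q => isDerComp_single h _ ?_) U f hf m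
    by_cases hq : -(k : ℤ) ≤ q
    · have := DLimA.isIso_toTruncTower F k q hq
      exact isCohF_of_iso (asIso ((DerivedCategory.homologyFunctor _ q).map (CohCx.toTruncTower F k))) (hF q)
    · exact isCohF_zero (DerivedCategory.isZero_of_isGE _ (-(k : ℤ)) q (by omega))
  refine ⟨fun x y => sub_eq_zero.1 ?_⟩
  exact DLim.rlim_eq_zero hL n (fun b => ⟨b, fun i => @Subsingleton.elim _ (hk i (n - 1)) _ _⟩) (x - y)
    fun i => @Subsingleton.elim _ (hk i n) _ _

end FSch

end Groth.Agent.H26.FMod.CohComp
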