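import Groth.Agent.H26.FMod.QAffine

/-!
# Closure properties of quasi-coherent modules on locally Noetherian formal schemes
-/

noncomputable section

set_option autoImplicit false
set_option maxHeartbeats 1000000
set_option linter.style.haveILetI false
set_option backward.isDefEq.respectTransparency false
set_option backward.isDefEq.respectTransparency.types false

universe u

open CategoryTheory CategoryTheory.Limits TopologicalSpace Opposite AlgebraicGeometry
open Groth.Agent.ModTensor Groth.Agent.ModPull Groth.Agent.LocalFactor Groth.Agent.SecGen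
open Groth.Agent.H26.QPres

namespace Groth.Agent.H26.FMod

open OpenTransfer

variable {𝔛 : FSch.Sys.{u}} (h : 𝔛.IsLocNoethFormal) {𝔉 𝔊 : FSch.ModF 𝔛 h.1}

include h in
lemma isAffineOpen_top_sys {U : (𝔛.X 0).Opens} (hU : IsAffineOpen U) :
    IsAffineOpen (⊤ : ((sys h U).X 0).Opens) := by
  haveI : IsAffine ((sys h U).X 0) := isAffineOpen_lvU h.1 0 hU
  exact isAffineOpen_top _

include h in
lemma img_top (U : (𝔛.X 0).Opens) : (OpenRes.imgF h U).obj ⊤ = U := by
  refine le_antisymm (OpenRes.img_le h U ⊤) fun x hx => ?_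
  exact ⟨⟨x, (lvU_zero (hF := h.1) U).ge hx⟩, trivial, rfl⟩

include h in
/-- Modules with data on an affine open restrict to ind-coherent modules. -/
theorem ind_res_of_qdata {U : (𝔛.X 0).Opens} (hU : IsAffineOpen U) (Q : QData (O := 𝔛.Osh h.1) 𝔉 U) :
    IndCoh ((OpenRes.res h U).obj 𝔉) := by
  obtain ⟨Q'⟩ := OpenRes.nonempty_qres h U 𝔉 (W := ⊤) ((img_top h U).symm ▸ Q)
  exact ind_of_qdata (hSys h U) (isAffineOpen_top_sys h hU) Q'

include h in
/-- Restrictions which are ind-coherent give data. -/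
theorem qdata_of_ind_res {U : (𝔛.X 0).Opens} (hU : IsAffineOpen U) (hF : IndCoh ((OpenRes.res h U).obj 𝔉)) :
    Nonempty (QData (O := 𝔛.Osh h.1) 𝔉 U) := by
  obtain ⟨J, _, _, pres, hp⟩ := hF
  obtain ⟨Q⟩ := nonempty_qdata_colim (hSys h U) pres.isColimit hp (isAffineOpen_top_sys h hU)
  obtain ⟨Q'⟩ := OpenRes.nonempty_qimg h U 𝔉 Q
  exact ⟨img_top h U ▸ Q'⟩

include h in
/-- A common affine open on which two quasi-coherent modules are ind-coherent. -/
theorem exists_ind_res [SheafOfModules.IsQuasicoherent.{u} (R := ModSite.ringSh (𝔛.Osh h.1)) 𝔉]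
    [SheafOfModules.IsQuasicoherent.{u} (R := ModSite.ringSh (𝔛.Osh h.1)) 𝔊]
    {W : (𝔛.X 0).Opens} {x : 𝔛.X 0} (hx : x ∈ W) :
    ∃ U : (𝔛.X 0).Opens, IsAffineOpen U ∧ x ∈ U ∧ U ≤ W ∧
      IndCoh ((OpenRes.res h U).obj 𝔉) ∧ IndCoh ((OpenRes.res h U).obj 𝔊) := by
  obtain ⟨U, -, hxU, hUW, ⟨Q⟩⟩ := exists_qdata h 𝔉 hx
  obtain ⟨V, hV, hxV, hVU, ⟨R⟩⟩ := exists_qdata h 𝔊 hxU
  exact ⟨V, hV, hxV, hVU.trans hUW, ind_res_of_qdata h hV (qpull h Q hVU), ind_res_of_qdata h hV R⟩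

include h in
/-- Quasi-coherence from ind-coherent restrictions. -/
theorem isQC_of_ind_res (hF : ∀ x : 𝔛.X 0, ∀ W : (𝔛.X 0).Opens, x ∈ W → ∃ U : (𝔛.X 0).Opens,
      IsAffineOpen U ∧ x ∈ U ∧ U ≤ W ∧ IndCoh ((OpenRes.res h U).obj 𝔉)) :
    SheafOfModules.IsQuasicoherent.{u} (R := ModSite.ringSh (𝔛.Osh h.1)) 𝔉 :=
  isQC_of_qdata h fun x W hx => by
    obtain ⟨U, hU, hxU, hUW, hind⟩ := hF x W hx
    exact ⟨U, hxU, hUW, qdata_of_ind_res h hU hind⟩

include h in
/-- Kernels of maps of quasi-coherent modules are quasi-coherent. -/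
theorem isQC_kernel [SheafOfModules.IsQuasicoherent.{u} (R := ModSite.ringSh (𝔛.Osh h.1)) 𝔉]
    [SheafOfModules.IsQuasicoherent.{u} (R := ModSite.ringSh (𝔛.Osh h.1)) 𝔊] (φ : 𝔉 ⟶ 𝔊) :
    SheafOfModules.IsQuasicoherent.{u} (R := ModSite.ringSh (𝔛.Osh h.1)) (kernel φ) :=
  isQC_of_ind_res h fun x W hx => by
    obtain ⟨U, hU, hxU, hUW, h₁, h₂⟩ := exists_ind_res h (𝔉 := 𝔉) (𝔊 := 𝔊) hx
    haveI := OpenRes.preservesFiniteLimits_res h U
    exact ⟨U, hU, hxU, hUW, ind_of_iso (hSys h U) (PreservesKernel.iso (OpenRes.res h U) φ).symm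
      (ind_kernel (hSys h U) h₁ h₂ _)⟩

include h in
/-- Cokernels of maps of quasi-coherent modules are quasi-coherent. -/
theorem isQC_cokernel [SheafOfModules.IsQuasicoherent.{u} (R := ModSite.ringSh (𝔛.Osh h.1)) 𝔉]
    [SheafOfModules.IsQuasicoherent.{u} (R := ModSite.ringSh (𝔛.Osh h.1)) 𝔊] (φ : 𝔉 ⟶ 𝔊) :
    SheafOfModules.IsQuasicoherent.{u} (R := ModSite.ringSh (𝔛.Osh h.1)) (cokernel φ) :=
  isQC_of_ind_res h fun x W hx => by
    obtain ⟨U, hU, hxU, hUW, h₁, h₂⟩ := exists_ind_res h (𝔉 := 𝔉) (𝔊 := 𝔊) hx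
    haveI := OpenRes.preservesFiniteColimits_res h U
    exact ⟨U, hU, hxU, hUW, ind_of_iso (hSys h U) (PreservesCokernel.iso (OpenRes.res h U) φ).symm
      (ind_cokernel (hSys h U) h₁ h₂ _)⟩

include h in
/-- Relations in extensions. -/
theorem hasRel_ext {S : ShortComplex (FSch.ModF 𝔛 h.1)} (hS : S.ShortExact) (h₁ : IndCoh S.X₁) (h₃ : IndCoh S.X₃)
    {U : (𝔛.X 0).Opens} (hU : IsAffineOpen U) {κ : Type} [Fintype κ] (x : κ → Sec S.X₂ U) :
    HasRel S.X₂ U x := by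
  intro V hle hV c hc
  haveI := noetherian h hU
  haveI : Mono S.f := hS.mono_f
  obtain ⟨p, A, hA⟩ := Submodule.fg_iff_exists_fin_generating_family.1
    (IsNoetherian.noetherian (RelMod fun i => mapS S.g U (x i)))
  obtain ⟨d, hd⟩ := spanRes_le hle A hA (hasRel_ind h h₃ hU _ hle hV c (by
    refine Eq.trans ?_ ((congrArg (mapS S.g V) hc).trans (map_zero _))
    rw [map_sum]
    exact Finset.sum_congr rfl fun i _ => ((map_smul _ _ _).trans (congrArg (c i • ·) (mapS_res _ _ _))).symm))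
  have ha : ∀ j, mapS S.g U (∑ i, A j i • x i) = 0 := fun j => by
    rw [map_sum]
    refine Eq.trans (Finset.sum_congr rfl fun i _ => map_smul _ _ _) ?_
    exact mem_RelMod.1 (hA ▸ Submodule.subset_span ⟨j, rfl⟩ : A j ∈ RelMod fun i => mapS S.g U (x i))
  choose a' ha' using fun j => exists_app_eq_of_exact hS (U := U) (∑ i, A j i • x i) (ha j)
  have h0 : ∑ j, d j • resM S.X₁ hle (a' j) = 0 := by
    refine app_injective S.f (op V) (Eq.trans ?_ ((hc.trans (map_zero _).symm)))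
    rw [map_sum]
    have e : ∀ j, ((fg (𝔛.Osh h.1)).map S.f).app (op V) (d j • resM S.X₁ hle (a' j)) =
        d j • ∑ i, res hle (A j i) • resM S.X₂ hle (x i) := fun j => by
      rw [map_smul, ← resM_sum]
      exact congrArg (d j • ·) ((app_rs ((fg (𝔛.Osh h.1)).map S.f) (homOfLE hle).op (a' j)).trans
        (congrArg (resM S.X₂ hle) (ha' j)))
    refine (Finset.sum_congr rfl fun j _ => e j).trans ?_
    simp only [Finset.smul_sum, smul_smul]
    rw [Finset.sum_comm]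
    exact Finset.sum_congr rfl fun i _ => by rw [← Finset.sum_smul, ← hd i]
  obtain ⟨r, B, hB⟩ := Submodule.fg_iff_exists_fin_generating_family.1 (IsNoetherian.noetherian (RelMod a'))
  obtain ⟨e, he⟩ := spanRes_le hle B hB (hasRel_ind h h₁ hU a' hle hV d h0)
  refine mem_spanRes hle (fun l i => ∑ j, B l j * A j i) (fun l => ?_) e fun i => ?_
  · rw [mem_RelMod]
    have h1 := congrArg (mapS S.f U) (mem_RelMod.1 (hB ▸ Submodule.subset_span ⟨l, rfl⟩ : B l ∈ RelMod a'))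
    rw [map_zero, map_sum] at h1
    refine Eq.trans ?_ h1
    rw [Finset.sum_congr rfl fun j _ => (map_smul (mapS S.f U) (B l j) (a' j)).trans (congrArg (B l j • ·) (ha' j))]
    simp only [Finset.smul_sum, smul_smul, Finset.sum_smul]
    exact Finset.sum_comm
  · rw [hd i]
    simp only [he, map_sum, map_mul, Finset.sum_mul, Finset.mul_sum, mul_assoc]
    exact Finset.sum_comm

include h in
/-- Global sections lift in extensions by ind-coherent modules over affine opens. -/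
theorem exists_lift_sec {S : ShortComplex (FSch.ModF 𝔛 h.1)} (hS : S.ShortExact) (h₁ : IndCoh S.X₁)
    {U : (𝔛.X 0).Opens} (hU : IsAffineOpen U) (t : Sec S.X₃ U) : ∃ s : Sec S.X₂ U, mapS S.g U s = t := by
  haveI : PreservesColimitsOfSize.{u, u} (Sh h.1) := ModTensor.preservesColimits_toSheaf (𝔛.Osh h.1)
  haveI : PreservesColimitsOfSize.{0, 0} (Sh h.1) := preservesColimitsOfSize_shrink (Sh h.1)
  haveI : PreservesFiniteColimits (Sh h.1) := PreservesColimitsOfSize.preservesFiniteColimits (Sh h.1)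
  haveI : PreservesFiniteLimits (Sh h.1) := inferInstanceAs (PreservesFiniteLimits (SheafOfModules.toSheaf _))
  have hT : (S.map (Sh h.1)).ShortExact := hS.map_of_exact (Sh h.1)
  exact SiteBase.surjective_sections_of_HU_one hT U (subsingleton_HU_ind h S.X₁ h₁ hU 0) t

include h in
/-- Extensions of ind-coherent modules on affine formal schemes are ind-coherent. -/
theorem ind_ext {S : ShortComplex (FSch.ModF 𝔛 h.1)} (hS : S.ShortExact) (h₁ : IndCoh S.X₁) (h₃ : IndCoh S.X₃)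
    (hT : IsAffineOpen (⊤ : (𝔛.X 0).Opens)) : IndCoh S.X₂ := by
  refine ind_of_family h (𝟙 S.X₂) (fun U hU n x => ?_) (α := Sec S.X₂ ⊤) (fun _ => fr (𝔛.Osh h.1) PUnit.{u + 1})
    (fun _ => isCohF_free PUnit.{u + 1}) (fun x => fdesc fun _ => topSec x) fun Z p q hpq => ?_
  · exact hasRel_ext h hS h₁ h₃ hU _
  haveI : Mono S.f := hS.mono_f
  haveI : Epi S.g := hS.epi_g
  have hx : ∀ (x : Sec S.X₂ ⊤) (V : (𝔛.X 0).Opens),
      mapS p V (resM S.X₂ le_top x) = mapS q V (resM S.X₂ le_top x) := fun x V => by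
    have h1 := congrArg (fun r => mapS r V (fsec PUnit.unit (op V))) (hpq x)
    simp only [Category.id_comp, mapS_comp] at h1
    rw [show mapS (fdesc fun _ : PUnit.{u + 1} => topSec x) V (fsec PUnit.unit (op V)) = resM S.X₂ le_top x from
      fdesc_fsec _ _ _] at h1
    exact h1
  obtain ⟨J₁, _, _, pres₁, hp₁⟩ := id h₁
  obtain ⟨J₃, _, _, pres₃, hp₃⟩ := id h₃
  have hf : S.f ≫ p = S.f ≫ q := pres₁.isColimit.hom_ext fun j => hom_ext_locally _ _ fun W t => by
    obtain ⟨n, x, hxg, -⟩ := exists_gens_coh h (hp₁ j) hT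
    refine (hxg (homOfLE (le_top : W ≤ ⊤)) t).mono fun V k ⟨c, hc⟩ => ?_
    refine (congrArg (mapS _ V) hc).trans (Eq.trans ?_ (congrArg (mapS _ V) hc).symm)
    rw [map_sum, map_sum]
    refine Finset.sum_congr rfl fun i _ => ?_
    rw [map_smul, map_smul]
    refine congrArg (c i • ·) ?_
    rw [mapS_comp, mapS_comp, mapS_comp, mapS_comp]
    have e : mapS S.f V (mapS (pres₁.ι.app j) V (rs ((fg (𝔛.Osh h.1)).obj (pres₁.diag.obj j)) (k ≫ homOfLE (le_top : W ≤ ⊤)).op (x i))) =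
        resM S.X₂ le_top (mapS S.f ⊤ (mapS (pres₁.ι.app j) ⊤ (x i))) :=
      (congrArg (mapS S.f V) (mapS_res _ le_top (x i))).trans (mapS_res _ le_top _)
    exact (congrArg (mapS p V) e).trans ((hx _ V).trans (congrArg (mapS q V) e).symm)
  refine hom_ext_locally p q fun W t => ?_
  refine (ColimSec.locally_exists_rep pres₃.isColimit (mapS S.g W t)).bind fun V k ⟨j, s, hs⟩ => ?_
  obtain ⟨n, y, hy, -⟩ := exists_gens_coh h (hp₃ j) hT
  choose z hz using fun i => exists_lift_sec h hS h₁ hT (mapS (pres₃.ι.app j) ⊤ (y i))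
  refine (hy (homOfLE (le_top : V ≤ ⊤)) s).mono fun V' k' ⟨c, hc⟩ => ?_
  let u : Sec S.X₂ V' := ∑ i, c i • resM S.X₂ le_top (z i)
  have hu : mapS S.g V' (resM S.X₂ (leOfHom (k' ≫ k)) t - u) = 0 := by
    rw [map_sub, sub_eq_zero, mapS_res, map_sum]
    refine Eq.trans ((SecGen.rs_op_comp k' k _).trans (congrArg (rs _ k'.op) hs.symm)) ?_
    refine ((app_rs ((fg (𝔛.Osh h.1)).map (pres₃.ι.app j)) k'.op s).symm.trans
      ((congrArg (mapS (pres₃.ι.app j) V') hc).trans (map_sum _ _ _))).trans ?_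
    refine Finset.sum_congr rfl fun i _ => (map_smul _ _ _).trans (Eq.trans ?_ (map_smul _ _ _).symm)
    refine congrArg (c i • ·) ?_
    exact ((mapS_res (pres₃.ι.app j) le_top (y i)).trans (congrArg (resM S.X₃ le_top) (hz i).symm)).trans
      (mapS_res S.g le_top (z i)).symm
  obtain ⟨w, hw⟩ := exists_app_eq_of_exact hS (U := V') _ hu
  have e : mapS S.f V' w = resM S.X₂ (leOfHom (k' ≫ k)) t - u := hw
  have h2 : mapS p V' (resM S.X₂ (leOfHom (k' ≫ k)) t - u) = mapS q V' (resM S.X₂ (leOfHom (k' ≫ k)) t - u) := by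
    rw [← e, ← mapS_comp, ← mapS_comp, hf]
  rw [map_sub, map_sub] at h2
  have h3 : mapS p V' u = mapS q V' u := by
    rw [map_sum, map_sum]
    refine Finset.sum_congr rfl fun i _ => ?_
    rw [map_smul, map_smul, hx]
  rw [h3, sub_left_inj] at h2
  exact h2

include h in
/-- Extensions of quasi-coherent modules are quasi-coherent. -/
theorem isQC_ext {S : ShortComplex (FSch.ModF 𝔛 h.1)} (hS : S.ShortExact)
    [SheafOfModules.IsQuasicoherent.{u} (R := ModSite.ringSh (𝔛.Osh h.1)) S.X₁]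
    [SheafOfModules.IsQuasicoherent.{u} (R := ModSite.ringSh (𝔛.Osh h.1)) S.X₃] :
    SheafOfModules.IsQuasicoherent.{u} (R := ModSite.ringSh (𝔛.Osh h.1)) S.X₂ :=
  isQC_of_ind_res h fun x W hx => by
    obtain ⟨U, hU, hxU, hUW, h₁, h₂⟩ := exists_ind_res h (𝔉 := S.X₁) (𝔊 := S.X₃) hx
    haveI := OpenRes.preservesFiniteColimits_res h U
    haveI := OpenRes.preservesFiniteLimits_res h U
    exact ⟨U, hU, hxU, hUW, ind_ext (hSys h U) (hS.map_of_exact (OpenRes.res h U)) h₁ h₂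
      (isAffineOpen_top_sys h hU)⟩

/-- Short exact middle of a five term exact sequence. -/
theorem exists_shortExact_five {A : Type*} [Category A] [Abelian A] (S : ComposableArrows A 4) (hS : S.Exact) :
    ∃ T : ShortComplex A, T.ShortExact ∧ Nonempty (cokernel (S.map' 0 1) ≅ T.X₁) ∧ T.X₂ = S.obj 2 ∧
      Nonempty (kernel (S.map' 3 4) ≅ T.X₃) := by
  let S₁ := S.sc hS.toIsComplex 0
  let S₂ := S.sc hS.toIsComplex 1
  let S₃ := S.sc hS.toIsComplex 2
  have e₁ : S₁.Exact := hS.exact 0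
  have e₂ : S₂.Exact := hS.exact 1
  have e₃ : S₃.Exact := hS.exact 2
  let i : cokernel (S.map' 0 1) ⟶ S.obj 2 := cokernel.desc _ (S.map' 1 2) S₁.zero
  let p : S.obj 2 ⟶ kernel (S.map' 3 4) := kernel.lift _ (S.map' 2 3) S₃.zero
  haveI : Mono i := e₁.mono_cokernelDesc
  haveI : Epi p := e₃.epi_kernelLift
  have w : i ≫ p = 0 := by
    rw [← cancel_epi (cokernel.π (S.map' 0 1)), ← cancel_mono (kernel.ι (S.map' 3 4)), comp_zero, zero_comp,
      cokernel.π_desc_assoc, Category.assoc, kernel.lift_ι]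
    exact S₂.zero
  refine ⟨ShortComplex.mk i p w, { exact := ?_, mono_f := inferInstance, epi_g := inferInstance },
    ⟨Iso.refl _⟩, rfl, ⟨Iso.refl _⟩⟩
  rw [ShortComplex.exact_iff_exact_up_to_refinements]
  intro B x₂ hx₂
  rw [ShortComplex.exact_iff_exact_up_to_refinements] at e₂
  obtain ⟨B', π, hπ, x₁, hx₁⟩ := e₂ x₂ (by
    show x₂ ≫ S.map' 2 3 = 0
    rw [← kernel.lift_ι (S.map' 3 4) (S.map' 2 3) S₃.zero, ← Category.assoc]
    exact (congrArg (· ≫ _) hx₂).trans zero_comp)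
  refine ⟨B', π, hπ, x₁ ≫ cokernel.π (S.map' 0 1), ?_⟩
  exact hx₁.trans ((congrArg (x₁ ≫ ·) (cokernel.π_desc (S.map' 0 1) (S.map' 1 2) S₁.zero).symm).trans
    (Category.assoc _ _ _).symm)

include h in
/-- Ind-coherent modules on affine formal schemes are quotients of free modules. -/
theorem exists_epi_free (hT : IsAffineOpen (⊤ : (𝔛.X 0).Opens)) (h𝔉 : IndCoh 𝔉) :
    ∃ (α : Type u) (π : fr (𝔛.Osh h.1) α ⟶ 𝔉), Epi π := by
  obtain ⟨J, _, _, pres, hp⟩ := h𝔉
  refine ⟨Sec 𝔉 ⊤, fdesc fun x => topSec x, ⟨fun {Z} p q hpq => pres.isColimit.hom_ext fun j => ?_⟩⟩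
  refine hom_ext_locally _ _ fun W t => ?_
  obtain ⟨n, y, hy, -⟩ := exists_gens_coh h (hp j) hT
  refine (hy (homOfLE (le_top : W ≤ ⊤)) t).mono fun V k ⟨c, hc⟩ => ?_
  refine (congrArg (mapS _ V) hc).trans (Eq.trans ?_ (congrArg (mapS _ V) hc).symm)
  rw [map_sum, map_sum]
  refine Finset.sum_congr rfl fun i _ => ?_
  rw [map_smul, map_smul]
  refine congrArg (c i • ·) ?_
  have h1 := congrArg (fun r => mapS r V (fsec (mapS (pres.ι.app j) ⊤ (y i)) (op V))) hpq
  simp only [mapS_comp] at h1 ⊢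
  have e : mapS (fdesc fun x => topSec x) V (fsec (mapS (pres.ι.app j) ⊤ (y i)) (op V)) =
      mapS (pres.ι.app j) V (resM (pres.diag.obj j) le_top (y i)) :=
    (fdesc_fsec _ _ _).trans (mapS_res _ le_top (y i)).symm
  exact (congrArg (mapS p V) e).symm.trans (h1.trans (congrArg (mapS q V) e))

include h in
/-- Free modules are ind-coherent. -/
theorem ind_free (α : Type u) : IndCoh (fr (𝔛.Osh h.1) α) :=
  ind_sigma_coh h (fun _ : α => FSch.unitF 𝔛 h.1) fun _ => isCohF_unit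

include h in
/-- Ind-coherent modules on affine formal schemes are cokernels of maps of free modules. -/
theorem ind_iff_cokernel_free (hT : IsAffineOpen (⊤ : (𝔛.X 0).Opens)) (𝔉 : FSch.ModF 𝔛 h.1) :
    IndCoh 𝔉 ↔ ∃ (α β : Type u) (φ : fr (𝔛.Osh h.1) α ⟶ fr (𝔛.Osh h.1) β), Nonempty (cokernel φ ≅ 𝔉) := by
  refine ⟨fun hF => ?_, fun ⟨α, β, φ, ⟨e⟩⟩ => ind_of_iso h e (ind_cokernel h (ind_free h α) (ind_free h β) φ)⟩
  obtain ⟨β, π, _⟩ := exists_epi_free h hT hF
  obtain ⟨α, g, _⟩ := exists_epi_free h hT (ind_kernel h (ind_free h β) hF π)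
  exact ⟨α, β, g ≫ kernel.ι π, ⟨cokernelEpiComp g (kernel.ι π) ≪≫
    (cokernelIsCokernel (kernel.ι π)).coconePointUniqueUpToIso (Abelian.epiIsCokernelOfKernel _ (limit.isLimit _))⟩⟩

end Groth.Agent.H26.FMod
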