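import Groth.Agent.H26.FMod.SubSheaf
import Groth.Agent.H26.FMod.QCClose

/-!
# Extensions of ind-coherent modules on Noetherian formal schemes
-/

noncomputable section

set_option autoImplicit false
set_option maxHeartbeats 1000000
set_option linter.style.haveILetI false
set_option backward.isDefEq.respectTransparency false
set_option backward.isDefEq.respectTransparency.types false

universe u

open CategoryTheory CategoryTheory.Limits TopologicalSpace Opposite AlgebraicGeometry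
open Groth.Agent.ModTensor Groth.Agent.ModPull Groth.Agent.LocalFactor Groth.Agent.SecGen

namespace Groth.Agent.H26.FMod

variable {𝔛 : FSch.Sys.{u}} (h : 𝔛.IsLocNoethFormal) {𝔉 : FSch.ModF 𝔛 h.1}

include h in
/-- A submodule generated by compatible finite families is coherent. -/
theorem exists_coh_of_gens (hrel : RelFrom (𝟙 𝔉)) {κ : Type u}
    (U : κ → (𝔛.X 0).Opens) (hcov : ∀ x : 𝔛.X 0, ∃ k, x ∈ U k) (n : κ → ℕ) (z : ∀ k, Fin (n k) → Sec 𝔉 (U k))
    (hcomp : ∀ k l (i : Fin (n l)), ModPull.Locally (Opens.grothendieckTopology (𝔛.X 0)) (U k ⊓ U l)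
      (fun V g => resM 𝔉 ((leOfHom g).trans inf_le_right) (z l i) ∈ Submodule.span (Rg h.1 V)
        (Set.range fun q => resM 𝔉 ((leOfHom g).trans inf_le_left) (z k q)))) :
    ∃ (D : FSch.ModF 𝔛 h.1) (d : D ⟶ 𝔉), Mono d ∧ FSch.IsCohF 𝔛 h.1 D ∧
      (∀ (k : κ) (i : Fin (n k)), ∃ y : Sec D (U k), mapS d (U k) y = z k i) := by
  classical
  let Spn : ∀ (k : κ) (V : (𝔛.X 0).Opens), V ≤ U k → Submodule (Rg h.1 V) (Sec 𝔉 V) := fun k V hle =>
    Submodule.span (Rg h.1 V) (Set.range fun q => resM 𝔉 hle (z k q))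
  have hres : ∀ (k : κ) {V V' : (𝔛.X 0).Opens} (hle : V ≤ U k) (hV : V' ≤ V) (x : Sec 𝔉 V),
      x ∈ Spn k V hle → resM 𝔉 hV x ∈ Spn k V' (hV.trans hle) := fun k V V' hle hV x hx => by
    obtain ⟨c, hc⟩ := (Submodule.mem_span_range_iff_exists_fun _).1 hx
    refine (Submodule.mem_span_range_iff_exists_fun _).2 ⟨fun q => res hV (c q), ?_⟩
    rw [← hc]
    refine ((resM_sum 𝔉 hV c _).trans (Finset.sum_congr rfl fun q _ => ?_)).symm
    exact congrArg (_ • ·) (SecGen.rs_op_comp (homOfLE hV) (homOfLE hle) _).symm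
  let Loc : ∀ {W : (𝔛.X 0).Opens}, Sec 𝔉 W → Prop := fun {W} t =>
    ∀ (k : κ), ModPull.Locally (Opens.grothendieckTopology (𝔛.X 0)) (U k ⊓ W) (fun V g =>
      resM 𝔉 ((leOfHom g).trans inf_le_right) t ∈ Spn k V ((leOfHom g).trans inf_le_left))
  let S : SubData 𝔉 :=
    { mem := fun W =>
        { carrier := {t | Loc t}
          zero_mem' := fun k => ⟨⊤, GrothendieckTopology.top_mem _ _, fun V g _ => by
            beta_reduce
            rw [show resM 𝔉 ((leOfHom g).trans inf_le_right) (0 : Sec 𝔉 W) = 0 from map_zero _]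
            exact Submodule.zero_mem _⟩
          add_mem' := fun {s t} hs ht k => by
            obtain ⟨S₁, hS₁, hP₁⟩ := hs k
            obtain ⟨S₂, hS₂, hP₂⟩ := ht k
            refine ⟨S₁ ⊓ S₂, GrothendieckTopology.intersection_covering _ hS₁ hS₂, fun V g hg => ?_⟩
            beta_reduce
            rw [show resM 𝔉 ((leOfHom g).trans inf_le_right) (s + t) = resM 𝔉 _ s + resM 𝔉 _ t from map_add _ _ _]
            exact Submodule.add_mem _ (hP₁ g hg.1) (hP₂ g hg.2)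
          smul_mem' := fun r t ht k => (ht k).mono fun V g hg => by
            rw [show resM 𝔉 ((leOfHom g).trans inf_le_right) (r • t) = res _ r • resM 𝔉 _ t from rs_smul _ _ _]
            exact Submodule.smul_mem _ _ hg }
      res_mem := fun {W W'} hle t ht k => by
        obtain ⟨S₁, hS₁, hP₁⟩ := ht k
        refine ⟨Sieve.pullback (homOfLE (inf_le_inf le_rfl hle)) S₁,
          GrothendieckTopology.pullback_stable _ _ hS₁, fun V g hg => ?_⟩
        have h1 := hP₁ _ hg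
        beta_reduce
        rw [show resM 𝔉 ((leOfHom g).trans inf_le_right) (resM 𝔉 hle t) =
          resM 𝔉 ((leOfHom (g ≫ homOfLE (inf_le_inf le_rfl hle))).trans inf_le_right) t from
            (SecGen.rs_op_comp (homOfLE ((leOfHom g).trans inf_le_right)) (homOfLE hle) t).symm]
        exact h1
      loc := fun W t ht k => by
        obtain ⟨S₁, hS₁, hP₁⟩ := ht
        have h0 : Sieve.pullback (homOfLE (inf_le_right : U k ⊓ W ≤ W)) S₁ ∈
            Opens.grothendieckTopology (𝔛.X 0) (U k ⊓ W) := GrothendieckTopology.pullback_stable _ _ hS₁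
        refine ModPull.Locally.bind
          (⟨_, h0, fun V g hg => hg⟩ : ModPull.Locally (Opens.grothendieckTopology (𝔛.X 0)) (U k ⊓ W)
            (fun V g => S₁ (g ≫ homOfLE inf_le_right))) fun V g hg => ?_
        obtain ⟨S₂, hS₂, hP₂⟩ := hP₁ _ hg k
        refine ⟨Sieve.pullback (homOfLE (le_inf ((leOfHom g).trans inf_le_left) le_rfl)) S₂,
          GrothendieckTopology.pullback_stable _ _ hS₂, fun V' g' hg' => ?_⟩
        have h1 := hP₂ _ hg'
        beta_reduce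
        rw [show resM 𝔉 ((leOfHom (g' ≫ g)).trans inf_le_right) t =
          resM 𝔉 ((leOfHom (g' ≫ homOfLE (le_inf ((leOfHom g).trans inf_le_left) le_rfl))).trans inf_le_right)
            (resM 𝔉 (leOfHom (g ≫ homOfLE (inf_le_right : U k ⊓ W ≤ W))) t) from
            SecGen.rs_op_comp (homOfLE (leOfHom g')) (g ≫ homOfLE inf_le_right) t]
        exact h1 }
  have hz : ∀ (k : κ) (i : Fin (n k)), z k i ∈ S.mem (U k) := fun k i l => hcomp l k i
  choose y hy using fun k i => S.exists_pre (hz k i)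
  refine ⟨S.obj, S.ι, inferInstance, isFinitePresentation_of_pres _ fun X => ?_, fun k i => S.exists_pre (hz k i)⟩
  refine ⟨{ arrows := fun V g => Nonempty (Pres (𝔛.Osh h.1) S.obj V),
            downward_closed := fun {V V' f} ⟨P⟩ g => ⟨presPull P g⟩ }, fun x hx => ?_, fun V g hg => hg⟩
  obtain ⟨k, hk⟩ := hcov x
  obtain ⟨_, ⟨V, hV, rfl⟩, hxV, hle⟩ :=
    (𝔛.X 0).isBasis_affineOpens.exists_subset_of_mem_open (show x ∈ U k ⊓ X from ⟨hk, hx⟩) (U k ⊓ X).2
  have hVk : V ≤ U k := fun p hp => (hle hp).1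
  refine ⟨V, homOfLE (fun p hp => (hle hp).2), ?_, hxV⟩
  refine nonempty_pres_of_hasRel h hV (fun q => resM S.obj hVk (y k q)) (fun W f t => ?_) (hasRel_mono S.ι _ ?_)
  · have ht := S.ι_mem t k
    obtain ⟨S₁, hS₁, hP₁⟩ := ht
    refine ⟨Sieve.pullback (homOfLE (le_inf ((leOfHom f).trans hVk) le_rfl)) S₁,
      GrothendieckTopology.pullback_stable _ _ hS₁, fun W' g hg => ?_⟩
    obtain ⟨c, hc⟩ := (Submodule.mem_span_range_iff_exists_fun _).1 (hP₁ _ hg)
    refine ⟨c, app_injective S.ι (op W') ?_⟩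
    refine (app_rs ((fg (𝔛.Osh h.1)).map S.ι) g.op t).trans (hc.symm.trans ?_)
    rw [map_sum]
    refine Finset.sum_congr rfl fun q _ => ?_
    rw [map_smul]
    refine congrArg (c q • ·) ?_
    refine Eq.trans ?_ ((app_rs ((fg (𝔛.Osh h.1)).map S.ι) (g ≫ f).op _).trans
      (congrArg (rs ((fg (𝔛.Osh h.1)).obj 𝔉) (g ≫ f).op) (app_rs ((fg (𝔛.Osh h.1)).map S.ι) (homOfLE hVk).op (y k q)))).symm
    refine Eq.trans ?_ (congrArg (fun w => rs ((fg (𝔛.Osh h.1)).obj 𝔉) (g ≫ f).op (resM 𝔉 hVk w)) (hy k q)).symm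
    exact SecGen.rs_op_comp (g ≫ f) (homOfLE hVk) (z k q)
  · have h1 := hrel hV fun q => resM 𝔉 hVk (z k q)
    rw [show (fun q => mapS S.ι V (resM S.obj hVk (y k q))) = fun q => mapS (𝟙 𝔉) V (resM 𝔉 hVk (z k q)) from
      funext fun q => (mapS_res _ _ _).trans ((congrArg (resM 𝔉 hVk) (hy k q)).trans (mapS_id _ _).symm)]
    exact h1

include h in
/-- Finite covers of open sets by small basic opens. -/
theorem exists_finite_cover [CompactSpace (𝔛.X 0)] (W : (𝔛.X 0).Opens) (P : (𝔛.X 0).Opens → Prop)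
    (hP : ∀ x ∈ W, ∃ V : (𝔛.X 0).Opens, x ∈ V ∧ V ≤ W ∧ P V) :
    ∃ s : Finset {V : (𝔛.X 0).Opens // V ≤ W ∧ P V}, ∀ x ∈ W, ∃ V ∈ s, x ∈ V.1 := by
  classical
  haveI : IsLocallyNoetherian (𝔛.X 0) := h.2.2 0
  haveI : AlgebraicGeometry.IsNoetherian (𝔛.X 0) := {}
  obtain ⟨s, hs⟩ := (NoetherianSpace.isCompact (W : Set (𝔛.X 0))).elim_finite_subcover
    (fun V : {V : (𝔛.X 0).Opens // V ≤ W ∧ P V} => (V.1 : Set (𝔛.X 0))) (fun V => V.1.2) fun x hx => by
      obtain ⟨V, hxV, hVW, hPV⟩ := hP x hx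
      exact Set.mem_iUnion.2 ⟨⟨V, hVW, hPV⟩, hxV⟩
  exact ⟨s, fun x hx => by
    obtain ⟨V, hV, hxV⟩ := Set.mem_iUnion₂.1 (hs hx)
    exact ⟨V, hV, hxV⟩⟩

include h in
/-- Sections of extensions of ind-coherent modules lie in coherent submodules. -/
theorem exists_coh_mem [CompactSpace (𝔛.X 0)] {S : ShortComplex (FSch.ModF 𝔛 h.1)} (hS : S.ShortExact)
    (h₁ : IndCoh S.X₁) (h₃ : IndCoh S.X₃) {U₀ : (𝔛.X 0).Opens} (hU₀ : IsAffineOpen U₀) (t : Sec S.X₂ U₀) :
    ∃ (D : FSch.ModF 𝔛 h.1) (d : D ⟶ S.X₂), FSch.IsCohF 𝔛 h.1 D ∧ ∃ s : Sec D U₀, mapS d U₀ s = t := by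
  classical
  obtain ⟨J₁, _, _, p₁, hp₁⟩ := id h₁
  obtain ⟨J₃, _, _, p₃, hp₃⟩ := id h₃
  obtain ⟨i, w₀, hw₀⟩ := exists_stage h p₃.isColimit hU₀ (mapS S.g U₀ t)
  let C := p₃.diag.obj i
  let v : C ⟶ S.X₃ := p₃.ι.app i
  obtain ⟨s₀, hs₀⟩ := exists_finite_cover h (⊤ : (𝔛.X 0).Opens) (fun V => IsAffineOpen V) fun x _ => by
    obtain ⟨_, ⟨V, hV, rfl⟩, hxV, -⟩ := (𝔛.X 0).isBasis_affineOpens.exists_subset_of_mem_open
      (show x ∈ (⊤ : (𝔛.X 0).Opens) from trivial) (⊤ : (𝔛.X 0).Opens).2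
    exact ⟨V, hxV, le_top, hV⟩
  let κ := Option {V // V ∈ s₀}
  let U : κ → (𝔛.X 0).Opens := fun k => k.elim U₀ fun V => V.1.1
  have hU : ∀ k, IsAffineOpen (U k) := fun k => match k with
    | none => hU₀
    | some V => V.1.2.2
  choose m y hy hys using fun k => exists_gens_coh h (hp₃ i) (hU k)
  choose z hz using fun k q => exists_lift_sec h hS h₁ (hU k) (mapS v (U k) (y k q))
  let t' : Sec S.X₂ (U none) := t
  let w' : Sec C (U none) := w₀
  have hw' : mapS v (U none) w' = mapS S.g (U none) t' := hw₀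
  obtain ⟨c₀, hc₀⟩ := (Submodule.mem_span_range_iff_exists_fun _).1
    (show w' ∈ Submodule.span (Rg h.1 (U none)) (Set.range (y none)) from (hys none).symm ▸ Submodule.mem_top)
  obtain ⟨a₀, ha₀⟩ : ∃ a : Sec S.X₁ (U none), mapS S.f (U none) a = t' - ∑ q, c₀ q • z none q := by
    refine exists_app_eq_of_exact hS (U := U none) _ ?_
    show mapS S.g (U none) (t' - ∑ q, c₀ q • z none q) = 0
    rw [map_sub, map_sum, sub_eq_zero, ← hw', ← hc₀]
    refine (map_sum _ _ _).trans (Finset.sum_congr rfl fun q _ => ?_)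
    exact (map_smul _ _ _).trans ((congrArg (c₀ q • ·) (hz none q).symm).trans (map_smul _ _ _).symm)
  let Good : ∀ (k l : κ) (q : Fin (m l)), (𝔛.X 0).Opens → Prop := fun k l q V => IsAffineOpen V ∧
    ∃ (h1 : V ≤ U k) (h2 : V ≤ U l) (c : Fin (m k) → Rg h.1 V) (a : Sec S.X₁ V),
      resM S.X₂ h2 (z l q) = ∑ r, c r • resM S.X₂ h1 (z k r) + mapS S.f V a
  have hgood : ∀ (k l : κ) (q : Fin (m l)), ∀ x ∈ U k ⊓ U l,
      ∃ V : (𝔛.X 0).Opens, x ∈ V ∧ V ≤ U k ⊓ U l ∧ Good k l q V := by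
    intro k l q x hx
    obtain ⟨S', hS', hP'⟩ := hy k (homOfLE (inf_le_left : U k ⊓ U l ≤ U k)) (resM C (inf_le_right : U k ⊓ U l ≤ U l) (y l q))
    obtain ⟨V', g, hg, hxV'⟩ := hS' x hx
    obtain ⟨c, hc⟩ := hP' g hg
    obtain ⟨_, ⟨V, hV, rfl⟩, hxV, hle⟩ := (𝔛.X 0).isBasis_affineOpens.exists_subset_of_mem_open hxV' V'.2
    have h1 : V ≤ U k := (show V ≤ V' from hle).trans ((leOfHom g).trans inf_le_left)
    have h2 : V ≤ U l := (show V ≤ V' from hle).trans ((leOfHom g).trans inf_le_right)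
    let c' : Fin (m k) → Rg h.1 V := fun r => res (show V ≤ V' from hle) (c r)
    have hc' : resM C h2 (y l q) = ∑ r, c' r • resM C h1 (y k r) := by
      refine Eq.trans ?_ ((congrArg (resM C (show V ≤ V' from hle)) hc).trans ((resM_sum C _ c _).trans
        (Finset.sum_congr rfl fun r _ => congrArg (c' r • ·) (SecGen.rs_op_comp (homOfLE _) _ _).symm)))
      exact (SecGen.rs_op_comp (homOfLE (show V ≤ V' from hle)) (g ≫ homOfLE inf_le_right) (y l q)).trans
        (congrArg (resM C _) (SecGen.rs_op_comp g (homOfLE inf_le_right) (y l q)))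
    obtain ⟨a, ha⟩ : ∃ a : Sec S.X₁ V, mapS S.f V a = resM S.X₂ h2 (z l q) - ∑ r, c' r • resM S.X₂ h1 (z k r) := by
      refine exists_app_eq_of_exact hS (U := V) _ ?_
      show mapS S.g V _ = 0
      rw [map_sub, map_sum, sub_eq_zero, mapS_res, hz, ← mapS_res]
      refine ((congrArg (mapS v V) hc').trans (map_sum _ _ _)).trans (Finset.sum_congr rfl fun r _ => ?_)
      rw [map_smul, map_smul, mapS_res, mapS_res, hz]
    refine ⟨V, hxV, le_inf h1 h2, hV, h1, h2, c', a, ?_⟩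
    rw [ha, add_sub_cancel]
  choose cov hcov using fun k l q => exists_finite_cover h (U k ⊓ U l) (Good k l q) (hgood k l q)
  choose hVa h1 h2 c a ha using fun (k l : κ) (q : Fin (m l)) (V : {V // V ∈ cov k l q}) => V.1.2.2
  let T := Σ k : κ, Σ l : κ, Σ q : Fin (m l), {V // V ∈ cov k l q}
  choose jT bT hbT using fun p : T => exists_stage h p₁.isColimit (hVa p.1 p.2.1 p.2.2.1 p.2.2.2) (a p.1 p.2.1 p.2.2.1 p.2.2.2)
  obtain ⟨j₀, b₀, hb₀⟩ := exists_stage h p₁.isColimit (hU none) a₀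
  obtain ⟨j, hj⟩ := IsFiltered.sup_objs_exists (insert j₀ (Finset.univ.image jT))
  let G := p₁.diag.obj j
  let u : G ⟶ S.X₁ := p₁.ι.app j
  have hlift : ∀ p : T, ∃ b : Sec G p.2.2.2.1.1, mapS u _ b = a p.1 p.2.1 p.2.2.1 p.2.2.2 := fun p =>
    ⟨mapS (p₁.diag.map (hj (Finset.mem_insert_of_mem (Finset.mem_image_of_mem jT (Finset.mem_univ p)))).some) _ (bT p), by
      refine ((mapS_comp _ _ _ _).symm.trans ?_).trans (hbT p)
      exact congrArg (fun f => mapS f _ (bT p)) ((p₁.ι.naturality _).trans (Category.comp_id _))⟩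
  choose n x hx hxs using fun k => exists_gens_coh h (hp₁ j) (hU k)
  let Z : ∀ k, Fin (m k + n k) → Sec S.X₂ (U k) := fun k =>
    Fin.append (z k) fun r => mapS S.f (U k) (mapS u (U k) (x k r))
  have hZl : ∀ (k : κ) {V : (𝔛.X 0).Opens} (hV : V ≤ U k) (r : Fin (m k)),
      resM S.X₂ hV (z k r) ∈ Submodule.span (Rg h.1 V) (Set.range fun q => resM S.X₂ hV (Z k q)) := fun k V hV r =>
    Submodule.subset_span ⟨Fin.castAdd (n k) r, congrArg (resM S.X₂ hV) (Fin.append_left _ _ r)⟩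
  have hZr : ∀ (k : κ) {V : (𝔛.X 0).Opens} (hV : V ≤ U k) (r : Fin (n k)),
      resM S.X₂ hV (mapS S.f (U k) (mapS u (U k) (x k r))) ∈
        Submodule.span (Rg h.1 V) (Set.range fun q => resM S.X₂ hV (Z k q)) := fun k V hV r =>
    Submodule.subset_span ⟨Fin.natAdd (m k) r, congrArg (resM S.X₂ hV) (Fin.append_right _ _ r)⟩
  have hGloc : ∀ (k : κ) {V : (𝔛.X 0).Opens} (hV : V ≤ U k) (b : Sec G V),
      ModPull.Locally (Opens.grothendieckTopology (𝔛.X 0)) V (fun V' g =>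
        resM S.X₂ (leOfHom g) (mapS S.f V (mapS u V b)) ∈
          Submodule.span (Rg h.1 V') (Set.range fun q => resM S.X₂ ((leOfHom g).trans hV) (Z k q))) := fun k V hV b =>
    (hx k (homOfLE hV) b).mono fun V' g ⟨e, he⟩ => by
      rw [show resM S.X₂ (leOfHom g) (mapS S.f V (mapS u V b)) = mapS S.f V' (mapS u V' (rs _ g.op b)) from
        ((congrArg (mapS S.f V') (mapS_res u (leOfHom g) b)).trans (mapS_res S.f (leOfHom g) _)).symm, he,
        map_sum, map_sum]
      refine Submodule.sum_mem _ fun r _ => ?_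
      rw [map_smul, map_smul]
      refine Submodule.smul_mem _ _ ?_
      have e1 : mapS S.f V' (mapS u V' (rs ((fg (𝔛.Osh h.1)).obj G) (g ≫ homOfLE hV).op (x k r))) =
          resM S.X₂ ((leOfHom g).trans hV) (mapS S.f (U k) (mapS u (U k) (x k r))) :=
        (congrArg (mapS S.f V') (mapS_res u _ (x k r))).trans (mapS_res S.f _ _)
      exact e1 ▸ hZr k ((leOfHom g).trans hV) r
  obtain ⟨D, d, -, hD, hmem⟩ := exists_coh_of_gens h (𝔉 := S.X₂) (fun U hU n x => hasRel_ext h hS h₁ h₃ hU _) U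
    (fun x => by
      obtain ⟨V, hV, hxV⟩ := hs₀ x trivial
      exact ⟨some ⟨V, hV⟩, hxV⟩)
    (fun k => m k + n k) Z fun k l p => by
      refine Fin.addCases (fun q => ?_) (fun q => ?_) p
      · refine ⟨{
            arrows := fun V g => ∃ (V₀ : {V // V ∈ cov k l q}) (g₀ : V ⟶ V₀.1.1),
                resM S.X₂ (leOfHom g₀) (mapS S.f _ (a k l q V₀)) ∈ Submodule.span (Rg h.1 V)
                  (Set.range fun r => resM S.X₂ ((leOfHom g).trans inf_le_left) (Z k r))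
            downward_closed := fun {V V' g} ⟨V₀, g₀, hg₀⟩ g' => ⟨V₀, g' ≫ g₀, by
              obtain ⟨e, he⟩ := (Submodule.mem_span_range_iff_exists_fun _).1 hg₀
              refine (Submodule.mem_span_range_iff_exists_fun _).2 ⟨fun r => res (leOfHom g') (e r), ?_⟩
              refine Eq.trans ?_ ((congrArg (resM S.X₂ (leOfHom g')) he).trans (SecGen.rs_op_comp g' g₀ _).symm)
              refine ((resM_sum S.X₂ (leOfHom g') e _).trans (Finset.sum_congr rfl fun r _ => ?_)).symm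
              exact congrArg (_ • ·) (SecGen.rs_op_comp g' (homOfLE ((leOfHom g).trans inf_le_left)) _).symm⟩ }, ?_, ?_⟩
        · intro w hw
          obtain ⟨V₀, hV₀, hwV⟩ := hcov k l q w hw
          obtain ⟨b, hb⟩ := hlift ⟨k, l, q, ⟨V₀, hV₀⟩⟩
          obtain ⟨S', hS', hP'⟩ := hGloc k (h1 k l q ⟨V₀, hV₀⟩) b
          obtain ⟨V', g, hg, hwV'⟩ := hS' w hwV
          refine ⟨V', g ≫ homOfLE V₀.2.1, ⟨⟨V₀, hV₀⟩, g, ?_⟩, hwV'⟩
          have := hP' g hg
          rwa [show mapS S.f _ (mapS u _ b) = mapS S.f _ (a k l q ⟨V₀, hV₀⟩) from congrArg (mapS S.f _) hb] at this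
        · rintro V g ⟨V₀, g₀, hg₀⟩
          have e1 : resM S.X₂ ((leOfHom g).trans inf_le_right) (Z l (Fin.castAdd (n l) q)) =
              resM S.X₂ (leOfHom g₀) (resM S.X₂ (h2 k l q V₀) (z l q)) :=
            (congrArg (resM S.X₂ _) (Fin.append_left _ _ q)).trans (SecGen.rs_op_comp g₀ (homOfLE (h2 k l q V₀)) (z l q))
          rw [e1, ha k l q V₀,
            show ∀ (s₁ s₂ : Sec S.X₂ V₀.1.1), resM S.X₂ (leOfHom g₀) (s₁ + s₂) = resM S.X₂ (leOfHom g₀) s₁ + resM S.X₂ (leOfHom g₀) s₂ from map_add _,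
            resM_sum]
          refine Submodule.add_mem _ (Submodule.sum_mem _ fun r _ => Submodule.smul_mem _ _ ?_) hg₀
          have e2 : resM S.X₂ (leOfHom g₀) (resM S.X₂ (h1 k l q V₀) (z k r)) =
              resM S.X₂ ((leOfHom g).trans inf_le_left) (z k r) :=
            (SecGen.rs_op_comp g₀ (homOfLE (h1 k l q V₀)) (z k r)).symm
          exact e2 ▸ hZl k ((leOfHom g).trans inf_le_left) r
      · refine (hGloc k (inf_le_left : U k ⊓ U l ≤ U k) (resM G inf_le_right (x l q))).mono fun V g hg => ?_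
        refine (congrArg (fun w => w ∈ Submodule.span (Rg h.1 V) _) ?_).mp hg
        refine ((congrArg (resM S.X₂ (leOfHom g)) ((congrArg (mapS S.f _) (mapS_res u inf_le_right (x l q))).trans
          (mapS_res S.f inf_le_right _))).trans (SecGen.rs_op_comp g (homOfLE inf_le_right) _).symm).trans ?_
        exact congrArg (resM S.X₂ _) (Fin.append_right (z l) (fun r => mapS S.f (U l) (mapS u (U l) (x l r))) q).symm
  obtain ⟨b, hb⟩ : ∃ b : Sec G (U none), mapS u (U none) b = a₀ :=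
    ⟨mapS (p₁.diag.map (hj (Finset.mem_insert_self _ _)).some) (U none) b₀,
      ((mapS_comp (p₁.diag.map (hj (Finset.mem_insert_self _ _)).some) u (U none) b₀).symm.trans
        (congrArg (fun f => mapS f (U none) b₀) ((p₁.ι.naturality _).trans (Category.comp_id _)))).trans hb₀⟩
  obtain ⟨e, he⟩ := (Submodule.mem_span_range_iff_exists_fun _).1
    (show b ∈ Submodule.span (Rg h.1 (U none)) (Set.range (x none)) from (hxs none).symm ▸ Submodule.mem_top)
  choose s hs using hmem none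
  refine ⟨D, d, hD, ∑ q, c₀ q • s (Fin.castAdd (n none) q) + ∑ r, e r • s (Fin.natAdd (m none) r), ?_⟩
  show mapS d (U none) (∑ q, c₀ q • s (Fin.castAdd (n none) q) + ∑ r, e r • s (Fin.natAdd (m none) r)) = t'
  rw [map_add, map_sum, map_sum]
  have e1 : ∀ q, mapS d (U none) (c₀ q • s (Fin.castAdd (n none) q)) = c₀ q • z none q := fun q =>
    (map_smul _ _ _).trans (congrArg (c₀ q • ·) ((hs _).trans (Fin.append_left _ _ q)))
  have e2 : ∀ r, mapS d (U none) (e r • s (Fin.natAdd (m none) r)) = mapS S.f (U none) (mapS u (U none) (e r • x none r)) := fun r => by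
    rw [map_smul, map_smul, map_smul]
    exact congrArg (e r • ·) ((hs _).trans (Fin.append_right _ _ r))
  rw [Finset.sum_congr rfl fun q _ => e1 q, Finset.sum_congr rfl fun r _ => e2 r, ← map_sum, ← map_sum, he, hb, ha₀,
    add_sub_cancel]

include h in
/-- Extensions of ind-coherent modules on Noetherian formal schemes are ind-coherent. -/
theorem ind_ext_compact [CompactSpace (𝔛.X 0)] {S : ShortComplex (FSch.ModF 𝔛 h.1)} (hS : S.ShortExact)
    (h₁ : IndCoh S.X₁) (h₃ : IndCoh S.X₃) : IndCoh S.X₂ := by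
  choose D d hD s hs using fun q : (Σ U : {U : (𝔛.X 0).Opens // IsAffineOpen U}, Sec S.X₂ U.1) =>
    exists_coh_mem h hS h₁ h₃ q.1.2 q.2
  refine ind_of_family h (𝟙 S.X₂) (fun U hU n x => hasRel_ext h hS h₁ h₃ hU _) D hD d fun Z p q hpq => ?_
  refine hom_ext_locally p q fun W t => ?_
  refine ⟨{ arrows := fun V g => ∃ U : {U : (𝔛.X 0).Opens // IsAffineOpen U}, V ≤ U.1 ∧ U.1 ≤ W,
            downward_closed := fun {V V' g} ⟨U, h1, h2⟩ g' => ⟨U, (leOfHom g').trans h1, h2⟩ }, fun y hy => ?_, ?_⟩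
  · obtain ⟨_, ⟨U, hU, rfl⟩, hyU, hle⟩ := (𝔛.X 0).isBasis_affineOpens.exists_subset_of_mem_open hy W.2
    exact ⟨U, homOfLE hle, ⟨⟨U, hU⟩, le_rfl, hle⟩, hyU⟩
  · rintro V g ⟨U, h1, h2⟩
    let q₀ : Σ U : {U : (𝔛.X 0).Opens // IsAffineOpen U}, Sec S.X₂ U.1 := ⟨U, resM S.X₂ h2 t⟩
    have e : mapS (d q₀) V (resM (D q₀) h1 (s q₀)) = resM S.X₂ (leOfHom g) t :=
      (mapS_res _ _ _).trans ((congrArg (resM S.X₂ h1) (hs q₀)).trans
        (SecGen.rs_op_comp (homOfLE h1) (homOfLE h2) t).symm)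
    have h3 := congrArg (fun r => mapS r V (resM (D q₀) h1 (s q₀))) (hpq q₀)
    simp only [Category.id_comp, mapS_comp] at h3
    rw [← e]
    exact h3

end Groth.Agent.H26.FMod
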