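import Groth.Agent.H26.FMod.QCClose
import Groth.Agent.H26.FMod.Extension
import Groth.Prelude.Def_FTors2

/-!
# Torsion modules on locally Noetherian formal schemes
-/

noncomputable section

set_option autoImplicit false
set_option maxHeartbeats 1000000
set_option linter.style.haveILetI false
set_option backward.isDefEq.respectTransparency false
set_option backward.isDefEq.respectTransparency.types false

universe u

open CategoryTheory CategoryTheory.Limits TopologicalSpace Opposite AlgebraicGeometry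
open Groth.Agent.ModTensor Groth.Agent.ModPull Groth.Agent.LocalFactor Groth.Agent.SecGen
open Groth.Agent.H26.QPres

namespace Groth.Agent.H26.FMod

open OpenTransfer

variable {𝔛 : FSch.Sys.{u}} (h : 𝔛.IsLocNoethFormal) {M N : FSch.ModF 𝔛 h.1}

/-- The open ideals. -/
abbrev opI : FTors.IdealFam (𝔛.Osh h.1) := FTors.openIdealFam 𝔛 h.1

lemma mem_opI {n : ℕ} {U : (𝔛.X 0).Opens} (a : Rg h.1 U) :
    a ∈ (opI h).ideal n U ↔ pr h.1 n U a = 0 := FTors.mem_openIdealFam_iff 𝔛 h.1 n U a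

lemma mem_opI_affine {n : ℕ} {U : (𝔛.X 0).Opens} (hU : IsAffineOpen U) (a : Rg h.1 U) :
    a ∈ (opI h).ideal n U ↔ a ∈ Jd h.1 U ^ (n + 1) := by
  rw [mem_opI, ← ker_pr h n hU, RingHom.mem_ker]

include h in
/-- On an affine open, being killed is being killed by the sections of the ideal. -/
theorem killedBy_iff {n : ℕ} {U : (𝔛.X 0).Opens} (hU : IsAffineOpen U) (x : Sec M U) :
    FTors.KilledBy (opI h) M n (V := U) x ↔ ∀ r ∈ Jd h.1 U ^ (n + 1), r • x = 0 := by
  refine ⟨fun hx r hr => ?_, fun hx W g a ha => ?_⟩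
  · have h1 := hx (𝟙 U) r ((mem_opI_affine h hU r).2 hr)
    rwa [FTors.res_id] at h1
  refine eq_of_locally' M (locally_D h hU (leOfHom g)
    (fun V k => rs ((fg (𝔛.Osh h.1)).obj M) k.op (a • (resM M (leOfHom g) x)) =
      rs ((fg (𝔛.Osh h.1)).obj M) k.op (0 : Sec M W)) (fun b hb => ?_) fun V V' l k hk => ?_)
  · have h1 : res hb a ∈ (Jd h.1 U ^ (n + 1)).map (res (D_le b)) := by
      rw [Ideal.map_pow, Jd_map h hU b, ← mem_opI_affine h (isAffineOpen_D hU b)]
      exact (opI h).map_mem n (homOfLE hb) ha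
    have h2 : (Jd h.1 U ^ (n + 1)).map (res (D_le b)) ≤
        LinearMap.ker (LinearMap.toSpanSingleton (Rg h.1 (D h.1 b)) (Sec M (D h.1 b)) (resM M (D_le b) x)) := by
      refine Ideal.map_le_iff_le_comap.2 fun r hr => ?_
      show res (D_le b) r • resM M (D_le b) x = 0
      refine (rs_smul (homOfLE (D_le b)).op r x).symm.trans ?_
      rw [hx r hr]
      exact map_zero _
    rw [rs_smul]
    refine Eq.trans ?_ (map_zero (((fg (𝔛.Osh h.1)).obj M).map (homOfLE hb).op).hom).symm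
    refine Eq.trans (congrArg (fun z : Sec M (D h.1 b) => res hb a • z) ?_) (h2 h1)
    exact (SecGen.rs_op_comp _ _ x).symm
  · rw [SecGen.rs_op_comp, hk, ← SecGen.rs_op_comp]

include h in
/-- Being killed is local. -/
theorem killedBy_of_locally {n : ℕ} {U : (𝔛.X 0).Opens} (x : Sec M U)
    (hx : ModPull.Locally (Opens.grothendieckTopology (𝔛.X 0)) U
      fun V g => FTors.KilledBy (opI h) M n (V := V) (FTors.res M g x)) :
    FTors.KilledBy (opI h) M n (V := U) x := by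
  obtain ⟨S, hS, hSp⟩ := hx
  intro W g a ha
  refine eq_of_locally' M ⟨S.pullback g, GrothendieckTopology.pullback_stable _ g hS, fun V k hk => ?_⟩
  show FTors.res M k (a • FTors.res M g x) = FTors.res M k 0
  rw [FTors.res_smul, FTors.res_zero, ← FTors.res_comp]
  have h1 := hSp (k ≫ g) hk (𝟙 V) _ ((opI h).map_mem n k ha)
  rwa [FTors.res_id] at h1

include h in
/-- Torsion sections over affine opens are killed by a single member. -/
theorem exists_killedBy_of_tors {U : (𝔛.X 0).Opens} (hU : IsAffineOpen U) (x : Sec M U)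
    (hx : FTors.IsTorsSect (opI h) M (U := U) x) : ∃ n, FTors.KilledBy (opI h) M n (V := U) x := by
  classical
  have h1 : ∀ y : (U : Set (𝔛.X 0)), ∃ (V : (𝔛.X 0).Opens) (g : V ⟶ U) (n : ℕ),
      y.1 ∈ V ∧ FTors.KilledBy (opI h) M n (V := V) (FTors.res M g x) := fun y => by
    obtain ⟨V, g, ⟨n, hn⟩, hyV⟩ := hx y.1 y.2
    exact ⟨V, g, n, hyV, hn⟩
  choose V g n hy hn using h1
  obtain ⟨t, ht⟩ := hU.isCompact.elim_finite_subcover (fun y => (V y : Set (𝔛.X 0))) (fun y => (V y).2)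
    fun y hy' => Set.mem_iUnion.2 ⟨⟨y, hy'⟩, hy _⟩
  refine ⟨t.sup n, killedBy_of_locally h x ⟨{
      arrows := fun W k => ∃ y ∈ t, W ≤ V y,
      downward_closed := fun {W W' k} ⟨y, hy1, hy2⟩ l => ⟨y, hy1, (leOfHom l).trans hy2⟩ }, ?_, ?_⟩⟩
  · intro z hz
    obtain ⟨y, hyt, hzy⟩ := Set.mem_iUnion₂.1 (ht hz)
    exact ⟨V y, g y, ⟨y, hyt, le_rfl⟩, hzy⟩
  · rintro W k ⟨y, hyt, hWy⟩
    rw [Subsingleton.elim k (homOfLE hWy ≫ g y), FTors.res_comp]
    exact ((hn y).res _).mono (Finset.le_sup hyt)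

section Closure

include h in
lemma mapS_gammaι_val {U : (𝔛.X 0).Opens} (s : FTors.torsSub (opI h) M U) :
    mapS ((FTors.gammaTι 𝔛 h.1).app M) U s = s.1 := rfl

instance mono_gammaι {hF : 𝔛.IsFormal} {M : FSch.ModF 𝔛 hF} : Mono ((FTors.gammaTι 𝔛 hF).app M) :=
  ⟨fun {Z} p q hpq => hom_ext_locally p q fun W t => ModPull.Locally.of_id fun V g => by
    have h1 := congrArg (fun r => mapS r V (rs ((fg (𝔛.Osh hF)).obj Z) g.op t)) hpq
    simp only [mapS_comp] at h1
    exact Subtype.ext h1⟩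

include h in
/-- Torsion sections are sections of the torsion submodule. -/
theorem exists_gamma_pre {U : (𝔛.X 0).Opens} (x : Sec M U) (hx : FTors.IsTorsSect (opI h) M (U := U) x) :
    ∃ y, mapS ((FTors.gammaTι 𝔛 h.1).app M) U y = x := ⟨(⟨x, hx⟩ : FTors.torsSub (opI h) M U), rfl⟩

include h in
/-- Being killed is detected by injective maps. -/
theorem killedBy_of_mono (ι : N ⟶ M) [Mono ι] {n : ℕ} {U : (𝔛.X 0).Opens} (x : Sec N U)
    (hx : FTors.KilledBy (opI h) M n (V := U) (mapS ι U x)) : FTors.KilledBy (opI h) N n (V := U) x :=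
  fun W g a ha => app_injective ι (op W) <| by
    refine (map_smul (mapS ι W) a _).trans (Eq.trans ?_ (map_zero (mapS ι W)).symm)
    refine Eq.trans ?_ (hx g a ha)
    exact congrArg (a • ·) (mapS_res ι (leOfHom g) x)

include h in
/-- Torsion is detected by injective maps. -/
theorem isTorsSect_of_mono (ι : N ⟶ M) [Mono ι] {U : (𝔛.X 0).Opens} (x : Sec N U)
    (hx : FTors.IsTorsSect (opI h) M (U := U) (mapS ι U x)) : FTors.IsTorsSect (opI h) N (U := U) x :=
  ((FTors.IsTorsSect.iff_exists _).2 <| by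
    obtain ⟨S, hS, hSp⟩ := (FTors.IsTorsSect.iff_exists _).1 hx
    refine ⟨S, hS, fun V g hg => ?_⟩
    obtain ⟨n, hn⟩ := hSp g hg
    refine ⟨n, killedBy_of_mono h ι _ ?_⟩
    rw [show mapS ι V (FTors.res N g x) = FTors.res M g (mapS ι U x) from
      mapS_res ι (leOfHom g) x]
    exact hn)

include h in
theorem isTorsF_gamma : FTors.IsTorsF 𝔛 h.1 ((FTors.gammaT 𝔛 h.1).obj M) := fun _U s =>
  isTorsSect_of_mono h ((FTors.gammaTι 𝔛 h.1).app M) s (Subtype.property s)

include h in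
theorem isTorsF_of_mono (ι : N ⟶ M) [Mono ι] (hM : FTors.IsTorsF 𝔛 h.1 M) : FTors.IsTorsF 𝔛 h.1 N :=
  fun U s => isTorsSect_of_mono h ι s (hM U _)

include h in
theorem isTorsF_of_epi (π : M ⟶ N) [Epi π] (hM : FTors.IsTorsF 𝔛 h.1 M) : FTors.IsTorsF 𝔛 h.1 N := by
  intro U s
  obtain ⟨S, hS, hSp⟩ := locally_exists_app_eq π s
  refine FTors.IsTorsSect.of_cover hS fun V g hg => ?_
  obtain ⟨m, hm⟩ := hSp g hg
  exact (congrArg (fun z => FTors.IsTorsSect (opI h) N (U := V) z) hm).mp ((hM V m).hom π)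

include h in
/-- A module with all of its sections torsion is its torsion submodule. -/
theorem isIso_gammaι (hM : FTors.IsTorsF 𝔛 h.1 M) : IsIso ((FTors.gammaTι 𝔛 h.1).app M) := by
  haveI : Epi ((FTors.gammaTι 𝔛 h.1).app M) := ⟨fun {Z} p q hpq => hom_ext_locally p q fun W t =>
    ModPull.Locally.of_id fun V g => by
      obtain ⟨y, hy⟩ := exists_gamma_pre h (rs ((fg (𝔛.Osh h.1)).obj M) g.op t) (hM V _)
      have h1 := congrArg (fun r => mapS r V y) hpq
      simp only [mapS_comp, hy] at h1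
      exact h1⟩
  exact isIso_of_mono_of_epi _

end Closure

section Transfer

open OpenRes

variable (U : (𝔛.X 0).Opens)

include h in
/-- The open ideals of an open subscheme. -/
theorem pr_ph_eq_zero_iff (W : Opens ((sys h U).X 0)) (n : ℕ)
    (r : ((sys h U).Osh (hSys h U).1).obj.obj (op W)) :
    pr h.1 n ((imgF h U).obj W) (ph h U W r) = 0 ↔ pr (hSys h U).1 n W r = 0 := by
  haveI := isIso_cSh h U
  let y := ph h U W r
  let W' := (imgF h U).obj W
  have hr : ((cSh h U).hom.app (op W)).hom y = r :=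
    congrArg (fun t => (t.hom.app (op W)).hom r) (IsIso.inv_hom_id (cSh h U))
  let P := (Opens.map (j0 h U).base).obj W'
  let z : Rg (hSys h U).1 P := ((shp h U).hom.app (op W')).hom y
  have hz : r = res (hF := (hSys h U).1) (pre_img h U W).ge z := hr.symm
  have hp : pr (hSys h U).1 n P z =
      ((FSch.Hom.levelPush (inc h U) (hSys h U).1 h.1 n).hom.app (op W')).hom (pr h.1 n W' y) :=
    congrArg (fun t => t.hom.app (op W') y) (FSch.Hom.sharp_proj (inc h U) (hSys h U).1 h.1 n)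
  refine ⟨fun e => ?_, fun e => ?_⟩
  · rw [hz, pr_res, hp, e, map_zero, map_zero]
  · haveI : IsIso ((FSch.Hom.levelPush (inc h U) (hSys h U).1 h.1 n).hom.app (op W')) := by
      rw [FSch.Hom.levelPush_app]
      haveI : IsOpenImmersion ((inc h U : FSch.Hom _ _).app n) :=
        inferInstanceAs (IsOpenImmersion (𝔛.lvU h.1 n U).ι)
      have hr : 𝔛.lvU h.1 n W' ≤ ((inc h U : FSch.Hom _ _).app n).opensRange := by
        show 𝔛.lvU h.1 n W' ≤ (𝔛.lvU h.1 n U).ι.opensRange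
        rw [Scheme.Opens.opensRange_ι]
        exact ((Opens.map (𝔛.gInv h.1 n)).map (homOfLE (img_le h U W))).le
      haveI := ((inc h U : FSch.Hom _ _).app n).isIso_app (𝔛.lvU h.1 n W') hr
      rw [Scheme.Hom.appLE, show (homOfLE _).op = (eqToHom (FSch.Hom.lvU_preimage (inc h U) (hSys h U).1 h.1 n W').symm).op
        from Subsingleton.elim _ _]
      infer_instance
    refine (ConcreteCategory.bijective_of_isIso
      ((FSch.Hom.levelPush (inc h U) (hSys h U).1 h.1 n).hom.app (op W'))).1 ?_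
    refine Eq.trans ?_ (map_zero _).symm
    refine hp.symm.trans ?_
    have h1 : z = res (hF := (hSys h U).1) (pre_img h U W).le (res (hF := (hSys h U).1) (pre_img h U W).ge z) :=
      ((res_res (hSys h U) _ _ z).trans (res_self z)).symm
    rw [h1, ← hz, pr_res, e, map_zero]

include h in
/-- Being killed passes to the restriction. -/
theorem killedBy_res {W : Opens ((sys h U).X 0)} {n : ℕ} (x : Sec M ((imgF h U).obj W))
    (hx : FTors.KilledBy (opI h) M n (V := (imgF h U).obj W) x) :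
    FTors.KilledBy (opI (hSys h U)) ((OpenRes.res h U).obj M) n (V := W) x :=
  fun W' g a ha => hx ((imgF h U).map g) (ph h U W' a)
    ((mem_opI h _).2 ((pr_ph_eq_zero_iff h U W' n a).2 ((mem_opI (hSys h U) a).1 ha)))

include h in
/-- Being killed on the whole of an affine open. -/
theorem killedBy_of_res_top (hU : IsAffineOpen U) {n : ℕ} (x : Sec M ((imgF h U).obj ⊤))
    (hx : FTors.KilledBy (opI (hSys h U)) ((OpenRes.res h U).obj M) n (V := (⊤ : Opens ((sys h U).X 0))) x) :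
    FTors.KilledBy (opI h) M n (V := (imgF h U).obj ⊤) x := by
  have hA : IsAffineOpen ((imgF h U).obj ⊤) := (img_top h U).symm ▸ hU
  refine (killedBy_iff h hA x).2 fun a ha => ?_
  obtain ⟨r, rfl⟩ := (bijective_ph h U ⊤).2 a
  have h1 := hx (𝟙 _) r ((mem_opI (hSys h U) r).2 ((pr_ph_eq_zero_iff h U ⊤ n r).1
    ((mem_opI h _).1 ((mem_opI_affine h hA _).2 ha))))
  rw [FTors.res_id] at h1
  exact h1

end Transfer

include h in
/-- The killed sections of a coherent module form a coherent module. -/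
theorem exists_killed_sub {C : FSch.ModF 𝔛 h.1} (hC : FSch.IsCohF 𝔛 h.1 C) (l : List (Rg h.1 ⊤)) :
    ∃ (K : FSch.ModF 𝔛 h.1) (ι : K ⟶ C), FSch.IsCohF 𝔛 h.1 K ∧ Mono ι ∧
      ∀ (V : (𝔛.X 0).Opens) (z : Sec C V),
        (∃ y, mapS ι V y = z) ↔ ∀ r ∈ l, rTop r V • z = 0 := by
  induction l with
  | nil => exact ⟨C, 𝟙 C, hC, inferInstance, fun V z => ⟨fun _ r hr => absurd hr List.not_mem_nil,
      fun _ => ⟨z, mapS_id V z⟩⟩⟩
  | cons r l ih =>
    obtain ⟨K, ι, hK, _, hι⟩ := ih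
    refine ⟨kernel (ι ≫ smulF r C), kernel.ι _ ≫ ι, isCohF_kernel h hK hC _, inferInstance, fun V z => ?_⟩
    constructor
    · rintro ⟨y, rfl⟩ r' hr'
      rcases List.mem_cons.1 hr' with rfl | hr'
      · rw [mapS_comp, ← smulF_app, ← mapS_comp, mapS_kernel]
      · rw [mapS_comp]
        exact (hι V _).1 ⟨_, rfl⟩ r' hr'
    · intro hz
      obtain ⟨y, hy⟩ := (hι V z).2 fun r' hr' => hz r' (List.mem_cons_of_mem _ hr')
      obtain ⟨w, hw⟩ := exists_kernel_sec (ι ≫ smulF r C) V y (by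
        rw [mapS_comp, hy, smulF_app]
        exact hz r List.mem_cons_self)
      exact ⟨w, by rw [mapS_comp, hw, hy]⟩

include h in
/-- Locally, sections killed by an ideal combine top sections killed by it. -/
theorem locally_killed_gens (hT : IsAffineOpen (⊤ : (𝔛.X 0).Opens)) (hM : IndCoh M) (m : ℕ)
    {W : (𝔛.X 0).Opens} (x : Sec M W) (hx : FTors.KilledBy (opI h) M m (V := W) x) :
    ModPull.Locally (Opens.grothendieckTopology (𝔛.X 0)) W fun V k =>
      ∃ (p : ℕ) (w : Fin p → Sec M ⊤) (c : Fin p → Rg h.1 V),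
        (∀ i, ∀ r ∈ Jd h.1 ⊤ ^ (m + 1), r • w i = 0) ∧
        rs ((fg (𝔛.Osh h.1)).obj M) k.op x = ∑ i, c i • resM M le_top (w i) := by
  classical
  haveI := noetherian h hT
  obtain ⟨J, _, _, pres, hp⟩ := hM
  obtain ⟨q, ζ, hζ⟩ := Submodule.fg_iff_exists_fin_generating_family.1
    (IsNoetherian.noetherian (Jd h.1 ⊤ ^ (m + 1)))
  let P : ∀ ⦃V : (𝔛.X 0).Opens⦄, (V ⟶ W) → Prop := fun V k => ∃ (j : J) (z : Sec (pres.diag.obj j) V),
    mapS (pres.ι.app j) V z = rs ((fg (𝔛.Osh h.1)).obj M) k.op x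
  have hP : ModPull.Locally (Opens.grothendieckTopology (𝔛.X 0)) W P :=
    locally_D h hT le_top P (fun a ha => exists_stage h pres.isColimit (isAffineOpen_D hT a) _)
      fun V V' g k ⟨j, z, hz⟩ => ⟨j, resM _ (leOfHom g) z,
        (mapS_res _ _ z).trans ((congrArg _ hz).trans (SecGen.rs_op_comp g k x).symm)⟩
  refine hP.bind fun V k ⟨j, z, hz⟩ => ?_
  have hζ0 : ∀ l, mapS (pres.ι.app j) V (rTop (ζ l) V • z) = 0 := fun l => by
    rw [map_smul, hz]
    have h1 := hx k (rTop (ζ l) V) (by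
      have h2 : ζ l ∈ (opI h).ideal m ⊤ := (mem_opI_affine h hT _).2 (hζ ▸ Submodule.subset_span ⟨l, rfl⟩)
      exact (opI h).map_mem m (homOfLE le_top) h2)
    exact h1
  refine (ModPull.Locally.forall_fintype fun l => ColimSec.locally_exists_zero pres.isColimit _ (hζ0 l)).bind
    fun V₁ k₁ hk₁ => ?_
  choose j' t ht using hk₁
  obtain ⟨j₀, t₀, ht₀⟩ : ∃ (j₀ : J) (t₀ : j ⟶ j₀), ∀ l, mapS (pres.diag.map t₀) V₁
      (resM (pres.diag.obj j) (leOfHom k₁) (rTop (ζ l) V • z)) = 0 := by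
    obtain ⟨S, hS⟩ := IsFiltered.sup_exists (insert j (Finset.univ.image j'))
      (Finset.univ.image fun l => ⟨j, j' l, Finset.mem_insert_self _ _,
        Finset.mem_insert_of_mem (Finset.mem_image_of_mem _ (Finset.mem_univ l)), t l⟩)
    obtain ⟨T, hTT⟩ := hS
    refine ⟨S, T (Finset.mem_insert_self _ _), fun l => ?_⟩
    rw [← hTT (Finset.mem_insert_self _ _) (Finset.mem_insert_of_mem (Finset.mem_image_of_mem _ (Finset.mem_univ l)))
      (Finset.mem_image_of_mem _ (Finset.mem_univ l)), Functor.map_comp, mapS_comp]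
    refine (congrArg (mapS (pres.diag.map _) V₁) ?_).trans (map_zero _)
    exact ht l
  obtain ⟨K, ι, hK, _, hι⟩ := exists_killed_sub h (hp j₀) (List.ofFn ζ)
  obtain ⟨y, hy⟩ := (hι V₁ (mapS (pres.diag.map t₀) V₁ (resM (pres.diag.obj j) (leOfHom k₁) z))).2 (by
    intro r hr
    obtain ⟨l, rfl⟩ := List.mem_ofFn.1 hr
    rw [← map_smul]
    refine Eq.trans (congrArg _ ?_) (ht₀ l)
    rw [resM, resM, rs_smul]
    refine congrArg (· • _) ?_
    exact (res_rTop (ζ l) (leOfHom k₁)).symm)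
  obtain ⟨p, g, hg, -⟩ := exists_gens_coh h hK hT
  refine (hg (homOfLE (le_top : V₁ ≤ ⊤)) y).mono fun V₂ k₂ ⟨c, hc⟩ => ?_
  refine ⟨p, fun i => mapS (pres.ι.app j₀) ⊤ (mapS ι ⊤ (g i)), c, fun i r hr => ?_, ?_⟩
  · have h1 : Jd h.1 ⊤ ^ (m + 1) ≤
        LinearMap.ker (LinearMap.toSpanSingleton (Rg h.1 ⊤) (Sec _ ⊤) (mapS ι ⊤ (g i))) := by
      rw [← hζ]
      refine Submodule.span_le.2 ?_
      rintro _ ⟨l, rfl⟩
      have h2 := (hι ⊤ _).1 ⟨g i, rfl⟩ (ζ l) (List.mem_ofFn.2 ⟨l, rfl⟩)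
      rw [show rTop (ζ l) ⊤ = ζ l from res_self _] at h2
      exact h2
    have h3 := congrArg (mapS (pres.ι.app j₀) ⊤) (show r • mapS ι ⊤ (g i) = 0 from h1 hr)
    rw [map_smul, map_zero] at h3
    exact h3
  · have h1 : mapS (pres.ι.app j₀) V₁ (mapS ι V₁ y) = rs ((fg (𝔛.Osh h.1)).obj M) (k₁ ≫ k).op x := by
      rw [hy, SecGen.rs_op_comp, ← hz]
      refine (mapS_comp _ _ _ _).symm.trans ((congrArg (fun r => mapS r V₁ _) (pres.w t₀)).trans ?_)
      exact mapS_res (pres.ι.app j) (leOfHom k₁) z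
    have h2 : mapS (pres.ι.app j₀) V₂ (mapS ι V₂ (rs ((fg (𝔛.Osh h.1)).obj K) k₂.op y)) =
        rs ((fg (𝔛.Osh h.1)).obj M) k₂.op (rs ((fg (𝔛.Osh h.1)).obj M) (k₁ ≫ k).op x) := by
      rw [← h1]
      exact (congrArg _ (mapS_res ι (leOfHom k₂) y)).trans (mapS_res _ (leOfHom k₂) _)
    rw [show (k₂ ≫ k₁) ≫ k = k₂ ≫ k₁ ≫ k from Category.assoc _ _ _, SecGen.rs_op_comp]
    refine h2.symm.trans ?_
    rw [hc, map_sum, map_sum]
    refine Finset.sum_congr rfl fun i _ => ?_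
    rw [map_smul, map_smul]
    refine congrArg (c i • ·) ?_
    exact (congrArg _ (mapS_res ι le_top (g i))).trans (mapS_res _ le_top _)

include h in
/-- A submodule of killed sections of an ind-coherent module is ind-coherent. -/
theorem ind_of_sub (hT : IsAffineOpen (⊤ : (𝔛.X 0).Opens)) (hM : IndCoh M) (ι : N ⟶ M) [Mono ι] (S : Set ℕ)
    (h₁ : ∀ (W : (𝔛.X 0).Opens) (t : Sec N W), ModPull.Locally (Opens.grothendieckTopology (𝔛.X 0)) W
      fun V g => ∃ m ∈ S, FTors.KilledBy (opI h) M m (V := V) (FTors.res M g (mapS ι W t)))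
    (h₂ : ∀ m ∈ S, ∀ x : Sec M ⊤, FTors.KilledBy (opI h) M m (V := (⊤ : (𝔛.X 0).Opens)) x →
      ∃ y, mapS ι ⊤ y = x) :
    IndCoh N := by
  refine ind_of_family h (𝟙 N) (fun U hU n x => hasRel_mono ι _ (hasRel_ind h hM hU _))
    (fun _ : Sec N ⊤ => fr (𝔛.Osh h.1) PUnit.{u + 1}) (fun _ => isCohF_free _)
    (fun w => fdesc fun _ => topSec w) fun Z p q hpq => hom_ext_locally p q fun W t => ?_
  refine (h₁ W t).bind fun V g ⟨m, hm, hmk⟩ => ?_
  refine (locally_killed_gens h hT hM m _ hmk).mono fun V₁ k ⟨n, w, c, hw, hc⟩ => ?_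
  choose w' hw' using fun i => h₂ m hm (w i) ((killedBy_iff h hT _).2 (hw i))
  have ht : rs ((fg (𝔛.Osh h.1)).obj N) (k ≫ g).op t = ∑ i, c i • resM N le_top (w' i) := by
    refine app_injective ι (op V₁) ?_
    refine ((mapS_res ι ((leOfHom k).trans (leOfHom g)) t).trans ?_).trans (map_sum _ _ _).symm
    refine ((SecGen.rs_op_comp k g _).trans hc).trans (Finset.sum_congr rfl fun i _ => ?_)
    refine Eq.trans ?_ (map_smul (mapS ι V₁) _ _).symm
    refine congrArg (c i • ·) ?_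
    exact ((mapS_res ι le_top (w' i)).trans (congrArg _ (hw' i))).symm
  refine (congrArg (mapS p V₁) ht).trans (Eq.trans ?_ (congrArg (mapS q V₁) ht).symm)
  rw [map_sum, map_sum]
  refine Finset.sum_congr rfl fun i _ => ?_
  rw [map_smul, map_smul]
  refine congrArg (c i • ·) ?_
  have h1 := congrArg (fun r => mapS r V₁ (fsec PUnit.unit (op V₁))) (hpq (w' i))
  simp only [mapS_comp, mapS_id, Category.id_comp] at h1
  have e : mapS (fdesc fun _ : PUnit.{u + 1} => topSec (w' i)) V₁ (fsec PUnit.unit (op V₁)) =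
      resM N le_top (w' i) := fdesc_fsec _ _ _
  exact (congrArg (mapS p V₁) e).symm.trans (h1.trans (congrArg (mapS q V₁) e))

include h in
/-- A submodule of killed sections of a quasi-coherent module is quasi-coherent. -/
theorem isQC_sub [SheafOfModules.IsQuasicoherent.{u} (R := ModSite.ringSh (𝔛.Osh h.1)) M]
    (ι : N ⟶ M) [Mono ι] (S : Set ℕ)
    (h₁ : ∀ (W : (𝔛.X 0).Opens) (t : Sec N W), ModPull.Locally (Opens.grothendieckTopology (𝔛.X 0)) W
      fun V g => ∃ m ∈ S, FTors.KilledBy (opI h) M m (V := V) (FTors.res M g (mapS ι W t)))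
    (h₂ : ∀ U : (𝔛.X 0).Opens, IsAffineOpen U → ∀ m ∈ S, ∀ x : Sec M U,
      FTors.KilledBy (opI h) M m (V := U) x → ∃ y, mapS ι U y = x) :
    SheafOfModules.IsQuasicoherent.{u} (R := ModSite.ringSh (𝔛.Osh h.1)) N := by
  refine isQC_of_ind_res h fun x W hx => ?_
  obtain ⟨U, hU, hxU, hUW, hM, -⟩ := exists_ind_res h (𝔉 := M) (𝔊 := M) hx
  haveI := OpenRes.preservesFiniteLimits_res h U
  haveI : Mono ((OpenRes.res h U).map ι) := preserves_mono_of_preservesLimit _ _
  refine ⟨U, hU, hxU, hUW, ind_of_sub (hSys h U) (isAffineOpen_top_sys h hU) hM ((OpenRes.res h U).map ι) S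
    (fun W' t => ?_) fun m hm z hz => ?_⟩
  · obtain ⟨T, hT, hTp⟩ := h₁ ((OpenRes.imgF h U).obj W') t
    refine ⟨T.functorPullback (OpenRes.imgF h U), fun y hy => ?_, fun V g hg => ?_⟩
    · obtain ⟨V', k, hk, hyV⟩ := hT y.1 ⟨y, hy, rfl⟩
      obtain ⟨W₁, hW₁, e⟩ := OpenRes.exists_pre h U (leOfHom k)
      refine ⟨W₁, homOfLE hW₁, ?_, ?_⟩
      · show T ((OpenRes.imgF h U).map (homOfLE hW₁))
        rw [Subsingleton.elim ((OpenRes.imgF h U).map (homOfLE hW₁)) (homOfLE e.le ≫ k)]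
        exact T.downward_closed hk _
      · obtain ⟨y', hy', ey⟩ := e.ge hyV
        exact (Subtype.val_injective ey : y' = y) ▸ hy'
    · obtain ⟨m, hm, hmk⟩ := hTp _ hg
      exact ⟨m, hm, killedBy_res h U _ hmk⟩
  · exact h₂ _ ((img_top h U).symm ▸ hU) m hm z (killedBy_of_res_top h U hU z hz)

include h in
/-- The torsion submodule of a quasi-coherent module is quasi-coherent torsion. -/
theorem isQCT_gamma [SheafOfModules.IsQuasicoherent.{u} (R := ModSite.ringSh (𝔛.Osh h.1)) M] :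
    FTors.IsQCT 𝔛 h.1 ((FTors.gammaT 𝔛 h.1).obj M) :=
  ⟨isTorsF_gamma h, isQC_sub h (M := M) ((FTors.gammaTι 𝔛 h.1).app M) Set.univ
    (fun W t => ⟨_, Subtype.property t, fun V g ⟨m, hm⟩ => ⟨m, trivial, hm⟩⟩)
    fun U _ m _ x hx => exists_gamma_pre h x (FTors.IsTorsSect.of_killedBy hx)⟩

end Groth.Agent.H26.FMod
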