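import Groth.Agent.H26.FMod.ToXLevel
import Groth.Agent.H26.FMod.Tors
import Groth.Agent.H26.FMod.Alg
import Groth.Agent.SiteBase.ClosedPushEq
import Groth.Prelude.Def_FTors3

/-!
# Killed sections on a completion and on the scheme
-/

noncomputable section

set_option autoImplicit false
set_option maxHeartbeats 1000000
set_option linter.style.haveILetI false
set_option backward.isDefEq.respectTransparency false
set_option backward.isDefEq.respectTransparency.types false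

universe u

open CategoryTheory CategoryTheory.Limits TopologicalSpace Opposite AlgebraicGeometry
open Groth.Agent.ModTensor Groth.Agent.ModPull Groth.Agent.SecGen

namespace Groth.Agent.H26.FMod

variable {X : Scheme.{u}} (𝓚 : X.IdealSheafData)

lemma isClosedEmbedding_base : Topology.IsClosedEmbedding (FSch.completionToX X 𝓚 0).base :=
  haveI := isClosedImmersion_completionToX 𝓚 0
  (FSch.completionToX X 𝓚 0).isClosedEmbedding

/-- Opens of the completion have small neighbourhoods coming from affine opens of the scheme. -/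
theorem exists_hatU_le {U : ((FSch.completionAlong X 𝓚).X 0).Opens} {z : (FSch.completionAlong X 𝓚).X 0}
    (hz : z ∈ U) (W : X.Opens) (hzW : z ∈ hatU 𝓚 W) :
    ∃ V : X.Opens, IsAffineOpen V ∧ V ≤ W ∧ z ∈ hatU 𝓚 V ∧ hatU 𝓚 V ≤ U := by
  obtain ⟨S, hS, e⟩ := (isClosedEmbedding_base 𝓚).isInducing.isOpen_iff.1 U.2
  obtain ⟨_, ⟨V, hV, rfl⟩, hxV, hle⟩ := X.isBasis_affineOpens.exists_subset_of_mem_open
    (show (FSch.completionToX X 𝓚 0).base z ∈ (W : Set X) ∩ S from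
      ⟨hzW, show z ∈ (FSch.completionToX X 𝓚 0).base ⁻¹' S from e.symm ▸ hz⟩) (W.2.inter hS)
  refine ⟨V, hV, fun x hx => (hle hx).1, hxV, fun w hw => ?_⟩
  exact (Set.ext_iff.1 e w).1 (hle hw).2

variable (hX : (FSch.completionAlong X 𝓚).IsFormal)

/-- A function of the scheme at a level of the completion. -/
lemma pr_shU (n : ℕ) (V : X.Opens) (a : Γ(X, V)) :
    pr hX n (hatU 𝓚 V) (shU 𝓚 hX V a) =
      ((FSch.completionToX X 𝓚 n).appLE V _ (FSch.lvU_p (FSch.completionAlong X 𝓚) hX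
        (FSch.completionToX X 𝓚) (FSch.completionToX_comm X 𝓚) n V).ge).hom a :=
  congrArg (fun t => t.hom.app (op V) a)
    (FSch.schSharp_proj (FSch.completionAlong X 𝓚) hX (FSch.completionToX X 𝓚) (FSch.completionToX_comm X 𝓚) n)

/-- The completion map modulo a level. -/
lemma pr_shU_spec (n : ℕ) {V : X.Opens} (hV : IsAffineOpen V) :
    Function.Surjective (fun a => pr hX n (hatU 𝓚 V) (shU 𝓚 hX V a)) ∧
      ∀ a, pr hX n (hatU 𝓚 V) (shU 𝓚 hX V a) = 0 ↔ a ∈ 𝓚.ideal ⟨V, hV⟩ ^ (n + 1) := by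
  haveI := isClosedImmersion_completionToX 𝓚 n
  obtain ⟨h1, h2⟩ := ComplFlat.appLE_closedImmersion (FSch.completionToX X 𝓚 n) ⟨V, hV⟩ _
    (FSch.lvU_p (FSch.completionAlong X 𝓚) hX (FSch.completionToX X 𝓚) (FSch.completionToX_comm X 𝓚) n V).symm
  refine ⟨fun r => ?_, fun a => ?_⟩
  · obtain ⟨a, ha⟩ := h1 r
    exact ⟨a, (pr_shU 𝓚 hX n V a).trans ha⟩
  · rw [pr_shU]
    refine (RingHom.mem_ker.symm.trans ?_)
    rw [h2, show (FSch.completionToX X 𝓚 n).ker = 𝓚 ^ (n + 1) from Scheme.IdealSheafData.ker_subschemeι _,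
      Scheme.IdealSheafData.ideal_pow]
    rfl

/-- Functions of the completion are functions of the scheme modulo an ideal of definition. -/
lemma exists_shU_sub (hl : (FSch.completionAlong X 𝓚).IsLocNoethFormal) (n : ℕ) {V : X.Opens}
    (hV : IsAffineOpen V) (r : Rg hl.1 (hatU 𝓚 V)) :
    ∃ a : Γ(X, V), r - shU 𝓚 hl.1 V a ∈ Jd hl.1 (hatU 𝓚 V) ^ (n + 1) := by
  obtain ⟨a, ha⟩ := (pr_shU_spec 𝓚 hl.1 n hV).1 (pr hl.1 n (hatU 𝓚 V) r)
  refine ⟨a, ?_⟩
  rw [← ker_pr hl n (isAffineOpen_hatU 𝓚 hV), RingHom.mem_ker, map_sub]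
  exact sub_eq_zero.2 ha.symm

/-- The ideal of definition is generated by the ideal sheaf. -/
theorem Jd_hatU (hl : (FSch.completionAlong X 𝓚).IsLocNoethFormal) {V : X.Opens} (hV : IsAffineOpen V) :
    Jd hl.1 (hatU 𝓚 V) = (𝓚.ideal ⟨V, hV⟩).map (shU 𝓚 hl.1 V) := by
  let U := hatU 𝓚 V
  have hU : IsAffineOpen U := isAffineOpen_hatU 𝓚 hV
  let I' : Ideal (Rg hl.1 U) := (𝓚.ideal ⟨V, hV⟩).map (shU 𝓚 hl.1 V)
  haveI := noetherian hl hU
  haveI := complete hl hU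
  refine le_antisymm (fun x hx => ?_) (Ideal.map_le_iff_le_comap.2 fun b hb => shU_mem 𝓚 hl.1 hV hb)
  have h2 : Jd hl.1 U ≤ I' ⊔ Jd hl.1 U ^ 2 := by
    intro y hy
    obtain ⟨a, ha⟩ := exists_shU_sub 𝓚 hl 1 hV y
    refine Submodule.mem_sup.2 ⟨shU 𝓚 hl.1 V a, Ideal.mem_map_of_mem _ ?_, y - shU 𝓚 hl.1 V a, ha,
      add_sub_cancel _ _⟩
    have h0 : shU 𝓚 hl.1 V a ∈ Jd hl.1 U := by
      have h1 : y - shU 𝓚 hl.1 V a ∈ Jd hl.1 U := Ideal.pow_le_self (by norm_num) ha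
      have h3 := Ideal.sub_mem _ hy h1
      rwa [sub_sub_cancel] at h3
    have h4 := ((pr_shU_spec 𝓚 hl.1 0 hV).2 a).1 (RingHom.mem_ker.1 h0)
    rwa [zero_add, pow_one] at h4
  have h4 : ∀ k, Jd hl.1 U ≤ I' ⊔ Jd hl.1 U ^ (k + 1) := by
    intro k
    induction k with
    | zero => rw [zero_add, pow_one]; exact le_sup_right
    | succ k ih =>
      refine ih.trans (sup_le le_sup_left ?_)
      rw [pow_succ', pow_succ' _ (k + 1)]
      refine (Ideal.mul_mono_left h2).trans ?_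
      rw [Ideal.sup_mul, pow_two, mul_assoc, ← pow_succ']
      exact sup_le_sup Ideal.mul_le_left le_rfl
  refine mem_of_forall_mem_sup (Jd hl.1 U) I' x fun k => ?_
  rw [smul_eq_mul, Ideal.mul_top]
  exact (sup_le_sup (le_refl I') (Ideal.pow_le_pow_right (Nat.le_succ k)) :
    I' ⊔ Jd hl.1 U ^ (k + 1) ≤ I' ⊔ Jd hl.1 U ^ k) (h4 k hx)

/-- Being killed over the trace of an affine open. -/
theorem killedBy_hat_iff (hl : (FSch.completionAlong X 𝓚).IsLocNoethFormal)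
    {M : FSch.ModF (FSch.completionAlong X 𝓚) hl.1} {n : ℕ} {V : X.Opens}
    (hV : IsAffineOpen V) (x : Sec M (hatU 𝓚 V)) :
    FTors.KilledBy (opI hl) M n (V := hatU 𝓚 V) x ↔
      ∀ a ∈ 𝓚.ideal ⟨V, hV⟩ ^ (n + 1), shU 𝓚 hl.1 V a • x = 0 := by
  rw [killedBy_iff hl (isAffineOpen_hatU 𝓚 hV) x, Jd_hatU 𝓚 hl hV, ← Ideal.map_pow]
  refine ⟨fun h a ha => h _ (Ideal.mem_map_of_mem _ ha), fun h r hr => ?_⟩
  have h2 : (𝓚.ideal ⟨V, hV⟩ ^ (n + 1)).map (shU 𝓚 hl.1 V) ≤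
      LinearMap.ker (LinearMap.toSpanSingleton (Rg hl.1 (hatU 𝓚 V)) (Sec M (hatU 𝓚 V)) x) :=
    Ideal.map_le_iff_le_comap.2 fun a ha => h a ha
  exact h2 hr

/-- Sections of the scheme killed by a power. -/
theorem killedZp_iff {N : ModSite.Mod X.sheaf} {m : ℕ} {V : X.Opens} (hV : IsAffineOpen V)
    (x : ModSite.sect N V) :
    FTors.KilledBy (FTors.powIdealFam X 𝓚) N m (V := V) x ↔
      ∀ a ∈ 𝓚.ideal ⟨V, hV⟩ ^ m, (show X.sheaf.obj.obj (op V) from a) • x = 0 := by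
  refine ⟨fun h a ha => ?_, fun h W g a ha => ?_⟩
  · have h1 := h (𝟙 V) a ((FTors.mem_powIdealFam_iff X 𝓚 m V a).2 fun W hW => by
      have h2 := Ideal.mem_map_of_mem (X.presheaf.map (homOfLE hW).op).hom ha
      rw [Ideal.map_pow] at h2
      exact (𝓚.map_ideal (U := W) (V := ⟨V, hV⟩) hW) ▸ h2)
    rwa [FTors.res_id] at h1
  refine eq_of_locally' N ⟨{
      arrows := fun W' _ => ∃ A : X.Opens, IsAffineOpen A ∧ A ≤ W ∧ W' ≤ A,
      downward_closed := fun {P Q k} ⟨A, h1, h2, h3⟩ l => ⟨A, h1, h2, (leOfHom l).trans h3⟩ },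
    fun y hy => ?_, fun W' k ⟨A, hA, hAW, hW'A⟩ => ?_⟩
  · obtain ⟨_, ⟨A, hA, rfl⟩, hyA, hle⟩ := X.isBasis_affineOpens.exists_subset_of_mem_open hy W.2
    exact ⟨A, homOfLE hle, ⟨A, hA, hle, le_rfl⟩, hyA⟩
  rw [show k = homOfLE hW'A ≫ homOfLE hAW from Subsingleton.elim _ _]
  show FTors.res N (homOfLE hW'A ≫ homOfLE hAW) (a • FTors.res N g x) =
    FTors.res N (homOfLE hW'A ≫ homOfLE hAW) 0
  rw [FTors.res_comp, FTors.res_comp, FTors.res_zero, FTors.res_zero]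
  refine Eq.trans (congrArg (FTors.res N (homOfLE hW'A)) ?_) (FTors.res_zero N _)
  rw [FTors.res_smul]
  have h1 := (FTors.mem_powIdealFam_iff X 𝓚 m W a).1 ha ⟨A, hA⟩ hAW
  rw [← 𝓚.map_ideal (U := ⟨A, hA⟩) (V := ⟨V, hV⟩) (hAW.trans (leOfHom g)), ← Ideal.map_pow] at h1
  have h2 : (𝓚.ideal ⟨V, hV⟩ ^ m).map (X.presheaf.map (homOfLE (hAW.trans (leOfHom g))).op).hom ≤
      LinearMap.ker (LinearMap.toSpanSingleton (X.sheaf.obj.obj (op A)) (ModSite.sect N A)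
        (FTors.res N (homOfLE (hAW.trans (leOfHom g))) x)) :=
    Ideal.map_le_iff_le_comap.2 fun b hb =>
      (FTors.res_smul N (homOfLE (hAW.trans (leOfHom g))) b x).symm.trans
        ((congrArg (FTors.res N _) (h b hb)).trans (FTors.res_zero N _))
  rw [← FTors.res_comp, show homOfLE hAW ≫ g = homOfLE (hAW.trans (leOfHom g)) from Subsingleton.elim _ _]
  exact h2 h1

end Groth.Agent.H26.FMod
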