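import Groth.Agent.H26.FMod.ComplTorsQC
import Groth.Agent.H26.DerivedAdj
import Groth.Agent.KFlatLib.PsiC
import Groth.Agent.SiteBase.PullQc
import Groth.Agent.KFlatLib.Scheme.CohD
import Groth.Prelude.Def_FTors3

/-!
# Derived torsion along a completion
-/

noncomputable section

set_option autoImplicit false
set_option maxHeartbeats 1000000
set_option linter.style.haveILetI false
set_option backward.isDefEq.respectTransparency false
set_option backward.isDefEq.respectTransparency.types false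

universe u

open CategoryTheory CategoryTheory.Limits TopologicalSpace Opposite AlgebraicGeometry

attribute [local instance] HasDerivedCategory.standard

namespace Groth.Agent.H26.FMod

variable {X : Scheme.{u}} (𝓚 : X.IdealSheafData) (hl : (FSch.completionAlong X 𝓚).IsLocNoethFormal)

include hl in
theorem exact_toX_push :
    PreservesFiniteLimits (toX 𝓚 hl.1).push ∧ PreservesFiniteColimits (toX 𝓚 hl.1).push := by
  refine ⟨?_, ClosedPushEq.preservesFiniteColimits_push (FSch.completionToX X 𝓚 0).base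
    (FSch.schSharp (FSch.completionAlong X 𝓚) hl.1 (FSch.completionToX X 𝓚) (FSch.completionToX_comm X 𝓚))
    (isClosedEmbedding_base 𝓚)⟩
  haveI : PreservesLimitsOfSize.{0, 0} (toX 𝓚 hl.1).push := (toX 𝓚 hl.1).adj.rightAdjoint_preservesLimits
  exact PreservesLimitsOfSize.preservesFiniteLimits _

lemma isTors_of_iso {C : Type u} [SmallCategory C] {J : GrothendieckTopology C} {O : Sheaf J CommRingCat.{u}}
    (I : FTors.IdealFam O) {A B : ModSite.Mod O} (e : A ≅ B) (hA : FTors.IsTors I A) : FTors.IsTors I B := by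
  intro U s
  have h1 := FTors.IsTorsSect.hom e.hom (hA U (e.inv.val.app (op U) s))
  have h2 : e.hom.val.app (op U) (e.inv.val.app (op U) s) = s := by
    have h3 : e.inv.val.app (op U) ≫ e.hom.val.app (op U) = 𝟙 _ := by
      rw [← PresheafOfModules.comp_app, ← SheafOfModules.comp_val, e.inv_hom_id]
      rfl
    exact congrArg (fun φ => φ.hom s) h3
  rwa [h2] at h1

variable [PreservesFiniteLimits (toX 𝓚 hl.1).pull]

/-- Cohomology of inverse images. -/
theorem nonempty_hMod_pullD (F : DerivedCategory (ModSite.Mod X.sheaf)) (i : ℤ) :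
    Nonempty ((toX 𝓚 hl.1).pull.obj (SiteCmp.HMod F i) ≅
      SiteCmp.HMod ((SiteCmp.pullD (toX 𝓚 hl.1)).obj F) i) :=
  ⟨((KFlatLib.mapDCHomologyIso (toX 𝓚 hl.1).pull i).app F).symm⟩

variable [SiteCmp.HasRpushD (toX 𝓚 hl.1)]

omit [PreservesFiniteLimits (toX 𝓚 hl.1).pull] in
/-- The direct image is exact. -/
theorem nonempty_RpushD_iso :
    haveI := (exact_toX_push 𝓚 hl).1
    haveI := (exact_toX_push 𝓚 hl).2
    Nonempty ((toX 𝓚 hl.1).push.mapDerivedCategory ≅ SiteCmp.RpushD (toX 𝓚 hl.1)) :=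
  haveI := (exact_toX_push 𝓚 hl).1
  haveI := (exact_toX_push 𝓚 hl).2
  DerivedAdj.nonempty_totalRightDerived_iso (toX 𝓚 hl.1).push

omit [PreservesFiniteLimits (toX 𝓚 hl.1).pull] in
/-- Cohomology of direct images. -/
theorem nonempty_hMod_RpushD (G : DerivedCategory (FSch.ModF (FSch.completionAlong X 𝓚) hl.1)) (i : ℤ) :
    Nonempty ((toX 𝓚 hl.1).push.obj (SiteCmp.HMod G i) ≅
      SiteCmp.HMod ((SiteCmp.RpushD (toX 𝓚 hl.1)).obj G) i) := by
  haveI := (exact_toX_push 𝓚 hl).1
  haveI := (exact_toX_push 𝓚 hl).2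
  obtain ⟨e⟩ := nonempty_RpushD_iso 𝓚 hl
  exact ⟨((KFlatLib.mapDCHomologyIso (toX 𝓚 hl.1).push i).app G).symm ≪≫
    (DerivedCategory.homologyFunctor _ i).mapIso (e.app G)⟩

include hl in
/-- Maps out of torsion objects are detected by the derived direct image. -/
theorem bijective_RpushD_map (G H : DerivedCategory (FSch.ModF (FSch.completionAlong X 𝓚) hl.1))
    (hG : FTors.IsDTorsF (FSch.completionAlong X 𝓚) hl.1 G) :
    Function.Bijective fun φ : G ⟶ H => (SiteCmp.RpushD (toX 𝓚 hl.1)).map φ := by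
  haveI := (exact_toX_push 𝓚 hl).1
  haveI := (exact_toX_push 𝓚 hl).2
  obtain ⟨e⟩ := nonempty_RpushD_iso 𝓚 hl
  let P := (toX 𝓚 hl.1).push.mapDerivedCategory
  let a := H9Misc.TelLocal.derivedAdjunction (toX 𝓚 hl.1).adj
  haveI : IsIso (a.counit.app G) := DerivedAdj.isIso_counit _ G fun i => isIso_counit_toX 𝓚 hl (hG i)
  have h1 : Function.Bijective fun φ : G ⟶ H => P.map φ := by
    have h2 : (fun φ : G ⟶ H => P.map φ) = (a.homEquiv _ _) ∘ (fun φ : G ⟶ H => a.counit.app G ≫ φ) :=
      funext fun φ => by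
        show P.map φ = a.homEquiv _ _ (a.counit.app G ≫ φ)
        rw [Adjunction.homEquiv_unit, Functor.map_comp, ← Category.assoc, a.right_triangle_components]
        exact (Category.id_comp _).symm
    rw [h2]
    exact (a.homEquiv _ _).bijective.comp ((asIso (a.counit.app G)).homFromEquiv (Z := H)).symm.bijective
  have h3 : (fun φ : G ⟶ H => (SiteCmp.RpushD (toX 𝓚 hl.1)).map φ) =
      (fun ψ => (e.app G).inv ≫ ψ ≫ (e.app H).hom) ∘ (fun φ : G ⟶ H => P.map φ) := funext fun φ => by
    show _ = e.inv.app G ≫ P.map φ ≫ e.hom.app H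
    rw [e.hom.naturality φ, ← Category.assoc, e.inv_hom_id_app, Category.id_comp]
  rw [h3]
  exact ((Iso.homCongr (e.app G) (e.app H)).bijective).comp h1

end Groth.Agent.H26.FMod
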