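import Groth.Agent.H26.FMod.ComplTorsBase
import Groth.Agent.H26.FMod.TorsClose

/-!
# Torsion modules on a completion as modules on the scheme
-/

noncomputable section

set_option autoImplicit false
set_option maxHeartbeats 1000000
set_option linter.style.haveILetI false
set_option backward.isDefEq.respectTransparency false
set_option backward.isDefEq.respectTransparency.types false

universe u

open CategoryTheory CategoryTheory.Limits TopologicalSpace Opposite AlgebraicGeometry
open Groth.Agent.ModTensor Groth.Agent.ModPull Groth.Agent.SecGen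

namespace Groth.Agent.H26.FMod

variable {X : Scheme.{u}} (𝓚 : X.IdealSheafData) (hl : (FSch.completionAlong X 𝓚).IsLocNoethFormal)

include hl in
theorem faithful_toX_push : (toX 𝓚 hl.1).push.Faithful :=
  ClosedPushEq.faithful_push (FSch.completionToX X 𝓚 0).base
    (FSch.schSharp (FSch.completionAlong X 𝓚) hl.1 (FSch.completionToX X 𝓚) (FSch.completionToX_comm X 𝓚))
    (isClosedEmbedding_base 𝓚)

include hl in
/-- Linear maps from torsion modules are detected on the scheme. -/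
theorem surjective_map_toX_push {M : FSch.ModF (FSch.completionAlong X 𝓚) hl.1}
    (hM : FTors.IsTorsF (FSch.completionAlong X 𝓚) hl.1 M) (M' : FSch.ModF (FSch.completionAlong X 𝓚) hl.1) :
    Function.Surjective fun φ : M ⟶ M' => (toX 𝓚 hl.1).push.map φ := by
  intro η
  let i := (FSch.completionToX X 𝓚 0).base
  have hi : Topology.IsClosedEmbedding i := isClosedEmbedding_base 𝓚
  let O := (FSch.completionAlong X 𝓚).Osh hl.1
  haveI := ClosedEmb.push_full hi.isInducing
  obtain ⟨α, hα⟩ : ∃ α : ModSite.toAb M ⟶ ModSite.toAb M',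
      (CohTop.push i).map α = (SheafOfModules.toSheaf (ModSite.ringSh X.sheaf)).map η :=
    (CohTop.push i).map_surjective _
  have hαW : ∀ (W : X.Opens) (x : Sec M (hatU 𝓚 W)),
      (α.hom.app (op (hatU 𝓚 W))).hom x = (η.val.app (op W)).hom x := fun W x =>
    congrArg (fun φ : (CohTop.push i).obj (ModSite.toAb M) ⟶ (CohTop.push i).obj (ModSite.toAb M') =>
      (φ.hom.app (op W)).hom x) hα
  have nat : ∀ {P Q : ((FSch.completionAlong X 𝓚).X 0).Opens} (k : P ⟶ Q) (y : Sec M Q),
      rs ((fg O).obj M') k.op ((α.hom.app (op Q)).hom y) =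
        (α.hom.app (op P)).hom (rs ((fg O).obj M) k.op y) := fun k y =>
    (ConcreteCategory.congr_hom (α.hom.naturality k.op) y).symm
  have hsh : ∀ (W : X.Opens) (a : Γ(X, W)) (x : Sec M (hatU 𝓚 W)),
      (α.hom.app (op (hatU 𝓚 W))).hom (shU 𝓚 hl.1 W a • x) =
        shU 𝓚 hl.1 W a • (show Sec M' (hatU 𝓚 W) from (α.hom.app (op (hatU 𝓚 W))).hom x) := fun W a x => by
    rw [hαW, hαW]
    exact (η.val.app (op W)).hom.map_smul a x
  have hlin : ∀ (U : ((FSch.completionAlong X 𝓚).X 0).Opensᵒᵖ) (r : (ModSite.ringSh O).obj.obj U)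
      (m : ((fg O).obj M).obj U),
      (α.hom.app U).hom (r • m) = r • (show ((fg O).obj M').obj U from (α.hom.app U).hom m) := by
    rintro ⟨U⟩ r m
    refine eq_of_locally' M'
      ⟨{ arrows := fun A _ => ∃ (V : X.Opens) (n : ℕ), IsAffineOpen V ∧ ∃ h : hatU 𝓚 V ≤ U,
            A ≤ hatU 𝓚 V ∧ FTors.KilledBy (opI hl) M n (V := hatU 𝓚 V) (resM M h m)
         downward_closed := fun {A B _} ⟨V, n, hV, h, hA, e⟩ k => ⟨V, n, hV, h, k.le.trans hA, e⟩ },
      fun z hz => ?_, fun A g hA => ?_⟩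
    · obtain ⟨U', g, ⟨n, hn⟩, hzU'⟩ := hM U m z hz
      obtain ⟨V, hV, -, hzV, hle⟩ := exists_hatU_le 𝓚 hzU' ⊤ trivial
      refine ⟨hatU 𝓚 V, homOfLE (hle.trans (leOfHom g)), ⟨V, n, hV, hle.trans (leOfHom g), le_rfl, ?_⟩, hzV⟩
      have h1 := hn.res (homOfLE hle)
      rw [← FTors.res_comp] at h1
      exact h1
    · obtain ⟨V, n, hV, h, hA', hn⟩ := hA
      have key : rs ((fg O).obj M') (homOfLE h).op ((α.hom.app (op U)).hom (r • m)) =
          rs ((fg O).obj M') (homOfLE h).op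
            (r • (show Sec M' U from (α.hom.app (op U)).hom m)) := by
        refine (nat (homOfLE h) _).trans ?_
        rw [rs_smul, rs_smul]
        refine Eq.trans ?_ (congrArg₂ (· • ·) rfl (nat (homOfLE h) m).symm)
        let r' : Rg hl.1 (hatU 𝓚 V) := res h r
        let x : Sec M (hatU 𝓚 V) := resM M h m
        obtain ⟨a, ha⟩ := exists_shU_sub 𝓚 hl n hV r'
        have hy : FTors.KilledBy (opI hl) M' n (V := hatU 𝓚 V) ((α.hom.app (op (hatU 𝓚 V))).hom x) := by
          refine (killedBy_hat_iff 𝓚 hl hV _).2 fun b hb => ?_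
          refine (hsh V b x).symm.trans ?_
          rw [(killedBy_hat_iff 𝓚 hl hV x).1 hn b hb]
          exact map_zero _
        have e1 : r' • x = shU 𝓚 hl.1 V a • x := by
          have h0 := (killedBy_iff hl (isAffineOpen_hatU 𝓚 hV) x).1 hn _ ha
          rw [sub_smul, sub_eq_zero] at h0
          exact h0
        have e2 : r' • (show Sec M' (hatU 𝓚 V) from (α.hom.app (op (hatU 𝓚 V))).hom x) =
            shU 𝓚 hl.1 V a • (show Sec M' (hatU 𝓚 V) from (α.hom.app (op (hatU 𝓚 V))).hom x) := by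
          have h0 := (killedBy_iff hl (isAffineOpen_hatU 𝓚 hV) _).1 hy _ ha
          rw [sub_smul, sub_eq_zero] at h0
          exact h0
        exact (congrArg (α.hom.app (op (hatU 𝓚 V))).hom e1).trans ((hsh V a x).trans e2.symm)
      rw [show g.op = (homOfLE h).op ≫ (homOfLE hA').op from Subsingleton.elim _ _, rs_comp, rs_comp]
      exact congrArg _ key
  refine ⟨(SheafOfModules.fullyFaithfulForget (ModSite.ringSh O)).preimage
    (PresheafOfModules.homMk α.hom hlin), ?_⟩
  apply (SheafOfModules.toSheaf (ModSite.ringSh X.sheaf)).map_injective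
  exact hα

include hl in
/-- Torsion modules on the completion are pull backs of their direct images. -/
theorem isIso_counit_toX {M : FSch.ModF (FSch.completionAlong X 𝓚) hl.1}
    (hM : FTors.IsTorsF (FSch.completionAlong X 𝓚) hl.1 M) : IsIso ((toX 𝓚 hl.1).adj.counit.app M) := by
  let Φ := toX 𝓚 hl.1
  haveI := faithful_toX_push 𝓚 hl
  obtain ⟨r, hr⟩ := surjective_map_toX_push 𝓚 hl hM (Φ.pull.obj (Φ.push.obj M)) (Φ.adj.unit.app (Φ.push.obj M))
  have h1 : r ≫ Φ.adj.counit.app M = 𝟙 M := Φ.push.map_injective (by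
    rw [Φ.push.map_comp, Φ.push.map_id]
    exact (congrArg (· ≫ Φ.push.map (Φ.adj.counit.app M)) hr).trans (Φ.adj.right_triangle_components M))
  refine ⟨r, ?_, h1⟩
  apply (Φ.adj.homEquiv _ _).injective
  rw [Adjunction.homEquiv_unit, Adjunction.homEquiv_unit, Φ.push.map_comp, ← Category.assoc]
  refine (congrArg (· ≫ Φ.push.map r) (Φ.adj.right_triangle_components M)).trans ?_
  rw [Category.id_comp]
  refine hr.trans ?_
  exact (Category.comp_id _).symm.trans (congrArg (_ ≫ ·) (Φ.push.map_id _).symm)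

include hl in
/-- Killed sections of a direct image. -/
theorem killedZp_push_iff {M : FSch.ModF (FSch.completionAlong X 𝓚) hl.1} {n : ℕ} {V : X.Opens}
    (hV : IsAffineOpen V) (x : Sec M (hatU 𝓚 V)) :
    FTors.KilledBy (FTors.powIdealFam X 𝓚) ((toX 𝓚 hl.1).push.obj M) (n + 1) (V := V) x ↔
      FTors.KilledBy (opI hl) M n (V := hatU 𝓚 V) x := by
  rw [killedZp_iff 𝓚 hV, killedBy_hat_iff 𝓚 hl hV]
  rfl

include hl in
/-- Direct images of torsion modules are torsion. -/
theorem isTorsZp_push {M : FSch.ModF (FSch.completionAlong X 𝓚) hl.1}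
    (hM : FTors.IsTorsF (FSch.completionAlong X 𝓚) hl.1 M) :
    FTors.IsTorsZp X 𝓚 ((toX 𝓚 hl.1).push.obj M) := by
  intro W s x hx
  by_cases hr : x ∈ Set.range (FSch.completionToX X 𝓚 0).base
  · obtain ⟨z, rfl⟩ := hr
    obtain ⟨U', g, ⟨n, hn⟩, hzU'⟩ := hM (hatU 𝓚 W) s z hx
    obtain ⟨V, hV, hVW, hzV, hle⟩ := exists_hatU_le 𝓚 hzU' W hx
    refine ⟨V, homOfLE hVW, ⟨n + 1, (killedZp_push_iff 𝓚 hl hV _).2 ?_⟩, hzV⟩
    have h1 := hn.res (homOfLE hle)
    rw [← FTors.res_comp] at h1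
    exact h1
  · obtain ⟨_, ⟨V, hV, rfl⟩, hxV, hle⟩ := X.isBasis_affineOpens.exists_subset_of_mem_open
      (show x ∈ (W : Set X) ∩ (Set.range (FSch.completionToX X 𝓚 0).base)ᶜ from ⟨hx, hr⟩)
      (W.2.inter (isClosedEmbedding_base 𝓚).isClosed_range.isOpen_compl)
    have hVW : V ≤ W := fun y hy => (hle hy).1
    refine ⟨V, homOfLE hVW, ⟨1, (killedZp_push_iff 𝓚 hl (n := 0) hV _).2 ?_⟩, hxV⟩
    have hemp : ∀ z, z ∉ hatU 𝓚 V := fun z hz => (hle hz).2 ⟨z, rfl⟩
    exact fun A g a _ => ClosedPushFT.eq_of_isEmpty M (fun z hz => hemp z (leOfHom g hz)) _ _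

end Groth.Agent.H26.FMod
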