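import Groth.Agent.H26.FMod.ComplTorsUnit
import Groth.Agent.QCoh.Support
import Groth.Agent.QCoh.Tilde

/-!
# Quasi-coherent torsion modules on a completion as modules on the scheme
-/

noncomputable section

set_option autoImplicit false
set_option maxHeartbeats 1000000
set_option linter.style.haveILetI false
set_option backward.isDefEq.respectTransparency false
set_option backward.isDefEq.respectTransparency.types false

universe u

open CategoryTheory CategoryTheory.Limits TopologicalSpace Opposite AlgebraicGeometry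
open Groth.Agent.ModTensor Groth.Agent.ModPull Groth.Agent.SecGen

namespace Groth.Agent.H26.FMod

variable {X : Scheme.{u}} (𝓚 : X.IdealSheafData) (hl : (FSch.completionAlong X 𝓚).IsLocNoethFormal)
  {M : FSch.ModF (FSch.completionAlong X 𝓚) hl.1}

include hl in
/-- Killed sections on the completion and of the direct image. -/
theorem killedZp_push_all {n : ℕ} {W : X.Opens} (x : Sec M (hatU 𝓚 W)) :
    FTors.KilledBy (FTors.powIdealFam X 𝓚) ((toX 𝓚 hl.1).push.obj M) (n + 1) (V := W) x ↔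
      FTors.KilledBy (opI hl) M n (V := hatU 𝓚 W) x := by
  refine ⟨fun h => killedBy_of_locally hl x ⟨{
      arrows := fun V _ => ∃ A : X.Opens, IsAffineOpen A ∧ A ≤ W ∧ V ≤ hatU 𝓚 A,
      downward_closed := fun {P Q k} ⟨A, h1, h2, h3⟩ l => ⟨A, h1, h2, (leOfHom l).trans h3⟩ },
    fun z hz => ?_, fun V k ⟨A, hA, hAW, hVA⟩ => ?_⟩,
    fun h => killedZp_of_locally 𝓚 _ ⟨{
      arrows := fun V _ => ∃ A : X.Opens, IsAffineOpen A ∧ A ≤ W ∧ V ≤ A,
      downward_closed := fun {P Q k} ⟨A, h1, h2, h3⟩ l => ⟨A, h1, h2, (leOfHom l).trans h3⟩ },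
    fun z hz => ?_, fun V k ⟨A, hA, hAW, hVA⟩ => ?_⟩⟩
  · obtain ⟨A, hA, hAW, hzA, hle⟩ := exists_hatU_le 𝓚 hz W hz
    exact ⟨hatU 𝓚 A, homOfLE hle, ⟨A, hA, hAW, le_rfl⟩, hzA⟩
  · have h1 := (killedZp_push_iff 𝓚 hl hA _).1 (h.res (homOfLE hAW))
    have h2 := FTors.KilledBy.res (homOfLE hVA) h1
    refine Eq.mp ?_ h2
    congr 1
    exact (SecGen.rs_op_comp _ _ _).symm
  · obtain ⟨_, ⟨A, hA, rfl⟩, hzA, hle⟩ := X.isBasis_affineOpens.exists_subset_of_mem_open hz W.2
    exact ⟨A, homOfLE hle, ⟨A, hA, hle, le_rfl⟩, hzA⟩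
  · rw [show k = homOfLE hVA ≫ homOfLE hAW from Subsingleton.elim _ _]
    show FTors.KilledBy (FTors.powIdealFam X 𝓚) ((toX 𝓚 hl.1).push.obj M) (n + 1) (V := V)
      (FTors.res ((toX 𝓚 hl.1).push.obj M) (homOfLE hVA ≫ homOfLE hAW) x)
    rw [FTors.res_comp]
    have hle : hatU 𝓚 A ≤ hatU 𝓚 W := fun z hz => hAW hz
    exact ((killedZp_push_iff 𝓚 hl hA _).2 (h.res (homOfLE hle))).res _

variable [SheafOfModules.IsQuasicoherent.{u} (R := ModSite.ringSh ((FSch.completionAlong X 𝓚).Osh hl.1)) M]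

include hl in
/-- The killed part of a direct image is quasi-coherent. -/
theorem isQCoh_killX_push (n : ℕ) :
    Coh.IsQCoh (show X.Modules from killX 𝓚 ((toX 𝓚 hl.1).push.obj M) (n + 1)) := by
  let Φ := toX 𝓚 hl.1
  let S := killSub hl M n
  obtain ⟨F, hF, ⟨e⟩, -⟩ := exists_level_iso hl (M := M) n
  haveI : PreservesLimitsOfSize.{0, 0} Φ.push := Φ.adj.rightAdjoint_preservesLimits
  haveI : Mono (Φ.push.map S.ι) := preserves_mono_of_preservesLimit _ _
  have z1 : Φ.push.map S.ι ≫ cokernel.π (killXι 𝓚 (Φ.push.obj M) (n + 1)) = 0 := by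
    refine hom_ext_X fun W y => ?_
    obtain ⟨z, hz⟩ := exists_killX_pre 𝓚 (N := Φ.push.obj M) _
      ((killedZp_push_all 𝓚 hl (W := W) (mapS S.ι (hatU 𝓚 W) y)).2 (S.ι_mem y))
    refine (mapX_comp _ _ W y).trans ?_
    refine (congrArg (mapX (cokernel.π (killXι 𝓚 (Φ.push.obj M) (n + 1))) W) hz.symm).trans ?_
    rw [← mapX_comp, cokernel.condition]
    rfl
  have z2 : killXι 𝓚 (Φ.push.obj M) (n + 1) ≫ cokernel.π (Φ.push.map S.ι) = 0 := by
    refine hom_ext_X fun W y => ?_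
    obtain ⟨z, hz⟩ := S.exists_pre ((killedZp_push_all 𝓚 hl (W := W) _).1 (killed_killXι 𝓚 y))
    refine (mapX_comp _ _ W y).trans ?_
    have hz' : mapX (Φ.push.map S.ι) W z = mapX (killXι 𝓚 (Φ.push.obj M) (n + 1)) W y := hz
    rw [← hz', ← mapX_comp, cokernel.condition]
    rfl
  let eK : Φ.push.obj S.obj ≅ killX 𝓚 (Φ.push.obj M) (n + 1) :=
    { hom := Abelian.monoLift _ _ z1
      inv := Abelian.monoLift _ _ z2
      hom_inv_id := by rw [← cancel_mono (Φ.push.map S.ι), Category.assoc, Abelian.monoLift_comp,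
        Abelian.monoLift_comp, Category.id_comp]
      inv_hom_id := by rw [← cancel_mono (killXι 𝓚 (Φ.push.obj M) (n + 1)), Category.assoc, Abelian.monoLift_comp,
        Abelian.monoLift_comp, Category.id_comp] }
  let p := FSch.completionToX X 𝓚 n
  haveI : IsClosedImmersion p := isClosedImmersion_completionToX 𝓚 n
  haveI : IsIso ((FSch.schPushCompare (FSch.completionAlong X 𝓚) hl.1 (FSch.completionToX X 𝓚)
    (FSch.completionToX_comm X 𝓚) n).app F) := isIso_schPushCompare_app _ _ _ _ n _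
  let e' : (Scheme.Modules.pushforward p).obj F ≅ (show X.Modules from killX 𝓚 (Φ.push.obj M) (n + 1)) :=
    asIso ((FSch.schPushCompare (FSch.completionAlong X 𝓚) hl.1 (FSch.completionToX X 𝓚)
      (FSch.completionToX_comm X 𝓚) n).app F) ≪≫ Φ.push.mapIso e ≪≫ eK
  exact (SheafOfModules.isQuasicoherent (R := X.ringCatSheaf)).prop_of_iso e' (QCoh.isQCoh_pushforward p hF)

include hl in
/-- Direct images of quasi-coherent torsion modules are quasi-coherent. -/
theorem isQC_push (hM : FTors.IsTorsF (FSch.completionAlong X 𝓚) hl.1 M) :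
    Coh.IsQCoh (show X.Modules from (toX 𝓚 hl.1).push.obj M) := by
  obtain ⟨hc⟩ := nonempty_isColimit_killXc 𝓚 (isTorsZp_push 𝓚 hl hM)
  refine (SheafOfModules.isQuasicoherent (R := X.ringCatSheaf)).prop_of_iso
    ((colimit.isColimit _).coconePointUniqueUpToIso hc)
    (QCoh.isQCoh_colimit (X := X) (killXE 𝓚 ((toX 𝓚 hl.1).push.obj M)) fun j => ?_)
  exact isQCoh_killX_push 𝓚 hl j.down

include hl in
/-- Direct images of coherent torsion modules are coherent. -/
theorem isCoh_push (hM : FTors.IsTorsF (FSch.completionAlong X 𝓚) hl.1 M)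
    (hC : FSch.IsCohF (FSch.completionAlong X 𝓚) hl.1 M) :
    Coh.IsCoh (show X.Modules from (toX 𝓚 hl.1).push.obj M) := by
  classical
  refine QCoh.isCoh_iff.2 ⟨isQC_push 𝓚 hl hM, fun U => ?_⟩
  have hU := isAffineOpen_hatU 𝓚 U.2
  haveI := finite_sec hl hC hU
  obtain ⟨q, s, hs⟩ := Module.Finite.exists_fin (R := Rg hl.1 (hatU 𝓚 U.1)) (M := Sec M (hatU 𝓚 U.1))
  choose m hm using fun i => exists_killedBy_of_tors hl hU (s i) (hM _ _)
  let n := Finset.univ.sup m
  refine ⟨⟨Finset.univ.image (fun i => (show Γ((toX 𝓚 hl.1).push.obj M, U.1) from s i)), eq_top_iff.2 fun x _ => ?_⟩⟩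
  obtain ⟨c, hc⟩ := (Submodule.mem_span_range_iff_exists_fun _).1
    (show (show Sec M (hatU 𝓚 U.1) from x) ∈ Submodule.span _ (Set.range s) from hs ▸ Submodule.mem_top)
  rw [← hc]
  refine Submodule.sum_mem _ fun i _ => ?_
  obtain ⟨a, ha⟩ := exists_shU_sub 𝓚 hl n U.2 (c i)
  have h0 := (killedBy_iff hl hU (s i)).1 ((hm i).mono (Finset.le_sup (Finset.mem_univ i))) _ ha
  rw [sub_smul, sub_eq_zero] at h0
  rw [h0]
  exact Submodule.smul_mem _ a (Submodule.subset_span (Finset.mem_coe.2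
    (Finset.mem_image.2 ⟨i, Finset.mem_univ _, rfl⟩)))

end Groth.Agent.H26.FMod
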