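import Groth.Agent.H26.FMod.ComplTorsPush
import Groth.Agent.H26.FMod.TorsPush
import Groth.Agent.SiteBase.ColimSec
import Groth.Agent.SiteBase.ModGroth

/-!
# Torsion modules on the scheme as modules on the completion
-/

noncomputable section

set_option autoImplicit false
set_option maxHeartbeats 1000000
set_option linter.style.haveILetI false
set_option backward.isDefEq.respectTransparency false
set_option backward.isDefEq.respectTransparency.types false

universe u

open CategoryTheory CategoryTheory.Limits TopologicalSpace Opposite AlgebraicGeometry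
open Groth.Agent.ModTensor Groth.Agent.ModPull Groth.Agent.SecGen

namespace Groth.Agent.H26.FMod

variable {X : Scheme.{u}} (𝓚 : X.IdealSheafData)

/-- Sections of a map of modules on a scheme. -/
abbrev mapX {A B : ModSite.Mod X.sheaf} (φ : A ⟶ B) (W : X.Opens) :
    ((fg X.sheaf).obj A).obj (op W) →ₗ[X.sheaf.obj.obj (op W)] ((fg X.sheaf).obj B).obj (op W) :=
  (((fg X.sheaf).map φ).app (op W)).hom

lemma hom_ext_X {A B : ModSite.Mod X.sheaf} {φ ψ : A ⟶ B} (h : ∀ W x, mapX φ W x = mapX ψ W x) : φ = ψ :=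
  (fg X.sheaf).map_injective (PresheafOfModules.hom_ext fun W => ModuleCat.hom_ext (LinearMap.ext (h W.unop)))

lemma mapX_comp {A B C : ModSite.Mod X.sheaf} (φ : A ⟶ B) (ψ : B ⟶ C) (W : X.Opens)
    (x : ((fg X.sheaf).obj A).obj (op W)) : mapX (φ ≫ ψ) W x = mapX ψ W (mapX φ W x) := by
  simp only [mapX, Functor.map_comp, PresheafOfModules.comp_app, ModuleCat.hom_comp]
  rfl

lemma mapX_res {A B : ModSite.Mod X.sheaf} (φ : A ⟶ B) {W V : X.Opens} (g : V ⟶ W)
    (x : ((fg X.sheaf).obj A).obj (op W)) : mapX φ V (FTors.res A g x) = FTors.res B g (mapX φ W x) :=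
  (FTors.res_hom A φ g x).symm

/-- The family constantly equal to one power. -/
def powConst (n : ℕ) : FTors.IdealFam X.sheaf where
  ideal _ U := (FTors.powIdealFam X 𝓚).ideal n U
  antitone' _ _ := le_rfl
  map_mem' _ _ _ g _ ha := (FTors.powIdealFam X 𝓚).map_mem n g ha

variable (N : ModSite.Mod X.sheaf)

/-- The sections killed by one power. -/
abbrev killX (n : ℕ) : ModSite.Mod X.sheaf := (FTors.gamma X.sheaf (powConst 𝓚 n)).obj N

/-- Their inclusion. -/
abbrev killXι (n : ℕ) : killX 𝓚 N n ⟶ N := (FTors.gammaι (powConst 𝓚 n)).app N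

instance mono_killXι (n : ℕ) : Mono (killXι 𝓚 N n) :=
  ⟨fun a b h => hom_ext_X fun W x => Subtype.ext
    ((mapX_comp a (killXι 𝓚 N n) W x).symm.trans ((congrArg (fun t => mapX t W x) h).trans
      (mapX_comp b (killXι 𝓚 N n) W x)))⟩

variable {N}

/-- Being killed by a power is local. -/
theorem killedZp_of_locally {n : ℕ} {U : X.Opens} (x : ModSite.sect N U)
    (hx : ModPull.Locally (Opens.grothendieckTopology X) U
      fun V g => FTors.KilledBy (FTors.powIdealFam X 𝓚) N n (V := V) (FTors.res N g x)) :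
    FTors.KilledBy (FTors.powIdealFam X 𝓚) N n (V := U) x := by
  obtain ⟨S, hS, hSp⟩ := hx
  intro W g a ha
  refine eq_of_locally' N ⟨S.pullback g, GrothendieckTopology.pullback_stable _ g hS, fun V k hk => ?_⟩
  show FTors.res N k (a • FTors.res N g x) = FTors.res N k 0
  rw [FTors.res_smul, FTors.res_zero, ← FTors.res_comp]
  have h1 := hSp (k ≫ g) hk (𝟙 V) _ ((FTors.powIdealFam X 𝓚).map_mem n k ha)
  rwa [FTors.res_id] at h1

lemma killedBy_const_iff {n k : ℕ} {U : X.Opens} (x : ModSite.sect N U) :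
    FTors.KilledBy (powConst 𝓚 n) N k (V := U) x ↔ FTors.KilledBy (FTors.powIdealFam X 𝓚) N n (V := U) x := Iff.rfl

/-- The sections of `killX` are killed in the ambient module. -/
theorem killed_killXι {n : ℕ} {U : X.Opens} (y : ((fg X.sheaf).obj (killX 𝓚 N n)).obj (op U)) :
    FTors.KilledBy (FTors.powIdealFam X 𝓚) N n (V := U) (mapX (killXι 𝓚 N n) U y) :=
  killedZp_of_locally 𝓚 _
    ⟨FTors.killSieve (powConst 𝓚 n) N (mapX (killXι 𝓚 N n) U y), y.2, fun _ _ ⟨_, hk⟩ => hk⟩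

/-- A killed section comes from `killX`. -/
theorem exists_killX_pre {n : ℕ} {U : X.Opens} (x : ModSite.sect N U)
    (hx : FTors.KilledBy (FTors.powIdealFam X 𝓚) N n (V := U) x) :
    ∃ y, mapX (killXι 𝓚 N n) U y = x :=
  ⟨⟨x, (FTors.IsTorsSect.of_killedBy (I := powConst 𝓚 n) (n := 0) hx : FTors.IsTorsSect (powConst 𝓚 n) N (U := U) x)⟩, rfl⟩

theorem killedBy_killX {n : ℕ} {U : X.Opens} (y : ((fg X.sheaf).obj (killX 𝓚 N n)).obj (op U)) :
    FTors.KilledBy (FTors.powIdealFam X 𝓚) (killX 𝓚 N n) n (V := U) y :=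
  fun _ g a ha => Subtype.ext (killed_killXι 𝓚 y g a ha)

lemma killXι_coker {m n : ℕ} (h : m ≤ n) : killXι 𝓚 N m ≫ cokernel.π (killXι 𝓚 N n) = 0 := by
  refine hom_ext_X fun W y => ?_
  obtain ⟨z, hz⟩ := exists_killX_pre 𝓚 _ ((killed_killXι 𝓚 y).mono h)
  rw [mapX_comp, ← hz, ← mapX_comp, cokernel.condition]
  rfl

/-- The transition maps. -/
abbrev killXmap (N : ModSite.Mod X.sheaf) {m n : ℕ} (h : m ≤ n) : killX 𝓚 N m ⟶ killX 𝓚 N n :=
  Abelian.monoLift (killXι 𝓚 N n) (killXι 𝓚 N m) (killXι_coker 𝓚 h)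

/-- The killed submodules. -/
def killXD (N : ModSite.Mod X.sheaf) : ULift.{u} ℕ ⥤ MonoOver N where
  obj n := MonoOver.mk (killXι 𝓚 N (n.down + 1))
  map {m n} g := MonoOver.homMk (killXmap 𝓚 N (Nat.succ_le_succ (show m.down ≤ n.down from (leOfHom g : m ≤ n))))
    (Abelian.monoLift_comp _ _ _)
  map_id _ := Subsingleton.elim _ _
  map_comp _ _ := Subsingleton.elim _ _

/-- Their diagram. -/
abbrev killXE (N : ModSite.Mod X.sheaf) : ULift.{u} ℕ ⥤ ModSite.Mod X.sheaf :=
  killXD 𝓚 N ⋙ MonoOver.forget _ ⋙ Over.forget _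

/-- The cocone of killed submodules. -/
abbrev killXc (N : ModSite.Mod X.sheaf) : Cocone (killXE 𝓚 N) :=
  Cocone.mk N
    { app := fun n => ((killXD 𝓚 N).obj n).obj.hom
      naturality := fun {_ _} g => (MonoOver.w ((killXD 𝓚 N).map g)).trans (Category.comp_id _).symm }

/-- Torsion sections are locally in the killed submodules. -/
theorem locally_killX {U : X.Opens} (x : ModSite.sect N U)
    (hx : FTors.IsTorsSect (FTors.powIdealFam X 𝓚) N (U := U) x) :
    ModPull.Locally (Opens.grothendieckTopology X) U fun V g => ∃ (l : ULift.{u} ℕ)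
      (y : ((fg X.sheaf).obj (killX 𝓚 N (l.down + 1))).obj (op V)),
        mapX (killXι 𝓚 N (l.down + 1)) V y = FTors.res N g x := by
  refine ⟨_, hx, fun V g ⟨n, hn⟩ => ⟨⟨n⟩, exists_killX_pre 𝓚 _ (hn.mono n.le_succ)⟩⟩

/-- A torsion module is the colimit of its killed submodules. -/
theorem nonempty_isColimit_killXc (hN : FTors.IsTorsZp X 𝓚 N) : Nonempty (IsColimit (killXc 𝓚 N)) := by
  haveI := SiteBase.isGrothendieckAbelian_sheafOfModules (ModSite.ringSh X.sheaf)
  let v : colimit (killXE 𝓚 N) ⟶ N := colimit.desc _ (killXc 𝓚 N)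
  haveI : Mono v := IsGrothendieckAbelian.mono_of_isColimit_monoOver (killXD 𝓚 N)
    (colimit.isColimit (killXE 𝓚 N)) v (fun j => colimit.ι_desc _ _)
  haveI : Epi v := ⟨fun {Z} p q e => hom_ext_X fun W x => by
    refine eq_of_locally' Z ((locally_killX 𝓚 x (hN W x)).mono fun V g ⟨l, y, hy⟩ => ?_)
    show FTors.res Z g (mapX p W x) = FTors.res Z g (mapX q W x)
    rw [← mapX_res, ← mapX_res, ← hy, ← mapX_comp, ← mapX_comp]
    have h1 := congrArg (colimit.ι (killXE 𝓚 N) l ≫ ·) e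
    rw [← Category.assoc, ← Category.assoc, colimit.ι_desc] at h1
    exact congrArg (fun r => mapX r V y) h1⟩
  haveI : IsIso v := isIso_of_mono_of_epi v
  exact ⟨IsColimit.ofIsoColimit (colimit.isColimit _) (Cocone.ext (asIso v) fun j => colimit.ι_desc _ _)⟩

variable (hl : (FSch.completionAlong X 𝓚).IsLocNoethFormal)

include hl in
/-- Modules killed by a power live on a level. -/
theorem exists_level_killed (G : ModSite.Mod X.sheaf) (n : ℕ)
    (hG : ∀ (W : X.Opens) (s : ModSite.sect G W), FTors.KilledBy (FTors.powIdealFam X 𝓚) G (n + 1) (V := W) s) :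
    ∃ G' : ((FSch.completionAlong X 𝓚).X n).Modules,
      Nonempty ((toX 𝓚 hl.1).push.obj ((FSch.levelMor (FSch.completionAlong X 𝓚) hl.1 n).push.obj G') ≅ G) ∧
        Nonempty ((Scheme.Modules.pushforward (FSch.completionToX X 𝓚 n)).obj G' ≅ (show X.Modules from G)) := by
  let p := FSch.completionToX X 𝓚 n
  haveI : IsClosedImmersion p := isClosedImmersion_completionToX 𝓚 n
  let c : X.sheaf ⟶ ((Opens.map p.base).sheafPushforwardContinuous CommRingCat.{u}
      (Opens.grothendieckTopology X) (Opens.grothendieckTopology ((FSch.completionAlong X 𝓚).X n))).obj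
        ((FSch.completionAlong X 𝓚).X n).sheaf := ⟨p.c⟩
  have hc : Sheaf.IsLocallySurjective c := by
    refine ⟨fun {W} r => ?_⟩
    intro x hx
    obtain ⟨_, ⟨U, hU, rfl⟩, hxU, hle⟩ := X.isBasis_affineOpens.exists_subset_of_mem_open hx W.2
    exact ⟨U, homOfLE hle, p.app_surjective _ hU _, hxU⟩
  have hK : ClosedPushEq.Killed p.base c G := fun W a ha s => by
    refine eq_of_locally' G ⟨{
        arrows := fun W' _ => ∃ A : X.Opens, IsAffineOpen A ∧ A ≤ W ∧ W' ≤ A,
        downward_closed := fun {P Q k} ⟨A, h1, h2, h3⟩ l => ⟨A, h1, h2, (leOfHom l).trans h3⟩ },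
      fun y hy => ?_, fun W' k ⟨A, hA, hAW, hW'A⟩ => ?_⟩
    · obtain ⟨_, ⟨A, hA, rfl⟩, hyA, hle⟩ := X.isBasis_affineOpens.exists_subset_of_mem_open hy W.2
      exact ⟨A, homOfLE hle, ⟨A, hA, hle, le_rfl⟩, hyA⟩
    rw [show k = homOfLE hW'A ≫ homOfLE hAW from Subsingleton.elim _ _]
    show FTors.res G (homOfLE hW'A ≫ homOfLE hAW) (a • s) = FTors.res G (homOfLE hW'A ≫ homOfLE hAW) 0
    rw [FTors.res_comp, FTors.res_comp, FTors.res_zero, FTors.res_zero]
    refine Eq.trans (congrArg (FTors.res G (homOfLE hW'A)) ?_) (FTors.res_zero G _)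
    rw [FTors.res_smul]
    refine (killedZp_iff 𝓚 hA _).1 (hG A _) _ ?_
    have h1 : (X.sheaf.obj.map (homOfLE hAW).op).hom a ∈ p.ker.ideal ⟨A, hA⟩ := by
      rw [Scheme.Hom.ker_apply, RingHom.mem_ker]
      refine (ClosedPushEq.cc_res p.base c hAW a).trans ?_
      rw [ha]
      exact map_zero _
    rw [show p.ker = 𝓚 ^ (n + 1) from Scheme.IdealSheafData.ker_subschemeι _,
      Scheme.IdealSheafData.ideal_pow] at h1
    exact h1
  obtain ⟨F, ⟨e⟩⟩ := ClosedPushEq.essImage_of_killed p.base c G (hi := p.isClosedEmbedding) hc hK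
  let e' : (Scheme.Modules.pushforward p).obj F ≅ (show X.Modules from G) := e
  haveI : IsIso ((FSch.schPushCompare (FSch.completionAlong X 𝓚) hl.1 (FSch.completionToX X 𝓚)
    (FSch.completionToX_comm X 𝓚) n).app F) := isIso_schPushCompare_app _ _ _ _ n _
  exact ⟨F, ⟨(asIso ((FSch.schPushCompare (FSch.completionAlong X 𝓚) hl.1 (FSch.completionToX X 𝓚)
    (FSch.completionToX_comm X 𝓚) n).app F)).symm ≪≫ e'⟩, ⟨e'⟩⟩

include hl in
/-- Killed submodules come from torsion modules on the completion. -/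
theorem killX_aux (N : ModSite.Mod X.sheaf) (n : ℕ) :
    FTors.IsTorsF (FSch.completionAlong X 𝓚) hl.1 ((toX 𝓚 hl.1).pull.obj (killX 𝓚 N (n + 1))) ∧
      IsIso ((toX 𝓚 hl.1).adj.unit.app (killX 𝓚 N (n + 1))) := by
  obtain ⟨G', ⟨e⟩, -⟩ := exists_level_killed 𝓚 hl (killX 𝓚 N (n + 1)) n fun W s => killedBy_killX 𝓚 s
  let Φ := toX 𝓚 hl.1
  let L := (FSch.levelMor (FSch.completionAlong X 𝓚) hl.1 n).push.obj G'
  have hL : FTors.IsTorsF (FSch.completionAlong X 𝓚) hl.1 L := isTorsF_pushLvl hl n G'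
  haveI := isIso_counit_toX 𝓚 hl hL
  refine ⟨isTorsF_of_mono hl ((Φ.pull.mapIso e.symm).hom ≫ Φ.adj.counit.app L) hL, ?_⟩
  haveI : IsIso (Φ.adj.unit.app (Φ.push.obj L)) :=
    IsIso.of_isIso_fac_right (Φ.adj.right_triangle_components L)
  have h1 : Φ.adj.unit.app (killX 𝓚 N (n + 1)) = inv e.hom ≫ Φ.adj.unit.app (Φ.push.obj L) ≫ Φ.push.map (Φ.pull.map e.hom) := by
    rw [IsIso.eq_inv_comp]
    exact Φ.adj.unit.naturality e.hom
  change IsIso (Φ.adj.unit.app (killX 𝓚 N (n + 1)))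
  rw [h1]
  infer_instance

include hl in
/-- Torsion modules on the scheme pull back to torsion modules. -/
theorem isTorsF_pull {N : ModSite.Mod X.sheaf} (hN : FTors.IsTorsZp X 𝓚 N) :
    FTors.IsTorsF (FSch.completionAlong X 𝓚) hl.1 ((toX 𝓚 hl.1).pull.obj N) := by
  obtain ⟨hc⟩ := nonempty_isColimit_killXc 𝓚 hN
  haveI : PreservesColimitsOfSize.{u, u} (toX 𝓚 hl.1).pull := (toX 𝓚 hl.1).adj.leftAdjoint_preservesColimits
  exact isTorsF_colimit hl (isColimitOfPreserves (toX 𝓚 hl.1).pull hc) fun j => (killX_aux 𝓚 hl N j.down).1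

include hl in
/-- Sections away from the closed subset vanish. -/
theorem eq_zero_off (N : ModSite.Mod X.sheaf) (n : ℕ) {V : X.Opens} (hV : ∀ z, z ∉ hatU 𝓚 V)
    (y : ((fg X.sheaf).obj (killX 𝓚 N (n + 1))).obj (op V)) : y = 0 := by
  haveI := (killX_aux 𝓚 hl N n).2
  apply app_injective ((toX 𝓚 hl.1).adj.unit.app (killX 𝓚 N (n + 1))) (op V)
  exact ClosedPushFT.eq_of_isEmpty ((toX 𝓚 hl.1).pull.obj (killX 𝓚 N (n + 1))) hV _ _

include hl in
/-- Torsion modules on the scheme are direct images of their pull backs. -/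
theorem isIso_unit_toX {N : ModSite.Mod X.sheaf} (hN : FTors.IsTorsZp X 𝓚 N) :
    IsIso ((toX 𝓚 hl.1).adj.unit.app N) := by
  let Φ := toX 𝓚 hl.1
  obtain ⟨hc⟩ := nonempty_isColimit_killXc 𝓚 hN
  haveI : PreservesColimitsOfSize.{u, u} Φ.pull := Φ.adj.leftAdjoint_preservesColimits
  let hcP := isColimitOfPreserves Φ.pull hc
  have hnat : ∀ (n : ℕ) (W : X.Opens) (y : ((fg X.sheaf).obj (killX 𝓚 N (n + 1))).obj (op W)),
      mapX (Φ.adj.unit.app N) W (mapX (killXι 𝓚 N (n + 1)) W y) =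
        mapS (Φ.pull.map (killXι 𝓚 N (n + 1))) (hatU 𝓚 W) (mapX (Φ.adj.unit.app (killX 𝓚 N (n + 1))) W y) :=
    fun n W y => ((mapX_comp _ _ W y).symm.trans
      (congrArg (fun r => mapX r W y) (Φ.adj.unit.naturality (killXι 𝓚 N (n + 1))))).trans (mapX_comp _ _ W y)
  haveI : Mono (Φ.adj.unit.app N) := ⟨fun {A} p q e => hom_ext_X fun W a => by
    suffices h : ∀ (x : ModSite.sect N W), mapX (Φ.adj.unit.app N) W x = 0 → x = 0 by
      refine sub_eq_zero.1 (h _ ?_)
      rw [map_sub, ← mapX_comp, ← mapX_comp, e, sub_self]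
    intro x hx
    refine eq_of_locally' N ((locally_killX 𝓚 x (hN W x)).bind fun V g ⟨l, y, hy⟩ => ?_)
    have h0 : mapS (Φ.pull.map (killXι 𝓚 N (l.down + 1))) (hatU 𝓚 V)
        (mapX (Φ.adj.unit.app (killX 𝓚 N (l.down + 1))) V y) = 0 := by
      exact (hnat _ V y).symm.trans ((congrArg (mapX (Φ.adj.unit.app N) V) hy).trans
        ((mapX_res _ g x).trans ((congrArg (FTors.res _ g) hx).trans (FTors.res_zero _ g))))
    obtain ⟨S, hS, hSp⟩ := ColimSec.locally_exists_zero hcP (l := l)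
      (mapX (Φ.adj.unit.app (killX 𝓚 N (l.down + 1))) V y) h0
    refine ⟨{ arrows := fun V' _ => ∃ (A : X.Opens) (h : A ≤ V), V' ≤ A ∧ FTors.res (killX 𝓚 N (l.down + 1)) (homOfLE h) y = 0,
              downward_closed := fun {P Q k} ⟨A, h, h', e'⟩ t => ⟨A, h, (leOfHom t).trans h', e'⟩ },
      fun v hv => ?_, fun V' k ⟨A, hA, hV'A, e'⟩ => ?_⟩
    · by_cases hr : v ∈ Set.range (FSch.completionToX X 𝓚 0).base
      · obtain ⟨z, rfl⟩ := hr
        obtain ⟨U', g', hg', hzU'⟩ := hS z hv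
        obtain ⟨l', t, ht⟩ := hSp g' hg'
        obtain ⟨A, hA, hAV, hzA, hle⟩ := exists_hatU_le 𝓚 hzU' V hv
        refine ⟨A, homOfLE hAV, ⟨A, hAV, le_rfl, ?_⟩, hzA⟩
        have hmono : Function.Injective (mapX ((killXE 𝓚 N).map t) A) := fun a b hab => by
          refine app_injective (killXι 𝓚 N (l.down + 1)) (op A) ?_
          have e1 : (killXE 𝓚 N).map t ≫ killXι 𝓚 N (l'.down + 1) = killXι 𝓚 N (l.down + 1) :=
            (MonoOver.w ((killXD 𝓚 N).map t))
          refine (congrArg (fun r => mapX r A a) e1).symm.trans (Eq.trans ?_ (congrArg (fun r => mapX r A b) e1))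
          exact (mapX_comp _ _ A a).trans ((congrArg (mapX (killXι 𝓚 N (l'.down + 1)) A) hab).trans
            (mapX_comp _ _ A b).symm)
        haveI := (killX_aux 𝓚 hl N l'.down).2
        apply hmono
        rw [map_zero]
        apply app_injective (Φ.adj.unit.app (killX 𝓚 N (l'.down + 1))) (op A)
        show mapX (Φ.adj.unit.app (killX 𝓚 N (l'.down + 1))) A _ = mapX _ A 0
        refine (mapX_comp _ _ A _).symm.trans ?_
        refine (congrArg (fun r => mapX r A _) (Φ.adj.unit.naturality ((killXE 𝓚 N).map t))).trans ?_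
        refine (mapX_comp _ _ A _).trans ?_
        refine Eq.trans ?_ (map_zero _).symm
        refine (congrArg (mapX ((Φ.pull ⋙ Φ.push).map ((killXE 𝓚 N).map t)) A)
          (mapX_res (Φ.adj.unit.app (killX 𝓚 N (l.down + 1))) (homOfLE hAV) y)).trans ?_
        have h2 := congrArg (resM (Φ.pull.obj (killX 𝓚 N (l'.down + 1))) hle) ht
        refine Eq.trans ?_ ((mapS_res (Φ.pull.map ((killXE 𝓚 N).map t)) hle _).trans (h2.trans (map_zero _)))
        exact congrArg (mapS (Φ.pull.map ((killXE 𝓚 N).map t)) (hatU 𝓚 A)) (SecGen.rs_op_comp _ _ _)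
      · obtain ⟨_, ⟨A, hA, rfl⟩, hvA, hle⟩ := X.isBasis_affineOpens.exists_subset_of_mem_open
          (show v ∈ (V : Set X) ∩ (Set.range (FSch.completionToX X 𝓚 0).base)ᶜ from ⟨hv, hr⟩)
          (V.2.inter (isClosedEmbedding_base 𝓚).isClosed_range.isOpen_compl)
        exact ⟨A, homOfLE fun w hw => (hle hw).1, ⟨A, fun w hw => (hle hw).1, le_rfl,
          eq_zero_off 𝓚 hl N l.down (fun z hz => (hle hz).2 ⟨z, rfl⟩) _⟩, hvA⟩
    · show FTors.res N (k ≫ g) x = FTors.res N (k ≫ g) 0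
      rw [FTors.res_zero, FTors.res_comp, ← hy, ← mapX_res,
        show k = homOfLE hV'A ≫ homOfLE hA from Subsingleton.elim _ _, FTors.res_comp, e', FTors.res_zero, map_zero]⟩
  haveI : Epi (Φ.adj.unit.app N) := ⟨fun {Z} p q e => hom_ext_X fun W w => by
    refine eq_of_locally' Z ⟨{
        arrows := fun V' _ => ∃ (A : X.Opens) (h : A ≤ W), V' ≤ A ∧
          ∃ (x : ((fg X.sheaf).obj N).obj (op A)), mapX (Φ.adj.unit.app N) A x = FTors.res (Φ.push.obj (Φ.pull.obj N)) (homOfLE h) w,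
        downward_closed := fun {P Q k} ⟨A, h, h', e'⟩ t => ⟨A, h, (leOfHom t).trans h', e'⟩ },
      fun v hv => ?_, fun V' k ⟨A, hA, hV'A, x, hx⟩ => ?_⟩
    · by_cases hr : v ∈ Set.range (FSch.completionToX X 𝓚 0).base
      · obtain ⟨z, rfl⟩ := hr
        obtain ⟨S, hS, hSp⟩ := ColimSec.locally_exists_rep hcP (W := hatU 𝓚 W) w
        obtain ⟨U', g', hg', hzU'⟩ := hS z hv
        obtain ⟨l, y, hy⟩ := hSp g' hg'
        obtain ⟨A, hA, hAW, hzA, hle⟩ := exists_hatU_le 𝓚 hzU' W hv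
        refine ⟨A, homOfLE hAW, ⟨A, hAW, le_rfl, ?_⟩, hzA⟩
        haveI := (killX_aux 𝓚 hl N l.down).2
        obtain ⟨x', hx'⟩ : ∃ x', mapX (Φ.adj.unit.app (killX 𝓚 N (l.down + 1))) A x' =
            resM (Φ.pull.obj (killX 𝓚 N (l.down + 1))) hle y :=
          ⟨mapX (inv (Φ.adj.unit.app (killX 𝓚 N (l.down + 1)))) A (resM (Φ.pull.obj (killX 𝓚 N (l.down + 1))) hle y), by
            rw [← mapX_comp, IsIso.inv_hom_id]; rfl⟩
        refine ⟨mapX (killXι 𝓚 N (l.down + 1)) A x', ?_⟩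
        rw [hnat, hx', mapS_res]
        refine (congrArg (resM (Φ.pull.obj N) hle) hy).trans ?_
        exact (SecGen.rs_op_comp _ _ _).symm
      · obtain ⟨_, ⟨A, hA, rfl⟩, hvA, hle⟩ := X.isBasis_affineOpens.exists_subset_of_mem_open
          (show v ∈ (W : Set X) ∩ (Set.range (FSch.completionToX X 𝓚 0).base)ᶜ from ⟨hv, hr⟩)
          (W.2.inter (isClosedEmbedding_base 𝓚).isClosed_range.isOpen_compl)
        exact ⟨A, homOfLE fun w hw => (hle hw).1, ⟨A, fun w hw => (hle hw).1, le_rfl, 0,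
          ClosedPushFT.eq_of_isEmpty (Φ.pull.obj N) (fun z hz => (hle hz).2 ⟨z, rfl⟩) _ _⟩, hvA⟩
    · show FTors.res Z k (mapX p W w) = FTors.res Z k (mapX q W w)
      rw [show k = homOfLE hV'A ≫ homOfLE hA from Subsingleton.elim _ _, FTors.res_comp, FTors.res_comp]
      refine congrArg (FTors.res Z (homOfLE hV'A)) ?_
      rw [← mapX_res, ← mapX_res]
      refine (congrArg (mapX p A) hx.symm).trans (Eq.trans ?_ (congrArg (mapX q A) hx))
      exact (mapX_comp _ p A x).symm.trans ((congrArg (fun r => mapX r A x) e).trans (mapX_comp _ q A x))⟩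
  show IsIso (Φ.adj.unit.app N)
  exact isIso_of_mono_of_epi _

end Groth.Agent.H26.FMod
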