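import Groth.Agent.SiteBase.RpushD.Gen
import Groth.Agent.H9Misc.AcyclicUnit
import Groth.Agent.KFlatLib.Scheme.RpushCoprodQCoh
import Groth.Agent.IndExt.Additive
import Groth.Agent.SiteBase.DLimA.Equiv
import Groth.Agent.SiteBase.DLimA.PushData

/-!
# Derived functors and coproducts
-/

noncomputable section

set_option autoImplicit false
set_option maxHeartbeats 1000000
set_option linter.style.haveILetI false
set_option backward.isDefEq.respectTransparency false

universe u

open CategoryTheory CategoryTheory.Limits Pretriangulated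

attribute [local instance] HasDerivedCategory.standard

namespace Groth.Agent.H26.CoprodGen

open Groth.Agent.SiteBase

section Bounded

variable {A : Type (u + 1)} [Category.{u} A] [Abelian A] [IsGrothendieckAbelian.{u} A]
  {B : Type (u + 1)} [Category.{u} B] [Abelian B] [IsGrothendieckAbelian.{u} B]
  (G : A ⥤ B) [G.Additive] [PreservesFiniteLimits G] [EnoughInjectives A]
  [(G.mapHomotopyCategory (ComplexShape.up ℤ) ⋙ DerivedCategory.Qh).HasRightDerivedFunctor
    (HomotopyCategory.quasiIso A (ComplexShape.up ℤ))]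

/-- The derived functor commutes with uniformly bounded below coproducts. -/
theorem preservesColimit_RD_of_isGE {J : Type u}
    (hR : ∀ p, PreservesColimitsOfShape (Discrete J) (G.rightDerived p))
    (C : J → DerivedCategory A) (n : ℤ) (hC : ∀ j, (C j).IsGE n) :
    PreservesColimit (Discrete.functor C) (RpushD.RD G) := by
  haveI := RpushD.qh_isLeftAdjoint (A := A)
  let adjQ := Adjunction.ofIsLeftAdjoint (DerivedCategory.Qh (C := A))
  let ρ := (DerivedCategory.Qh (C := A)).rightAdjoint
  obtain ⟨e⟩ := RpushD.nonempty_RD_iso G ρ adjQ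
  let Φ := G.mapHomotopyCategory (ComplexShape.up ℤ) ⋙ DerivedCategory.Qh
  suffices PreservesColimit (Discrete.functor C) (ρ ⋙ Φ) from preservesColimit_of_natIso _ e
  haveI := hR 0
  haveI : PreservesColimitsOfShape (Discrete J) G := preservesColimitsOfShape_of_natIso G.rightDerivedZeroIsoSelf
  haveI : PreservesColimitsOfShape (Discrete J) (G.mapHomologicalComplex (ComplexShape.up ℤ)) :=
    ⟨fun {K} => ⟨fun {c} hc => ⟨HomologicalComplex.isColimitOfEval _ _ fun m =>
      isColimitOfPreserves (HomologicalComplex.eval A (ComplexShape.up ℤ) m ⋙ G) hc⟩⟩⟩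
  let q := HomotopyCategory.quotient A (ComplexShape.up ℤ)
  let η : G.mapHomologicalComplex (ComplexShape.up ℤ) ⋙ DerivedCategory.Q ⟶ DerivedCategory.Q ⋙ (ρ ⋙ Φ) :=
    (Functor.isoWhiskerRight (G.mapHomotopyCategoryFactors (ComplexShape.up ℤ)) DerivedCategory.Qh ≪≫
      Functor.associator _ _ _ ≪≫
      Functor.isoWhiskerLeft _ (DerivedCategory.quotientCompQhIso B)).inv ≫
    (Functor.associator _ _ _).hom ≫ Functor.whiskerLeft q (Functor.whiskerRight adjQ.unit Φ) ≫
    (Functor.associator _ _ _).inv ≫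
    Functor.whiskerRight (Functor.isoWhiskerLeft q (Iso.refl DerivedCategory.Qh)).hom (ρ ⋙ Φ) ≫
    Functor.whiskerRight (DerivedCategory.quotientCompQhIso A).hom (ρ ⋙ Φ)
  have hη : ∀ (K : CochainComplex A ℤ) (a : ℤ), K.IsStrictlyGE a →
      (∀ m, TriCat.IsRightAcyclic G (K.X m)) → IsIso (η.app K) := fun K a hK hac => by
    haveI := hK
    haveI : IsIso (Φ.map (adjQ.unit.app (q.obj K))) := H9Misc.AcyclicUnit.isIso_map_unit G adjQ K a hac
    simp only [η, NatTrans.comp_app, Functor.whiskerLeft_app, Functor.whiskerRight_app]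
    infer_instance
  have hres : ∀ j, ∃ (K : CochainComplex A ℤ), K.IsStrictlyGE n ∧ (∀ m, Injective (K.X m)) ∧
      Nonempty (DerivedCategory.Q.obj K ≅ C j) := fun j => by
    haveI := hC j
    obtain ⟨L, hL, ⟨e⟩⟩ := DerivedCategory.exists_iso_Q_obj_of_isGE (C j) n
    haveI := hL
    obtain ⟨I, s, hs, hinj, hI⟩ := CochainComplex.Plus.modelCategoryQuillen.exists_quasiIso_injective L n
    haveI := hs
    exact ⟨I, hI, hinj, ⟨(asIso (DerivedCategory.Q.map s)).symm ≪≫ e.symm⟩⟩
  choose K hKge hKinj eK using hres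
  haveI : HasColimitsOfShape (Discrete J) (DerivedCategory A) := TriCat.hasColimitsOfShape_derivedCategory
  haveI : HasColimitsOfShape (Discrete J) (DerivedCategory B) := TriCat.hasColimitsOfShape_derivedCategory
  haveI : IsIso (sigmaComparison (ρ ⋙ Φ) C) := by
    refine KFlatLib.isIso_sigmaDesc' (ρ ⋙ Φ) (G.mapHomologicalComplex (ComplexShape.up ℤ)) η C K
      (fun j => (eK j).some) (fun j => ?_) ?_
    · exact hη _ n (hKge j) fun m => haveI := hKinj j m; TriCat.isRightAcyclic_of_injective _
    · let ee : ∀ m, ∐ (fun j => (K j).X m) ≅ (∐ K).X m := fun m =>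
        (PreservesCoproduct.iso (HomologicalComplex.eval A (ComplexShape.up ℤ) m) K).symm
      refine hη _ n ((CochainComplex.isStrictlyGE_iff _ n).2 fun m hm => ?_) fun m i hi => ?_
      · refine IsZero.of_iso ?_ (ee m).symm
        rw [IsZero.iff_id_eq_zero]
        exact Sigma.hom_ext _ _ fun j => by
          haveI := hKge j
          exact (CochainComplex.isZero_of_isStrictlyGE (K j) n m hm).eq_of_src _ _
      · haveI := hR i
        refine IsZero.of_iso ?_ ((G.rightDerived i).mapIso (ee m).symm ≪≫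
          PreservesCoproduct.iso (G.rightDerived i) fun j => (K j).X m)
        rw [IsZero.iff_id_eq_zero]
        exact Sigma.hom_ext _ _ fun j => by
          haveI := hKinj j m
          exact (TriCat.isRightAcyclic_of_injective (F := G) ((K j).X m) i hi).eq_of_src _ _
  exact PreservesCoproduct.of_iso_comparison (G := ρ ⋙ Φ) (f := C)

end Bounded

section Site

open DerivedCategory

variable {C : Type u} [SmallCategory C] {J : GrothendieckTopology C} {O_C : Sheaf J CommRingCat.{u}}
  {D : Type u} [SmallCategory D] {K : GrothendieckTopology D} {O_D : Sheaf K CommRingCat.{u}}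
  (f : ModSite.RMor O_C O_D) [SiteCmp.HasRpushD f]

/-- The derived direct image commutes with coproducts of complexes with cohomology in a class of
bounded cohomological dimension. -/
theorem preservesColimit_rpushD (A : ObjectProperty (ModSite.Mod O_C)) [A.IsClosedUnderIsomorphisms]
    (hz : ∀ Z, IsZero Z → A Z) {ι : Type u} (hsum : ∀ F : ι → ModSite.Mod O_C, (∀ i, A (F i)) → A (∐ F))
    {B : Set C} (hB : DLim.IsCoveredBy J B) (hA : (DLimA.modData O_C).LocBound A B)
    {B' : Set D} (hB' : DLim.IsCoveredBy K B')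
    (hA' : ∀ V ∈ B', ∃ d : ℕ, ∀ T ∈ K V, ∃ (κ : Type u) (Y : κ → D) (g : ∀ i, Y i ⟶ V),
      (∀ i, T.arrows (g i)) ∧ Sieve.ofArrows Y g ∈ K V ∧
      ∀ (i : κ) (F : ModSite.Mod O_C), A F → ∀ k : ℕ, d < k →
        (DLimA.modData O_C).Vanish (f.fn.obj (Y i)) F k)
    [HasInjectiveResolutions (ModSite.Mod O_C)] (N : ℤ)
    (hN : ∀ F : ModSite.Mod O_C, A F → ∀ p : ℕ, N < (p : ℤ) → IsZero ((f.Rpush p).obj F))
    (hR : ∀ p, PreservesColimitsOfShape (Discrete ι) (f.Rpush p))
    (E : ι → DerivedCategory (ModSite.Mod O_C)) (hE : ∀ i, WSerre.cohIn A (E i)) :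
    PreservesColimit (Discrete.functor E) (SiteCmp.RpushD f) := by
  let R := RpushD.RD (A := ModSite.Mod O_C) (B := ModSite.Mod O_D) f.push
  haveI : R.IsRightAdjoint := H9Misc.RpushLeftAdj.isRightAdjoint_RpushD f
  haveI : PreservesFiniteLimits f.push := inferInstance
  haveI : HasColimitsOfShape (Discrete ι) (DerivedCategory (ModSite.Mod O_C)) := TriCat.hasColimitsOfShape_derivedCategory
  haveI : HasColimitsOfShape (Discrete ι) (DerivedCategory (ModSite.Mod O_D)) := TriCat.hasColimitsOfShape_derivedCategory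
  let HA := fun i => homologyFunctor (ModSite.Mod O_C) i
  let HB := fun i => homologyFunctor (ModSite.Mod O_D) i
  have k4 := fun M (hM : A M) (i : ℤ) (hi : N < i) =>
    DLimA.isZero_homology_RD_single (A := ModSite.Mod O_C) (B := ModSite.Mod O_D)
      f.push M i fun p hp => hN M hM p (by omega)
  have htr : ∀ X, WSerre.cohIn A X → ∀ (n : ℕ) (j : ℤ), N - n ≤ j →
      IsIso ((HB j).map (R.map (CohCx.toTruncTower X n))) := fun X hX n j hj =>
    DLimA.isIso_RD_trunc (A := ModSite.Mod O_C) (B := ModSite.Mod O_D) (G := f.push)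
      (DLimA.modData O_C) (DLimA.modData O_D) hB hA hB' N k4 X hX
      (DLimA.eventBijOn_upstairs (A := ModSite.Mod O_C) (B := ModSite.Mod O_D) f.push
        (DLimA.modData O_C) (DLimA.modData O_D) f.adj (H9Misc.RpushLeftAdj.exists_good f)
        (DLimA.good_freeAt f) f.fn.obj (DLimA.nonempty_pull_freeAt_iso f) hA' X hX) n j hj
  suffices IsIso (sigmaComparison R E) from PreservesCoproduct.of_iso_comparison (G := R) (f := E)
  refine (DerivedCategory.isIso_iff _ _).2 fun k => ?_
  let n := (N - k).toNat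
  let T := fun i => CohCx.truncTower (E i) n
  let π := fun i => CohCx.toTruncTower (E i) n
  have hT : ∀ i, (T i).IsGE (-(n : ℤ)) := fun i => DerivedCategory.TStructure.t.isGE_truncGE_obj ..
  haveI := fun p => hR p
  haveI : PreservesColimit (Discrete.functor T) R :=
    preservesColimit_RD_of_isGE (A := ModSite.Mod O_C) (B := ModSite.Mod O_D) f.push hR T _ hT
  have hsig : ∀ X : ι → DerivedCategory (ModSite.Mod O_C), (∀ i, WSerre.cohIn A (X i)) →
      WSerre.cohIn A (∐ X) := fun X hX q => by
    haveI := KFlatLib.preservesColimit_homology X q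
    exact A.prop_of_iso (PreservesCoproduct.iso (HA q) X).symm (hsum _ fun i => hX i q)
  have hgT : (∐ T).IsGE (-(n : ℤ)) := (DerivedCategory.isGE_iff _ _).2 fun q hq => by
    haveI := KFlatLib.preservesColimit_homology T q
    refine IsZero.of_iso ?_ (PreservesCoproduct.iso (HA q) T)
    rw [IsZero.iff_id_eq_zero]
    exact Sigma.hom_ext _ _ fun i => (isZero_of_isGE (T i) (-(n : ℤ)) q hq).eq_of_src _ _
  let g : ∐ E ⟶ ∐ T := Limits.Sigma.map π
  -- the sum of the truncations is the truncation of the sum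
  let g' : CohCx.truncTower (∐ E) n ⟶ CohCx.truncTower (∐ T) n :=
    ((DerivedCategory.TStructure.t).truncGE (-(n : ℤ))).map g
  have hnat : g ≫ CohCx.toTruncTower (∐ T) n = CohCx.toTruncTower (∐ E) n ≫ g' :=
    ((DerivedCategory.TStructure.t).truncGEπ (-(n : ℤ))).naturality g
  haveI : IsIso g' := (DerivedCategory.isIso_iff _ g').2 fun q => by
    by_cases hq : -(n : ℤ) ≤ q
    · haveI := DLimA.isIso_toTruncTower (∐ E) n q hq
      haveI := DLimA.isIso_toTruncTower (∐ T) n q hq
      haveI : IsIso ((HA q).map g) := by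
        haveI := KFlatLib.preservesColimit_homology E q
        haveI := KFlatLib.preservesColimit_homology T q
        exact KFlatLib.isIso_map_sigmaMap (HA q) E T π fun i => DLimA.isIso_toTruncTower (E i) n q hq
      have : IsIso ((HA q).map (CohCx.toTruncTower (∐ E) n) ≫ (HA q).map g') := by
        rw [← Functor.map_comp, ← hnat, Functor.map_comp]
        infer_instance
      exact IsIso.of_isIso_comp_left ((HA q).map (CohCx.toTruncTower (∐ E) n)) _
    · haveI : (CohCx.truncTower (∐ E) n).IsGE (-(n : ℤ)) := DerivedCategory.TStructure.t.isGE_truncGE_obj ..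
      haveI : (CohCx.truncTower (∐ T) n).IsGE (-(n : ℤ)) := DerivedCategory.TStructure.t.isGE_truncGE_obj ..
      exact ⟨0, (isZero_of_isGE (CohCx.truncTower (∐ E) n) (-(n : ℤ)) q (by omega)).eq_of_src _ _,
        (isZero_of_isGE (CohCx.truncTower (∐ T) n) (-(n : ℤ)) q (by omega)).eq_of_src _ _⟩
  haveI : IsIso ((HB k).map (R.map g)) := by
    haveI := htr (∐ E) (hsig E hE) n k (by omega)
    haveI : IsIso (CohCx.toTruncTower (∐ T) n) := (DerivedCategory.isIso_iff _ _).2 fun q => by
      by_cases hq : -(n : ℤ) ≤ q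
      · exact DLimA.isIso_toTruncTower (∐ T) n q hq
      · haveI : (CohCx.truncTower (∐ T) n).IsGE (-(n : ℤ)) := DerivedCategory.TStructure.t.isGE_truncGE_obj ..
        exact ⟨0, (isZero_of_isGE (∐ T) (-(n : ℤ)) q (by omega)).eq_of_src _ _,
          (isZero_of_isGE (CohCx.truncTower (∐ T) n) (-(n : ℤ)) q (by omega)).eq_of_src _ _⟩
    have e : g = (CohCx.toTruncTower (∐ E) n ≫ g') ≫ inv (CohCx.toTruncTower (∐ T) n) := by
      rw [← hnat, Category.assoc, IsIso.hom_inv_id, Category.comp_id]
    rw [e]
    simp only [Functor.map_comp]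
    infer_instance
  have hsq : sigmaComparison R E ≫ R.map g =
      Limits.Sigma.map (fun i => R.map (π i)) ≫ sigmaComparison R T := by
    refine Sigma.hom_ext _ _ fun i => ?_
    rw [ι_comp_sigmaComparison_assoc, Sigma.ι_map_assoc, ι_comp_sigmaComparison, ← R.map_comp, ← R.map_comp]
    exact congrArg R.map (Sigma.ι_map π i)
  haveI : IsIso ((HB k).map (Limits.Sigma.map fun i => R.map (π i))) := by
    haveI := KFlatLib.preservesColimit_homology (fun i => R.obj (E i)) k
    haveI := KFlatLib.preservesColimit_homology (fun i => R.obj (T i)) k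
    exact KFlatLib.isIso_map_sigmaMap (HB k) _ _ _ fun i => htr (E i) (hE i) n k (by omega)
  have h : IsIso ((HB k).map (sigmaComparison R E) ≫ (HB k).map (R.map g)) := by
    rw [← Functor.map_comp, hsq, Functor.map_comp]
    infer_instance
  exact IsIso.of_isIso_comp_right ((HB k).map (sigmaComparison R E)) ((HB k).map (R.map g))

end Site

end Groth.Agent.H26.CoprodGen
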