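import Groth.Agent.H26.FMod.TorsGood
import Groth.Agent.H9Misc.KosTel
import Groth.Prelude.Def_DerComp

/-!
# The sheaf of ideals of definition
-/

noncomputable section

set_option autoImplicit false
set_option maxHeartbeats 1000000
set_option linter.style.haveILetI false
set_option backward.isDefEq.respectTransparency false
set_option backward.isDefEq.respectTransparency.types false

universe u

open CategoryTheory CategoryTheory.Limits TopologicalSpace Opposite AlgebraicGeometry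
open Groth.Agent.ModTensor Groth.Agent.ModPull Groth.Agent.SecGen

namespace Groth.Agent.H26.FMod

variable {𝔛 : FSch.Sys.{u}} (h : 𝔛.IsLocNoethFormal)

/-- The kernel of the projection to the smallest level, as a sheaf of ideals. -/
def defIdeal : DerComp.IdealSh (𝔛.Osh h.1) where
  ideal U := Jd h.1 U
  map_mem {U V} g {f} hf := by
    show res (hF := h.1) (leOfHom g) f ∈ Jd h.1 V
    exact RingHom.mem_ker.2 (by rw [pr_res, RingHom.mem_ker.1 hf, map_zero])
  glue {U f} S hS hf := by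
    rw [RingHom.mem_ker]
    refine (𝔛.X 0).sheaf.eq_of_locally_eq' (fun p : {p : Σ V : (𝔛.X 0).Opens, (V ⟶ U) // S p.2} => 𝔛.lvU h.1 0 p.1.1)
      (𝔛.lvU h.1 0 U) (fun p => (Opens.map (𝔛.gInv h.1 0)).map p.1.2) (fun y hy => ?_) _ _ fun p => ?_
    · obtain ⟨V, g, hg, hyV⟩ := hS _ ((lvU_zero (hF := h.1) U).le hy)
      exact Opens.mem_iSup.2 ⟨⟨⟨V, g⟩, hg⟩, (lvU_zero (hF := h.1) V).ge hyV⟩
    · rw [map_zero]
      refine Eq.trans ?_ (RingHom.mem_ker.1 (hf p.1.2 p.2))
      exact (pr_res (hF := h.1) 0 (leOfHom p.1.2) f).symm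

/-- The ideal of definition on a smaller affine open. -/
lemma mem_defIdeal_of_span {A : (𝔛.X 0).Opens} (hA : IsAffineOpen A) (b : Rg h.1 A) {q : ℕ} (g : Fin q → Rg h.1 A)
    (hg : Ideal.span (Set.range g) = Jd h.1 A) (f : Rg h.1 (D h.1 b)) (hf : f ∈ Jd h.1 (D h.1 b)) :
    f ∈ Ideal.span (Set.range fun i => res (D_le b) (g i)) := by
  rw [← Jd_map h hA b, ← hg, Ideal.map_span, ← Set.range_comp] at hf
  exact hf

include h in
/-- The ideal of definition is of finite type. -/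
theorem isFiniteType_defIdeal : (defIdeal h).IsFiniteType := by
  classical
  intro U
  refine ⟨{ arrows := fun V _ => ∃ A : (𝔛.X 0).Opens, IsAffineOpen A ∧ V ≤ A
            downward_closed := fun ⟨A, hA, hVA⟩ k => ⟨A, hA, (leOfHom k).trans hVA⟩ }, fun y hy => ?_, fun V g hg => ?_⟩
  · obtain ⟨_, ⟨A, hA, rfl⟩, hyA, hle⟩ := (𝔛.X 0).isBasis_affineOpens.exists_subset_of_mem_open hy U.2
    exact ⟨A, homOfLE hle, ⟨A, hA, le_rfl⟩, hyA⟩
  obtain ⟨A, hA, hVA⟩ := hg
  haveI := noetherian h hA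
  obtain ⟨q, a, ha⟩ := Submodule.fg_iff_exists_fin_generating_family.1 (IsNoetherian.noetherian (Jd h.1 A))
  refine ⟨q, fun i => res hVA (a i), fun i W => ?_, fun I' hI' W f hf => ?_⟩
  · exact (defIdeal h).map_mem W.hom ((defIdeal h).map_mem (homOfLE hVA)
      (show a i ∈ Jd h.1 A by rw [← ha]; exact Submodule.subset_span ⟨i, rfl⟩))
  · have hWV : W.left ≤ V := leOfHom W.hom
    refine I'.glue (U := W) (f := f) ((Sieve.overEquiv W).symm
      { arrows := fun X' _ => ∃ b : Rg h.1 A, X' ≤ D h.1 b ∧ D h.1 b ≤ W.left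
        downward_closed := fun ⟨b, hX, hb⟩ k => ⟨b, (leOfHom k).trans hX, hb⟩ }) ?_ fun Z k hk => ?_
    · refine GrothendieckTopology.overEquiv_symm_mem_over _ _ _ ?_
      intro y hy
      obtain ⟨b, hyb, hb⟩ := exists_D h hA (hWV.trans hVA) hy
      exact ⟨D h.1 b, homOfLE hb, ⟨b, le_rfl, hb⟩, hyb⟩
    · obtain ⟨b, hZb, hb⟩ := (Sieve.overEquiv_symm_iff _ _).1 hk
      let Z' : Over V := Over.mk (homOfLE (hb.trans hWV))
      have h1 : res (hF := h.1) hb f ∈ I'.ideal Z' := by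
        have h2 := mem_defIdeal_of_span h hA b a ha _ ((defIdeal h).map_mem (homOfLE hb) hf)
        refine (Ideal.span_le (I := I'.ideal Z')).2 ?_ h2
        rintro _ ⟨i, rfl⟩
        have h3 := hI' i Z'
        refine (congrArg (· ∈ I'.ideal Z') ?_).mp h3
        exact GStab.ρ_ρ (O := 𝔛.Osh h.1) hVA (hb.trans hWV) (a i)
      have h4 := I'.map_mem (Over.homMk (homOfLE hZb) : Z ⟶ Z') h1
      refine (congrArg (· ∈ I'.ideal Z) ?_).mp h4
      exact GStab.ρ_ρ (O := 𝔛.Osh h.1) hb hZb f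

open Groth.Agent.H9Misc.Kos in
include h in
/-- Sections killed by powers of local generators of the ideal of definition are torsion. -/
theorem isTorsSect_of_genPair {V : (𝔛.X 0).Opens} {l : List (Rg h.1 V)} (hl : GenPair (defIdeal h) V l) (K : ℕ)
    {M : FSch.ModF 𝔛 h.1} {W : (𝔛.X 0).Opens} (hW : W ≤ V) (x : Sec M W)
    (hx : ∀ a ∈ l, res hW a ^ K • x = 0) : FTors.IsTorsSect (opI h) M (U := W) x := by
  classical
  refine (FTors.IsTorsSect.iff_exists _).2 (GStab.locally_of_point (P := fun W' k => ∃ n,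
    FTors.KilledBy (opI h) M n (V := W') (FTors.res M k x)) (fun y hy => ?_)
    fun W₁ W₂ k' k ⟨n, hn⟩ => ⟨n, by rw [FTors.res_comp]; exact hn.res k⟩)
  obtain ⟨_, ⟨A, hA, rfl⟩, hyA, hAW⟩ := (𝔛.X 0).isBasis_affineOpens.exists_subset_of_mem_open hy W.2
  haveI := noetherian h hA
  obtain ⟨q, g, hg⟩ := Submodule.fg_iff_exists_fin_generating_family.1 (IsNoetherian.noetherian (Jd h.1 A))
  obtain ⟨S, hS, hSp⟩ := ModPull.Locally.forall_fintype (J := Opens.grothendieckTopology (𝔛.X 0)) (W := A)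
    (P := fun (i : Fin q) X' (k : X' ⟶ A) =>
      ((𝔛.Osh h.1).obj.map k.op).hom (g i) ∈ spanAt l (k ≫ homOfLE (hAW.trans hW))) fun i => by
    obtain ⟨S, hS, hs⟩ := hl.loc (homOfLE (hAW.trans hW)) (g i) (show g i ∈ Jd h.1 A by rw [← hg]; exact Submodule.subset_span ⟨i, rfl⟩)
    exact ⟨S, hS, hs⟩
  obtain ⟨W', k, hk, hyW'⟩ := hS y hyA
  have hW'A : W' ≤ A := leOfHom k
  let z : Sec M W' := resM M (hW'A.trans hAW) x
  let A' := LinearMap.ker (LinearMap.toSpanSingleton (Rg h.1 W') (Sec M W') z)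
  have hle : spanAt l (k ≫ homOfLE (hAW.trans hW)) ≤ Ideal.radical A' := by
    refine Ideal.span_le.2 ?_
    rintro _ ⟨a, ha, rfl⟩
    refine ⟨K, ?_⟩
    have h1 := congrArg (resM M (hW'A.trans hAW)) (hx a ha)
    rw [show resM M (hW'A.trans hAW) (res hW a ^ K • x) = res (hW'A.trans hAW) (res hW a ^ K) • z from
      rs_smul (homOfLE (hW'A.trans hAW)).op _ x, map_pow, GStab.ρ_ρ] at h1
    exact h1.trans (map_zero _)
  have hrad : ∀ i, ∃ n, res hW'A (g i) ^ n • z = 0 := fun i => hle (hSp k hk i)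
  choose n hn using hrad
  obtain ⟨W₂, hW₂, hyW₂, N, hN⟩ := GStab.point_of_locally ((FTors.IsTorsSect.iff_exists _).1
    ((gens_of_span h hA g hg).tors M W' hW'A z (Finset.univ.sup n) fun i =>
      GStab.pow_smul_eq_zero (Finset.le_sup (Finset.mem_univ i)) (hn i))) hyW'
  refine ⟨W₂, hW₂.trans (hW'A.trans hAW), hyW₂, N, ?_⟩
  convert hN using 1
  exact FTors.res_comp M _ _ x

end Groth.Agent.H26.FMod
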