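import Groth.Agent.H26.FMod.IndAcyclic
import Groth.Agent.QCoh.Ab.MV
import Groth.Agent.SiteBase.DLimA.PushData

/-!
# Cohomological dimension of maps of formal schemes on ind-coherent modules
-/

noncomputable section

set_option autoImplicit false
set_option maxHeartbeats 1000000
set_option linter.style.haveILetI false
set_option backward.isDefEq.respectTransparency false
set_option backward.isDefEq.respectTransparency.types false

universe u

open CategoryTheory CategoryTheory.Limits TopologicalSpace Opposite AlgebraicGeometry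

namespace Groth.Agent.H26.Dim

variable {X : Scheme.{u}}

/-- Abelian sheaves acyclic on affine opens. -/
def AcAff (F : CohTop.Ab X.toPresheafedSpace.carrier) : Prop :=
  ∀ V : X.Opens, IsAffineOpen V → ∀ n : ℕ,
    Subsingleton (CohTop.HU (X := X.toPresheafedSpace.carrier) F (n + 1) V)

/-- Vanishing on a union of `t` members of a family of affines stable under intersection. -/
theorem subsingleton_HU_iSup {F : CohTop.Ab X.toPresheafedSpace.carrier} (hF : AcAff F) (Q : X.Opens → Prop)
    (hQa : ∀ V, Q V → IsAffineOpen V) (hQi : ∀ V W, Q V → Q W → Q (V ⊓ W)) :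
    ∀ (t : ℕ) (U : Fin t → X.Opens), (∀ i, Q (U i)) → ∀ n : ℕ, t ≤ n →
      Subsingleton (CohTop.HU (X := X.toPresheafedSpace.carrier) F n (⨆ i, U i)) := by
  intro t
  induction t with
  | zero =>
    intro U _ n _
    rw [show (⨆ i, U i) = ⊥ by simp]
    match n with
    | 0 => exact QCoh.Ab.subsingleton_HU_zero_bot _
    | n + 1 => exact hF _ (isAffineOpen_bot X) n
  | succ t ih =>
    intro U hU n hn
    obtain ⟨m, rfl⟩ := Nat.exists_eq_add_of_le (show 1 ≤ n by omega)
    rw [Nat.add_comm, show (⨆ i, U i) = U 0 ⊔ ⨆ i : Fin t, U i.succ from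
      le_antisymm (iSup_le fun i => Fin.cases le_sup_left
        (fun j => le_sup_of_le_right (le_iSup (fun i : Fin t => U i.succ) j)) i)
        (sup_le (le_iSup _ _) (iSup_le fun i => le_iSup _ _))]
    refine QCoh.Ab.subsingleton_HU_sup _ _ _ m (hF _ (hQa _ (hU 0)) m)
      (ih _ (fun i => hU i.succ) (m + 1) (by omega)) ?_
    rw [inf_iSup_eq]
    exact ih _ (fun i => hQi _ _ (hU 0) (hU i.succ)) m (by omega)

/-- A quasi-compact quasi-separated open has cohomological dimension bounded uniformly on its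
basic opens. -/
theorem exists_bound (T : X.Opens) (hT : IsCompact (T : Set X))
    (hT' : IsQuasiSeparated (T : Set X)) :
    ∃ d : ℕ, ∀ g : Γ(X, T), ∀ F : CohTop.Ab X.toPresheafedSpace.carrier, AcAff F → ∀ p, d ≤ p →
      Subsingleton (CohTop.HU (X := X.toPresheafedSpace.carrier) F p (X.basicOpen g)) := by
  obtain ⟨s, hs, hsT⟩ := isCompact_iff_finite_and_eq_biUnion_affineOpens.mp hT
  have hle : ∀ U ∈ s, (U : X.affineOpens).1 ≤ T := fun U hU => by
    rw [hsT]; exact le_iSup₂ (f := fun (i : X.affineOpens) (_ : i ∈ s) => (i : X.Opens)) U hU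
  suffices h : ∀ s' : Set X.affineOpens, s'.Finite → s' ⊆ s → ∃ d : ℕ, ∀ g : Γ(X, T),
      ∀ F : CohTop.Ab X.toPresheafedSpace.carrier, AcAff F → ∀ p, d ≤ p →
      Subsingleton (CohTop.HU (X := X.toPresheafedSpace.carrier) F p
        ((⨆ U ∈ s', (U : X.Opens)) ⊓ X.basicOpen g)) by
    obtain ⟨d, hd⟩ := h s hs subset_rfl
    refine ⟨d, fun g F hF p hp => ?_⟩
    have := hd g F hF p hp
    rwa [← hsT, inf_eq_right.2 (X.basicOpen_le g)] at this
  intro s' hs'
  induction s', hs' using Set.Finite.induction_on with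
  | empty =>
    refine fun _ => ⟨0, fun g F hF p _ => ?_⟩
    have h := subsingleton_HU_iSup hF (fun _ => False) (fun _ h => h.elim)
      (fun _ _ h _ => h.elim) 0 Fin.elim0 (fun i => i.elim0) p (Nat.zero_le p)
    rw [iSup_of_empty] at h
    simpa using h
  | @insert U₀ s' _ hs' ih =>
    intro hsub
    obtain ⟨d, hd⟩ := ih ((Set.subset_insert _ _).trans hsub)
    obtain ⟨U, hU⟩ := U₀
    have hUT : U ≤ T := hle ⟨U, hU⟩ (hsub (Set.mem_insert _ _))
    let S : X.Opens := ⨆ V ∈ s', (V : X.Opens)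
    have hST : S ≤ T := iSup₂_le fun V hV => hle V (hsub (Set.mem_insert_of_mem _ hV))
    have hS : IsCompact (S : Set X) :=
      isCompact_iff_finite_and_eq_biUnion_affineOpens.mpr ⟨s', hs', rfl⟩
    let K : X.Opens := S ⊓ U
    choose f hf hxf using fun x : (K : Set X) => hU.exists_basicOpen_le (V := K) ⟨x.1, x.2⟩ x.2.2
    obtain ⟨t, ht⟩ := (hT' _ _ hST S.isOpen hS hUT U.isOpen hU.isCompact :
        IsCompact (K : Set X)).elim_finite_subcover
      (fun x => (X.basicOpen (f x) : Set X)) (fun x => (X.basicOpen (f x)).isOpen)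
      (fun x hx => Set.mem_iUnion.2 ⟨⟨x, hx⟩, hxf ⟨x, hx⟩⟩)
    refine ⟨max (d + 1) (t.card + 1), fun g F hF p hp => ?_⟩
    let gU : Γ(X, U) := X.presheaf.map (homOfLE hUT).op g
    have hgU : X.basicOpen gU = U ⊓ X.basicOpen g := Scheme.basicOpen_res _ _ _
    let V : Fin t.card → X.Opens := fun i => X.basicOpen (f (t.equivFin.symm i).1 * gU)
    have hK : K ⊓ X.basicOpen g = ⨆ i, V i := by
      refine le_antisymm (fun x hx => ?_) (iSup_le fun i => ?_)
      · obtain ⟨y, hy, hxy⟩ := Set.mem_iUnion₂.1 (ht hx.1)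
        refine (le_iSup V (t.equivFin ⟨y, hy⟩)) ?_
        simp only [V, Equiv.symm_apply_apply, Scheme.basicOpen_mul, hgU]
        exact ⟨hxy, hx.1.2, hx.2⟩
      · simp only [V, Scheme.basicOpen_mul, hgU]
        exact inf_le_inf (hf _) inf_le_right
    obtain ⟨m, rfl⟩ := Nat.exists_eq_add_of_le (show 1 ≤ p by omega)
    rw [Nat.add_comm, iSup_insert, inf_sup_right]
    refine QCoh.Ab.subsingleton_HU_sup _ _ _ m ?_ (hd g F hF _ (by omega)) ?_
    · rw [← hgU]
      exact hF _ (hU.basicOpen gU) m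
    · rw [show (U ⊓ X.basicOpen g) ⊓ (S ⊓ X.basicOpen g) = ⨆ i, V i from by
        rw [← hK]
        exact le_antisymm (le_inf (le_inf (inf_le_right.trans inf_le_left)
          (inf_le_left.trans inf_le_left)) (inf_le_left.trans inf_le_right))
          (le_inf (inf_le_inf_right _ inf_le_right) (inf_le_inf_right _ inf_le_left))]
      refine subsingleton_HU_iSup hF (fun W => ∃ g : Γ(X, U), W = X.basicOpen g) ?_ ?_ _ V
        (fun i => ⟨_, rfl⟩) m (by omega)
      · rintro _ ⟨g, rfl⟩; exact hU.basicOpen g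
      · rintro _ _ ⟨g, rfl⟩ ⟨g', rfl⟩; exact ⟨g * g', (X.basicOpen_mul g g').symm⟩

end Groth.Agent.H26.Dim
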