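import Groth.Agent.H26.FMod.ProperML

/-!
# The filtration of the cohomology by the levels
-/

noncomputable section

set_option autoImplicit false
set_option maxHeartbeats 1000000
set_option linter.style.haveILetI false
set_option backward.isDefEq.respectTransparency false
set_option backward.isDefEq.respectTransparency.types false

universe u

open CategoryTheory CategoryTheory.Limits TopologicalSpace Opposite AlgebraicGeometry CategoryTheory.Abelian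
open Groth.Agent.ModTensor Groth.Agent.ModPull
open Groth.Agent.PnCoh.Finite (mapLin)

attribute [local instance] Groth.Agent.QCoh.hasFiniteBiproducts

namespace Groth.Agent.H26.FMod

variable {𝔛 : FSch.Sys.{u}} (h : 𝔛.IsLocNoethFormal) {𝔉 : FSch.ModF 𝔛 h.1}
  (h𝔉 : FSch.IsCohF 𝔛 h.1 𝔉)

/-- The class on a level. -/
abbrev uH (p k : ℕ) : Sheaf.H ((Sh h.1).obj 𝔉) p →+ Sheaf.H (lvS h.1 𝔉 k) p :=
  Sheaf.H.map ((Sh h.1).map (toLvl k 𝔉)) p

/-- Multiplication on classes. -/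
abbrev mH (p : ℕ) (r : Rg h.1 ⊤) : Sheaf.H ((Sh h.1).obj 𝔉) p →+ Sheaf.H ((Sh h.1).obj 𝔉) p :=
  Sheaf.H.map ((Sh h.1).map (smulF r 𝔉)) p

lemma uH_trans (p k : ℕ) (x : Sheaf.H ((Sh h.1).obj 𝔉) p) :
    Sheaf.H.map (lvT h.1 𝔉 k) p (uH h p (k + 1) x) = uH h p k x :=
  (Sheaf.H.map_comp_apply _ _ x).symm.trans (GradedML.map_congr'
    (((Sh h.1).map_comp _ _).symm.trans (congrArg (Sh h.1).map (FSch.unit_levelTrans 𝔛 h.1 𝔉 k))) p x)

lemma mH_uH (p k : ℕ) (r : Rg h.1 ⊤) (x : Sheaf.H ((Sh h.1).obj 𝔉) p) :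
    uH h p k (mH h p r x) = Sheaf.H.map ((Sh h.1).map (smulF r (lvl k 𝔉))) p (uH h p k x) :=
  (Sheaf.H.map_comp_apply _ _ x).symm.trans ((GradedML.map_congr'
    (((Sh h.1).map_comp _ _).symm.trans ((congrArg (Sh h.1).map (smulF_naturality r (toLvl k 𝔉))).trans
      ((Sh h.1).map_comp _ _))) p x).trans (Sheaf.H.map_comp_apply _ _ x))

lemma mH_uH_succ (p k : ℕ) (r : Rg h.1 ⊤) (hr : ∀ U, IsAffineOpen U → rTop r U ∈ Jd h.1 U)
    (x : Sheaf.H ((Sh h.1).obj 𝔉) p) :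
    uH h p (k + 1) (mH h p r x) =
      Sheaf.H.map ((Sh h.1).map (muq h h𝔉 r hr (k + 1))) p (uH h p k x) := by
  have e1 : toLvl k 𝔉 ≫ muq h h𝔉 r hr (k + 1) = smulF r 𝔉 ≫ toLvl (k + 1) 𝔉 :=
    (congrArg (· ≫ muq h h𝔉 r hr (k + 1)) (toLvl_tq h k).symm).trans
      ((Category.assoc _ _ _).trans ((congrArg (_ ≫ ·) (tq_muq h h𝔉 r hr (k + 1))).trans
        (smulF_naturality r (toLvl (k + 1) 𝔉)).symm))
  exact (Sheaf.H.map_comp_apply _ _ x).symm.trans ((GradedML.map_congr'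
    (((Sh h.1).map_comp _ _).symm.trans ((congrArg (Sh h.1).map e1.symm).trans ((Sh h.1).map_comp _ _))) p x).trans
      (Sheaf.H.map_comp_apply _ _ x))

variable {A : Type u} [CommRing A] {J : Ideal A} (f : 𝔛 ⟶ FSch.spf A J) [IsNoetherianRing A]
  (hf : FSch.IsProperHom f)

include h𝔉 hf in
/-- In high degrees the filtration is generated by the ideal of definition. -/
theorem exists_gen_filt {s : ℕ} (a : Fin s → A) (ha : Ideal.span (Set.range a) = J) (p : ℕ) :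
    ∃ d, 1 ≤ d ∧ ∀ n, d ≤ n → ∀ x : Sheaf.H ((Sh h.1).obj 𝔉) p, uH h p n x = 0 →
      ∃ y : Fin s → Sheaf.H ((Sh h.1).obj 𝔉) p, (∀ i, uH h p (n - 1) (y i) = 0) ∧
        uH h p (n + 1) (x - ∑ i, mH h p (rA f h.1 (a i)) (y i)) = 0 := by
  classical
  let r : Fin s → Rg h.1 ⊤ := fun i => rA f h.1 (a i)
  have hJ : ∀ U, IsAffineOpen U → Jd h.1 U = Ideal.span (Set.range fun i => rTop (r i) U) :=
    Jd_eq_span f h hf.1 a ha
  letI : (𝔛.X 0).Over (Spec (CommRingCat.of A)) := ⟨pA f 0⟩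
  haveI hp : IsProper ((f : FSch.Hom 𝔛 _).app 0) := hf.2
  haveI : IsClosedImmersion (FSch.spfToSpec A J 0) :=
    IsClosedImmersion.spec_of_surjective (CommRingCat.ofHom (Ideal.Quotient.mk (J ^ (0 + 1)))) Ideal.Quotient.mk_surjective
  haveI : IsProper (𝔛.X 0 ↘ Spec (CommRingCat.of A)) :=
    inferInstanceAs (IsProper ((f : FSch.Hom 𝔛 _).app 0 ≫ FSch.spfToSpec A J 0))
  haveI := h.2.2 0
  haveI : CompactSpace (𝔛.X 0) := QuasiCompact.compactSpace_of_compactSpace (𝔛.X 0 ↘ Spec (CommRingCat.of A))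
  haveI : IsNoetherian (𝔛.X 0) := {}
  let S := sysC h h𝔉 r hJ
  have hS : ∀ n, Coh.IsCoh (S.G n) := fun n => isCoh_pullK 0 _ (isCohF_Cq h h𝔉 n)
  have hfin : ∀ M : (𝔛.X 0).Modules, Coh.IsCoh M → ∀ q, Module.Finite A (Coh.HH (𝔛.X 0) M q) :=
    fun M hM q => S0002.result A (𝔛.X 0) M hM q
  obtain ⟨d₀, hgen⟩ := FFun.Gen.exists_genHH (A := A) hfin p S hS 0 (genFrom_sysC h h𝔉 r hJ)
  haveI : ∀ n, Module.Finite A (Coh.HH (𝔛.X 0) (Gq h 𝔉 n) p) := fun n => hfin _ (hS n) _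
  -- classes of the graded pieces inside the levels
  let iK : ∀ n, Coh.HH (𝔛.X 0) (Gq h 𝔉 n) p →+ Sheaf.H (lvS h.1 𝔉 n) p := fun n =>
    (Sheaf.H.map (kernel.ι (GradedML.P (Fq h 𝔉) (Nat.le_succ n))) p).comp (psi h p n (cmpK h h𝔉 n))
  have hT : ∀ n i x, iK (n + 1) (mapLin A (S.t n i) p x) =
      Sheaf.H.map ((Sh h.1).map (muq h h𝔉 (r i) (rTop_mem h r hJ i) (n + 1))) p (iK n x) := fun n i x => by
    refine (congrArg (Sheaf.H.map (kernel.ι (GradedML.P (Fq h 𝔉) (Nat.le_succ (n + 1)))) p)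
      (psi_natural h p n (n + 1) (cmpK h h𝔉 n) (cmpK h h𝔉 (n + 1)) _ _
        (cmpK_natural h h𝔉 _ _ (kn_shiftq h h𝔉 r hJ i n)) x)).trans ?_
    refine (Sheaf.H.map_comp_apply _ _ _).symm.trans (Eq.trans ?_ (Sheaf.H.map_comp_apply _ _ _))
    exact GradedML.map_congr' (kernel.lift_ι _ _ _) _ _
  have hA : ∀ n (b : A) x, iK n (b • x) =
      Sheaf.H.map ((Sh h.1).map (smulF (rA f h.1 b) (lvl n 𝔉))) p (iK n x) := fun n b x => by
    have h1 := psi_natural h p n n (cmpK h h𝔉 n) (cmpK h h𝔉 n) _ _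
      (cmpK_natural h h𝔉 _ _ (kn_smul h (rA f h.1 b) n)) x
    have h2 : (b • x : Coh.HH (𝔛.X 0) (Gq h 𝔉 n) p) =
        Sheaf.H.map ((SheafOfModules.toSheaf (𝔛.X 0).ringCatSheaf).map
          ((FSch.levelMor 𝔛 h.1 0).pull.map (smulF (rA f h.1 b) (Cq h 𝔉 n)))) p x := by
      rw [pull_smulF, pr_rA]
      rfl
    refine (congrArg (Sheaf.H.map (kernel.ι (GradedML.P (Fq h 𝔉) (Nat.le_succ n))) p)
      ((congrArg (psi h p n (cmpK h h𝔉 n)) h2).trans h1)).trans ?_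
    refine (Sheaf.H.map_comp_apply _ _ _).symm.trans (Eq.trans ?_ (Sheaf.H.map_comp_apply _ _ _))
    exact GradedML.map_congr' (kernel.lift_ι _ _ _) _ _
  let M : ∀ n, Submodule A (Coh.HH (𝔛.X 0) (Gq h 𝔉 n) p) := fun n =>
    { carrier := {w | ∃ y, uH h p n y = iK n w}
      add_mem' := by rintro w w' ⟨y, hy⟩ ⟨y', hy'⟩; exact ⟨y + y', by rw [map_add, map_add, hy, hy']⟩
      zero_mem' := ⟨0, by rw [map_zero, map_zero]⟩
      smul_mem' := by
        rintro b w ⟨y, hy⟩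
        exact ⟨mH h p (rA f h.1 b) y, by rw [hA, mH_uH, hy]⟩ }
  haveI : ∀ n, Module.Finite A (Coh.HH (𝔛.X 0) (S.G n) p) := fun n => hfin _ (hS n) _
  obtain ⟨d, hd⟩ := FFun.Gen.exists_gen_sub (fun n i => mapLin A (S.t n i) p)
    (fun n i j x => FFun.Gen.HH_comm S p n i j x) hgen M (by
      rintro n i w ⟨y, hy⟩
      exact ⟨mH h p (r i) y, by rw [mH_uH_succ h h𝔉 p n (r i) (rTop_mem h r hJ i), hy, hT]⟩)
  refine ⟨d + 1, Nat.le_add_left 1 d, fun n hn x hx => ?_⟩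
  -- the class comes from the graded piece
  haveI := epi_Fq h h𝔉 (n + 1)
  let T : ShortComplex (CohTop.Ab ((𝔛.X 0).toPresheafedSpace.carrier)) :=
    ShortComplex.mk (kernel.ι (GradedML.P (Fq h 𝔉) (Nat.le_succ (n + 1))))
      (GradedML.P (Fq h 𝔉) (Nat.le_succ (n + 1))) (kernel.condition _)
  have hTe : T.ShortExact := { exact := ShortComplex.exact_kernel _, mono_f := inferInstance, epi_g := epi_Fq h h𝔉 (n + 1) }
  have h0 : Sheaf.H.map (GradedML.P (Fq h 𝔉) (Nat.le_succ (n + 1))) p (uH h p (n + 1) x) = 0 :=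
    (GradedML.map_congr' (P_Fq h (n + 1)) p _).trans ((uH_trans h p n x).trans hx)
  obtain ⟨w₀, hw₀⟩ := Ext.covariant_sequence_exact₂ _ hTe (uH h p (n + 1) x) h0
  obtain ⟨w, rfl⟩ := (bijective_psi h h𝔉 p (n + 1)).2 w₀
  have hw : w ∈ M (n + 1) := ⟨x, hw₀.symm⟩
  have hsup : w ∈ ⨆ i, (M n).map (mapLin A (S.t n i) p) := hd n (by omega) hw
  have key : ∃ y : Fin s → Sheaf.H ((Sh h.1).obj 𝔉) p, (∀ i, uH h p (n - 1) (y i) = 0) ∧
      iK (n + 1) w = uH h p (n + 1) (∑ i, mH h p (r i) (y i)) := by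
    refine Submodule.iSup_induction _ (motive := fun w => ∃ y : Fin s → Sheaf.H ((Sh h.1).obj 𝔉) p,
      (∀ i, uH h p (n - 1) (y i) = 0) ∧ iK (n + 1) w = uH h p (n + 1) (∑ i, mH h p (r i) (y i))) hsup
      (fun i w' hw' => ?_) ⟨fun _ => 0, fun _ => map_zero _, by simp⟩ ?_
    · obtain ⟨z, ⟨y, hy⟩, rfl⟩ := Submodule.mem_map.1 hw'
      have hy0 : uH h p (n - 1) y = 0 := by
        obtain ⟨m, rfl⟩ : ∃ m, n = m + 1 := ⟨n - 1, by omega⟩
        show uH h p m y = 0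
        rw [← uH_trans, hy]
        refine (GradedML.map_congr' (P_Fq h (m + 1)).symm p _).trans ?_
        refine (Sheaf.H.map_comp_apply _ _ _).symm.trans ?_
        exact (GradedML.map_congr' (kernel.condition _) p _).trans (GradedML.map_zero' p _)
      refine ⟨Function.update (fun _ => 0) i y, fun j => ?_, ?_⟩
      · by_cases hj : j = i
        · subst hj; rwa [Function.update_self]
        · rw [Function.update_of_ne hj, map_zero]
      · rw [Finset.sum_eq_single i (fun j _ hj => by rw [Function.update_of_ne hj, map_zero])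
          (fun hh => absurd (Finset.mem_univ i) hh), Function.update_self,
          mH_uH_succ h h𝔉 p n (r i) (rTop_mem h r hJ i), hy]
        exact hT n i z
    · rintro w₁ w₂ ⟨y₁, hy₁, e₁⟩ ⟨y₂, hy₂, e₂⟩
      refine ⟨y₁ + y₂, fun i => by rw [Pi.add_apply, map_add, hy₁, hy₂, add_zero], ?_⟩
      rw [map_add, e₁, e₂, ← map_add, ← Finset.sum_add_distrib]
      simp only [Pi.add_apply, map_add]
  obtain ⟨y, hy, e⟩ := key
  refine ⟨y, hy, ?_⟩
  rw [map_sub, ← e]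
  exact sub_eq_zero.2 hw₀.symm

include h𝔉 hf in
/-- Classes that lift far come from classes of the module. -/
theorem exists_stable_lift (hJ : J.FG) (p : ℕ) :
    ∃ c, ∀ (k : ℕ) (y : Sheaf.H (lvS h.1 𝔉 (k + c)) p),
      ∃ x : Sheaf.H ((Sh h.1).obj 𝔉) p, uH h p k x = trH h (𝔉 := 𝔉) p (Nat.le_add_right k c) y := by
  obtain ⟨c, hc⟩ := exists_lift h h𝔉 f hf hJ p
  refine ⟨c, fun k y => ?_⟩
  have step : ∀ j (w : Sheaf.H (lvS h.1 𝔉 (k + c + j)) p), ∃ w' : Sheaf.H (lvS h.1 𝔉 (k + c + (j + 1))) p,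
      trH h (𝔉 := 𝔉) p (show k + j ≤ k + c + (j + 1) by omega) w' =
        trH h (𝔉 := 𝔉) p (show k + j ≤ k + c + j by omega) w := fun j w => by
    obtain ⟨w', hw'⟩ := hc (k := k + j + 1) (a := k + c + j + 1) (by omega) w (k + c + (j + 1) + 1) (by omega)
    exact ⟨w', hw'⟩
  choose g hg using step
  let w : ∀ j, Sheaf.H (lvS h.1 𝔉 (k + c + j)) p :=
    fun j => Nat.rec (motive := fun j => Sheaf.H (lvS h.1 𝔉 (k + c + j)) p) y g j
  let z : ∀ i, Sheaf.H (lvS h.1 𝔉 i) p := fun i =>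
    trH h (𝔉 := 𝔉) p (show i ≤ k + c + i by omega) (w i)
  have hz : ∀ i, Sheaf.H.map (lvT h.1 𝔉 i) p (z (i + 1)) = z i := fun i => by
    rw [trH_succ]
    refine (map_PP (Fq h 𝔉) (Nat.succ_le_succ (Nat.le_succ i)) (Nat.succ_le_succ (show i + 1 ≤ k + c + (i + 1) by omega)) p (w (i + 1))).trans ?_
    refine (map_PP (Fq h 𝔉) (Nat.succ_le_succ (show i ≤ k + i by omega))
      (Nat.succ_le_succ (show k + i ≤ k + c + (i + 1) by omega)) p (w (i + 1))).symm.trans ?_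
    refine (congrArg (trH h (𝔉 := 𝔉) p (show i ≤ k + i by omega)) (hg i (w i))).trans ?_
    exact map_PP (Fq h 𝔉) (Nat.succ_le_succ (show i ≤ k + i by omega))
      (Nat.succ_le_succ (show k + i ≤ k + c + i by omega)) p (w i)
  obtain ⟨x, hx⟩ := exists_HF_lift h 𝔉 h𝔉 p z hz
  refine ⟨x, (hx k).trans ?_⟩
  have hk : ∀ j, trH h (𝔉 := 𝔉) p (show k ≤ k + c + j by omega) (w j) =
      trH h (𝔉 := 𝔉) p (Nat.le_add_right k c) y := by
    intro j
    induction j with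
    | zero => rfl
    | succ j ih =>
      rw [← ih]
      refine (map_PP (Fq h 𝔉) (Nat.succ_le_succ (show k ≤ k + j by omega))
        (Nat.succ_le_succ (show k + j ≤ k + c + (j + 1) by omega)) p (w (j + 1))).symm.trans ?_
      refine (congrArg (trH h (𝔉 := 𝔉) p (show k ≤ k + j by omega)) (hg j (w j))).trans ?_
      exact map_PP (Fq h 𝔉) (Nat.succ_le_succ (show k ≤ k + j by omega))
        (Nat.succ_le_succ (show k + j ≤ k + c + j by omega)) p (w j)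
  exact hk k

end Groth.Agent.H26.FMod
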