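import Groth.Agent.H26.FMod.QC

/-!
# Ind-coherent modules on locally Noetherian formal schemes
-/

noncomputable section

set_option autoImplicit false
set_option linter.style.haveILetI false
set_option backward.isDefEq.respectTransparency false
set_option backward.isDefEq.respectTransparency.types false

universe u

open CategoryTheory CategoryTheory.Limits TopologicalSpace Opposite AlgebraicGeometry
open Groth.Agent.ModTensor Groth.Agent.ModPull Groth.Agent.LocalFactor Groth.Agent.SecGen
open Groth.Agent.H26.QPres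

namespace Groth.Agent.H26.FMod

variable {𝔛 : FSch.Sys.{u}} (h : 𝔛.IsLocNoethFormal) {𝔉 : FSch.ModF 𝔛 h.1}

lemma mapS_comp {hF : 𝔛.IsFormal} {𝔄 𝔅 ℭ : FSch.ModF 𝔛 hF} (φ : 𝔄 ⟶ 𝔅) (ψ : 𝔅 ⟶ ℭ) (U : (𝔛.X 0).Opens)
    (x : Sec 𝔄 U) : mapS (φ ≫ ψ) U x = mapS ψ U (mapS φ U x) :=
  congrArg (fun t => t.app (op U) x) ((fg (𝔛.Osh hF)).map_comp φ ψ)

include h in
/-- Colimits of coherent modules have data on affine opens. -/
theorem nonempty_qdata_colim {J : Type u} [SmallCategory J] [IsFiltered J] {F : J ⥤ FSch.ModF 𝔛 h.1}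
    {c : Cocone F} (hc : IsColimit c) (hF : ∀ j, FSch.IsCohF 𝔛 h.1 (F.obj j))
    {U : (𝔛.X 0).Opens} (hU : IsAffineOpen U) : Nonempty (QData (O := 𝔛.Osh h.1) c.pt U) := by
  classical
  haveI := noetherian h hU
  choose n x hx using fun j => haveI := finite_sec h (hF j) hU
    Module.Finite.exists_fin (R := Rg h.1 U) (M := Sec (F.obj j) U)
  let I := Σ j : J, Fin (n j)
  let g : I → Sec c.pt U := fun i => mapS (c.ι.app i.1) U (x i.1 i.2)
  refine ⟨{ I := I, g := g, rows := {r | ∑ i ∈ r.support, r i • g i = 0}, rel := fun r hr => hr,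
            gen := fun W f z => ?_, exact := fun W f s cf hc0 hcs => ?_ }⟩
  · refine (ColimSec.locally_exists_rep hc z).bind fun V k ⟨j, y, hy⟩ => ?_
    refine locally_D h hU (leOfHom (k ≫ f)) _ (fun a ha => ?_) fun V₁ V₂ l m hm => ?_
    · obtain ⟨d, hd⟩ := genC_D h (hF j) hU a (x j) (hx j) (resM (F.obj j) ha y)
      refine ⟨Finset.univ.image (Sigma.mk j), fun i => if hi : i.1 = j then d (hi ▸ i.2) else 0, ?_⟩
      rw [Finset.sum_image fun _ _ _ _ he => eq_of_heq (Sigma.mk.inj_iff.1 he).2]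
      have h1 := congrArg (mapS (c.ι.app j) (D h.1 a)) hd
      rw [mapS_res, map_sum] at h1
      refine Eq.trans ?_ (h1.trans (Finset.sum_congr rfl fun i _ => ?_))
      · rw [SecGen.rs_op_comp, ← hy]
        rfl
      · rw [map_smul, mapS_res]
        simp only [dif_pos]
        rfl
    · obtain ⟨s, d, hd⟩ := hm
      refine ⟨s, fun i => ((𝔛.Osh h.1).obj.map l.op).hom (d i), ?_⟩
      rw [Category.assoc, SecGen.rs_op_comp, hd, rs_sum]
      exact Finset.sum_congr rfl fun i _ => by simp only [rs_smul, ← SecGen.rs_op_comp, Category.assoc]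
  · obtain ⟨l0, ht⟩ := IsFiltered.sup_objs_exists (s.image Sigma.fst)
    let t : ∀ i ∈ s, i.1 ⟶ l0 := fun i hi => (ht (Finset.mem_image_of_mem _ hi)).some
    let x0 : s → Sec (F.obj l0) U := fun i => mapS (F.map (t i.1 i.2)) U (x i.1.1 i.1.2)
    have hx0 : ∀ i : s, mapS (c.ι.app l0) U (x0 i) = g i.1 := fun i => by
      rw [← mapS_comp, c.w]
      rfl
    have hy : ((fg (𝔛.Osh h.1)).map (c.ι.app l0)).app (op W)
        (∑ i : s, cf i.1 • resM (F.obj l0) (leOfHom f) (x0 i)) = 0 := by
      refine (map_sum _ _ _).trans (Eq.trans ?_ hcs)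
      refine Eq.trans ?_ (Finset.sum_attach s _)
      refine Finset.sum_congr rfl fun i _ => ?_
      rw [map_smul]
      refine congrArg (cf i.1 • ·) ?_
      exact (mapS_res _ _ _).trans (congrArg (resM c.pt (leOfHom f)) (hx0 i))
    refine (ColimSec.locally_exists_zero hc _ hy).bind fun V k ⟨l1, t1, ht1⟩ => ?_
    refine locally_D h hU (leOfHom (k ≫ f)) _ (fun a ha => ?_) fun V₁ V₂ l m hm => ?_
    · let x1 : Fin s.card → Sec (F.obj l1) U := fun q => mapS (F.map t1) U (x0 (s.equivFin.symm q))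
      obtain ⟨p, A, hA⟩ := Submodule.fg_iff_exists_fin_generating_family.1 (IsNoetherian.noetherian
        (LinearMap.ker (Fintype.linearCombination (Rg h.1 U) x1)))
      obtain ⟨d, hd⟩ := exactC_D h (hF l1) hU a x1 A (fun r hr => by
        rw [hA]; simpa [Fintype.linearCombination_apply] using hr)
        (fun q => res (ha.trans (leOfHom k)) (cf (s.equivFin.symm q).1)) (by
          refine Eq.trans ?_ ((congrArg (resM (F.obj l1) ha) ht1).trans (map_zero _))
          rw [rs_sum, map_sum]
          refine Eq.trans ?_ (rs_sum _ _ _).symm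
          refine Eq.trans ?_ (Equiv.sum_comp s.equivFin.symm _)
          refine Finset.sum_congr rfl fun q _ => ?_
          simp only [rs_smul, resM, map_smul, x1, ← SecGen.rs_op_comp, ← app_rs]
          refine congrArg₂ (fun (u : Rg h.1 (D h.1 a)) w => u • w) ?_
            (app_rs ((fg (𝔛.Osh h.1)).map (F.map t1)) (homOfLE _).op _).symm
          rw [← res_res h (leOfHom k) ha]
          rfl)
      let A' : Fin p → (I →₀ Rg h.1 U) := fun j => Finsupp.onFinset s
        (fun i => if hi : i ∈ s then A j (s.equivFin ⟨i, hi⟩) else 0) fun i hi => by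
          by_contra h'
          exact hi (dif_neg h')
      refine ⟨Finset.univ.image A', fun r => ∑ j ∈ Finset.univ.filter (fun j => A' j = r), d j, ?_, fun i => ?_⟩
      · intro r hr
        obtain ⟨j, -, rfl⟩ := Finset.mem_image.1 (Finset.mem_coe.1 hr)
        show ∑ i ∈ (A' j).support, A' j i • g i = 0
        rw [Finset.sum_subset (s₂ := s) Finsupp.support_onFinset_subset
          (fun i _ hi => by rw [Finsupp.notMem_support_iff.1 hi]; exact zero_smul _ _)]
        have h1 : A j ∈ LinearMap.ker (Fintype.linearCombination (Rg h.1 U) x1) :=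
          hA ▸ Submodule.subset_span ⟨j, rfl⟩
        rw [LinearMap.mem_ker, Fintype.linearCombination_apply] at h1
        have h2 := congrArg (mapS (c.ι.app l1) U) h1
        rw [map_sum, map_zero] at h2
        refine Eq.trans ?_ h2
        refine (Finset.sum_attach s _).symm.trans ((Equiv.sum_comp s.equivFin.symm _).symm.trans
          (Finset.sum_congr rfl fun q _ => ?_))
        rw [map_smul, Finsupp.onFinset_apply, dif_pos (s.equivFin.symm q).2, Subtype.coe_eta,
          Equiv.apply_symm_apply]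
        refine congrArg (A j q • ·) ((hx0 _).symm.trans ?_)
        exact (congrArg (fun v => mapS v U (x0 (s.equivFin.symm q))) (c.w t1)).symm.trans (mapS_comp _ _ _ _)
      · rw [Finset.sum_congr rfl fun r (_ : r ∈ Finset.univ.image A') => Finset.sum_mul _ _ _]
        refine Eq.trans ?_ (Finset.sum_fiberwise_of_maps_to (g := A') (fun j _ => Finset.mem_image_of_mem A'
          (Finset.mem_univ j)) (fun j => d j * res (D_le a) (A' j i))).symm |>.trans
          (Finset.sum_congr rfl fun r _ => Finset.sum_congr rfl fun j hj => ?_)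
        swap
        · rw [(Finset.mem_filter.1 hj).2]
          rfl
        by_cases hi : i ∈ s
        · have h1 := hd (s.equivFin ⟨i, hi⟩)
          rw [Equiv.symm_apply_apply] at h1
          refine Eq.trans h1 (Finset.sum_congr rfl fun j _ => ?_)
          simp [A', hi]
        · simp [A', hc0 i hi, hi]
    · obtain ⟨T, d, hT, hd⟩ := hm
      refine ⟨T, fun r => ((𝔛.Osh h.1).obj.map l.op).hom (d r), hT, fun i => ?_⟩
      rw [Category.assoc, op_comp, Functor.map_comp]
      refine (congrArg ((𝔛.Osh h.1).obj.map l.op).hom (hd i)).trans ?_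
      rw [map_sum]
      refine Finset.sum_congr rfl fun j _ => ?_
      rw [map_mul, Category.assoc, Category.assoc, op_comp (f := l), Functor.map_comp]
      rfl

include h in
/-- Data on affine opens give quasi-coherence. -/
theorem isQC_of_qdata (hQ : ∀ x : 𝔛.X 0, ∀ W : (𝔛.X 0).Opens, x ∈ W → ∃ U : (𝔛.X 0).Opens, x ∈ U ∧ U ≤ W ∧
    Nonempty (QData (O := 𝔛.Osh h.1) 𝔉 U)) :
    SheafOfModules.IsQuasicoherent.{u} (R := ModSite.ringSh (𝔛.Osh h.1)) 𝔉 := by
  choose U hxU _ Q using fun x : 𝔛.X 0 => hQ x ⊤ trivial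
  exact SheafOfModules.QuasicoherentData.isQuasicoherent (R := ModSite.ringSh (𝔛.Osh h.1)) (M := 𝔉)
    { I := 𝔛.X 0
      X := U
      coversTop := fun W => by
        intro x hx
        refine ⟨U x ⊓ W, homOfLE inf_le_right, ?_, hxU x, hx⟩
        exact (Sieve.mem_ofObjects_iff ..).2 ⟨x, ⟨homOfLE inf_le_left⟩⟩
      presentation := fun x => (nonempty_presentation (Q x).some).some }

include h in
/-- Colimits of coherent modules are quasi-coherent. -/
theorem isQC_of_ind (h𝔉 : (ObjectProperty.ind.{u} fun 𝔊 : FSch.ModF 𝔛 h.1 => FSch.IsCohF 𝔛 h.1 𝔊) 𝔉) :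
    SheafOfModules.IsQuasicoherent.{u} (R := ModSite.ringSh (𝔛.Osh h.1)) 𝔉 := by
  obtain ⟨J, _, _, pres, hp⟩ := h𝔉
  refine isQC_of_qdata h fun x W hx => ?_
  obtain ⟨_, ⟨U, hU, rfl⟩, hxU, hle⟩ := (𝔛.X 0).isBasis_affineOpens.exists_subset_of_mem_open hx W.2
  exact ⟨U, hxU, hle, nonempty_qdata_colim h pres.isColimit hp hU⟩

include h in
/-- Relations among sections of a stage localise in the colimit. -/
theorem exact_colim {J : Type u} [SmallCategory J] [IsFiltered J] {F : J ⥤ FSch.ModF 𝔛 h.1}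
    {c : Cocone F} (hc : IsColimit c) (hF : ∀ j, FSch.IsCohF 𝔛 h.1 (F.obj j))
    {U : (𝔛.X 0).Opens} (hU : IsAffineOpen U) {j : J} {κ ρ : Type} [Fintype κ] [Fintype ρ]
    (x : κ → Sec (F.obj j) U) (A : ρ → κ → Rg h.1 U)
    (hA : ∀ r : κ → Rg h.1 U, ∑ i, r i • mapS (c.ι.app j) U (x i) = 0 → r ∈ Submodule.span (Rg h.1 U) (Set.range A))
    {W : (𝔛.X 0).Opens} (f : W ⟶ U) (cf : κ → Rg h.1 W)
    (hcf : ∑ i, cf i • resM c.pt (leOfHom f) (mapS (c.ι.app j) U (x i)) = 0) :
    ModPull.Locally (Opens.grothendieckTopology (𝔛.X 0)) W (fun V k => ∃ d : ρ → Rg h.1 V, ∀ i,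
      ((𝔛.Osh h.1).obj.map k.op).hom (cf i) = ∑ l, d l * ((𝔛.Osh h.1).obj.map (k ≫ f).op).hom (A l i)) := by
  classical
  have hy : ((fg (𝔛.Osh h.1)).map (c.ι.app j)).app (op W) (∑ i, cf i • resM (F.obj j) (leOfHom f) (x i)) = 0 := by
    refine (map_sum _ _ _).trans (Eq.trans (Finset.sum_congr rfl fun i _ => ?_) hcf)
    rw [map_smul]
    exact congrArg (cf i • ·) (mapS_res _ _ _)
  refine (ColimSec.locally_exists_zero hc _ hy).bind fun V k ⟨l1, t1, ht1⟩ => ?_
  refine locally_D h hU (leOfHom (k ≫ f)) _ (fun a ha => ?_) fun V₁ V₂ l m hm => ?_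
  · obtain ⟨d, hd⟩ := exactC_D h (hF l1) hU a (fun i => mapS (F.map t1) U (x i)) A (fun r hr => hA r (by
        have h2 := congrArg (mapS (c.ι.app l1) U) hr
        rw [map_sum, map_zero] at h2
        refine Eq.trans (Finset.sum_congr rfl fun i _ => ?_) h2
        rw [map_smul, ← mapS_comp, c.w]
        rfl))
      (fun i => res (ha.trans (leOfHom k)) (cf i)) (by
        refine Eq.trans ?_ ((congrArg (resM (F.obj l1) ha) ht1).trans (map_zero _))
        rw [rs_sum, map_sum]
        refine Eq.trans ?_ (rs_sum _ _ _).symm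
        refine Finset.sum_congr rfl fun q _ => ?_
        simp only [rs_smul, resM, map_smul, ← SecGen.rs_op_comp, ← app_rs]
        refine congrArg₂ (fun (u : Rg h.1 (D h.1 a)) w => u • w) ?_
          (app_rs ((fg (𝔛.Osh h.1)).map (F.map t1)) (homOfLE _).op _).symm
        rw [← res_res h (leOfHom k) ha]
        rfl)
    exact ⟨d, hd⟩
  · obtain ⟨d, hd⟩ := hm
    refine ⟨fun r => ((𝔛.Osh h.1).obj.map l.op).hom (d r), fun i => ?_⟩
    rw [Category.assoc, op_comp, Functor.map_comp]
    refine (congrArg ((𝔛.Osh h.1).obj.map l.op).hom (hd i)).trans ?_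
    rw [map_sum]
    refine Finset.sum_congr rfl fun j _ => ?_
    rw [map_mul, Category.assoc, Category.assoc, op_comp (f := l), Functor.map_comp]
    rfl

include h in
/-- Images of the stages in a colimit of coherent modules are coherent. -/
theorem isCohF_image_stage {J : Type u} [SmallCategory J] [IsFiltered J] {F : J ⥤ FSch.ModF 𝔛 h.1}
    {c : Cocone F} (hc : IsColimit c) (hF : ∀ j, FSch.IsCohF 𝔛 h.1 (F.obj j)) (j : J) {𝔊 : FSch.ModF 𝔛 h.1}
    (π : F.obj j ⟶ 𝔊) [Epi π] (ι : 𝔊 ⟶ c.pt) [Mono ι] (hπι : π ≫ ι = c.ι.app j) :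
    FSch.IsCohF 𝔛 h.1 𝔊 := by
  classical
  refine isFP_of_affine fun U hU => ?_
  haveI := noetherian h hU
  haveI := finite_sec h (hF j) hU
  obtain ⟨n, x, hx⟩ := Module.Finite.exists_fin (R := Rg h.1 U) (M := Sec (F.obj j) U)
  have hfac : ∀ (V : (𝔛.X 0).Opens) (z : Sec (F.obj j) V), mapS ι V (mapS π V z) = mapS (c.ι.app j) V z :=
    fun V z => (mapS_comp π ι V z).symm.trans (congrArg (fun t => mapS t V z) hπι)
  obtain ⟨p, A, hA⟩ := Submodule.fg_iff_exists_fin_generating_family.1 (IsNoetherian.noetherian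
    (LinearMap.ker (Fintype.linearCombination (Rg h.1 U) fun i => mapS (c.ι.app j) U (x i))))
  refine ⟨{ κ := Fin n, ρ := Fin p, fκ := inferInstance, fρ := inferInstance,
            s := fun i => mapS π U (x i), A := A, rel := fun l => app_injective ι (op U) ?_,
            gen := fun W f z => ?_, exact := fun W f cf hcf => ?_ }⟩
  · have h1 : A l ∈ LinearMap.ker (Fintype.linearCombination (Rg h.1 U) fun i => mapS (c.ι.app j) U (x i)) :=
      hA ▸ Submodule.subset_span ⟨l, rfl⟩
    rw [LinearMap.mem_ker, Fintype.linearCombination_apply] at h1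
    refine (map_sum _ _ _).trans ((Finset.sum_congr rfl fun i _ => ?_).trans (h1.trans (map_zero _).symm))
    exact (map_smul _ _ _).trans (congrArg (A l i • ·) (hfac U (x i)))
  · refine (locally_exists_app_eq π z).bind fun V k ⟨y, hy⟩ => ?_
    refine locally_D h hU (leOfHom (k ≫ f)) _ (fun a ha => ?_) fun V₁ V₂ l m hm => ?_
    · obtain ⟨d, hd⟩ := genC_D h (hF j) hU a x hx (resM (F.obj j) ha y)
      have h1 := congrArg (mapS π (D h.1 a)) hd
      rw [mapS_res, map_sum] at h1
      refine ⟨d, Eq.trans ?_ (h1.trans (Finset.sum_congr rfl fun i _ => ?_))⟩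
      · rw [SecGen.rs_op_comp, ← hy]
      · rw [map_smul, mapS_res]
        rfl
    · obtain ⟨d, hd⟩ := hm
      refine ⟨fun i => ((𝔛.Osh h.1).obj.map l.op).hom (d i), ?_⟩
      rw [Category.assoc, SecGen.rs_op_comp, hd, rs_sum]
      exact Finset.sum_congr rfl fun i _ => by simp only [rs_smul, ← SecGen.rs_op_comp, Category.assoc]
  · refine exact_colim h hc hF hU x A (fun r hr => ?_) f cf ?_
    · rw [hA, LinearMap.mem_ker, Fintype.linearCombination_apply]
      exact hr
    · refine Eq.trans (Finset.sum_congr rfl fun i _ => ?_)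
        (((map_sum (mapS ι W) _ _).symm.trans (congrArg (mapS ι W) hcf)).trans (map_zero _))
      refine Eq.trans (congrArg (cf i • ·) ?_) (map_smul (mapS ι W) _ _).symm
      rw [← hfac]
      exact (mapS_res ι (leOfHom f) _).symm

include h in
/-- Colimits of coherent modules are colimits of coherent submodules. -/
theorem exists_presentation_mono (h𝔉 : (ObjectProperty.ind.{u} fun 𝔊 : FSch.ModF 𝔛 h.1 => FSch.IsCohF 𝔛 h.1 𝔊) 𝔉) :
    ∃ (J : Type u) (_ : SmallCategory J) (_ : IsFiltered J) (pres : ColimitPresentation J 𝔉),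
      (∀ j : J, FSch.IsCohF 𝔛 h.1 (pres.diag.obj j)) ∧ ∀ j : J, Mono (pres.ι.app j) := by
  obtain ⟨J, _, _, pres, hp⟩ := h𝔉
  let c : Cocone pres.diag := Cocone.mk _ pres.ι
  have hw : ∀ {j l : J} (t : j ⟶ l), Abelian.image.ι (c.ι.app j) ≫ cokernel.π (c.ι.app l) = 0 := fun {j l} t => by
    rw [← cancel_epi (Abelian.factorThruImage (c.ι.app j)), comp_zero, ← Category.assoc, Abelian.image.fac,
      ← c.w t, Category.assoc, cokernel.condition, comp_zero]
  let D' : J ⥤ FSch.ModF 𝔛 h.1 :=
    { obj := fun j => Abelian.image (c.ι.app j)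
      map := fun t => kernel.lift _ _ (hw t)
      map_id := fun j => by
        rw [← cancel_mono (Abelian.image.ι (c.ι.app j))]
        simp
      map_comp := fun {_ _ l} s t => by
        rw [← cancel_mono (Abelian.image.ι (c.ι.app l))]
        simp }
  let c' : Cocone D' := Cocone.mk 𝔉
    { app := fun j => Abelian.image.ι (c.ι.app j)
      naturality := fun j l t => (kernel.lift_ι _ _ _).trans (Category.comp_id _).symm }
  have he : ∀ {j l : J} (t : j ⟶ l), Abelian.factorThruImage (c.ι.app j) ≫ D'.map t =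
      pres.diag.map t ≫ Abelian.factorThruImage (c.ι.app l) := fun {j l} t => by
    rw [← cancel_mono (Abelian.image.ι (c.ι.app l))]
    simp [D']
  let pre : ∀ s : Cocone D', Cocone pres.diag := fun s => Cocone.mk s.pt
    { app := fun j => Abelian.factorThruImage (c.ι.app j) ≫ s.ι.app j
      naturality := fun j l t => by
        rw [← Category.assoc, ← he t, Category.assoc, s.w]
        exact (Category.comp_id _).symm }
  refine ⟨J, inferInstance, inferInstance, ⟨D', c'.ι,
    { desc := fun s => pres.isColimit.desc (pre s)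
      fac := fun s j => ?_
      uniq := fun s m hm => ?_ }⟩, fun j => isCohF_image_stage h pres.isColimit hp j _ _ (Abelian.image.fac (c.ι.app j)), fun j => ?_⟩
  · rw [← cancel_epi (Abelian.factorThruImage (c.ι.app j))]
    exact (Category.assoc _ _ _).symm.trans ((congrArg (· ≫ _) (Abelian.image.fac _)).trans
      (pres.isColimit.fac (pre s) j))
  · refine pres.isColimit.uniq (pre s) m fun j => ?_
    exact (congrArg (· ≫ m) (Abelian.image.fac (c.ι.app j)).symm).trans
      ((Category.assoc _ _ _).trans (congrArg (_ ≫ ·) (hm j)))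
  · exact inferInstanceAs (Mono (Abelian.image.ι (c.ι.app j)))

end Groth.Agent.H26.FMod
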