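import Groth.Agent.H26.FMod.LevelCoh
import Groth.Agent.H26.FMod.Ind
import Groth.Agent.AdicLib.Basic

/-!
# Presentations of limits of levels with stable images
-/

noncomputable section

set_option autoImplicit false
set_option maxHeartbeats 1000000
set_option linter.style.haveILetI false
set_option backward.isDefEq.respectTransparency false
set_option backward.isDefEq.respectTransparency.types false

universe u

open CategoryTheory CategoryTheory.Limits TopologicalSpace Opposite AlgebraicGeometry
open Groth.Agent.ModTensor Groth.Agent.ModPull Groth.Agent.LocalFactor Groth.Agent.SecGen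

namespace Groth.Agent.H26.FMod

/-- Closedness in a finite module over a complete Noetherian ring. -/
lemma exists_limit_of_cauchy {R : Type*} [CommRing R] [IsNoetherianRing R] (I : Ideal R) [IsAdicComplete I R]
    {N : Type*} [AddCommGroup N] [Module R N] [Module.Finite R N] (g : ℕ → N)
    (hg : ∀ k, g (k + 1) - g k ∈ I ^ k • (⊤ : Submodule R N)) :
    ∃ L, ∀ k, g k - L ∈ I ^ k • (⊤ : Submodule R N) := by
  haveI := AdicLib.isAdicComplete_of_finite I N
  obtain ⟨L, hL⟩ := IsPrecomplete.prec (inferInstance : IsPrecomplete I N) (f := g) fun {a b} hab => by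
    refine SModEq.sub_mem.2 ?_
    induction b, hab using Nat.le_induction with
    | base => rw [sub_self]; exact zero_mem _
    | succ b hab ih =>
      rw [show g a - g (b + 1) = (g a - g b) - (g (b + 1) - g b) by abel]
      exact sub_mem ih (Submodule.smul_mono (Ideal.pow_le_pow_right hab) le_rfl (hg b))
  exact ⟨L, fun k => SModEq.sub_mem.1 (hL k)⟩

variable {𝔛 : FSch.Sys.{u}} (h : 𝔛.IsLocNoethFormal) (M : FSch.ModF 𝔛 h.1) (R : ℕ → FSch.ModF 𝔛 h.1)
  (q : ∀ k, M ⟶ R k) {U : (𝔛.X 0).Opens} (hU : IsAffineOpen U)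
  (hext : ∀ (V : (𝔛.X 0).Opens) (x : Sec M V), (∀ k, mapS (q k) V x = 0) → x = 0)
  (hkill : ∀ k (V : (𝔛.X 0).Opens), IsAffineOpen V → ∀ r ∈ Jd h.1 V ^ (k + 1), ∀ z : Sec (R k) V, r • z = 0)
  (hnum : ∀ k (a : Rg h.1 U) (z : Sec (R k) (D h.1 a)), ∃ (m : ℕ) (b : Sec (R k) U),
    resM (R k) (D_le a) b = res (D_le a) a ^ m • z)
  (hden : ∀ k (a : Rg h.1 U) (b : Sec (R k) U), resM (R k) (D_le a) b = 0 → ∃ N : ℕ, a ^ N • b = 0)
  (hfin : Module.Finite (Rg h.1 U) (Sec M U))
  (d : ℕ) (hfilt : ∀ k (x : Sec M U), mapS (q k) U x = 0 →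
    x ∈ Jd h.1 U ^ (k + 1 - d) • (⊤ : Submodule (Rg h.1 U) (Sec M U)))
  (tr : ∀ k, R (k + 1) ⟶ R k) (htr : ∀ k, q (k + 1) ≫ tr k = q k)
  (c : ℕ) (t : ∀ k, R (k + c) ⟶ R k) (ht : ∀ k, q (k + c) ≫ t k = q k)
  (hstab : ∀ k (y : Sec (R (k + c)) U), ∃ x : Sec M U, mapS (q k) U x = mapS (t k) U y)

include hnum hden hkill hext hfilt hfin hU hstab ht htr in
/-- A presentation of the limit on an affine open. -/
theorem nonempty_pres_lim : Nonempty (Pres (𝔛.Osh h.1) M U) := by
  classical
  haveI := noetherian h hU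
  haveI := hfin
  obtain ⟨n, x, hx⟩ := Module.Finite.exists_fin (R := Rg h.1 U) (M := Sec M U)
  obtain ⟨p, A, hA⟩ := Submodule.fg_iff_exists_fin_generating_family.1 (IsNoetherian.noetherian
    (LinearMap.ker (Fintype.linearCombination (Rg h.1 U) x)))
  have hsum : ∀ z : Sec M U, ∃ e : Fin n → Rg h.1 U, ∑ i, e i • x i = z := fun z =>
    (Submodule.mem_span_range_iff_exists_fun _).1 (hx ▸ trivial : z ∈ Submodule.span (Rg h.1 U) (Set.range x))
  -- small combinations of the generators
  have hsmall : ∀ j (z : Sec M U), z ∈ Jd h.1 U ^ j • (⊤ : Submodule (Rg h.1 U) (Sec M U)) →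
      ∃ e : Fin n → Rg h.1 U, (∀ i, e i ∈ Jd h.1 U ^ j) ∧ ∑ i, e i • x i = z := fun j z hz => by
    refine Submodule.smul_induction_on hz (fun r hr y _ => ?_) fun y y' hy hy' => ?_
    · obtain ⟨e, he⟩ := hsum y
      exact ⟨fun i => r * e i, fun i => Ideal.mul_mem_right _ _ hr, by
        rw [← he, Finset.smul_sum]; exact Finset.sum_congr rfl fun i _ => mul_smul _ _ _⟩
    · obtain ⟨e, he1, he2⟩ := hy
      obtain ⟨e', he1', he2'⟩ := hy'
      exact ⟨e + e', fun i => add_mem (he1 i) (he1' i), by
        rw [← he2, ← he2', ← Finset.sum_add_distrib]; exact Finset.sum_congr rfl fun i _ => add_smul _ _ _⟩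
  refine ⟨presD h hU x A (fun j => ?_) (fun a s => ?_) fun a C hC => ?_⟩
  · have h1 : A j ∈ LinearMap.ker (Fintype.linearCombination (Rg h.1 U) x) :=
      hA ▸ Submodule.subset_span ⟨j, rfl⟩
    simpa [Fintype.linearCombination_apply] using h1
  · -- generation
    have hV := isAffineOpen_D hU a
    haveI := noetherian h hV
    haveI := complete h hV
    let N := Submodule.span (Rg h.1 (D h.1 a)) (Set.range fun i => resM M (D_le a) (x i))
    have hresN : ∀ z : Sec M U, resM M (D_le a) z ∈ N := fun z => by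
      obtain ⟨e, rfl⟩ := hsum z
      rw [resM_sum]
      exact Submodule.sum_mem _ fun i _ => Submodule.smul_mem _ _ (Submodule.subset_span ⟨i, rfl⟩)
    suffices s ∈ N by
      obtain ⟨e, he⟩ := (Submodule.mem_span_range_iff_exists_fun _).1 this
      exact ⟨e, he.symm⟩
    -- approximations
    have happ : ∀ k, ∃ g ∈ N, mapS (q k) (D h.1 a) (s - g) = 0 := fun k => by
      obtain ⟨m, b, hb⟩ := hnum (k + c) a (mapS (q (k + c)) (D h.1 a) s)
      obtain ⟨z, hz⟩ := hstab k b
      obtain ⟨v, hv⟩ := ((isUnit_res h hU a).pow m).exists_left_inv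
      refine ⟨v • resM M (D_le a) z, N.smul_mem v (hresN z), ?_⟩
      have h1 : mapS (q k) (D h.1 a) (resM M (D_le a) z) = res (D_le a) a ^ m • mapS (q k) (D h.1 a) s := by
        rw [mapS_res, hz, ← mapS_res, hb, map_smul, ← mapS_comp, ht]
      rw [map_sub, map_smul, h1, smul_smul, hv, one_smul, sub_self]
    choose g hg hg' using happ
    -- small elements of the span
    have hker : ∀ k, ∀ z ∈ N, mapS (q k) (D h.1 a) z = 0 →
        z ∈ Jd h.1 (D h.1 a) ^ (k + 1 - d) • N := fun k z hz hz0 => by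
      obtain ⟨e, he⟩ := (Submodule.mem_span_range_iff_exists_fun _).1 hz
      obtain ⟨m, b, hb⟩ := num_fun h hU a k (fun i => pr h.1 k (D h.1 a) (e i))
      let w : Sec M U := ∑ i, b i • x i
      have hdiff : ∀ i, res (D_le a) a ^ m * e i - res (D_le a) (b i) ∈ Jd h.1 (D h.1 a) ^ (k + 1) := fun i => by
        rw [← ker_pr h k hV, RingHom.mem_ker, map_sub, map_mul, map_pow, hb i, sub_self]
      have hw : resM M (D_le a) w + ∑ i, (res (D_le a) a ^ m * e i - res (D_le a) (b i)) • resM M (D_le a) (x i) =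
          res (D_le a) a ^ m • z := by
        rw [resM_sum, ← Finset.sum_add_distrib, ← he, Finset.smul_sum]
        refine Finset.sum_congr rfl fun i _ => ?_
        rw [← add_smul, add_sub_cancel, mul_smul]
      have hrest : ∑ i, (res (D_le a) a ^ m * e i - res (D_le a) (b i)) • resM M (D_le a) (x i) ∈
          Jd h.1 (D h.1 a) ^ (k + 1) • N :=
        Submodule.sum_mem _ fun i _ => Submodule.smul_mem_smul (hdiff i) (Submodule.subset_span ⟨i, rfl⟩)
      have hq : mapS (q k) (D h.1 a) (resM M (D_le a) w) = 0 := by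
        have h2 := congrArg (mapS (q k) (D h.1 a)) hw
        rw [map_add, map_smul, hz0, smul_zero] at h2
        refine Eq.trans ?_ h2
        rw [left_eq_add, map_sum]
        exact Finset.sum_eq_zero fun i _ => by rw [map_smul]; exact hkill k _ hV _ (hdiff i) _
      rw [mapS_res] at hq
      obtain ⟨N', hN'⟩ := hden k a _ hq
      rw [← map_smul] at hN'
      obtain ⟨e', he1, he2⟩ := hsmall _ _ (hfilt k _ hN')
      have h3 : res (D_le a) a ^ N' • resM M (D_le a) w ∈ Jd h.1 (D h.1 a) ^ (k + 1 - d) • N := by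
        have h4 : resM M (D_le a) (a ^ N' • w) ∈ Jd h.1 (D h.1 a) ^ (k + 1 - d) • N := by
          rw [← he2, resM_sum]
          exact Submodule.sum_mem _ fun i _ => Submodule.smul_mem_smul (res_mem_Jd_pow (D_le a) _ (he1 i))
            (Submodule.subset_span ⟨i, rfl⟩)
        rw [resM, rs_smul] at h4
        rw [← map_pow (res (D_le a))]
        exact h4
      obtain ⟨v, hv⟩ := ((isUnit_res h hU a).pow (N' + m)).exists_left_inv
      have h5 : z = v • (res (D_le a) a ^ N' • (resM M (D_le a) w +
          ∑ i, (res (D_le a) a ^ m * e i - res (D_le a) (b i)) • resM M (D_le a) (x i))) := by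
        rw [hw, smul_smul, smul_smul, mul_assoc, ← pow_add, hv, one_smul]
      rw [h5, smul_add]
      exact Submodule.smul_mem _ _ (add_mem h3 (Submodule.smul_mem _ _
        (Submodule.smul_mono (Ideal.pow_le_pow_right (Nat.sub_le _ _)) le_rfl hrest)))
    haveI : Module.Finite (Rg h.1 (D h.1 a)) N := Module.Finite.span_of_finite _ (Set.finite_range _)
    have hcast : ∀ {j : ℕ} {y : N}, (y : Sec M (D h.1 a)) ∈ Jd h.1 (D h.1 a) ^ j • N →
        y ∈ Jd h.1 (D h.1 a) ^ j • (⊤ : Submodule (Rg h.1 (D h.1 a)) N) := fun {j y} hy => by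
      have : (Jd h.1 (D h.1 a) ^ j • (⊤ : Submodule (Rg h.1 (D h.1 a)) N)).map N.subtype =
          Jd h.1 (D h.1 a) ^ j • N := by
        rw [Submodule.map_smul'', Submodule.map_top, Submodule.range_subtype]
      rw [← this] at hy
      obtain ⟨y', hy', e⟩ := hy
      exact (Subtype.ext e : y' = y) ▸ hy'
    have hdown : ∀ {i j : ℕ}, i ≤ j → ∀ z : Sec M (D h.1 a), mapS (q j) (D h.1 a) z = 0 →
        mapS (q i) (D h.1 a) z = 0 := fun {i j} hij => by
      induction j, hij using Nat.le_induction with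
      | base => exact fun z hz => hz
      | succ j _ ih => exact fun z hz => ih z (by rw [← htr j, mapS_comp, hz, map_zero])
    let G : ℕ → N := fun k => ⟨g (d + k), hg _⟩
    obtain ⟨L, hL⟩ := exists_limit_of_cauchy (Jd h.1 (D h.1 a)) G fun k => hcast (by
      have h6 : mapS (q (d + k)) (D h.1 a) (g (d + (k + 1)) - g (d + k)) = 0 := by
        rw [show g (d + (k + 1)) - g (d + k) = (s - g (d + k)) - (s - g (d + (k + 1))) by abel, map_sub,
          hg', hdown (by omega) _ (hg' (d + (k + 1))), sub_self]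
      have h7 := hker (d + k) _ (N.sub_mem (hg _) (hg _)) h6
      exact Submodule.smul_mono (Ideal.pow_le_pow_right (by omega)) le_rfl h7)
    refine (sub_eq_zero.1 (hext _ (s - (L : Sec M (D h.1 a))) fun k => ?_)) ▸ L.2
    rw [show s - (L : Sec M (D h.1 a)) = (s - g (d + (k + 1))) + (g (d + (k + 1)) - L) by abel, map_add,
      hdown (by omega) _ (hg' (d + (k + 1))), zero_add]
    have h8 := Submodule.mem_map_of_mem (f := N.subtype) (hL (k + 1))
    rw [Submodule.map_smul'', Submodule.map_top, Submodule.range_subtype] at h8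
    refine Submodule.smul_induction_on (p := fun y => mapS (q k) (D h.1 a) y = 0) h8
      (fun r hr y _ => by rw [map_smul]; exact hkill k _ hV r hr _)
      fun y y' hy hy' => by rw [map_add, hy, hy', add_zero]
  · -- relations
    have hV := isAffineOpen_D hU a
    haveI := noetherian h hV
    haveI := complete h hV
    let A' : Fin p → Fin n → Rg h.1 (D h.1 a) := fun j i => res (D_le a) (A j i)
    suffices C ∈ Submodule.span (Rg h.1 (D h.1 a)) (Set.range A') by
      obtain ⟨e, he⟩ := (Submodule.mem_span_range_iff_exists_fun _).1 this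
      exact ⟨e, fun i => by rw [← he, Finset.sum_apply]; rfl⟩
    refine mem_of_forall_mem_sup (Jd h.1 (D h.1 a)) _ C fun j => ?_
    let k := j + d
    obtain ⟨m, b, hb⟩ := num_fun h hU a k (fun i => pr h.1 k (D h.1 a) (C i))
    let w : Sec M U := ∑ i, b i • x i
    have hdiff : ∀ i, res (D_le a) a ^ m * C i - res (D_le a) (b i) ∈ Jd h.1 (D h.1 a) ^ (k + 1) := fun i => by
      rw [← ker_pr h k hV, RingHom.mem_ker, map_sub, map_mul, map_pow, hb i, sub_self]
    have hq : mapS (q k) (D h.1 a) (resM M (D_le a) w) = 0 := by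
      have h2 : resM M (D_le a) w =
          -∑ i, (res (D_le a) a ^ m * C i - res (D_le a) (b i)) • resM M (D_le a) (x i) := by
        rw [resM_sum, eq_neg_iff_add_eq_zero, ← Finset.sum_add_distrib]
        refine Eq.trans (Finset.sum_congr rfl fun i _ => ?_) ((Finset.smul_sum (r := res (D_le a) a ^ m)).symm.trans
          (by rw [hC, smul_zero]))
        rw [← add_smul, add_sub_cancel, mul_smul]
      rw [h2, map_neg, map_sum, neg_eq_zero]
      exact Finset.sum_eq_zero fun i _ => by rw [map_smul]; exact hkill k _ hV _ (hdiff i) _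
    rw [mapS_res] at hq
    obtain ⟨N', hN'⟩ := hden k a _ hq
    rw [← map_smul] at hN'
    obtain ⟨e', he1, he2⟩ := hsmall _ _ (hfilt k _ hN')
    have hrel : (fun i => res (D_le a) (a ^ N' * b i - e' i)) ∈ Submodule.span (Rg h.1 (D h.1 a)) (Set.range A') := by
      have h1 : (fun i => a ^ N' * b i - e' i) ∈ Submodule.span (Rg h.1 U) (Set.range A) := by
        rw [hA, LinearMap.mem_ker, Fintype.linearCombination_apply]
        simp only [sub_smul, Finset.sum_sub_distrib, mul_smul, ← Finset.smul_sum]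
        rw [he2, sub_self]
      obtain ⟨e, he⟩ := (Submodule.mem_span_range_iff_exists_fun _).1 h1
      refine (Submodule.mem_span_range_iff_exists_fun _).2 ⟨fun l => res (D_le a) (e l), funext fun i => ?_⟩
      have h2 := congrArg (res (D_le a)) (congrFun he i)
      rw [Finset.sum_apply, map_sum] at h2
      rw [Finset.sum_apply, ← h2]
      exact Finset.sum_congr rfl fun l _ => (map_mul _ _ _).symm
    have hs' : (fun i => res (D_le a) a ^ (N' + m) * C i - res (D_le a) (a ^ N' * b i - e' i)) ∈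
        Jd h.1 (D h.1 a) ^ j • (⊤ : Submodule (Rg h.1 (D h.1 a)) (Fin n → Rg h.1 (D h.1 a))) := by
      refine mem_smul_top_fun _ _ fun i => ?_
      have h1 : res (D_le a) a ^ (N' + m) * C i - res (D_le a) (a ^ N' * b i - e' i) =
          res (D_le a) a ^ N' * (res (D_le a) a ^ m * C i - res (D_le a) (b i)) + res (D_le a) (e' i) := by
        rw [map_sub, map_mul, map_pow]; ring
      rw [h1]
      exact add_mem (Ideal.mul_mem_left _ _ (Ideal.pow_le_pow_right (by omega) (hdiff i)))
        (Ideal.pow_le_pow_right (by omega) (res_mem_Jd_pow (D_le a) _ (he1 i)))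
    obtain ⟨v, hv⟩ := ((isUnit_res h hU a).pow (N' + m)).exists_left_inv
    have hcv : C = v • ((fun i => res (D_le a) (a ^ N' * b i - e' i)) +
        fun i => res (D_le a) a ^ (N' + m) * C i - res (D_le a) (a ^ N' * b i - e' i)) := funext fun i => by
      rw [Pi.smul_apply, Pi.add_apply, smul_eq_mul, add_sub_cancel, ← mul_assoc, hv, one_mul]
    rw [hcv]
    exact Submodule.smul_mem _ _ (Submodule.add_mem_sup hrel hs')

end Groth.Agent.H26.FMod
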