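import Groth.Agent.H26.FMod.RpushScalar
import Groth.Agent.H26.FMod.RpushLevel
import Groth.Agent.H26.FMod.FiltGen
import Groth.Agent.H26.FMod.PresLim
import Groth.Agent.H26.Edge.FiltFinite

/-!
# Coherence of higher direct images over an affine base
-/

noncomputable section

set_option autoImplicit false
set_option maxHeartbeats 1000000
set_option linter.style.haveILetI false
set_option backward.isDefEq.respectTransparency false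
set_option backward.isDefEq.respectTransparency.types false

universe u

open CategoryTheory CategoryTheory.Limits TopologicalSpace Opposite AlgebraicGeometry
open Groth.Agent.ModTensor Groth.Agent.ModPull Groth.Agent.LocalFactor Groth.Agent.SecGen

namespace Groth.Agent.H26.FMod.RpushLim

open OpenTransfer

variable {𝔛 𝔜 : FSch.Sys.{u}} (h : 𝔛.IsLocNoethFormal) (h𝔜 : 𝔜.IsLocNoethFormal) (f : 𝔛 ⟶ 𝔜)

lemma rTop_self (r : Rg h𝔜.1 ⊤) : rTop r ⊤ = r := by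
  show ((𝔜.Osh h𝔜.1).obj.map (homOfLE le_top).op).hom r = r
  rw [show (homOfLE (le_top : (⊤ : (𝔜.X 0).Opens) ≤ ⊤)).op = 𝟙 _ from Subsingleton.elim _ _,
    CategoryTheory.Functor.map_id]
  rfl

lemma rX_rA {A : Type u} [CommRing A] {J : Ideal A} (e : 𝔜 ⟶ FSch.spf A J) (a : A) :
    rX h h𝔜 f (rA e h𝔜.1 a) = rA (f ≫ e) h.1 a := by
  refine pr_ext ⊤ fun k => ?_
  have h1 := congrArg (fun t => t.hom.app (op ⊤) (rA e h𝔜.1 a)) (FSch.Hom.sharp_proj f h.1 h𝔜.1 k)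
  refine h1.trans ?_
  show ((f : FSch.Hom 𝔛 𝔜).app k).appLE _ _ _ (pr h𝔜.1 k ⊤ (rA e h𝔜.1 a)) = _
  rw [pr_rA]
  refine Eq.trans ?_ (pr_rA (f ≫ e) h.1 k a).symm
  exact congrArg (fun t => t.hom (Coh.toGlobal (pA e k) a))
    ((Scheme.Hom.appLE_eq_app ((f : FSch.Hom 𝔛 𝔜).app k)).trans rfl)

/-- Composite transitions of the levels. -/
def trF (𝔉 : FSch.ModF 𝔛 h.1) (k : ℕ) : ∀ c, lvl (k + c) 𝔉 ⟶ lvl k 𝔉
  | 0 => 𝟙 _
  | c + 1 => FSch.levelTrans 𝔛 h.1 𝔉 (k + c) ≫ trF 𝔉 k c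

lemma toLvl_trF (𝔉 : FSch.ModF 𝔛 h.1) (k : ℕ) : ∀ c, toLvl (k + c) 𝔉 ≫ trF h 𝔉 k c = toLvl k 𝔉
  | 0 => Category.comp_id _
  | c + 1 => (Category.assoc _ _ _).symm.trans
      ((congrArg (· ≫ trF h 𝔉 k c) (FSch.unit_levelTrans 𝔛 h.1 𝔉 (k + c))).trans (toLvl_trF 𝔉 k c))

lemma trF_trH (𝔉 : FSch.ModF 𝔛 h.1) (p k : ℕ) : ∀ c (x : Sheaf.H (lvS h.1 𝔉 (k + c)) p),
    Sheaf.H.map ((Sh h.1).map (trF h 𝔉 k c)) p x = trH h (𝔉 := 𝔉) p (Nat.le_add_right k c) x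
  | 0, x => ((GradedML.map_congr' ((Sh h.1).map_id _) p x).trans (Sheaf.H.map_id_apply x)).trans
      (map_P_self (Fq h 𝔉) (k + 1) p x).symm
  | c + 1, x => by
    refine ((GradedML.map_congr' ((Sh h.1).map_comp _ _) p x).trans (Sheaf.H.map_comp_apply _ _ x)).trans ?_
    refine (trF_trH 𝔉 p k c _).trans ((congrArg (trH h (𝔉 := 𝔉) p (Nat.le_add_right k c)) (trH_succ h p (k + c) x)).trans ?_)
    exact map_PP (Fq h 𝔉) (Nat.succ_le_succ (Nat.le_add_right k c)) (Nat.succ_le_succ (Nat.le_succ (k + c))) p x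

variable [HasInjectiveResolutions (FSch.ModF 𝔛 h.1)] (hf : FSch.IsProperHom f)
  (𝔉 : FSch.ModF 𝔛 h.1) (h𝔉 : FSch.IsCohF 𝔛 h.1 𝔉) (q : ℕ)

/-- The levels of the higher direct image. -/
abbrev Rl (k : ℕ) : FSch.ModF 𝔜 h𝔜.1 := (FSch.RpushF f h.1 h𝔜.1 q).obj (lvl k 𝔉)

/-- The maps to the levels. -/
abbrev qR (k : ℕ) : (FSch.RpushF f h.1 h𝔜.1 q).obj 𝔉 ⟶ Rl h h𝔜 f 𝔉 q k :=
  (FSch.RpushF f h.1 h𝔜.1 q).map (toLvl k 𝔉)

include h hf h𝔉 in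
lemma qR_ext (V : (𝔜.X 0).Opens) (x : Sec ((FSch.RpushF f h.1 h𝔜.1 q).obj 𝔉) V)
    (hx : ∀ k, mapS (qR h h𝔜 f 𝔉 q k) V x = 0) : x = 0 := by
  haveI := isIso_rho h h𝔜 f hf 𝔉 h𝔉 q
  let hl := isLimitOfPreserves (secF h𝔜 V) (limit.isLimit (D h h𝔜 f q 𝔉))
  have hb := ConcreteCategory.bijective_of_isIso ((secF h𝔜 V).map (rho h h𝔜 f 𝔉 q))
  refine hb.1 ((Concrete.isLimit_ext _ hl _ 0 fun j => ?_).trans (map_zero _).symm)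
  refine Eq.trans ?_ (map_zero _).symm
  exact (congrArg (fun t => ((secF h𝔜 V).map t).hom x) (rho_π h h𝔜 f 𝔉 q j.unop)).trans (hx j.unop)

include h hf h𝔉 in
lemma kill_Rl (k : ℕ) {V : (𝔜.X 0).Opens} (hV : IsAffineOpen V) (r : Rg h𝔜.1 V) (hr : r ∈ Jd h𝔜.1 V ^ (k + 1))
    (z : Sec (Rl h h𝔜 f 𝔉 q k) V) : r • z = 0 := by
  obtain ⟨N, hN, ⟨e⟩⟩ := exists_coh_lvl h k h𝔜 f hf 𝔉 h𝔉 q
  apply (mapSEquiv e V).injective
  rw [map_smul, map_zero]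
  show pr h𝔜.1 k V r • (show Γ(N, 𝔜.lvU h𝔜.1 k V) from mapSEquiv e V z) = 0
  rw [show pr h𝔜.1 k V r = 0 from by rw [← RingHom.mem_ker, ker_pr h𝔜 k hV]; exact hr, zero_smul]

include h hf h𝔉 in
lemma num_Rl (k : ℕ) {U : (𝔜.X 0).Opens} (hU : IsAffineOpen U) (a : Rg h𝔜.1 U)
    (z : Sec (Rl h h𝔜 f 𝔉 q k) (FMod.D h𝔜.1 a)) :
    ∃ (m : ℕ) (b : Sec (Rl h h𝔜 f 𝔉 q k) U), resM _ (D_le a) b = res (D_le a) a ^ m • z := by
  obtain ⟨N, hN, ⟨e⟩⟩ := exists_coh_lvl h k h𝔜 f hf 𝔉 h𝔉 q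
  obtain ⟨m, b, hb⟩ := (level_locM hN.1 (isAffineOpen_lvU h𝔜.1 k hU) (pr h𝔜.1 k U a)
    ((Opens.map (𝔜.gInv h𝔜.1 k)).map (homOfLE (D_le a))) (lvU_D a k)).1 (mapSEquiv e _ z)
  refine ⟨m, (mapSEquiv e U).symm b, (mapSEquiv e _).injective ?_⟩
  rw [map_smul]
  refine (mapS_res e.hom (D_le a) _).trans ?_
  refine (congrArg (resM _ (D_le a)) ((mapSEquiv e U).apply_symm_apply b)).trans (hb.trans ?_)
  show _ = pr h𝔜.1 k _ (res (D_le a) a ^ m) • (show Γ(N, 𝔜.lvU h𝔜.1 k (FMod.D h𝔜.1 a)) from mapSEquiv e _ z)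
  rw [map_pow, pr_res]

include h hf h𝔉 in
lemma den_Rl (k : ℕ) {U : (𝔜.X 0).Opens} (hU : IsAffineOpen U) (a : Rg h𝔜.1 U)
    (b : Sec (Rl h h𝔜 f 𝔉 q k) U) (hb : resM _ (D_le a) b = 0) : ∃ N : ℕ, a ^ N • b = 0 := by
  obtain ⟨N, hN, ⟨e⟩⟩ := exists_coh_lvl h k h𝔜 f hf 𝔉 h𝔉 q
  obtain ⟨n, hn⟩ := (level_locM hN.1 (isAffineOpen_lvU h𝔜.1 k hU) (pr h𝔜.1 k U a)
    ((Opens.map (𝔜.gInv h𝔜.1 k)).map (homOfLE (D_le a))) (lvU_D a k)).2 (mapSEquiv e U b)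
    ((mapS_res e.hom (D_le a) b).symm.trans ((congrArg _ hb).trans (map_zero _)))
  refine ⟨n, (mapSEquiv e U).injective ?_⟩
  rw [map_smul, map_zero]
  show pr h𝔜.1 k U (a ^ n) • (show Γ(N, 𝔜.lvU h𝔜.1 k U) from mapSEquiv e U b) = 0
  rw [map_pow]
  exact hn

include h hf h𝔉 in
lemma finite_Rl (k : ℕ) {U : (𝔜.X 0).Opens} (hU : IsAffineOpen U) :
    Module.Finite (Rg h𝔜.1 U) (Sec (Rl h h𝔜 f 𝔉 q k) U) := by
  obtain ⟨N, hN, ⟨e⟩⟩ := exists_coh_lvl h k h𝔜 f hf 𝔉 h𝔉 q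
  haveI : Module.Finite Γ(𝔜.X k, 𝔜.lvU h𝔜.1 k U) Γ(N, 𝔜.lvU h𝔜.1 k U) :=
    QCoh.finite_of_isFT hN.1 hN.2 (isAffineOpen_lvU h𝔜.1 k hU)
  obtain ⟨n, x, hx⟩ := Module.Finite.exists_fin (R := Γ(𝔜.X k, 𝔜.lvU h𝔜.1 k U)) (M := Γ(N, 𝔜.lvU h𝔜.1 k U))
  haveI : Module.Finite (Rg h𝔜.1 U) (Sec ((FSch.levelMor 𝔜 h𝔜.1 k).push.obj N) U) := by
    classical
    refine ⟨⟨Finset.univ.image (fun i : Fin n => (show Sec ((FSch.levelMor 𝔜 h𝔜.1 k).push.obj N) U from x i)), ?_⟩⟩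
    rw [Finset.coe_image, Finset.coe_univ, Set.image_univ, eq_top_iff]
    intro y _
    obtain ⟨c, hc⟩ := (Submodule.mem_span_range_iff_exists_fun _).1
      (hx.ge (Submodule.mem_top (x := (show Γ(N, 𝔜.lvU h𝔜.1 k U) from y))))
    choose c' hc' using fun i => pr_surjective h𝔜 k hU (c i)
    refine (Submodule.mem_span_range_iff_exists_fun _).2 ⟨c', ?_⟩
    refine Eq.trans ?_ hc
    exact Finset.sum_congr rfl fun i _ => congrArg (· • x i) (hc' i)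
  exact Module.Finite.equiv (mapSEquiv e U).symm

include h hf h𝔉 in
/-- Coherence over an affine base. -/
theorem isCohF_rpush_affine (hT : IsAffineOpen (⊤ : (𝔜.X 0).Opens)) :
    FSch.IsCohF 𝔜 h𝔜.1 ((FSch.RpushF f h.1 h𝔜.1 q).obj 𝔉) := by
  classical
  haveI : IsAffine ((⊤ : (𝔜.X 0).Opens) : Scheme.{u}) := hT
  haveI : IsAffine (𝔜.X 0) := IsAffine.of_isIso (𝔜.X 0).topIso.inv
  haveI := h𝔜.2.2 0
  haveI := h𝔜.2.2 1
  obtain ⟨A, _, J, hA, hJc, ⟨eA⟩⟩ :=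
    FComplLib.exists_iso_spf h𝔜.1 h𝔜.2.1 (FComplLib.locFG_of_isLocallyNoetherian _)
  haveI := hA
  let g := f ≫ eA.hom
  have hg : FSch.IsProperHom g := isProperHom_comp_iso hf eA
  have heA : FSch.IsAdicHom eA.hom := fun n => by
    have hi : ∀ n, IsIso ((eA.hom : FSch.Hom _ _).app n) := fun n =>
      ⟨(eA.inv : FSch.Hom _ _).app n,
        congrArg (fun t : 𝔜 ⟶ 𝔜 => (t : FSch.Hom _ _).app n) eA.hom_inv_id,
        congrArg (fun t : FSch.spf A J ⟶ FSch.spf A J => (t : FSch.Hom _ _).app n) eA.inv_hom_id⟩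
    haveI := hi n
    haveI := hi (n + 1)
    exact IsPullback.of_vert_isIso ⟨((eA.hom : FSch.Hom _ _).comm n).symm⟩
  have hJfg : J.FG := IsNoetherian.noetherian J
  obtain ⟨s, a, ha⟩ := Submodule.fg_iff_exists_fin_generating_family.1 hJfg
  let r : Fin s → Rg h𝔜.1 ⊤ := fun i => rA eA.hom h𝔜.1 (a i)
  have hJd : Jd h𝔜.1 ⊤ = Ideal.span (Set.range r) := by
    rw [Jd_eq_span eA.hom h𝔜 heA a ha ⊤ hT]
    exact congrArg Ideal.span (congrArg Set.range (funext fun i => rTop_self h𝔜 _))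
  obtain ⟨E⟩ := nonempty_E h h𝔜 f q
  let R := FSch.RpushF f h.1 h𝔜.1 q
  let ξ := xi h h𝔜 f q E
  have hξ := bijective_xi h h𝔜 f q E hf 𝔉 h𝔉 hT
  have hξl := bijective_xi_lvl h h𝔜 f q E hf 𝔉 h𝔉 hT
  have hu : ∀ k (x : Sheaf.H ((Sh h.1).obj 𝔉) q), mapS (qR h h𝔜 f 𝔉 q k) ⊤ (ξ 𝔉 x) = ξ (lvl k 𝔉) (uH h q k x) :=
    fun k x => (xi_map h h𝔜 f q E (toLvl k 𝔉) x).symm
  have hm : ∀ i (x : Sheaf.H ((Sh h.1).obj 𝔉) q), r i • ξ 𝔉 x = ξ 𝔉 (mH h q (rA g h.1 (a i)) x) := fun i x => by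
    show _ = xi h h𝔜 f q E 𝔉 (Sheaf.H.map ((Sh h.1).map (smulF (rA (f ≫ eA.hom) h.1 (a i)) 𝔉)) q x)
    rw [← rX_rA h h𝔜 f eA.hom (a i)]
    refine Eq.trans ?_ (xi_map h h𝔜 f q E _ x).symm
    rw [rpush_smulF, smulF_app, rTop_self h𝔜]
  let F : ℕ → Submodule (Rg h𝔜.1 ⊤) (Sec (R.obj 𝔉) ⊤) := fun k => LinearMap.ker (mapS (qR h h𝔜 f 𝔉 q k) ⊤)
  have hF : ∀ k x, ξ 𝔉 x ∈ F k ↔ uH h q k x = 0 := fun k x => by
    rw [LinearMap.mem_ker, hu]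
    exact ⟨fun e => (hξl k).1 (e.trans (map_zero _).symm), fun e => by rw [e, map_zero]⟩
  have htr : ∀ k, qR h h𝔜 f 𝔉 q (k + 1) ≫ R.map (FSch.levelTrans 𝔛 h.1 𝔉 k) = qR h h𝔜 f 𝔉 q k := fun k =>
    (R.map_comp _ _).symm.trans (congrArg R.map (FSch.unit_levelTrans 𝔛 h.1 𝔉 k))
  have hmono : ∀ k, F (k + 1) ≤ F k := fun k x hx => by
    rw [LinearMap.mem_ker] at hx ⊢
    rw [← htr k, mapS_comp, hx, map_zero]
  have hgJ : ∀ U, IsAffineOpen U → FMod.Jd h.1 U = Ideal.span (Set.range fun i => rTop (rA g h.1 (a i)) U) :=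
    Jd_eq_span g h hg.1 a ha
  have hmul : ∀ k, Jd h𝔜.1 ⊤ • F k ≤ F (k + 1) := fun k => by
    rw [hJd, Submodule.smul_le]
    intro b hb
    induction hb using Submodule.span_induction with
    | mem b hb =>
      obtain ⟨i, rfl⟩ := hb
      intro x hx
      obtain ⟨x', rfl⟩ := hξ.2 x
      rw [hm, hF]
      rw [mH_uH_succ h h𝔉 q k _ (rTop_mem h (fun i => rA g h.1 (a i)) hgJ i), (hF k x').1 hx, map_zero]
    | zero => intro x _; rw [zero_smul]; exact zero_mem _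
    | add b b' _ _ hb hb' => intro x hx; rw [add_smul]; exact add_mem (hb x hx) (hb' x hx)
    | smul c b _ hb => intro x hx; rw [smul_assoc]; exact Submodule.smul_mem _ _ (hb x hx)
  have hfinF : ∀ k, Module.Finite (Rg h𝔜.1 ⊤) (Sec (R.obj 𝔉) ⊤ ⧸ F k) := fun k => by
    haveI := noetherian h𝔜 hT
    haveI := finite_Rl h h𝔜 f hf 𝔉 h𝔉 q k hT
    exact Module.Finite.of_injective ((F k).liftQ (mapS (qR h h𝔜 f 𝔉 q k) ⊤) le_rfl)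
      (LinearMap.ker_eq_bot.1 (Submodule.ker_liftQ_eq_bot _ _ _ le_rfl))
  have hzero : ∀ x, (∀ k, x ∈ F k) → x = 0 := fun x hx => qR_ext h h𝔜 f hf 𝔉 h𝔉 q ⊤ x fun k => LinearMap.mem_ker.1 (hx k)
  obtain ⟨d, hd1, hd⟩ := exists_gen_filt h h𝔉 g hg a ha q
  have hgen : ∀ j, F (d - 1 + j + 1) ≤ Jd h𝔜.1 ⊤ • F (d - 1 + j) ⊔ F (d - 1 + j + 2) := by
    intro j x hx
    obtain ⟨x', rfl⟩ := hξ.2 x
    obtain ⟨y, hy, hy'⟩ := hd (d - 1 + j + 1) (by omega) x' ((hF _ x').1 hx)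
    refine Submodule.mem_sup.2 ⟨∑ i, r i • ξ 𝔉 (y i), Submodule.sum_mem _ fun i _ => ?_,
      ξ 𝔉 x' - ∑ i, r i • ξ 𝔉 (y i), ?_, add_sub_cancel _ _⟩
    · refine Submodule.smul_mem_smul (hJd ▸ Ideal.subset_span ⟨i, rfl⟩) ((hF _ _).2 ?_)
      simpa using hy i
    · simp only [hm, ← map_sum, ← map_sub]
      exact (hF _ _).2 hy'
  have htop : ∀ (x : Sec (R.obj 𝔉) ⊤), ∀ b ∈ Jd h𝔜.1 ⊤, b • x ∈ F 0 := fun x b hb => by
    rw [LinearMap.mem_ker, map_smul]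
    exact kill_Rl h h𝔜 f hf 𝔉 h𝔉 q 0 hT b (by rwa [zero_add, pow_one]) _
  haveI := noetherian h𝔜 hT
  haveI := complete h𝔜 hT
  obtain ⟨hfin, hadic⟩ := Edge.finite_and_adic (Jd h𝔜.1 ⊤) F hmono hmul hzero hfinF (d - 1) hgen htop
  obtain ⟨c, hc⟩ := exists_stable_lift h h𝔉 g hg hJfg q
  obtain ⟨P⟩ := nonempty_pres_lim h𝔜 (R.obj 𝔉) (Rl h h𝔜 f 𝔉 q) (qR h h𝔜 f 𝔉 q) hT
    (qR_ext h h𝔜 f hf 𝔉 h𝔉 q) (fun k V hV r hr z => kill_Rl h h𝔜 f hf 𝔉 h𝔉 q k hV r hr z)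
    (fun k => num_Rl h h𝔜 f hf 𝔉 h𝔉 q k hT) (fun k => den_Rl h h𝔜 f hf 𝔉 h𝔉 q k hT) hfin d
    (fun k x hx => by
      rcases Nat.lt_or_ge k d with hk | hk
      · rw [show k + 1 - d = 0 by omega, pow_zero, Ideal.one_eq_top, Submodule.top_smul]
        exact Submodule.mem_top
      · obtain ⟨j, rfl⟩ : ∃ j, k = d - 1 + j + 1 := ⟨k - d, by omega⟩
        rw [show d - 1 + j + 1 + 1 - d = j + 1 by omega]
        exact hadic j (LinearMap.mem_ker.2 hx))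
    (fun k => R.map (FSch.levelTrans 𝔛 h.1 𝔉 k)) htr c (fun k => R.map (trF h 𝔉 k c))
    (fun k => (R.map_comp _ _).symm.trans (congrArg R.map (toLvl_trF h 𝔉 k c)))
    (fun k y => by
      obtain ⟨y', rfl⟩ := (hξl (k + c)).2 y
      obtain ⟨x, hx⟩ := hc k y'
      refine ⟨ξ 𝔉 x, ?_⟩
      rw [hu, hx, ← trF_trH h 𝔉 q k c y']
      exact xi_map h h𝔜 f q E (trF h 𝔉 k c) y')
  exact isFinitePresentation_of_pres _ fun X => ModPull.Locally.of_id fun V g => ⟨presPull P (homOfLE le_top)⟩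

end Groth.Agent.H26.FMod.RpushLim
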