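import Groth.Agent.H26.Edge.RpushRestrict
import Groth.Agent.H26.FMod.ToXLevel
import Groth.Agent.H26.FMod.RpushAffine
import Groth.Agent.S0057
import Groth.Agent.S0058
import Groth.Agent.S3854

/-!
# Formal functions over the affine opens of the base
-/

noncomputable section

set_option autoImplicit false
set_option maxHeartbeats 1000000
set_option linter.style.haveILetI false
set_option backward.isDefEq.respectTransparency false
set_option backward.isDefEq.respectTransparency.types false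

universe u

open CategoryTheory CategoryTheory.Limits TopologicalSpace Opposite AlgebraicGeometry

namespace Groth.Agent.H26.FMod

variable {X : Scheme.{u}} (𝓚 : X.IdealSheafData) [IsLocallyNoetherian X]

/-- Composite transitions of the pushed levels. -/
def trP (F : X.Modules) (k c : ℕ) :
    lvPush 𝓚 (S3854.result X 𝓚).1 (M := F) (k + c) ⟶ lvPush 𝓚 (S3854.result X 𝓚).1 (M := F) k :=
  (toX 𝓚 (S3854.result X 𝓚).1).push.map
    (RpushLim.trF (S3854.result X 𝓚) ((toX 𝓚 (S3854.result X 𝓚).1).pull.obj F) k c)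

lemma lvEta_trP (F : X.Modules) (k c : ℕ) :
    lvEta 𝓚 (S3854.result X 𝓚).1 (M := F) (k + c) ≫ trP 𝓚 F k c = lvEta 𝓚 (S3854.result X 𝓚).1 (M := F) k :=
  (Category.assoc _ _ _).trans (congrArg (_ ≫ ·) (((toX 𝓚 (S3854.result X 𝓚).1).push.map_comp _ _).symm.trans
    (congrArg (toX 𝓚 (S3854.result X 𝓚).1).push.map
      (RpushLim.toLvl_trF (S3854.result X 𝓚) ((toX 𝓚 (S3854.result X 𝓚).1).pull.obj F) k c))))

lemma π_completion_map {A : Type u} [CommRing A] (I : Ideal A) {W : Scheme.{u}} [W.Over (Spec (CommRingCat.of A))]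
    (N : W.Modules) (k : ℕ) : ∀ c, Formal.modPowπ I (k + c + 1) N ≫
      (Formal.completion I N).map (homOfLE (Nat.le_add_right k c)).op = Formal.modPowπ I (k + 1) N
  | 0 => by
    rw [show (homOfLE (Nat.le_add_right k 0)).op = 𝟙 (op k) from Subsingleton.elim _ _]
    exact (congrArg (Formal.modPowπ I (k + 1) N ≫ ·) ((Formal.completion I N).map_id (op k))).trans (Category.comp_id _)
  | c + 1 => by
    rw [show (homOfLE (Nat.le_add_right k (c + 1))).op =
        (homOfLE (Nat.le_add_right (k + c) 1)).op ≫ (homOfLE (Nat.le_add_right k c)).op from Subsingleton.elim _ _,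
      Functor.map_comp, show (Formal.completion I N).map (homOfLE (Nat.le_add_right (k + c) 1)).op =
        Formal.modPowTrans I (k + c + 1) N from Functor.ofOpSequence_map_homOfLE_succ
          (X := fun n => Formal.modPow I (n + 1) N) (fun n => Formal.modPowTrans I (n + 1) N) (k + c)]
    exact (Category.assoc _ _ _).symm.trans
      ((congrArg (· ≫ _) (Formal.modPowπ_trans I (k + c + 1) N)).trans (π_completion_map I N k c))

variable {Y : Scheme.{u}} (f : X ⟶ Y) (𝓘 : Y.IdealSheafData) {U : Y.Opens} (hU : IsAffineOpen U)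

lemma rhoV_res {V : (↑(f ⁻¹ᵁ U) : Scheme.{u}).Opens} (a : Γ(Y, U)) (e : (f ⁻¹ᵁ U).ι ''ᵁ V ≤ f ⁻¹ᵁ U) :
    ((f ⁻¹ᵁ U).ι.appIso V).hom.hom ((f.appLE U ((f ⁻¹ᵁ U).ι ''ᵁ V) e).hom a) =
      (show Γ(↑(f ⁻¹ᵁ U), V) from Coh.resTop _ (op V) (QCoh.rhoV f U a)) := by
  let W : X.Opens := f ⁻¹ᵁ U
  show _ = ((↑W : Scheme.{u}).presheaf.map (homOfLE (le_top : V ≤ ⊤)).op).hom
    ((W.ι.appLE W ⊤ W.ι_preimage_self.ge).hom ((f.app U).hom a))
  refine (congrArg (fun t => t.hom a) (?_ : f.appLE U (W.ι ''ᵁ V) e ≫ (W.ι.appIso V).hom =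
    f.app U ≫ W.ι.appLE W ⊤ W.ι_preimage_self.ge ≫ (↑W : Scheme.{u}).presheaf.map (homOfLE (le_top : V ≤ ⊤)).op))
  rw [Scheme.Hom.appIso_hom', Scheme.Hom.appLE, Category.assoc, Scheme.Hom.map_appLE, Scheme.Hom.appLE_map]

include hU in
/-- Formal functions over an affine open of the base, for higher direct images. -/
theorem exists_ff [IsLocallyNoetherian Y] [IsProper f] [HasInjectiveResolutions X.Modules] (h𝓚 : 𝓚 = 𝓘.comap f)
    {F : X.Modules} (hF : Coh.IsCoh F) (q : ℕ) :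
    ∃ c : ℕ,
      (∀ k (m : Γ((Coh.Rpush f q).obj F, U)),
        ((Coh.Rpush f q).map (lvEta 𝓚 (S3854.result X 𝓚).1 (M := F) k)).app U m = 0 →
          m ∈ 𝓘.ideal ⟨U, hU⟩ ^ (k - c) • (⊤ : Submodule Γ(Y, U) Γ((Coh.Rpush f q).obj F, U))) ∧
      ∀ k (z : Γ((Coh.Rpush f q).obj (lvPush 𝓚 (S3854.result X 𝓚).1 (M := F) (k + c)), U)),
        ∃ m, ((Coh.Rpush f q).map (lvEta 𝓚 (S3854.result X 𝓚).1 (M := F) k)).app U m =
          ((Coh.Rpush f q).map (trP 𝓚 F k c)).app U z := by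
  classical
  let W : X.Opens := f ⁻¹ᵁ U
  let A := Γ(Y, U)
  let I : Ideal A := 𝓘.ideal ⟨U, hU⟩
  let hX := (S3854.result X 𝓚).1
  letI : (↑W : Scheme.{u}).Over (Spec (CommRingCat.of A)) := ⟨QCoh.overSpec f hU⟩
  haveI : IsProper ((↑W : Scheme.{u}) ↘ Spec (CommRingCat.of A)) := by
    show IsProper ((f ∣_ U) ≫ hU.isoSpec.hom)
    infer_instance
  haveI : IsNoetherianRing A := IsLocallyNoetherian.component_noetherian ⟨U, hU⟩
  haveI : IsAffine (↑U : Scheme.{u}) := hU
  haveI : HasInjectiveResolutions (↑W : Scheme.{u}).Modules := KFlatLib.hasInjectiveResolutions_modules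
  let g : (↑W : Scheme.{u}) ⟶ ↑U := f ∣_ U
  let res : X.Modules ⥤ (↑W : Scheme.{u}).Modules := Scheme.Modules.restrictFunctor W.ι
  let N := res.obj F
  have hN : Coh.IsCoh N := QCoh.isCoh_restrict_open hF
  let ε : ∀ k, N ⟶ res.obj (lvPush 𝓚 hX (M := F) k) := fun k => res.map (lvEta 𝓚 hX (M := F) k)
  -- the levels over the open are the quotients
  have hε : ∀ (k : ℕ) (V : (↑W : Scheme.{u}).Opens), IsAffineOpen V →
      Function.Surjective ((ε k).app V) ∧ ∀ s, (ε k).app V s = 0 ↔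
        s ∈ (I ^ (k + 1)).map (FFun.φsec V) • (⊤ : Submodule Γ(↑W, V) Γ(N, V)) := fun k V hV => by
    have hV' : IsAffineOpen (W.ι ''ᵁ V) := hV.image_of_isOpenImmersion W.ι
    have e : W.ι ''ᵁ V ≤ f ⁻¹ᵁ U := by
      refine (W.ι.image_le_opensRange V).trans ?_
      rw [Scheme.Opens.opensRange_ι]
    obtain ⟨hs, hk⟩ := lvEta_app 𝓚 hX hF.1 k hV'
    have hid : (𝓚 ^ (k + 1)).ideal ⟨W.ι ''ᵁ V, hV'⟩ = (I ^ (k + 1)).map (f.appLE U (W.ι ''ᵁ V) e).hom := by
      rw [Scheme.IdealSheafData.ideal_pow, Pi.pow_apply, Ideal.map_pow, h𝓚,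
        ModPairLib.ideal_comap 𝓘 f ⟨U, hU⟩ ⟨_, hV'⟩ e]
    have hφ : ∀ a : A, FFun.φsec V a = (W.ι.appIso V).hom.hom ((f.appLE U (W.ι ''ᵁ V) e).hom a) := fun a => by
      rw [rhoV_res f a e, ← QCoh.toGlobal_overSpec f hU]
      rfl
    have hsm : ∀ (a : A) (t : Γ(N, V)), (FFun.φsec V a • t : Γ(N, V)) =
        (f.appLE U (W.ι ''ᵁ V) e).hom a • (show Γ(F, W.ι ''ᵁ V) from t) := fun a t => by
      rw [hφ]
      show (W.ι.appIso V).inv.hom ((W.ι.appIso V).hom.hom _) • (show Γ(F, W.ι ''ᵁ V) from t) = _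
      rw [← CommRingCat.comp_apply, Iso.hom_inv_id]
      rfl
    refine ⟨hs, fun s => ((hk s).trans ⟨fun hm => ?_, fun hm => ?_⟩)⟩
    · rw [hid] at hm
      refine Submodule.smul_induction_on hm ?_ fun x y hx hy => Submodule.add_mem _ hx hy
      intro r hr t _
      refine Submodule.span_induction (p := fun r _ => ∀ t, (show Γ(N, V) from r • (show Γ(F, W.ι ''ᵁ V) from t)) ∈
        (I ^ (k + 1)).map (FFun.φsec V) • (⊤ : Submodule Γ(↑W, V) Γ(N, V))) ?_ ?_ ?_ ?_ hr t
      · rintro _ ⟨a, ha, rfl⟩ t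
        exact (hsm a t) ▸ Submodule.smul_mem_smul (Ideal.mem_map_of_mem _ ha) Submodule.mem_top
      · intro t; rw [zero_smul]; exact zero_mem _
      · intro x y _ _ hx hy t; rw [add_smul]; exact add_mem (hx t) (hy t)
      · intro b x _ hx t
        rw [smul_assoc, smul_comm]
        exact hx _
    · rw [hid]
      refine Submodule.smul_induction_on hm ?_ fun x y hx hy => Submodule.add_mem _ hx hy
      intro r hr t _
      refine Submodule.span_induction (p := fun r _ => ∀ t : Γ(N, V), (show Γ(F, W.ι ''ᵁ V) from r • t) ∈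
        (I ^ (k + 1)).map (f.appLE U (W.ι ''ᵁ V) e).hom • (⊤ : Submodule Γ(X, W.ι ''ᵁ V) Γ(F, W.ι ''ᵁ V))) ?_ ?_ ?_ ?_ hr t
      · rintro _ ⟨a, ha, rfl⟩ t
        exact (hsm a t).symm ▸ Submodule.smul_mem_smul (Ideal.mem_map_of_mem _ ha) Submodule.mem_top
      · intro t; rw [zero_smul]; exact zero_mem _
      · intro x y _ _ hx hy t; rw [add_smul]; exact add_mem (hx t) (hy t)
      · intro b x _ hx t
        rw [smul_assoc, smul_comm]
        exact hx _
  have hεsm : ∀ k a, a ∈ I ^ (k + 1) → Formal.smulMod A N a ≫ ε k = 0 := fun k a ha =>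
    Scheme.Modules.hom_ext _ _ fun V => by
      ext s
      refine QCoh.eq_zero_of_locally _ _ fun p hp => ?_
      obtain ⟨_, ⟨V', hV', rfl⟩, hpV, hle⟩ :=
        (↑W : Scheme.{u}).isBasis_affineOpens.exists_subset_of_mem_open hp V.2
      refine ⟨V', homOfLE hle, hpV, ?_⟩
      refine (congr($((Formal.smulMod A N a ≫ ε k).mapPresheaf.naturality (homOfLE hle).op) s)).symm.trans ?_
      refine ((hε k V' hV').2 _).2 ?_
      show (Formal.smulMod A N a).app V' _ ∈ _
      rw [FFun.smulMod_app]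
      exact Submodule.smul_mem_smul (Ideal.mem_map_of_mem _ ha) Submodule.mem_top
  let ψ : ∀ k, Formal.modPow I (k + 1) N ⟶ res.obj (lvPush 𝓚 hX (M := F) k) := fun k =>
    cokernel.desc _ (ε k) (Sigma.hom_ext _ _ fun a => by
      rw [comp_zero, ← Category.assoc, show Sigma.ι (fun _ : (I ^ (k + 1) : Ideal A) => N) a ≫
        Formal.smulFamily (I ^ (k + 1)) N = Formal.smulMod A N (a : A) from by simp [Formal.smulFamily]]
      exact hεsm k a a.2)
  have hπψ : ∀ k, Formal.modPowπ I (k + 1) N ≫ ψ k = ε k := fun k => cokernel.π_desc _ _ _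
  have hψ : ∀ k, IsIso (ψ k) := fun k => by
    haveI : Epi (Formal.modPowπ I (k + 1) N) := inferInstanceAs (Epi (cokernel.π _))
    refine QCoh.isIso_of_isBasis _ (↑W : Scheme.{u}).isBasis_affineOpens fun V (hV : IsAffineOpen V) => ?_
    have hC : Coh.IsQCoh (Formal.modPow I (k + 1) N) := (FFun.isCoh_modJ (I ^ (k + 1)) hN).1
    have e : ∀ s, (ψ k).app V ((Formal.modPowπ I (k + 1) N).app V s) = (ε k).app V s :=
      fun s => congrArg (fun t => Scheme.Modules.Hom.app t V s) (hπψ k)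
    refine ⟨(injective_iff_map_eq_zero _).2 fun z hz => ?_, fun y => ?_⟩
    · obtain ⟨s, rfl⟩ := QCoh.app_surjective_of_epi hN.1 hC (Formal.modPowπ I (k + 1) N) hV z
      rw [e] at hz
      exact FFun.π_app_eq_zero N _ V (((hε k V hV).2 s).1 hz)
    · obtain ⟨s, rfl⟩ := (hε k V hV).1 y
      exact ⟨_, e s⟩
  haveI := hψ
  have hψq : ∀ k, Coh.IsQCoh (res.obj (lvPush 𝓚 hX (M := F) k)) := fun k =>
    (QCoh.isQCoh_iff_iso (asIso (ψ k))).1 (FFun.isCoh_modJ (I ^ (k + 1)) hN).1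
  -- sections over the open as cohomology
  obtain ⟨Φ⟩ := Edge.nonempty_rpush_restrictFunctor f U q
  obtain ⟨ξ, hξn, hξb⟩ := Edge.exists_global_sections g q
  have htop : U.ι ''ᵁ ⊤ = U := (Scheme.Hom.image_top_eq_opensRange _).trans U.opensRange_ι
  let R := Coh.Rpush f q
  let Λ : ∀ M : X.Modules, Coh.HH (↑W : Scheme.{u}) (res.obj M) q →+ Γ(R.obj M, U) := fun M =>
    (((R.obj M).presheaf.map (homOfLE htop.ge).op).hom.comp
      ((Scheme.Modules.Hom.app (M := (Coh.Rpush g q).obj (res.obj M)) (N := (R.obj M).restrict U.ι)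
        (Φ.inv.app M) ⊤).hom)).comp (ξ (res.obj M))
  have hΛn : ∀ {M M' : X.Modules} (α : M ⟶ M') (h : Coh.HH _ (res.obj M) q),
      Λ M' (Sheaf.H.map ((SheafOfModules.toSheaf _).map (res.map α)) q h) = (R.map α).app U (Λ M h) := fun {M M'} α h => by
    show (R.obj M').presheaf.map _ ((Scheme.Modules.Hom.app (Φ.inv.app M') ⊤) _) = _
    rw [hξn (res.map α) h]
    refine (congrArg ((R.obj M').presheaf.map (homOfLE htop.ge).op).hom
      (congrArg (fun t => Scheme.Modules.Hom.app t ⊤ (ξ (res.obj M) h)) (Φ.inv.naturality α))).trans ?_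
    exact (congr($((R.map α).mapPresheaf.naturality (homOfLE htop.ge).op)
      ((Φ.inv.app M).app ⊤ (ξ (res.obj M) h)))).symm
  have hΛb : ∀ M, Coh.IsQCoh (res.obj M) → Function.Bijective (Λ M) := fun M hM => by
    haveI : IsIso (Scheme.Modules.Hom.app (M := (Coh.Rpush g q).obj (res.obj M)) (N := (R.obj M).restrict U.ι)
        (Φ.inv.app M) ⊤) := Scheme.Modules.Hom.isIso_iff_isIso_app.mp inferInstance ⊤
    exact ((bijective_map_of_eq (R.obj M) (homOfLE htop.ge) htop.symm).comp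
      (ConcreteCategory.bijective_of_isIso (Scheme.Modules.Hom.app (M := (Coh.Rpush g q).obj (res.obj M))
        (N := (R.obj M).restrict U.ι) (Φ.inv.app M) ⊤))).comp (hξb _ hM)
  have hΛsm : ∀ (a : A) (h : Coh.HH _ N q), Λ F (a • h) = a • Λ F h := fun a h => by
    let b : Coh.Γtop (↑U : Scheme.{u}) := (U.ι.appLE U ⊤ U.ι_preimage_self.ge).hom a
    have h1 : Coh.toGlobal ((↑W : Scheme.{u}) ↘ Spec (CommRingCat.of A)) a = g.appTop.hom b := by
      refine (congrArg (fun t : A →+* _ => t a) (QCoh.toGlobal_overSpec f hU)).trans ?_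
      show (W.ι.appLE W ⊤ W.ι_preimage_self.ge).hom ((f.app U).hom a) =
        (g.app ⊤).hom ((U.ι.appLE U ⊤ U.ι_preimage_self.ge).hom a)
      refine congrArg (fun t => t.hom a) (?_ : f.app U ≫ W.ι.appLE W ⊤ W.ι_preimage_self.ge =
        U.ι.appLE U ⊤ U.ι_preimage_self.ge ≫ g.app ⊤)
      rw [Scheme.Hom.app_eq_appLE, Scheme.Hom.app_eq_appLE, Scheme.Hom.appLE_comp_appLE, Scheme.Hom.appLE_comp_appLE]
      simp only [g, morphismRestrict_ι]
      rfl
    have h2 : ξ N (a • h) = (show Γ((↑U : Scheme.{u}), ⊤) from b) • ξ N h := by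
      show ξ N (Sheaf.H.map ((SheafOfModules.toSheaf _).map (Formal.smulMod A N a)) q h) = _
      rw [hξn (Formal.smulMod A N a) h, Formal.smulMod, h1, Edge.rpush_smulModΓ g q b N]
      show (show Γ((↑U : Scheme.{u}), ⊤) from (↑U : Scheme.{u}).presheaf.map (homOfLE (le_top : (⊤ : (↑U : Scheme.{u}).Opens) ≤ ⊤)).op b) • ξ N h = _
      rw [Subsingleton.elim (homOfLE (le_top : (⊤ : (↑U : Scheme.{u}).Opens) ≤ ⊤)).op (𝟙 _),
        CategoryTheory.Functor.map_id]
      rfl
    show (R.obj F).presheaf.map _ ((Scheme.Modules.Hom.app (Φ.inv.app F) ⊤) (ξ N (a • h))) = _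
    rw [h2]
    refine (congrArg ((R.obj F).presheaf.map (homOfLE htop.ge).op).hom
      (Scheme.Modules.Hom.app_smul (M := (Coh.Rpush g q).obj (res.obj F)) (N := (R.obj F).restrict U.ι)
        (Φ.inv.app F) b (ξ N h))).trans ?_
    show ((R.obj F).presheaf.map (homOfLE htop.ge).op).hom
      ((U.ι.appIso ⊤).inv.hom b • (show Γ(R.obj F, U.ι ''ᵁ ⊤) from _)) = _
    refine (QCoh.map_smul' (homOfLE htop.ge) _ _).trans (congrArg (· • Λ F h) ?_)
    haveI : IsIso (homOfLE htop.le).op := ⟨(homOfLE htop.ge).op, Subsingleton.elim _ _, Subsingleton.elim _ _⟩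
    refine (congrArg (fun t => t.hom a) (?_ : U.ι.appLE U ⊤ U.ι_preimage_self.ge ≫ (U.ι.appIso ⊤).inv ≫
      Y.presheaf.map (homOfLE htop.ge).op = 𝟙 _))
    rw [← cancel_mono (Y.presheaf.map (homOfLE htop.le).op), Category.assoc, Category.assoc, ← Functor.map_comp,
      Subsingleton.elim ((homOfLE htop.ge).op ≫ (homOfLE htop.le).op) (𝟙 _), CategoryTheory.Functor.map_id,
      Category.comp_id, ← cancel_mono (U.ι.appIso ⊤).hom, Category.assoc, Iso.inv_hom_id, Category.comp_id,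
      Category.id_comp, Scheme.Hom.appIso_hom', Scheme.Hom.map_appLE]
  have hH : ∀ k, Function.Injective (Sheaf.H.map ((SheafOfModules.toSheaf _).map (ψ k)) q) := fun k =>
    (mapEquiv (ψ k) q).injective
  have hεH : ∀ k (h : Coh.HH _ N q), Sheaf.H.map ((SheafOfModules.toSheaf _).map (ε k)) q h =
      Sheaf.H.map ((SheafOfModules.toSheaf _).map (ψ k)) q (Formal.toHHmodPow I N q k h) := fun k h => by
    rw [← hπψ k]
    exact (Formal.HHmap_comp (Formal.modPowπ I (k + 1) N) (ψ k) q h).symm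
  obtain ⟨c₁, hc₁⟩ := S0057.result A I ↑W N hN q
  obtain ⟨c₂, hc₂⟩ := S0058.result A I ↑W N hN q
  refine ⟨max c₁ c₂, fun k m hm => ?_, fun k z => ?_⟩
  · obtain ⟨h, rfl⟩ := (hΛb F hN.1).2 m
    rw [← hΛn, hεH] at hm
    have h3 : Formal.toHHmodPow I N q k h = 0 :=
      hH k (((hΛb _ (hψq k)).1 (hm.trans (map_zero _).symm)).trans (map_zero _).symm)
    rcases le_or_gt (max c₁ c₂) k with hk | hk
    · have h4 : h ∈ I ^ (k - max c₁ c₂) • (⊤ : Submodule A (Coh.HH _ N q)) :=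
        Submodule.smul_mono_left (Ideal.pow_le_pow_right (by omega)) (hc₁ k (le_trans (le_max_left _ _) hk) h3)
      refine Submodule.smul_induction_on h4 (fun a ha t _ => ?_) fun x y hx hy => ?_
      · rw [hΛsm]; exact Submodule.smul_mem_smul ha Submodule.mem_top
      · rw [map_add]; exact Submodule.add_mem _ hx hy
    · rw [show k - max c₁ c₂ = 0 by omega, pow_zero, Ideal.one_eq_top, Submodule.top_smul]
      exact Submodule.mem_top
  · obtain ⟨y', rfl⟩ := (hΛb _ (hψq _)).2 z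
    obtain ⟨y, rfl⟩ := (mapEquiv (ψ (k + max c₁ c₂)) q).surjective y'
    obtain ⟨h, hh⟩ := (hc₂ k (k + max c₁ c₂) (Nat.le_add_right _ _) (by omega)).subset ⟨y, rfl⟩
    refine ⟨Λ F h, ?_⟩
    rw [← hΛn, ← hΛn, hεH]
    refine congrArg (Λ _) ?_
    rw [hh]
    refine (Formal.HHmap_comp _ _ q y).trans (Eq.trans ?_ (Formal.HHmap_comp _ _ q y).symm)
    refine congrArg (fun t => Sheaf.H.map ((SheafOfModules.toSheaf _).map t) q y) ?_
    haveI : Epi (Formal.modPowπ I (k + max c₁ c₂ + 1) N) := inferInstanceAs (Epi (cokernel.π _))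
    rw [← cancel_epi (Formal.modPowπ I (k + max c₁ c₂ + 1) N), ← Category.assoc, π_completion_map, hπψ,
      ← Category.assoc, hπψ]
    exact ((congrArg res.map (lvEta_trP 𝓚 F k (max c₁ c₂))).symm.trans (res.map_comp _ _))

end Groth.Agent.H26.FMod
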