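import Groth.Agent.H26.FMod.HFCompletion
import Groth.Agent.Algz7.PullbackFormal
import Groth.Agent.Algz7.CohFormal
import Groth.Agent.QCoh.ClosedPush

/-!
# The inverse system on the scheme of a coherent module on the completion
-/

noncomputable section

set_option autoImplicit false
set_option maxHeartbeats 200000
set_option linter.style.haveILetI false
set_option backward.isDefEq.respectTransparency false
set_option backward.isDefEq.respectTransparency.types false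

universe u

open CategoryTheory CategoryTheory.Limits TopologicalSpace Opposite AlgebraicGeometry

namespace Groth.Agent.H26.FMod

section Gen

variable {T0 T1 Y : Scheme.{u}} (f : T0 ⟶ T1) (g : T1 ⟶ Y) (p : T0 ⟶ Y) (hfg : f ≫ g = p)

/-- The map of direct images given by a map to a direct image. -/
def pushTrans {P' : T1.Modules} {P : T0.Modules} (t : P' ⟶ (Scheme.Modules.pushforward f).obj P) :
    (Scheme.Modules.pushforward g).obj P' ⟶ (Scheme.Modules.pushforward p).obj P :=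
  (Scheme.Modules.pushforward g).map t ≫ (Scheme.Modules.pushforwardComp f g).hom.app P ≫
    (Scheme.Modules.pushforwardCongr hfg).hom.app P

lemma pushTrans_sections [IsClosedImmersion g] [IsClosedImmersion p] {P' : T1.Modules} {P : T0.Modules}
    (t : P' ⟶ (Scheme.Modules.pushforward f).obj P)
    [IsIso (((Scheme.Modules.pullbackPushforwardAdjunction f).homEquiv _ _).symm t)]
    (hP' : Coh.IsQCoh P') {U : Y.Opens} (hU : IsAffineOpen U) :
    Function.Surjective ((pushTrans f g p hfg t).app U) ∧ ∀ s, (pushTrans f g p hfg t).app U s = 0 →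
      s ∈ p.ker.ideal ⟨U, hU⟩ • (⊤ : Submodule Γ(Y, U) Γ((Scheme.Modules.pushforward g).obj P', U)) := by
  haveI : IsClosedImmersion (f ≫ g) := hfg.symm ▸ inferInstance
  haveI : IsClosedImmersion f := IsClosedImmersion.of_comp f g
  let a := (Scheme.Modules.pushforwardComp f g).hom.app P ≫ (Scheme.Modules.pushforwardCongr hfg).hom.app P
  haveI : IsIso a := inferInstance
  have he : Function.Bijective (a.app U) :=
    (ConcreteCategory.isIso_iff_bijective _).1 (Scheme.Modules.Hom.isIso_iff_isIso_app.1 inferInstance U)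
  have hte : ∀ s, (pushTrans f g p hfg t).app U s = a.app U (t.app (g ⁻¹ᵁ U) s) := fun s => rfl
  have hV : IsAffineOpen (g ⁻¹ᵁ U) := hU.preimage g
  obtain ⟨hsurj, hker⟩ := QCoh.unit_app_closed f hP' hV
  let θ := ((Scheme.Modules.pullbackPushforwardAdjunction f).homEquiv _ _).symm t
  have hT : t = (Scheme.Modules.pullbackPushforwardAdjunction f).unit.app _ ≫
      (Scheme.Modules.pushforward f).map θ :=
    ((Equiv.apply_symm_apply _ _).symm.trans (Adjunction.homEquiv_unit _ _ _ _))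
  have hθ : Function.Bijective (((Scheme.Modules.pushforward f).map θ).app (g ⁻¹ᵁ U)) :=
    (ConcreteCategory.isIso_iff_bijective _).1 (Scheme.Modules.Hom.isIso_iff_isIso_app.1
      (inferInstanceAs (IsIso ((Scheme.Modules.pushforward f).map θ))) _)
  have hT' : ∀ s, t.app (g ⁻¹ᵁ U) s = ((Scheme.Modules.pushforward f).map θ).app (g ⁻¹ᵁ U)
      (((Scheme.Modules.pullbackPushforwardAdjunction f).unit.app _).app (g ⁻¹ᵁ U) s) := fun s =>
    congrArg (fun q => Scheme.Modules.Hom.app q (g ⁻¹ᵁ U) s) hT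
  refine ⟨fun y => ?_, fun s hs => ?_⟩
  · obtain ⟨z, rfl⟩ := he.2 y
    obtain ⟨z', rfl⟩ := hθ.2 z
    obtain ⟨s, rfl⟩ := hsurj z'
    exact ⟨s, (hte s).trans (congrArg (a.app U) (hT' s))⟩
  have h1 : ((Scheme.Modules.pullbackPushforwardAdjunction f).unit.app _).app (g ⁻¹ᵁ U) s = 0 := by
    refine hθ.1 (((hT' s).symm).trans ?_)
    rw [map_zero]
    exact he.1 (((hte s).symm.trans hs).trans (map_zero (a.app U).hom).symm)
  have h2 := (hker s).1 h1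
  refine Submodule.smul_induction_on
    (p := fun v : Γ(P', g ⁻¹ᵁ U) => (show Γ((Scheme.Modules.pushforward g).obj P', U) from v) ∈
      p.ker.ideal ⟨U, hU⟩ • (⊤ : Submodule Γ(Y, U) Γ((Scheme.Modules.pushforward g).obj P', U)))
    h2 (fun r hr v _ => ?_) fun v v' hv hv' => add_mem hv hv'
  obtain ⟨b, rfl⟩ := g.app_surjective U hU r
  refine (QCoh.pushforward_smul g U b v).symm ▸ Submodule.smul_mem_smul ?_ Submodule.mem_top
  subst hfg
  rw [Scheme.Hom.ker_apply, RingHom.mem_ker] at hr ⊢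
  rw [Scheme.Hom.comp_app]
  exact hr

end Gen

variable {A : Type u} [CommRing A] (I : Ideal A) {X : Scheme.{u}} [X.Over (Spec (CommRingCat.of A))]
  (𝓚 : X.IdealSheafData) (h𝓚 : 𝓚 = (FSch.idealSpec A I).comap (X ↘ Spec (CommRingCat.of A)))
  (hX : (FSch.completionAlong X 𝓚).IsFormal) (𝔉 : FSch.ModF (FSch.completionAlong X 𝓚) hX)

/-- The level of a module, on the scheme. -/
abbrev pE (k : ℕ) : X.Modules :=
  (Scheme.Modules.pushforward (FSch.completionToX X 𝓚 k)).obj (pullK k 𝔉)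

/-- The transition of the levels, on the scheme. -/
def tE (k : ℕ) : pE 𝓚 hX 𝔉 (k + 1) ⟶ pE 𝓚 hX 𝔉 k :=
  pushTrans ((FSch.completionAlong X 𝓚).ι k) (FSch.completionToX X 𝓚 (k + 1)) (FSch.completionToX X 𝓚 k)
    (FSch.completionToX_comm X 𝓚 k) (transK hX 𝔉 k)

/-- The system. -/
abbrev GE : ℕᵒᵖ ⥤ X.Modules := Functor.ofOpSequence (X := pE 𝓚 hX 𝔉) (tE 𝓚 hX 𝔉)

lemma GE_succ (k : ℕ) : (GE 𝓚 hX 𝔉).map (homOfLE (Nat.le_succ k)).op = tE 𝓚 hX 𝔉 k :=
  Functor.ofOpSequence_map_homOfLE_succ (X := pE 𝓚 hX 𝔉) (tE 𝓚 hX 𝔉) k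

lemma app_toX_eq_zero (k : ℕ) (U : X.affineOpens) {a : Γ(X, U.1)} (ha : a ∈ (𝓚 ^ (k + 1)).ideal U) :
    (FSch.completionToX X 𝓚 k).app U.1 a = 0 := by
  rw [← RingHom.mem_ker, ← Scheme.Hom.ker_apply, Scheme.IdealSheafData.ker_subschemeι]
  exact ha

include h𝓚 in
lemma killedBy_pE (k : ℕ) (h𝔉 : FSch.IsCohF _ hX 𝔉) : Formal.KilledBy (I ^ (k + 1)) (pE 𝓚 hX 𝔉 k) := by
  intro a ha
  refine Scheme.Modules.hom_ext _ _ fun V => ?_
  ext s
  refine QCoh.eq_zero_of_locally _ _ fun x hx => ?_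
  obtain ⟨_, ⟨U, hU, rfl⟩, hxU, hle⟩ := X.isBasis_affineOpens.exists_subset_of_mem_open hx V.2
  refine ⟨U, homOfLE hle, hxU, ?_⟩
  refine (congr($((Formal.smulMod A (pE 𝓚 hX 𝔉 k) a).mapPresheaf.naturality (homOfLE hle).op) s)).symm.trans ?_
  show (Formal.smulMod A (pE 𝓚 hX 𝔉 k) a).app U _ = 0
  rw [FFun.smulMod_app]
  refine (QCoh.pushforward_smul (FSch.completionToX X 𝓚 k) U _ _).trans ?_
  have h0 : (FSch.completionToX X 𝓚 k).app U (FFun.φsec U a) = 0 :=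
    app_toX_eq_zero 𝓚 k ⟨U, hU⟩ (by rw [ideal_pow_eq_map I 𝓚 h𝓚]; exact Ideal.mem_map_of_mem _ ha)
  exact (congrArg (· • (show Γ(pullK k 𝔉, (FSch.completionToX X 𝓚 k) ⁻¹ᵁ U) from _)) h0).trans (zero_smul _ _)

variable [IsLocallyNoetherian X] (h𝔉 : FSch.IsCohF _ hX 𝔉)

include h𝔉 in
lemma isCoh_pE (k : ℕ) : Coh.IsCoh (pE 𝓚 hX 𝔉 k) :=
  QCoh.isCoh_pushforward_finite (FSch.completionToX X 𝓚 k) (isCoh_pullK k 𝔉 h𝔉)

include h𝔉 in
lemma tE_sections (k : ℕ) {U : X.Opens} (hU : IsAffineOpen U) :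
    Function.Surjective ((tE 𝓚 hX 𝔉 k).app U) ∧ ∀ s, (tE 𝓚 hX 𝔉 k).app U s = 0 →
      s ∈ (𝓚 ^ (k + 1)).ideal ⟨U, hU⟩ • (⊤ : Submodule Γ(X, U) Γ(pE 𝓚 hX 𝔉 (k + 1), U)) := by
  haveI := isIso_transK 𝔉 k
  have hk : (FSch.completionToX X 𝓚 k).ker = 𝓚 ^ (k + 1) := Scheme.IdealSheafData.ker_subschemeι _
  rw [← hk]
  exact pushTrans_sections ((FSch.completionAlong X 𝓚).ι k) (FSch.completionToX X 𝓚 (k + 1))
    (FSch.completionToX X 𝓚 k) (FSch.completionToX_comm X 𝓚 k) (transK hX 𝔉 k)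
    (isCoh_pullK (k + 1) 𝔉 h𝔉).1 hU

include h𝓚 h𝔉 in
/-- The system of a coherent module is a coherent formal module. -/
theorem isCohFormal_GE : Formal.IsCohFormal I (GE 𝓚 hX 𝔉) := by
  refine ⟨isCoh_pE 𝓚 hX 𝔉 h𝔉, fun k => killedBy_pE I 𝓚 h𝓚 hX 𝔉 k h𝔉, fun k => ?_⟩
  rw [GE_succ]
  have h0 := Algz7.smulFamily_comp_eq_zero (killedBy_pE I 𝓚 h𝓚 hX 𝔉 k h𝔉) (tE 𝓚 hX 𝔉 k)
  refine ⟨h0, QCoh.isIso_of_isBasis _ X.isBasis_affineOpens fun U (hU : IsAffineOpen U) => ?_⟩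
  have hM := isCoh_pE 𝓚 hX 𝔉 h𝔉 (k + 1)
  have hC : Coh.IsQCoh (Formal.modPow I (k + 1) (pE 𝓚 hX 𝔉 (k + 1))) := (FFun.isCoh_modJ (I ^ (k + 1)) hM).1
  haveI : Epi (Formal.modPowπ I (k + 1) (pE 𝓚 hX 𝔉 (k + 1))) := inferInstanceAs (Epi (cokernel.π _))
  have hπ : Formal.modPowπ I (k + 1) (pE 𝓚 hX 𝔉 (k + 1)) ≫ cokernel.desc _ _ h0 = tE 𝓚 hX 𝔉 k :=
    cokernel.π_desc _ _ _
  have e : ∀ s, (cokernel.desc _ _ h0).app U ((Formal.modPowπ I (k + 1) (pE 𝓚 hX 𝔉 (k + 1))).app U s) =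
      (tE 𝓚 hX 𝔉 k).app U s :=
    fun s => congrArg (fun t => Scheme.Modules.Hom.app t U s) hπ
  refine ⟨(injective_iff_map_eq_zero _).2 fun z hz => ?_, fun y => ?_⟩
  · obtain ⟨s, hs⟩ := QCoh.app_surjective_of_epi hM.1 hC (Formal.modPowπ I (k + 1) _) hU z
    subst hs
    refine FFun.π_app_eq_zero _ _ U ?_
    rw [← ideal_pow_eq_map I 𝓚 h𝓚 ⟨U, hU⟩ (k + 1)]
    exact (tE_sections 𝓚 hX 𝔉 h𝔉 k hU).2 s ((e s).symm.trans hz)
  · obtain ⟨s, rfl⟩ := (tE_sections 𝓚 hX 𝔉 h𝔉 k hU).1 y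
    exact ⟨_, e s⟩

end Groth.Agent.H26.FMod
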