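import Groth.Agent.H26.FMod.GammaDerived
import Groth.Agent.H26.FMod.Tors

/-!
# Affine opens of locally Noetherian formal schemes are good for torsion
-/

noncomputable section

set_option autoImplicit false
set_option maxHeartbeats 1000000
set_option linter.style.haveILetI false
set_option backward.isDefEq.respectTransparency false
set_option backward.isDefEq.respectTransparency.types false

universe u

open CategoryTheory CategoryTheory.Limits TopologicalSpace Opposite AlgebraicGeometry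
open Groth.Agent.ModTensor Groth.Agent.ModPull Groth.Agent.LocalFactor Groth.Agent.SecGen
open Groth.Agent.H26.QPres

namespace Groth.Agent.H26.FMod

open OpenTransfer

variable {𝔛 : FSch.Sys.{u}} (h : 𝔛.IsLocNoethFormal) {U : (𝔛.X 0).Opens}

include h in
/-- Numerators of elements of extended ideals on basic opens. -/
lemma exists_num_mem (hU : IsAffineOpen U) (b : Rg h.1 U) (n : ℕ) (M : Ideal (Rg h.1 U))
    (z : Rg h.1 (D h.1 b)) (hz : z ∈ M.map (res (D_le b))) :
    ∃ (m : ℕ) (l : Rg h.1 U), l ∈ M ∧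
      pr h.1 n (D h.1 b) (res (D_le b) b) ^ m * pr h.1 n (D h.1 b) z = pr h.1 n (D h.1 b) (res (D_le b) l) := by
  refine Submodule.span_induction (p := fun z _ => ∃ (m : ℕ) (l : Rg h.1 U), l ∈ M ∧
      pr h.1 n (D h.1 b) (res (D_le b) b) ^ m * pr h.1 n (D h.1 b) z = pr h.1 n (D h.1 b) (res (D_le b) l))
    ?_ ?_ ?_ ?_ hz
  · rintro _ ⟨l, hl, rfl⟩
    exact ⟨0, l, hl, by rw [pow_zero, one_mul]⟩
  · exact ⟨0, 0, zero_mem _, by simp⟩
  · rintro x y _ _ ⟨m, l, hl, hx⟩ ⟨m', l', hl', hy⟩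
    refine ⟨m + m', b ^ m' * l + b ^ m * l', add_mem (M.mul_mem_left _ hl) (M.mul_mem_left _ hl'), ?_⟩
    simp only [map_add, map_mul, map_pow, ← hx, ← hy]
    ring
  · rintro s x _ ⟨m, l, hl, hx⟩
    obtain ⟨m', r, hr⟩ := num h hU b n (pr h.1 n (D h.1 b) s)
    refine ⟨m' + m, r * l, M.mul_mem_left _ hl, ?_⟩
    simp only [smul_eq_mul, map_mul, ← hx, ← hr]
    ring

include h in
/-- Colon ideals are compatible with basic opens. -/
theorem mem_colon_map (hU : IsAffineOpen U) (b : Rg h.1 U) (L : Ideal (Rg h.1 U)) (a : Rg h.1 U)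
    (c : Rg h.1 (D h.1 b)) (hc : c * res (D_le b) a ∈ L.map (res (D_le b))) :
    c ∈ (L.colon {a}).map (res (D_le b)) := by
  haveI := noetherian h hU
  haveI := noetherian h (isAffineOpen_D hU b)
  haveI := complete h (isAffineOpen_D hU b)
  refine mem_of_forall_mem_sup (Jd h.1 (D h.1 b)) ((L.colon {a}).map (res (D_le b))) c fun k => ?_
  let f : Rg h.1 U →ₗ[Rg h.1 U] Rg h.1 U ⧸ L := L.mkQ.comp (LinearMap.mulRight (Rg h.1 U) a)
  obtain ⟨e, he⟩ := exists_artinRees (Jd h.1 U) f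
  let n := k + e
  let p := pr h.1 n (D h.1 b)
  let r := res (hF := h.1) (D_le b)
  obtain ⟨m, b', hb'⟩ := num h hU b n (p c)
  have hker : ∀ x, p x = 0 → x ∈ (Jd h.1 U ^ (n + 1)).map r := fun x hx => by
    rw [Ideal.map_pow, Jd_map h hU b, ← ker_pr h n (isAffineOpen_D hU b)]
    exact hx
  have hba : r (b' * a) ∈ (L ⊔ Jd h.1 U ^ (n + 1)).map r := by
    have h1 : r (b' * a) - r b ^ m * (c * r a) ∈ (Jd h.1 U ^ (n + 1)).map r := hker _ <| by
      simp only [p, r, map_sub, map_mul, map_pow, ← hb']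
      ring
    rw [Ideal.map_sup]
    have h2 := Submodule.add_mem_sup (Ideal.mul_mem_left _ (r b ^ m) hc) h1
    rwa [add_sub_cancel] at h2
  obtain ⟨m', l, hl, hl'⟩ := exists_num_mem h hU b n _ _ hba
  obtain ⟨N, hN⟩ := den hU b (b ^ m' * (b' * a) - l) n (by
    rw [map_sub, map_sub, map_mul (res (D_le b)), map_mul (pr h.1 n (D h.1 b)), map_pow, map_pow]
    exact sub_eq_zero.2 hl')
  rw [← RingHom.mem_ker, ker_pr h n hU] at hN
  let x := b ^ N * (b ^ m' * b')
  have hx : x * a ∈ L ⊔ Jd h.1 U ^ (n + 1) := by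
    have h1 : x * a = b ^ N * l + b ^ N * (b ^ m' * (b' * a) - l) := by simp only [x]; ring
    rw [h1]
    exact add_mem (Ideal.mul_mem_left _ _ hl) (Ideal.mem_sup_right hN)
  have hfx : f x ∈ Jd h.1 U ^ (k + e) • (⊤ : Submodule (Rg h.1 U) (Rg h.1 U ⧸ L)) := by
    obtain ⟨u, hu, v, hv, huv⟩ := Submodule.mem_sup.1 hx
    show L.mkQ (x * a) ∈ _
    rw [← huv, map_add, show L.mkQ u = 0 from (Submodule.Quotient.mk_eq_zero L).2 hu, zero_add,
      show L.mkQ v = v • L.mkQ 1 from by rw [← map_smul, smul_eq_mul, mul_one]]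
    exact Submodule.smul_mem_smul (Ideal.pow_le_pow_right (Nat.le_succ _) hv) trivial
  obtain ⟨y, hy, z, hz, hyz⟩ := Submodule.mem_sup.1 (he k x hfx)
  have hy' : y ∈ L.colon {a} := Submodule.mem_colon_singleton.2 ((Submodule.Quotient.mk_eq_zero L).1 hy)
  rw [smul_eq_mul, Ideal.mul_top] at hz
  have hrx : r x ∈ (L.colon {a}).map r ⊔ Jd h.1 (D h.1 b) ^ k := by
    rw [← hyz, map_add, ← Jd_map h hU b, ← Ideal.map_pow]
    exact Submodule.add_mem_sup (Ideal.mem_map_of_mem _ hy') (Ideal.mem_map_of_mem _ hz)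
  have hd : r b ^ (N + m' + m) * c - r x ∈ Jd h.1 (D h.1 b) ^ k := by
    refine Ideal.pow_le_pow_right (show k ≤ n + 1 by omega) ?_
    rw [← ker_pr h n (isAffineOpen_D hU b), RingHom.mem_ker]
    simp only [r, x, p, map_sub, map_mul, map_pow, ← hb']
    ring
  rw [smul_eq_mul, Ideal.mul_top]
  have h3 : r b ^ (N + m' + m) * c ∈ (L.colon {a}).map r ⊔ Jd h.1 (D h.1 b) ^ k := by
    rw [show r b ^ (N + m' + m) * c = r x + (r b ^ (N + m' + m) * c - r x) by ring]
    exact add_mem hrx (Ideal.mem_sup_right hd)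
  exact (Ideal.unit_mul_mem_iff_mem _ ((isUnit_res h hU b).pow _)).1 h3

include h in
/-- Generators of the ideal of definition compute the torsion. -/
theorem gens_of_span (hU : IsAffineOpen U) {q : ℕ} (g : Fin q → Rg h.1 U)
    (hg : Ideal.span (Set.range g) = Jd h.1 U) : GStab.Gens (opI h) g where
  mem i n := (mem_opI_affine h hU _).2 (Ideal.pow_mem_pow (hg ▸ Submodule.subset_span ⟨i, rfl⟩) _)
  tors M V hV x K hx := by
    classical
    refine (FTors.IsTorsSect.iff_exists _).2 (locally_D h hU hV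
      (fun W k => ∃ n, FTors.KilledBy (opI h) M n (V := W) (FTors.res M k x)) (fun b hb => ?_)
      (fun W W' k' k ⟨n, hn⟩ => ⟨n, by rw [FTors.res_comp]; exact hn.res k'⟩))
    let y : Sec M (D h.1 b) := resM M hb x
    let A := LinearMap.ker (LinearMap.toSpanSingleton (Rg h.1 (D h.1 b)) (Sec M (D h.1 b)) y)
    haveI := noetherian h (isAffineOpen_D hU b)
    have hle : Jd h.1 (D h.1 b) ≤ Ideal.radical A := by
      rw [← Jd_map h hU b, ← hg]
      refine Ideal.map_le_iff_le_comap.2 (Ideal.span_le.2 ?_)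
      rintro _ ⟨i, rfl⟩
      refine ⟨K, ?_⟩
      have h1 := congrArg (resM M hb) (hx i)
      rw [show resM M hb (GStab.ρ hV (g i) ^ K • x) = GStab.ρ hb (GStab.ρ hV (g i) ^ K) • y from
        rs_smul (homOfLE hb).op _ x, map_pow, GStab.ρ_ρ] at h1
      exact h1.trans (map_zero _)
    obtain ⟨N, hN⟩ := Ideal.exists_pow_le_of_le_radical_of_fg hle (IsNoetherian.noetherian _)
    exact ⟨N, (killedBy_iff h (isAffineOpen_D hU b) _).2
      fun r hr => hN (Ideal.pow_le_pow_right (Nat.le_succ N) hr)⟩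

include h in
/-- Affine opens are good for the open ideals. -/
theorem good_of_isAffineOpen (hU : IsAffineOpen U) : GStab.Good (opI h) U where
  noeth := noetherian h hU
  gens := by
    haveI := noetherian h hU
    obtain ⟨q, g, hg⟩ := Submodule.fg_iff_exists_fin_generating_family.1 (IsNoetherian.noetherian (Jd h.1 U))
    exact ⟨q, g, (gens_of_span h hU g hg).mem, (gens_of_span h hU g hg).tors⟩
  colon L a V hV c hc y hy := by
    obtain ⟨b, hyb, hbV⟩ := exists_D h hU hV hy
    refine ⟨D h.1 b, hbV, hyb, mem_colon_map h hU b L a _ ?_⟩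
    have h1 := Ideal.mem_map_of_mem (GStab.ρ (O := 𝔛.Osh h.1) hbV) hc
    rw [map_mul, GStab.ρ_ρ, Ideal.map_map] at h1
    convert h1 using 2
    exact RingHom.ext fun z => (GStab.ρ_ρ hV hbV z).symm

include h in
/-- The open ideals are stable. -/
theorem stable_opI : GStab.Stable (opI h) :=
  GStab.stable_of_good _ fun V y hy => by
    obtain ⟨_, ⟨U, hU, rfl⟩, hyU, hle⟩ := (𝔛.X 0).isBasis_affineOpens.exists_subset_of_mem_open hy V.2
    exact ⟨U, hle, hyU, good_of_isAffineOpen h hU⟩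

end Groth.Agent.H26.FMod
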