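import Groth.Agent.H26.FMod.TorsGoodX
import Groth.Agent.H26.FMod.TorsGood
import Groth.Agent.H26.FMod.ComplTorsD
import Groth.Agent.H26.FMod.ComplTorsUnit
import Groth.Agent.H26.ComplFlat

/-!
# Derived torsion and the completion map
-/

noncomputable section

set_option autoImplicit false
set_option maxHeartbeats 1000000
set_option linter.style.haveILetI false
set_option backward.isDefEq.respectTransparency false
set_option backward.isDefEq.respectTransparency.types false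
set_option synthInstance.maxSize 1000
set_option synthInstance.maxHeartbeats 200000

universe u

open CategoryTheory CategoryTheory.Limits TopologicalSpace Opposite AlgebraicGeometry

attribute [local instance] HasDerivedCategory.standard

namespace Groth.Agent.H26.FMod

/-- Coreflections are unique. -/
lemma existsUnique_iso_of_bijective {C : Type*} [Category C] {A B Y : C} (f : A ⟶ Y) (g : B ⟶ Y)
    (hA : ∀ T, T = A ∨ T = B → Function.Bijective fun t : T ⟶ A => t ≫ f)
    (hB : ∀ T, T = A ∨ T = B → Function.Bijective fun t : T ⟶ B => t ≫ g) :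
    ∃! e : A ≅ B, e.hom ≫ g = f := by
  obtain ⟨u, hu⟩ := (hB A (Or.inl rfl)).2 f
  obtain ⟨v, hv⟩ := (hA B (Or.inr rfl)).2 g
  change u ≫ g = f at hu
  change v ≫ f = g at hv
  refine ⟨⟨u, v, (hA A (Or.inl rfl)).1 (show (u ≫ v) ≫ f = 𝟙 A ≫ f by rw [Category.assoc, hv, hu, Category.id_comp]),
    (hB B (Or.inr rfl)).1 (show (v ≫ u) ≫ g = 𝟙 B ≫ g by rw [Category.assoc, hu, hv, Category.id_comp])⟩, hu,
    fun e he => Iso.ext ((hB A (Or.inl rfl)).1 (he.trans hu.symm))⟩

variable {X : Scheme.{u}} [IsLocallyNoetherian X] (𝓚 : X.IdealSheafData)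
  (hl : (FSch.completionAlong X 𝓚).IsLocNoethFormal)

include hl in
/-- The completion map is flat. -/
theorem flat_toX : PreservesFiniteLimits (toX 𝓚 hl.1).pull :=
  ComplFlat.isFlat_toSchemeMor X 𝓚 hl.1

include hl in
/-- Pull backs of objects with torsion cohomology. -/
theorem isDTorsF_pullD [PreservesFiniteLimits (toX 𝓚 hl.1).pull] {F : DerivedCategory (ModSite.Mod X.sheaf)}
    (hF : FTors.IsDTorsZp X 𝓚 F) :
    FTors.IsDTorsF (FSch.completionAlong X 𝓚) hl.1 ((SiteCmp.pullD (toX 𝓚 hl.1)).obj F) := fun i =>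
  isTors_of_iso _ (nonempty_hMod_pullD 𝓚 hl F i).some (isTorsF_pull 𝓚 hl (hF i))

include hl in
/-- Direct images of objects with torsion cohomology. -/
theorem isDTorsZp_RpushD [SiteCmp.HasRpushD (toX 𝓚 hl.1)]
    {G : DerivedCategory (FSch.ModF (FSch.completionAlong X 𝓚) hl.1)}
    (hG : FTors.IsDTorsF (FSch.completionAlong X 𝓚) hl.1 G) :
    FTors.IsDTorsZp X 𝓚 ((SiteCmp.RpushD (toX 𝓚 hl.1)).obj G) := fun i =>
  isTors_of_iso _ (nonempty_hMod_RpushD 𝓚 hl G i).some (isTorsZp_push 𝓚 hl (hG i))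

include hl in
/-- Maps into the direct image of derived torsion. -/
theorem comp_RpushD_rgammaTε_bijective [SiteCmp.HasRpushD (toX 𝓚 hl.1)]
    [FTors.HasRgammaT (FSch.completionAlong X 𝓚) hl.1] (T : DerivedCategory (ModSite.Mod X.sheaf))
    (hT : FTors.IsDTorsZp X 𝓚 T) (E : DerivedCategory (FSch.ModF (FSch.completionAlong X 𝓚) hl.1)) :
    Function.Bijective fun t : T ⟶ (SiteCmp.RpushD (toX 𝓚 hl.1)).obj
        ((FTors.RgammaT (FSch.completionAlong X 𝓚) hl.1).obj E) =>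
      t ≫ (SiteCmp.RpushD (toX 𝓚 hl.1)).map ((FTors.RgammaTε (FSch.completionAlong X 𝓚) hl.1).app E) := by
  haveI := flat_toX 𝓚 hl
  haveI := (exact_toX_push 𝓚 hl).1
  haveI := (exact_toX_push 𝓚 hl).2
  let A := (H9Misc.TelLocal.derivedAdjunction (toX 𝓚 hl.1).adj).ofNatIsoRight (nonempty_RpushD_iso 𝓚 hl).some
  let ε := (FTors.RgammaTε (FSch.completionAlong X 𝓚) hl.1).app E
  have h1 : (fun t : T ⟶ (SiteCmp.RpushD (toX 𝓚 hl.1)).obj
        ((FTors.RgammaT (FSch.completionAlong X 𝓚) hl.1).obj E) => t ≫ (SiteCmp.RpushD (toX 𝓚 hl.1)).map ε) =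
      (A.homEquiv _ _) ∘ (fun s => s ≫ ε) ∘ (A.homEquiv _ _).symm := funext fun t => by
    show t ≫ _ = A.homEquiv _ _ ((A.homEquiv _ _).symm t ≫ ε)
    rw [A.homEquiv_naturality_right, Equiv.apply_symm_apply]
  show Function.Bijective fun t => t ≫ (SiteCmp.RpushD (toX 𝓚 hl.1)).map ε
  rw [h1]
  exact (A.homEquiv _ _).bijective.comp
    ((GStab.comp_rgammaε_bijective (stable_opI hl) _ E (isDTorsF_pullD 𝓚 hl hT)).comp
      (A.homEquiv _ _).symm.bijective)

include hl in
/-- Derived torsion commutes with the direct image from the completion. -/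
theorem existsUnique_iso_RpushD [SiteCmp.HasRpushD (toX 𝓚 hl.1)]
    [FTors.HasRgammaT (FSch.completionAlong X 𝓚) hl.1] [FTors.HasRgammaZp X 𝓚]
    (E : DerivedCategory (FSch.ModF (FSch.completionAlong X 𝓚) hl.1)) :
    ∃! e : (FTors.RgammaZp X 𝓚).obj ((SiteCmp.RpushD (toX 𝓚 hl.1)).obj E) ≅
        (SiteCmp.RpushD (toX 𝓚 hl.1)).obj ((FTors.RgammaT (FSch.completionAlong X 𝓚) hl.1).obj E),
      e.hom ≫ (SiteCmp.RpushD (toX 𝓚 hl.1)).map ((FTors.RgammaTε (FSch.completionAlong X 𝓚) hl.1).app E) =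
        (FTors.RgammaZpε X 𝓚).app ((SiteCmp.RpushD (toX 𝓚 hl.1)).obj E) := by
  have hA := GStab.isDTors_rgamma (FTors.powIdealFam X 𝓚) ((SiteCmp.RpushD (toX 𝓚 hl.1)).obj E)
  have hB := isDTorsZp_RpushD 𝓚 hl (GStab.isDTors_rgamma (opI hl) E)
  refine existsUnique_iso_of_bijective _ _ ?_ ?_
  all_goals rintro T (rfl | rfl)
  · exact GStab.comp_rgammaε_bijective (stable_powIdealFam 𝓚) _ _ hA
  · exact GStab.comp_rgammaε_bijective (stable_powIdealFam 𝓚) _ _ hB
  · exact comp_RpushD_rgammaTε_bijective 𝓚 hl _ hA E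
  · exact comp_RpushD_rgammaTε_bijective 𝓚 hl _ hB E

end Groth.Agent.H26.FMod
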