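import Groth.Agent.H26.FMod.GammaDerived
import Groth.Agent.H26.FMod.BrownAdj
import Groth.Agent.KFlatLib.Scheme.RpushCoprod
import Groth.Agent.SiteBase.QcSum
import Groth.Agent.SiteBase.ModGroth
import Groth.Agent.TriCat.Compact
import Mathlib.CategoryTheory.Triangulated.Adjunction

/-!
# Derived torsion commutes with coproducts and has a right adjoint
-/

noncomputable section

set_option autoImplicit false
set_option maxHeartbeats 1000000
set_option backward.isDefEq.respectTransparency false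
set_option backward.isDefEq.respectTransparency.types false
set_option linter.style.haveILetI false
set_option synthInstance.maxSize 1000
set_option synthInstance.maxHeartbeats 200000

universe u

open CategoryTheory CategoryTheory.Limits Opposite TopologicalSpace Pretriangulated
open Groth.Agent.ModTensor Groth.Agent.ModPull
open Groth.Agent.H26.FMod.HomSec

attribute [local instance] HasDerivedCategory.standard

namespace Groth.Agent.H26.FMod.GStab

variable {T : TopCat.{u}} {O : Sheaf (Opens.grothendieckTopology T) CommRingCat.{u}} (I : FTors.IdealFam O)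

/-- Divisibility passes to sums of two. -/
lemma divMod_of_decomp {A B X : ModSite.Mod O} (hA : DivMod I A) (hB : DivMod I B)
    (p : X ⟶ A) (q : X ⟶ B) (i : A ⟶ X) (j : B ⟶ X) (hid : p ≫ i + q ≫ j = 𝟙 X) : DivMod I X := by
  intro U hU r g jn k a m hm L V hV x hx y hy
  obtain ⟨W₁, hW₁, z₁, hy₁, hz₁, hzk₁⟩ := hA U hU r g jn k a m hm L V hV (ev p V x)
    (fun l hl => by rw [← map_smul, hx l hl, map_zero]) y hy
  obtain ⟨W, hW, z₂, hyW, hz₂, hzk₂⟩ := hB U hU r g jn k a m hm L W₁ (hW₁.trans hV) (ev q W₁ (rm X hW₁ x))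
    (fun l hl => by
      rw [← map_smul, ← rm_pow_smul hV hW₁, hx l hl]
      exact (congrArg _ (rz_zero X (homOfLE hW₁))).trans (map_zero _)) y hy₁
  refine ⟨W, hW.trans hW₁, ev i W (rm A hW z₁) + ev j W z₂, hyW, ?_, fun l hl => ?_⟩
  · have e1 := congrArg (rm A hW) hz₁
    rw [rm_pow_smul (hW₁.trans hV) hW, rm_pow_smul (hW₁.trans hV) hW, rm_rm] at e1
    rw [smul_add, ← map_smul, ← map_smul, e1, hz₂, map_smul, map_smul, ← smul_add]
    refine congrArg _ ?_
    have e2 := congrArg (fun φ : X ⟶ X => ev φ W (rm X (hW.trans hW₁) x)) hid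
    refine Eq.trans ?_ e2
    refine congrArg₂ (· + ·) ?_ ?_
    · exact (congrArg (ev i W) (ev_res p (homOfLE (hW.trans hW₁)) x)).symm
    · refine congrArg (ev j W) ?_
      exact (ev_res q (homOfLE hW) (rm X hW₁ x)).symm.trans (congrArg (ev q W) (rm_rm X hW₁ hW x))
  · have e3 := congrArg (rm A hW) (hzk₁ l hl)
    rw [rm_pow_smul (hW₁.trans hV) hW] at e3
    rw [smul_add, ← map_smul, ← map_smul, hzk₂ l hl, map_zero, add_zero, e3]
    exact (congrArg _ (rz_zero A (homOfLE hW))).trans (map_zero _)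

omit I in
/-- Local divisibility for given sections passes to sums of two. -/
lemma divAt_of_decomp {U : Opens T} {r : ℕ} {g : Fin r → O.obj.obj (op U)} {A B X : ModSite.Mod O}
    (hA : DivAt g A) (hB : DivAt g B)
    (p : X ⟶ A) (q : X ⟶ B) (i : A ⟶ X) (j : B ⟶ X) (hid : p ≫ i + q ≫ j = 𝟙 X) : DivAt g X := by
  intro jn hjn k
  obtain ⟨m₁, hm₁⟩ := hA jn hjn k
  obtain ⟨m₂, hm₂⟩ := hB jn hjn k
  refine ⟨m₁ + m₂, fun L V hV x hx y hy => ?_⟩
  obtain ⟨W₁, hW₁, z₁, hy₁, hz₁, hzk₁⟩ := hm₁ L V hV (ev p V x)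
    (fun l hl => by rw [← map_smul, hx l hl, map_zero]) y hy
  obtain ⟨W, hW, z₂, hyW, hz₂, hzk₂⟩ := hm₂ L W₁ (hW₁.trans hV) (ev q W₁ (rm X hW₁ x))
    (fun l hl => by
      rw [← map_smul, ← rm_pow_smul hV hW₁, hx l hl]
      exact (congrArg _ (rz_zero X (homOfLE hW₁))).trans (map_zero _)) y hy₁
  let a := g ⟨jn, hjn⟩
  let b := ρ (hW.trans (hW₁.trans hV)) a
  refine ⟨W, hW.trans hW₁, ev i W (rm A hW z₁) + ev j W z₂, hyW, ?_, fun l hl => ?_⟩
  · have e1 := congrArg (rm A hW) hz₁
    rw [rm_pow_smul (hW₁.trans hV) hW, rm_pow_smul (hW₁.trans hV) hW, rm_rm] at e1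
    have e1' : b ^ (m₁ + m₂ + L) • rm A hW z₁ = b ^ (m₁ + m₂) • rm A (hW.trans hW₁) (ev p V x) := by
      rw [add_right_comm m₁ m₂ L, add_comm _ m₂, pow_add, mul_smul, e1, ← mul_smul, ← pow_add, add_comm m₂]
    have e2' : b ^ (m₁ + m₂ + L) • z₂ = b ^ (m₁ + m₂) • rm B hW (ev q W₁ (rm X hW₁ x)) := by
      rw [add_assoc, pow_add, mul_smul, hz₂, ← mul_smul, ← pow_add]
    show b ^ (m₁ + m₂ + L) • _ = _
    rw [smul_add, ← map_smul, ← map_smul, e1', e2', map_smul, map_smul, ← smul_add]
    refine congrArg _ ?_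
    have e2 := congrArg (fun φ : X ⟶ X => ev φ W (rm X (hW.trans hW₁) x)) hid
    refine Eq.trans ?_ e2
    refine congrArg₂ (· + ·) ?_ ?_
    · exact (congrArg (ev i W) (ev_res p (homOfLE (hW.trans hW₁)) x)).symm
    · refine congrArg (ev j W) ?_
      exact (ev_res q (homOfLE hW) (rm X hW₁ x)).symm.trans (congrArg (ev q W) (rm_rm X hW₁ hW x))
  · have e3 := congrArg (rm A hW) (hzk₁ l hl)
    rw [rm_pow_smul (hW₁.trans hV) hW] at e3
    rw [smul_add, ← map_smul, ← map_smul, hzk₂ l hl, map_zero, add_zero, e3]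
    exact (congrArg _ (rz_zero A (homOfLE hW))).trans (map_zero _)

/-- Divisibility passes to mapping cones. -/
lemma divMod_mappingCone {M N : CochainComplex (ModSite.Mod O) ℤ} (φ : M ⟶ N)
    (hM : ∀ n, DivMod I (M.X n)) (hN : ∀ n, DivMod I (N.X n)) (n : ℤ) :
    DivMod I ((CochainComplex.mappingCone φ).X n) :=
  divMod_of_decomp I (hM (n + 1)) (hN n)
    ((CochainComplex.mappingCone.fst φ).1.v n (n + 1) rfl)
    ((CochainComplex.mappingCone.snd φ).v n n (add_zero n))
    ((CochainComplex.mappingCone.inl φ).v (n + 1) n (by omega))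
    ((CochainComplex.mappingCone.inr φ).f n)
    (CochainComplex.mappingCone.id_X φ n (n + 1) rfl)

lemma ev_sum {M N : ModSite.Mod O} {V : Opens T} {κ : Type*} (s : Finset κ) (φ : κ → (M ⟶ N))
    (x : Se M V) : ev (∑ i ∈ s, φ i) V x = ∑ i ∈ s, ev (φ i) V x :=
  map_sum (AddMonoidHom.mk' (fun ψ : M ⟶ N => ev ψ V x) fun _ _ => rfl) φ s

/-- Sections of coproducts are locally finite sums. -/
lemma point_sum {κ : Type u} (M : κ → ModSite.Mod O) {V : Opens T} (x : Se (∐ M) V) {y : T} (hy : y ∈ V) :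
    ∃ (W : Opens T) (hW : W ≤ V) (s : Finset κ), y ∈ W ∧
      rm (∐ M) hW x = ∑ i ∈ s, ev (TriCat.coprodProj M i ≫ Sigma.ι M i) W (rm (∐ M) hW x) := by
  classical
  obtain ⟨S, hS, hSp⟩ := QcSum.exists_local_sum O M (U := V) x
  obtain ⟨W, g, hg, hyW⟩ := hS y hy
  obtain ⟨s, c, hc⟩ := hSp W g hg
  refine ⟨W, leOfHom g, s, hyW, ?_⟩
  let c' : ∀ i, Se (M i) W := c
  have hc' : rm (∐ M) (leOfHom g) x = ∑ i ∈ s, ev (Sigma.ι M i) W (c' i) := hc
  rw [hc']
  refine Finset.sum_congr rfl fun i hi => ?_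
  rw [ev_comp, map_sum (ev (TriCat.coprodProj M i) W), Finset.sum_eq_single i (fun l _ hl => ?_)
    (fun h => absurd hi h)]
  · rw [← ev_comp (Sigma.ι M i) (TriCat.coprodProj M i), TriCat.ι_coprodProj_self]
    rfl
  · rw [← ev_comp (Sigma.ι M l) (TriCat.coprodProj M i), TriCat.ι_coprodProj_ne (X := M) hl]
    rfl

/-- Divisibility passes to coproducts. -/
lemma divMod_sigma {κ : Type u} (M : κ → ModSite.Mod O) (hM : ∀ i, DivMod I (M i)) : DivMod I (∐ M) := by
  classical
  intro U hU r g j k a m hm L V hV x hx y hy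
  obtain ⟨W₀, hW₀, s, hyW₀, hs⟩ := point_sum M x hy
  have hkill : ∀ i l, l.1 < j → ρ (hW₀.trans hV) (g l) ^ k • ev (TriCat.coprodProj M i) W₀ (rm _ hW₀ x) = 0 :=
    fun i l hl => by
      rw [← map_smul, ← rm_pow_smul hV hW₀, hx l hl]
      exact (congrArg _ (rz_zero _ (homOfLE hW₀))).trans (map_zero _)
  choose W hW z hyW hz hzk using fun i =>
    hM i U hU r g j k a m hm L W₀ (hW₀.trans hV) (ev (TriCat.coprodProj M i) W₀ (rm _ hW₀ x)) (hkill i) y hyW₀
  let W' : Opens T := W₀ ⊓ s.inf W
  have hW' : ∀ i ∈ s, W' ≤ W i := fun i hi => inf_le_right.trans (Finset.inf_le hi)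
  have hW'0 : W' ≤ W₀ := inf_le_left
  refine ⟨W', hW'0.trans hW₀, ∑ i ∈ s.attach, ev (Sigma.ι M i.1) W' (rm (M i.1) (hW' i.1 i.2) (z i.1)), ?_, ?_, ?_⟩
  · refine ⟨hyW₀, ?_⟩
    clear hW' hz hzk
    induction s using Finset.induction_on with
    | empty => exact trivial
    | insert i s _ _ =>
      show y ∈ ((insert i s).inf W : Opens T)
      exact Finset.inf_induction (p := fun A : Opens T => y ∈ A) trivial (fun A hA B hB => ⟨hA, hB⟩) fun l _ => hyW l
  · have key : rm (∐ M) hW'0 (rm _ hW₀ x) = ∑ i ∈ s.attach, ev (Sigma.ι M i.1) W'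
        (rm (M i.1) (hW' i.1 i.2) (rm (M i.1) (hW i.1) (ev (TriCat.coprodProj M i.1) W₀ (rm _ hW₀ x)))) := by
      conv_lhs => rw [hs]
      refine (map_sum (((fg O).obj (∐ M)).map (homOfLE hW'0).op).hom _ _).trans ?_
      rw [← Finset.sum_attach]
      refine Finset.sum_congr rfl fun i _ => ?_
      rw [rm_rm (M i.1)]
      show rz _ (homOfLE hW'0) (ev (Sigma.ι M i.1) W₀ (ev (TriCat.coprodProj M i.1) W₀ _)) = _
      exact (ev_res _ _ _).symm
    rw [Finset.smul_sum, ← rm_rm _ hW₀ hW'0 x, key, Finset.smul_sum]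
    refine Finset.sum_congr rfl fun i _ => ?_
    have e1 := congrArg (rm (M i.1) (hW' i.1 i.2)) (hz i.1)
    rw [rm_pow_smul ((hW i.1).trans (hW₀.trans hV)) (hW' i.1 i.2),
      rm_pow_smul ((hW i.1).trans (hW₀.trans hV)) (hW' i.1 i.2)] at e1
    rw [← map_smul, ← map_smul]
    exact congrArg _ e1
  · intro l hl
    rw [Finset.smul_sum]
    refine Finset.sum_eq_zero fun i _ => ?_
    have e1 := congrArg (rm (M i.1) (hW' i.1 i.2)) (hzk i.1 l hl)
    rw [rm_pow_smul ((hW i.1).trans (hW₀.trans hV)) (hW' i.1 i.2)] at e1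
    rw [← map_smul, e1]
    exact (congrArg _ (rz_zero _ (homOfLE (hW' i.1 i.2)))).trans (map_zero _)

lemma mono_gammaι' (M : ModSite.Mod O) : Mono ((FTors.gammaι I).app M) :=
  HomSec.mono_of_locally _ fun V x hx => ModPull.Locally.of_id fun W g => by
    obtain rfl : x = 0 := Subtype.ext hx
    exact rz_zero _ _

/-- Torsion sections commute with coproducts. -/
theorem isIso_sigmaComparison_gamma {κ : Type u} (M : κ → ModSite.Mod O) :
    IsIso (sigmaComparison (FTors.gamma O I) M) := by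
  classical
  let c := sigmaComparison (FTors.gamma O I) M
  have hc : c ≫ (FTors.gammaι I).app (∐ M) = Limits.Sigma.map fun i => (FTors.gammaι I).app (M i) :=
    Sigma.hom_ext _ _ fun i => by
      rw [← Category.assoc, ι_comp_sigmaComparison, Sigma.ι_map]
      exact (FTors.gammaι I).naturality (Sigma.ι M i)
  haveI : ∀ i, Mono ((FTors.gammaι I).app (M i)) := fun i => mono_gammaι' I (M i)
  haveI : Mono (Limits.Sigma.map fun i => (FTors.gammaι I).app (M i)) :=
    inferInstance
  haveI : Mono c := mono_of_mono_fac hc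
  haveI : Epi c := HomSec.epi_of_locally _ fun V s => GStab.locally_of_point (fun y hy => by
    let x : Se (∐ M) V := ev ((FTors.gammaι I).app (∐ M)) V s
    obtain ⟨W, hW, t, hyW, ht⟩ := point_sum M x hy
    let comp : ∀ i, Se ((FTors.gamma O I).obj (M i)) W := fun i =>
      (⟨ev (TriCat.coprodProj M i) W (rm _ hW x), FTors.IsTorsSect.hom _
        (FTors.IsTorsSect.res (I := I) (M := ∐ M) (homOfLE hW) (s : FTors.torsSub I (∐ M) V).2)⟩ : FTors.torsSub I (M i) W)
    refine ⟨W, hW, hyW, ∑ i ∈ t, ev (Sigma.ι (fun i => (FTors.gamma O I).obj (M i)) i) W (comp i), ?_⟩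
    haveI := mono_gammaι' I (∐ M)
    refine app_injective ((FTors.gammaι I).app (∐ M)) (op W) ?_
    show ev ((FTors.gammaι I).app (∐ M)) W (ev c W _) = ev ((FTors.gammaι I).app (∐ M)) W (rz _ (homOfLE hW) s)
    rw [← ev_comp, hc, map_sum, ev_res]
    refine Eq.trans ?_ ht.symm
    refine Finset.sum_congr rfl fun i _ => ?_
    rw [← ev_comp, Sigma.ι_map, ev_comp, ev_comp]
    rfl) fun W W' g k ⟨x, hx⟩ => ⟨rz _ k x, by rw [ev_res, hx, rz_comp]⟩
  exact isIso_of_mono_of_epi _

variable [FTors.HasRgamma I] {I} (hst : Stable I)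

/-- The comparison between torsion sections and derived torsion. -/
def compη : (FTors.gamma O I).mapHomologicalComplex (ComplexShape.up ℤ) ⋙ DerivedCategory.Q ⟶
    DerivedCategory.Q ⋙ FTors.Rgamma I where
  app K := ((comp_rgammaε_bijective hst _ (DerivedCategory.Q.obj K)
    (isDTors_Q I (isTors_homology_gamma I K))).2 (DerivedCategory.Q.map (gIncl I K))).choose
  naturality K L f := by
    let Γ := (FTors.gamma O I).mapHomologicalComplex (ComplexShape.up ℤ)
    refine (comp_rgammaε_bijective hst _ (DerivedCategory.Q.obj L) (isDTors_Q I (isTors_homology_gamma I K))).1 ?_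
    have hK := ((comp_rgammaε_bijective hst _ (DerivedCategory.Q.obj K)
      (isDTors_Q I (isTors_homology_gamma I K))).2 (DerivedCategory.Q.map (gIncl I K))).choose_spec
    have hL := ((comp_rgammaε_bijective hst _ (DerivedCategory.Q.obj L)
      (isDTors_Q I (isTors_homology_gamma I L))).2 (DerivedCategory.Q.map (gIncl I L))).choose_spec
    show (DerivedCategory.Q.map (Γ.map f) ≫ _) ≫ (FTors.Rgammaε I).app _ =
      (_ ≫ (FTors.Rgamma I).map (DerivedCategory.Q.map f)) ≫ (FTors.Rgammaε I).app _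
    simp only [Category.assoc]
    rw [(FTors.Rgammaε I).naturality (DerivedCategory.Q.map f), Functor.id_map]
    refine (congrArg (DerivedCategory.Q.map (Γ.map f) ≫ ·) hL).trans ?_
    refine Eq.trans ?_ ((Category.assoc _ _ _).symm.trans (congrArg (· ≫ DerivedCategory.Q.map f) hK)).symm
    rw [← Functor.map_comp, ← Functor.map_comp]
    exact congrArg _ (HomologicalComplex.hom_ext _ _ fun n => (FTors.gammaι I).naturality (f.f n))

lemma compη_ε (K : CochainComplex (ModSite.Mod O) ℤ) :
    (compη hst).app K ≫ (FTors.Rgammaε I).app (DerivedCategory.Q.obj K) = DerivedCategory.Q.map (gIncl I K) :=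
  ((comp_rgammaε_bijective hst _ (DerivedCategory.Q.obj K)
    (isDTors_Q I (isTors_homology_gamma I K))).2 (DerivedCategory.Q.map (gIncl I K))).choose_spec

variable (hgood : ∀ (V : Opens T), ∀ y ∈ V, ∃ U : Opens T, U ≤ V ∧ y ∈ U ∧ Good I U)

/-- Derived torsion is computed by complexes of locally divisible modules. -/
theorem isIso_compη_gens (K : CochainComplex (ModSite.Mod O) ℤ)
    (hloc : ∀ (V : Opens T), ∀ y ∈ V, ∃ (U : Opens T) (r : ℕ) (g : Fin r → O.obj.obj (op U)),
      U ≤ V ∧ y ∈ U ∧ Good I U ∧ Gens I g ∧ ∀ n, DivAt g (K.X n)) :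
    IsIso ((compη hst).app K) := by
  let Γ := (FTors.gamma O I).mapHomologicalComplex (ComplexShape.up ℤ)
  obtain ⟨J, f, hJ, hf, -, hinj⟩ := TriCat.exists_kInjective_resolution'.{u} K
  haveI := hJ
  haveI := hf
  haveI : IsIso (DerivedCategory.Q.map f) := (DerivedCategory.isIso_Q_map_iff_quasiIso _ _).2 hf
  haveI : IsIso ((compη hst).app J) := by
    obtain ⟨e, he⟩ := exists_rgamma_iso I J
    rw [show (compη hst).app J = e.hom from (comp_rgammaε_bijective hst _ _
      (isDTors_Q I (isTors_homology_gamma I J))).1 ((compη_ε hst J).trans he.symm)]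
    infer_instance
  let C := CochainComplex.mappingCone f
  have hC : IsZero (DerivedCategory.Q.obj C) :=
    (Triangle.isZero₃_iff_isIso₁ _ (DerivedCategory.mappingCone_triangle_distinguished f)).2
      (show IsIso (DerivedCategory.Q.map f) from inferInstance)
  have hCt : ∀ n, FTors.IsTors I (C.homology n) := fun n U s => by
    have hz : IsZero (C.homology n) := (Functor.map_isZero (DerivedCategory.homologyFunctor (ModSite.Mod O) n) hC).of_iso
      ((DerivedCategory.homologyFunctorFactors (ModSite.Mod O) n).app C).symm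
    have h0 : s = (𝟙 (C.homology n) : _ ⟶ _).val.app (op U) s := rfl
    rw [h0, hz.eq_of_src (𝟙 _) 0]
    exact FTors.IsTorsSect.zero I _ U
  haveI := (DerivedCategory.isIso_Q_map_iff_quasiIso _ _).2 (quasiIso_gIncl_gens (I := I) (K := C)
    (fun V y hy => by
      obtain ⟨U, r, g, hUV, hyU, hU, hg, hK⟩ := hloc V y hy
      exact ⟨U, r, g, hUV, hyU, hg, fun n => divAt_of_decomp (hK (n + 1))
        (haveI := hinj n; (divMod_of_injective I (J.X n)).divAt hU g)
        ((CochainComplex.mappingCone.fst f).1.v n (n + 1) rfl)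
        ((CochainComplex.mappingCone.snd f).v n n (add_zero n))
        ((CochainComplex.mappingCone.inl f).v (n + 1) n (by omega))
        ((CochainComplex.mappingCone.inr f).f n)
        (CochainComplex.mappingCone.id_X f n (n + 1) rfl)⟩) hCt)
  have hC' : IsZero (DerivedCategory.Q.obj (Γ.obj C)) :=
    hC.of_iso (asIso (DerivedCategory.Q.map (gIncl I C)))
  haveI : IsIso (DerivedCategory.Q.map (Γ.map f)) :=
    (Triangle.isZero₃_iff_isIso₁ _ (DerivedCategory.mappingCone_triangle_distinguished _)).1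
      (hC'.of_iso (DerivedCategory.Q.mapIso (CochainComplex.mappingCone.mapHomologicalComplexIso f _)).symm)
  have h1 := (compη hst).naturality f
  haveI : IsIso ((compη hst).app K ≫ (DerivedCategory.Q ⋙ FTors.Rgamma I).map f) := by
    rw [← h1]
    change IsIso (DerivedCategory.Q.map (Γ.map f) ≫ _)
    infer_instance
  haveI : IsIso ((DerivedCategory.Q ⋙ FTors.Rgamma I).map f) := by
    change IsIso ((FTors.Rgamma I).map (DerivedCategory.Q.map f))
    infer_instance
  exact IsIso.of_isIso_comp_right ((compη hst).app K) ((DerivedCategory.Q ⋙ FTors.Rgamma I).map f)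

include hgood in
/-- Derived torsion is computed by complexes of divisible modules. -/
theorem isIso_compη (K : CochainComplex (ModSite.Mod O) ℤ) (hK : ∀ n, DivMod I (K.X n)) :
    IsIso ((compη hst).app K) :=
  isIso_compη_gens hst K fun V y hy => by
    obtain ⟨U, hUV, hyU, hU⟩ := hgood V y hy
    obtain ⟨r, g, hg, hgens⟩ := hU.gens
    exact ⟨U, r, g, hUV, hyU, hU, ⟨hg, hgens⟩, fun n => (hK n).divAt hU g⟩

include hst hgood in
/-- Derived torsion commutes with coproducts. -/
theorem preservesColimitsOfShape_rgamma (κ : Type u) :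
    PreservesColimitsOfShape (Discrete κ) (FTors.Rgamma I) := by
  haveI : HasColimitsOfShape (Discrete κ) (DerivedCategory (ModSite.Mod O)) :=
    TriCat.hasColimitsOfShape_derivedCategory
  haveI : PreservesColimitsOfShape (Discrete κ) (FTors.gamma O I) := by
    haveI : ∀ M : κ → ModSite.Mod O, PreservesColimit (Discrete.functor M) (FTors.gamma O I) := fun M => by
      haveI := isIso_sigmaComparison_gamma I M
      exact PreservesCoproduct.of_iso_comparison (G := FTors.gamma O I) (f := M)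
    exact preservesColimitsOfShape_of_discrete _
  haveI : PreservesColimitsOfShape (Discrete κ) ((FTors.gamma O I).mapHomologicalComplex (ComplexShape.up ℤ)) :=
    ⟨fun {F} => ⟨fun {c} hc => ⟨HomologicalComplex.isColimitOfEval _ _ fun m =>
      isColimitOfPreserves (HomologicalComplex.eval (ModSite.Mod O) (ComplexShape.up ℤ) m ⋙ FTors.gamma O I) hc⟩⟩⟩
  haveI : ∀ C : κ → DerivedCategory (ModSite.Mod O), PreservesColimit (Discrete.functor C) (FTors.Rgamma I) := fun C => by
    choose K hK hKinj eK using fun i => exists_model (C i)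
    haveI : IsIso (sigmaComparison (FTors.Rgamma I) C) := by
      refine KFlatLib.isIso_sigmaDesc' (FTors.Rgamma I) ((FTors.gamma O I).mapHomologicalComplex (ComplexShape.up ℤ))
        (compη hst) C K (fun j => (eK j).some.symm) (fun j => ?_) ?_
      · exact isIso_compη hst hgood (K j) fun n => haveI := hKinj j n; divMod_of_injective I _
      · refine isIso_compη hst hgood _ fun n => ?_
        let e : (∐ K).X n ≅ ∐ fun j => (K j).X n :=
          PreservesCoproduct.iso (HomologicalComplex.eval (ModSite.Mod O) (ComplexShape.up ℤ) n) K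
        exact divMod_of_decomp I
          (divMod_sigma I _ fun j => haveI := hKinj j n; divMod_of_injective I _)
          (divMod_sigma I (fun j => (K j).X n) fun j => haveI := hKinj j n; divMod_of_injective I _)
          e.hom 0 e.inv 0 (by simp)
    exact PreservesCoproduct.of_iso_comparison (G := FTors.Rgamma I) (f := C)
  exact preservesColimitsOfShape_of_discrete _

/-- Derived torsion sends triangles to triangles. -/
theorem exists_rgamma_triangle (S : Triangle (DerivedCategory (ModSite.Mod O)))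
    (hS : S ∈ distTriang (DerivedCategory (ModSite.Mod O))) :
    ∃ c : (FTors.Rgamma I).obj S.obj₃ ⟶ ((FTors.Rgamma I).obj S.obj₁)⟦(1 : ℤ)⟧,
      Triangle.mk ((FTors.Rgamma I).map S.mor₁) ((FTors.Rgamma I).map S.mor₂) c ∈
        distTriang (DerivedCategory (ModSite.Mod O)) := by
  haveI := TriCat.qh_isLeftAdjoint_of_exists_resolution (A := ModSite.Mod O) fun L => by
    obtain ⟨I', f, h1, h2, -, -⟩ := TriCat.exists_kInjective_resolution'.{u} L
    exact ⟨I', f, h1, h2⟩
  let adjQ := Adjunction.ofIsLeftAdjoint (DerivedCategory.Qh (C := ModSite.Mod O))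
  let ρq := (DerivedCategory.Qh (C := ModSite.Mod O)).rightAdjoint
  let W := HomotopyCategory.quasiIso (ModSite.Mod O) (ComplexShape.up ℤ)
  haveI : (ρq ⋙ FTors.gammaKh I).IsRightDerivedFunctor
      (Functor.whiskerRight adjQ.unit (FTors.gammaKh I)) W :=
    TriCat.isRightDerivedFunctor_of_adjunction adjQ W (FTors.gammaKh I)
  let e : ρq ⋙ FTors.gammaKh I ≅ FTors.Rgamma I :=
    Functor.rightDerivedUnique _ _ (Functor.whiskerRight adjQ.unit (FTors.gammaKh I))
      ((FTors.gammaKh I).totalRightDerivedUnit DerivedCategory.Qh W) W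
  letI := adjQ.rightAdjointCommShift ℤ
  haveI := adjQ.commShift_of_leftAdjoint ℤ
  haveI : ρq.IsTriangulated := adjQ.isTriangulated_rightAdjoint
  have h := (ρq ⋙ FTors.gammaKh I).map_distinguished S hS
  refine ⟨e.inv.app S.obj₃ ≫ ((ρq ⋙ FTors.gammaKh I).mapTriangle.obj S).mor₃ ≫
    (e.hom.app S.obj₁)⟦(1 : ℤ)⟧', isomorphic_distinguished _ h _ ?_⟩
  refine Triangle.isoMk _ _ (e.symm.app _) (e.symm.app _) (e.symm.app _) ?_ ?_ ?_
  · exact e.inv.naturality S.mor₁
  · exact e.inv.naturality S.mor₂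
  · change (e.inv.app S.obj₃ ≫ ((ρq ⋙ FTors.gammaKh I).mapTriangle.obj S).mor₃ ≫
        (e.hom.app S.obj₁)⟦(1 : ℤ)⟧') ≫ (e.inv.app S.obj₁)⟦(1 : ℤ)⟧' = e.inv.app S.obj₃ ≫ _
    rw [Category.assoc]
    refine congrArg (e.inv.app S.obj₃ ≫ ·) ((Category.assoc _ _ _).trans ?_)
    erw [← Functor.map_comp, Iso.hom_inv_id_app, CategoryTheory.Functor.map_id, Category.comp_id]

include hst hgood in
/-- Derived torsion is a left adjoint. -/
theorem isLeftAdjoint_rgamma : (FTors.Rgamma I).IsLeftAdjoint := by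
  haveI := SiteBase.isGrothendieckAbelian_sheafOfModules (ModSite.ringSh O)
  exact BrownAdj.isLeftAdjoint_of_preservesCoproducts (A := ModSite.Mod O) (B := ModSite.Mod O) _
    exists_rgamma_triangle fun κ => preservesColimitsOfShape_rgamma hst hgood κ

include hst in
/-- The counit of a right adjoint of derived torsion is an isomorphism on torsion objects. -/
theorem isIso_counit {R : DerivedCategory (ModSite.Mod O) ⥤ DerivedCategory (ModSite.Mod O)}
    (adj : FTors.Rgamma I ⊣ R) {G : DerivedCategory (ModSite.Mod O)} (hG : FTors.IsDTors I G) :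
    IsIso (adj.counit.app G) := by
  have hb : ∀ X, FTors.IsDTors I X →
      Function.Bijective (fun φ : X ⟶ (FTors.Rgamma I).obj (R.obj G) => φ ≫ adj.counit.app G) := fun X hX => by
    haveI := isIso_rgammaε hst hX
    have h1 : ∀ φ : X ⟶ (FTors.Rgamma I).obj (R.obj G),
        (adj.homEquiv X G).symm (φ ≫ (FTors.Rgammaε I).app (R.obj G)) =
          (FTors.Rgammaε I).app X ≫ φ ≫ adj.counit.app G := fun φ => by
      rw [adj.homEquiv_counit, Functor.map_comp]
      have h2 : (FTors.Rgamma I).map ((FTors.Rgammaε I).app (R.obj G)) =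
          (FTors.Rgammaε I).app ((FTors.Rgamma I).obj (R.obj G)) :=
        (comp_rgammaε_bijective hst _ (R.obj G) (isDTors_rgamma I _)).1
          ((FTors.Rgammaε I).naturality ((FTors.Rgammaε I).app (R.obj G)))
      rw [h2, (FTors.Rgammaε I).naturality φ, Functor.id_map, Category.assoc]
    have h3 : (fun φ : X ⟶ (FTors.Rgamma I).obj (R.obj G) => φ ≫ adj.counit.app G) =
        (fun ψ => inv ((FTors.Rgammaε I).app X) ≫ ψ) ∘ (adj.homEquiv X G).symm ∘
          (fun φ => φ ≫ (FTors.Rgammaε I).app (R.obj G)) := by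
      funext φ
      simp only [Function.comp_apply, h1, IsIso.inv_hom_id_assoc]
    rw [h3]
    refine Function.Bijective.comp ⟨fun a b hab => (cancel_epi _).1 hab,
      fun b => ⟨(FTors.Rgammaε I).app X ≫ b, IsIso.inv_hom_id_assoc _ _⟩⟩
      ((adj.homEquiv X G).symm.bijective.comp (comp_rgammaε_bijective hst _ _ hX))
  obtain ⟨s, hs⟩ := (hb G hG).2 (𝟙 G)
  refine ⟨s, (hb _ (isDTors_rgamma I _)).1 ?_, hs⟩
  show (adj.counit.app G ≫ s) ≫ adj.counit.app G = 𝟙 _ ≫ adj.counit.app G
  exact ((Category.assoc _ _ _).trans (congrArg (_ ≫ ·) hs)).trans ((Category.comp_id _).trans (Category.id_comp _).symm)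

end Groth.Agent.H26.FMod.GStab
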