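import Groth.Agent.H26.FMod.GammaStable
import Groth.Agent.ModPull.Tensor
import Mathlib.Topology.Sheaves.SheafCondition.Sites

/-!
# Killed sections and divisibility of inverse images
-/

noncomputable section

set_option autoImplicit false
set_option maxHeartbeats 1000000
set_option backward.isDefEq.respectTransparency false
set_option backward.isDefEq.respectTransparency.types false
set_option linter.style.haveILetI false

universe u

open CategoryTheory CategoryTheory.Limits Opposite TopologicalSpace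
open Groth.Agent.ModTensor Groth.Agent.ModPull
open Groth.Agent.H26.FMod.HomSec Groth.Agent.H26.FMod.GStab

namespace Groth.Agent.H26.FMod.GPull

section Restr

variable {T : TopCat.{u}} {O : Sheaf (Opens.grothendieckTopology T) CommRingCat.{u}} (A : Opens T)
  (M : ModSite.Mod O)

/-- Intersection with an open. -/
abbrev capF : Opens T ⥤ Opens T := Opens.map A.inclusion' ⋙ A.isOpenEmbedding.functor

lemma cap_le (W : Opens T) : (capF A).obj W ≤ W := by
  rintro _ ⟨⟨y, hyA⟩, hy, rfl⟩
  exact hy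

lemma cap_le' (W : Opens T) : (capF A).obj W ≤ A := by
  rintro _ ⟨⟨y, hyA⟩, hy, rfl⟩
  exact hyA

lemma le_cap {W : Opens T} (h : W ≤ A) : W ≤ (capF A).obj W := fun y hy => ⟨⟨y, h hy⟩, hy, rfl⟩

instance : (capF A).IsContinuous (Opens.grothendieckTopology T) (Opens.grothendieckTopology T) :=
  haveI := A.isOpenEmbedding.functor_isContinuous
  Functor.isContinuous_comp _ _ _ (Opens.grothendieckTopology ↑((Opens.toTopCat T).obj A)) _

/-- The presheaf of sections on the intersections. -/
abbrev restrPre : (Opens T)ᵒᵖ ⥤ Ab.{u} := (capF A).op ⋙ M.val.presheaf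

instance moduleRestr (W : (Opens T)ᵒᵖ) : Module ((ModSite.ringSh O).obj.obj W) ((restrPre A M).obj W) :=
  Module.compHom (Se M ((capF A).obj W.unop)) (ρ (O := O) (cap_le A W.unop))

lemma restrPre_map_smul ⦃U V : (Opens T)ᵒᵖ⦄ (g : U ⟶ V) (r : (ModSite.ringSh O).obj.obj U)
    (x : (restrPre A M).obj U) :
    (restrPre A M).map g (r • x) = (ModSite.ringSh O).obj.map g r • (restrPre A M).map g x := by
  show rm M (leOfHom ((capF A).map g.unop)) (ρ (cap_le A U.unop) r • (show Se M ((capF A).obj U.unop) from x)) =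
    ρ (cap_le A V.unop) (ρ (leOfHom g.unop) r) • rm M (leOfHom ((capF A).map g.unop)) x
  rw [rm_smul]
  refine congrArg₂ (· • ·) ?_ rfl
  rw [ρ_ρ, ρ_ρ]

/-- The direct image of the restriction to an open. -/
def restr : ModSite.Mod O where
  val := PresheafOfModules.ofPresheaf (restrPre A M) (restrPre_map_smul A M)
  isSheaf := ((capF A).sheafPushforwardContinuous Ab.{u} (Opens.grothendieckTopology T)
    (Opens.grothendieckTopology T)).obj ⟨M.val.presheaf, M.isSheaf⟩ |>.property

/-- Multiplication by a section over an open, into the direct image of the restriction. -/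
def mulRestr (g : O.obj.obj (op A)) : M ⟶ restr A M :=
  ⟨PresheafOfModules.homMk
    { app := fun W => AddCommGrpCat.ofHom
        ((DistribSMul.toAddMonoidHom (Se M ((capF A).obj W.unop)) (ρ (cap_le' A W.unop) g)).comp
          (M.val.presheaf.map (homOfLE (cap_le A W.unop)).op).hom)
      naturality := fun U V k => by
        ext x
        show ρ (cap_le' A V.unop) g • rm M (cap_le A V.unop) (rm M (leOfHom k.unop) x) =
          rm M (leOfHom ((capF A).map k.unop)) (ρ (cap_le' A U.unop) g • rm M (cap_le A U.unop) x)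
        rw [rm_smul, ρ_ρ, rm_rm, rm_rm] }
    fun W r x => by
      show ρ (cap_le' A W.unop) g • rm M (cap_le A W.unop) (r • x) =
        ρ (cap_le A W.unop) r • ρ (cap_le' A W.unop) g • rm M (cap_le A W.unop) x
      rw [rm_smul, smul_comm]⟩

lemma smul_rm_eq_zero (g : O.obj.obj (op A)) {W : Opens T} (x : Se M W) (h : ev (mulRestr A M g) W x = 0)
    {V : Opens T} (hVA : V ≤ A) (hVW : V ≤ W) : ρ hVA g • rm M hVW x = 0 := by
  have h' : (ρ (O := O) (cap_le' A W) g • rm M (cap_le A W) x : Se M ((capF A).obj W)) = 0 := h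
  have hle : V ≤ (capF A).obj W := fun y hy => ⟨⟨y, hVA hy⟩, hVW hy, rfl⟩
  have h1 := congrArg (rm M hle) h'
  rw [rm_smul, ρ_ρ, rm_rm] at h1
  exact h1.trans (rz_zero _ _)

lemma ev_mulRestr_smul (g : O.obj.obj (op A)) {W : Opens T} (hW : W ≤ A) (x : Se M W) :
    ev (mulRestr A M g) W x = ρ hW g • ev (mulRestr A M 1) W x := by
  show ρ (O := O) (cap_le' A W) g • rm M (cap_le A W) x =
    ρ (O := O) (cap_le A W) (ρ hW g) • ρ (O := O) (cap_le' A W) (1 : O.obj.obj (op A)) • rm M (cap_le A W) x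
  rw [map_one, one_smul, ρ_ρ]

lemma ev_finsum {P Q : ModSite.Mod O} {V : Opens T} {κ : Type*} (s : Finset κ) (φ : κ → (P ⟶ Q))
    (x : Se P V) : ev (∑ i ∈ s, φ i) V x = ∑ i ∈ s, ev (φ i) V x :=
  map_sum (AddMonoidHom.mk' (fun ψ : P ⟶ Q => ev ψ V x) fun _ _ => rfl) φ s

end Restr

variable {T T' : TopCat.{u}} {O : Sheaf (Opens.grothendieckTopology T) CommRingCat.{u}}
  {O' : Sheaf (Opens.grothendieckTopology T') CommRingCat.{u}} (f : ModSite.RMor O' O)

lemma shp_ρ {U V : Opens T} (h : V ≤ U) (a : O.obj.obj (op U)) :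
    shp f (U := op V) (ρ h a) = ρ (O := O') (leOfHom (f.fn.map (homOfLE h))) (shp f (U := op U) a) :=
  shp_map f (homOfLE h).op a

lemma pu_rm (M : ModSite.Mod O) {U V : Opens T} (h : V ≤ U) (x : Se M U) :
    pu f M (U := op V) (rm M h x) = rm (f.pull.obj M) (leOfHom (f.fn.map (homOfLE h))) (pu f M (U := op U) x) :=
  pu_rs f M (homOfLE h).op x

lemma shp_pow {U : Opens T} (a : O.obj.obj (op U)) (k : ℕ) :
    shp f (U := op U) (a ^ k) = shp f (U := op U) a ^ k :=
  map_pow (f.sharp.hom.app (op U)).hom a k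

variable [PreservesFiniteLimits f.pull]
  (hinf : ∀ P Q : Opens T, f.fn.obj P ⊓ f.fn.obj Q ≤ f.fn.obj (P ⊓ Q)) {A : Opens T}

include hinf in
/-- Sections of an inverse image killed by inverse images of sections of the ring are locally combinations of
inverse images of killed sections. -/
theorem exists_killed_combination {j : ℕ} (q : Fin j → O.obj.obj (op A)) (M : ModSite.Mod O)
    {W : Opens T'} (hW : W ≤ f.fn.obj A) (w : Se (f.pull.obj M) W)
    (hw : ∀ i, ρ hW (shp f (U := op A) (q i)) • w = 0) {y : T'} (hy : y ∈ W) :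
    ∃ (W' : Opens T') (hW' : W' ≤ W) (V : Opens T) (hVA : V ≤ A) (hWV : W' ≤ f.fn.obj V) (n : ℕ)
      (c : Fin n → O'.obj.obj (op W')) (v : Fin n → Se M V), y ∈ W' ∧ (∀ l i, ρ hVA (q i) • v l = 0) ∧
        rm (f.pull.obj M) hW' w = ∑ l, c l • rm (f.pull.obj M) hWV (pu f M (U := op V) (v l)) := by
  classical
  haveI : HasFiniteBiproducts (ModSite.Mod O) := Abelian.hasFiniteBiproducts
  let ψ : M ⟶ ⨁ (fun _ : Fin j => restr A M) := ∑ i, mulRestr A M (q i) ≫ biproduct.ι (fun _ : Fin j => restr A M) i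
  let E := f.pull
  haveI : PreservesColimitsOfSize.{u, u} E := f.adj.leftAdjoint_preservesColimits
  haveI : E.Additive := SiteCmp.additive_pull f
  have key : ∀ i, ev (E.map (mulRestr A M (q i))) W w = 0 := fun i => by
    refine eq_of_point _ fun z hz => ?_
    obtain ⟨W₁, hW₁, hzW₁, X, h, n, a, k, e⟩ := point_of_locally (locally_combination f M (W := W) w) hz
    let V := X ⊓ A
    have hV : W₁ ≤ f.fn.obj V := (le_inf (leOfHom h) (hW₁.trans hW)).trans (hinf X A)
    let pX := fun {N : ModSite.Mod O} (x : Se N V) => rm (E.obj N) hV (pu f N (U := op V) x)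
    have e' : rm (E.obj M) hW₁ w = ∑ l, a l • pX (rm M inf_le_left (k l)) := by
      refine Eq.trans e (Finset.sum_congr rfl fun l _ => congrArg (a l • ·) ?_)
      show rm (E.obj M) (leOfHom h) (pu f M (U := op X) (k l)) = rm (E.obj M) hV (pu f M (U := op V) (rm M inf_le_left (k l)))
      rw [pu_rm, rm_rm]
    have hq : ∀ φ : M ⟶ restr A M, rm _ hW₁ (ev (E.map φ) W w) =
        ∑ l, a l • pX (ev φ V (rm M inf_le_left (k l))) := fun φ => by
      refine ((ev_res (E.map φ) (homOfLE hW₁) w).symm.trans (congrArg (ev (E.map φ) W₁) e')).trans ?_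
      rw [map_sum]
      refine Finset.sum_congr rfl fun l _ => (map_smul _ _ _).trans (congrArg (a l • ·) ?_)
      exact (ev_res (E.map φ) (homOfLE hV) _).trans (congrArg (rm _ hV) (pu_naturality f φ _))
    refine ⟨W₁, hW₁, hzW₁, ?_⟩
    rw [show rm (E.obj (restr A M)) hW₁ (0 : Se (E.obj (restr A M)) W) = 0 from rz_zero _ _, hq]
    have h2 : ∀ l, pX (ev (mulRestr A M (q i)) V (rm M inf_le_left (k l))) =
        ρ (hW₁.trans hW) (shp f (U := op A) (q i)) • pX (ev (mulRestr A M 1) V (rm M inf_le_left (k l))) := fun l => by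
      rw [ev_mulRestr_smul A M (q i) inf_le_right]
      show rm _ hV (pu f _ (U := op V) (ρ inf_le_right (q i) • _)) = _
      rw [pu_smul, rm_smul, shp_ρ, ρ_ρ]
    rw [Finset.sum_congr rfl fun l _ => (congrArg (a l • ·) (h2 l)).trans (smul_comm _ _ _), ← Finset.smul_sum, ← hq,
      ← ρ_ρ hW hW₁, ← rm_smul, ← map_smul, hw i, map_zero]
    exact rz_zero _ _
  have hψw : ev (E.map ψ) W w = 0 := by
    rw [show E.map ψ = ∑ i, E.map (mulRestr A M (q i) ≫ biproduct.ι (fun _ : Fin j => restr A M) i) from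
      E.map_sum _ _, ev_finsum]
    refine Finset.sum_eq_zero fun i _ => ?_
    rw [E.map_comp, ev_comp, key i, map_zero]
  let S := ShortComplex.mk (kernel.ι ψ) ψ (kernel.condition ψ)
  have hS : S.Exact := S.exact_of_f_is_kernel (kernelIsKernel ψ)
  obtain ⟨W₁, hW₁, hyW₁, w', hw'⟩ := point_of_locally (HomSec.locally_of_exact (hS.map E) w hψw) hy
  obtain ⟨W₂, hW₂, hyW₂, X, h, n, a, k, e⟩ :=
    point_of_locally (locally_combination f (kernel ψ) (W := W₁) w') hyW₁
  let V := X ⊓ A
  have hV : W₂ ≤ f.fn.obj V := (le_inf (leOfHom h) ((hW₂.trans hW₁).trans hW)).trans (hinf X A)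
  refine ⟨W₂, hW₂.trans hW₁, V, inf_le_right, hV, n, a,
    fun l => ev (kernel.ι ψ) V (rm (kernel ψ) inf_le_left (k l)), hyW₂, fun l i => ?_, ?_⟩
  · let v := ev (kernel.ι ψ) V (rm (kernel ψ) inf_le_left (k l))
    have h0 : ev ψ V v = 0 := by
      show ev (kernel.ι ψ ≫ ψ) V _ = 0
      rw [kernel.condition]
      rfl
    have h1 : ev (mulRestr A M (q i)) V v = 0 := by
      have h2 := congrArg (ev (biproduct.π (fun _ : Fin j => restr A M) i) V) h0
      rw [map_zero, ← ev_comp] at h2
      refine Eq.trans ?_ h2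
      refine congrArg (fun φ => ev φ V v) ?_
      rw [Preadditive.sum_comp, Finset.sum_eq_single i (fun l _ hl => ?_) fun h => absurd (Finset.mem_univ _) h]
      · simp
      · simp [biproduct.ι_π_ne _ hl]
    have h3 := smul_rm_eq_zero A M (q i) v h1 (inf_le_right : V ≤ A) le_rfl
    rwa [show rm M (le_refl V) v = v from FTors.res_id _ _] at h3
  · rw [← rm_rm (E.obj M) hW₁ hW₂, show rm (E.obj M) hW₁ w = ev (E.map (kernel.ι ψ)) W₁ w' from hw'.symm]
    refine ((ev_res (E.map (kernel.ι ψ)) (homOfLE hW₂) w').symm.trans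
      (congrArg (ev (E.map (kernel.ι ψ)) W₂) e)).trans ?_
    rw [map_sum]
    refine Finset.sum_congr rfl fun l _ => (map_smul _ _ _).trans (congrArg (a l • ·) ?_)
    refine (ev_res (E.map (kernel.ι ψ)) h _).trans ((congrArg (rz _ h) (pu_naturality f (kernel.ι ψ) _)).trans ?_)
    beta_reduce
    rw [show ev (kernel.ι ψ) V (rm (kernel ψ) inf_le_left (k l)) = rm M inf_le_left (ev (kernel.ι ψ) X (k l)) from
      ev_res _ _ _, pu_rm, rm_rm]
    rfl

include hinf in
/-- Divisibility of inverse images of injective modules. -/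
theorem divAt_pull {I : FTors.IdealFam O} (hA : Good I A) (M : ModSite.Mod O) [Injective M] {r : ℕ}
    (g : Fin r → O.obj.obj (op A)) :
    DivAt (fun i => shp f (U := op A) (g i)) (f.pull.obj M) := by
  intro j hj k
  obtain ⟨m, hm⟩ := exists_div I hA M g j k (g ⟨j, hj⟩)
  refine ⟨m, fun L W hW w hw y hy => ?_⟩
  let q : Fin j → O.obj.obj (op A) := fun i => g ⟨i.1, lt_trans i.2 hj⟩ ^ k
  obtain ⟨W', hW', V, hVA, hWV, n, c, v, hyW', hv, e⟩ := exists_killed_combination f hinf q M hW w (fun i => by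
    rw [shp_pow, map_pow]
    exact hw ⟨i.1, _⟩ i.2) hy
  choose z hz hzk using fun l => hm L V hVA (v l) fun i hi => by
    have h1 := hv l ⟨i.1, hi⟩
    rw [map_pow] at h1
    exact h1
  have hρ : ∀ (a : O.obj.obj (op A)) (p : ℕ) (x : Se M V),
      ρ (hW'.trans hW) (shp f (U := op A) a) ^ p • rm (f.pull.obj M) hWV (pu f M (U := op V) x) =
        rm (f.pull.obj M) hWV (pu f M (U := op V) (ρ hVA a ^ p • x)) := fun a p x => by
    rw [pu_smul, rm_smul, shp_pow, shp_ρ, map_pow, ρ_ρ]
  refine ⟨W', hW', ∑ l, c l • rm (f.pull.obj M) hWV (pu f M (U := op V) (z l)), hyW', ?_, fun i hi => ?_⟩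
  · rw [e, Finset.smul_sum, Finset.smul_sum]
    refine Finset.sum_congr rfl fun l _ => ?_
    rw [smul_comm, hρ, hz, ← hρ, smul_comm]
  · rw [Finset.smul_sum]
    refine Finset.sum_eq_zero fun l _ => ?_
    rw [smul_comm, hρ, hzk l i hi, pu_zero]
    exact (congrArg (c l • ·) (rz_zero _ _)).trans (smul_zero _)

end Groth.Agent.H26.FMod.GPull
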