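import Groth.Agent.H26.FMod.GammaCompl
import Groth.Agent.H26.FMod.GammaPull
import Groth.Agent.H26.FMod.GammaCoprod
import Groth.Agent.H26.DerivedAdjUnit

/-!
# Derived torsion and inverse images to the completion
-/

noncomputable section

set_option autoImplicit false
set_option maxHeartbeats 1000000
set_option linter.style.haveILetI false
set_option backward.isDefEq.respectTransparency false
set_option backward.isDefEq.respectTransparency.types false
set_option synthInstance.maxSize 1000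
set_option synthInstance.maxHeartbeats 200000

universe u

open CategoryTheory CategoryTheory.Limits TopologicalSpace Opposite AlgebraicGeometry
open Groth.Agent.ModTensor Groth.Agent.ModPull
open Groth.Agent.H26.FMod.HomSec Groth.Agent.H26.FMod.GStab

attribute [local instance] HasDerivedCategory.standard

namespace Groth.Agent.H26.FMod

variable {X : Scheme.{u}} [IsLocallyNoetherian X] (𝓚 : X.IdealSheafData)
  (hl : (FSch.completionAlong X 𝓚).IsLocNoethFormal)

include hl in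
lemma hinf_toX (P Q : X.Opens) :
    (toX 𝓚 hl.1).fn.obj P ⊓ (toX 𝓚 hl.1).fn.obj Q ≤ (toX 𝓚 hl.1).fn.obj (P ⊓ Q) := fun _ hz => hz

include hl in
/-- Near every point the torsion of the completion is that of finitely many functions of the scheme. -/
theorem exists_gens_point (V : ((FSch.completionAlong X 𝓚).X 0).Opens) {y : (FSch.completionAlong X 𝓚).X 0}
    (hy : y ∈ V) : ∃ (A : X.Opens) (r : ℕ) (g : Fin r → Γ(X, A)), IsAffineOpen A ∧ hatU 𝓚 A ≤ V ∧ y ∈ hatU 𝓚 A ∧
      Good (FTors.powIdealFam X 𝓚) A ∧ Good (opI hl) (hatU 𝓚 A) ∧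
        Gens (FTors.powIdealFam X 𝓚) (U := A) g ∧ Gens (opI hl) (fun i => shU 𝓚 hl.1 A (g i)) := by
  obtain ⟨A, hA, -, hyA, hle⟩ := exists_hatU_le 𝓚 hy ⊤ trivial
  have hgood := good_powIdealFam 𝓚 hA
  haveI : IsNoetherianRing Γ(X, A) := hgood.noeth
  obtain ⟨r, g, hg⟩ := Submodule.fg_iff_exists_fin_generating_family.1
    (IsNoetherian.noetherian (𝓚.ideal ⟨A, hA⟩ : Ideal Γ(X, A)))
  refine ⟨A, r, g, hA, hle, hyA, hgood, good_of_isAffineOpen hl (isAffineOpen_hatU 𝓚 hA),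
    gensX_of_span 𝓚 hA g hg, gens_of_span hl (isAffineOpen_hatU 𝓚 hA) _ ?_⟩
  rw [Jd_hatU 𝓚 hl hA, ← hg]
  refine Eq.trans ?_ (Ideal.map_span _ _).symm
  rw [← Set.range_comp]
  rfl

variable [PreservesFiniteLimits (toX 𝓚 hl.1).pull]

include hl in
/-- Torsion sections commute with the inverse image to the completion. -/
theorem exists_gamma_pull_iso (M : ModSite.Mod X.sheaf) :
    ∃ θ : (toX 𝓚 hl.1).pull.obj ((FTors.gamma _ (FTors.powIdealFam X 𝓚)).obj M) ≅
        (FTors.gamma _ (opI hl)).obj ((toX 𝓚 hl.1).pull.obj M),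
      θ.hom ≫ (FTors.gammaι (opI hl)).app _ = (toX 𝓚 hl.1).pull.map ((FTors.gammaι (FTors.powIdealFam X 𝓚)).app M) := by
  let E := (toX 𝓚 hl.1).pull
  haveI := isIso_gammaι' (opI hl) (isTorsF_pull 𝓚 hl (isTors_gamma (FTors.powIdealFam X 𝓚) M))
  let γ := (FTors.gamma _ (opI hl))
  let c := E.map ((FTors.gammaι (FTors.powIdealFam X 𝓚)).app M)
  let θ := inv ((FTors.gammaι (opI hl)).app (E.obj ((FTors.gamma _ (FTors.powIdealFam X 𝓚)).obj M))) ≫ γ.map c
  have hθ : θ ≫ (FTors.gammaι (opI hl)).app _ = c := by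
    rw [Category.assoc]
    exact (congrArg (_ ≫ ·) ((FTors.gammaι (opI hl)).naturality c)).trans (IsIso.inv_hom_id_assoc _ _)
  haveI := mono_gammaι' (FTors.powIdealFam X 𝓚) M
  haveI : Mono c := inferInstanceAs (Mono (E.map _))
  haveI : Mono θ := mono_of_mono_fac hθ
  haveI : Epi θ := HomSec.epi_of_locally _ fun W s => GStab.locally_of_point (fun y hy => by
    obtain ⟨A, r, g, hA, hle, hyA, -, -, hgX, hgF⟩ := exists_gens_point 𝓚 hl W hy
    let x : Se (E.obj M) W := ev ((FTors.gammaι (opI hl)).app _) W s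
    obtain ⟨W₁, hW₁, hyW₁, N, hN⟩ := point_of_locally ((FTors.IsTorsSect.iff_exists _).1
      (FTors.IsTorsSect.res (I := opI hl) (M := E.obj M) (homOfLE hle)
        (s : FTors.torsSub (opI hl) (E.obj M) W).2)) hyA
    let q : Fin r → Γ(X, A) := fun i => g i ^ (N + 1)
    obtain ⟨W₂, hW₂, V, hVA, hWV, n, c', v, hyW₂, hv, e⟩ := GPull.exists_killed_combination (toX 𝓚 hl.1)
      (hinf_toX 𝓚 hl) (A := A) q M hW₁ (rm _ hW₁ (rm _ hle x)) (fun i => by
        rw [GPull.shp_pow, map_pow]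
        have h1 := hN (𝟙 W₁) (ρ hW₁ (shU 𝓚 hl.1 A (g i)) ^ (N + 1))
          (by rw [← map_pow]; exact (opI hl).map_mem N (homOfLE hW₁) (hgF.mem i N))
        rw [FTors.res_id] at h1
        exact h1) hyW₁
    let t : Fin n → Se ((FTors.gamma _ (FTors.powIdealFam X 𝓚)).obj M) V := fun l =>
      (⟨v l, hgX.tors M V hVA (v l) (N + 1) fun i => by
        rw [← map_pow]
        exact hv l i⟩ : FTors.torsSub (FTors.powIdealFam X 𝓚) M V)
    refine ⟨W₂, hW₂.trans (hW₁.trans hle), hyW₂, ∑ l, c' l • rm _ hWV (pu (toX 𝓚 hl.1) _ (U := op V) (t l)), ?_⟩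
    haveI := mono_gammaι' (opI hl) (E.obj M)
    refine app_injective ((FTors.gammaι (opI hl)).app (E.obj M)) (op W₂) ?_
    show ev ((FTors.gammaι (opI hl)).app (E.obj M)) W₂ (ev θ W₂ _) =
      ev ((FTors.gammaι (opI hl)).app (E.obj M)) W₂ (rz _ (homOfLE (hW₂.trans (hW₁.trans hle))) s)
    refine ((ev_comp θ _ W₂ _).symm.trans (congrArg (fun φ => ev φ W₂ _) hθ)).trans ?_
    rw [ev_res]
    refine Eq.trans ?_ ((e.symm.trans (rm_rm _ hW₁ hW₂ _)).trans (rm_rm _ hle (hW₂.trans hW₁) x))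
    rw [map_sum]
    refine Finset.sum_congr rfl fun l _ => (map_smul _ _ _).trans (congrArg (c' l • ·) ?_)
    exact (ev_res c (homOfLE hWV) _).trans (congrArg (rm _ hWV) (pu_naturality _ _ _)))
    fun W W' g k ⟨x, hx⟩ => ⟨rz _ k x, by rw [ev_res, hx, rz_comp]⟩
  haveI : IsIso θ := isIso_of_mono_of_epi _
  exact ⟨asIso θ, hθ⟩

variable [FTors.HasRgammaT (FSch.completionAlong X 𝓚) hl.1] [FTors.HasRgammaZp X 𝓚]

include hl in
/-- Post-composition with the inverse image of the counit is bijective from torsion objects. -/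
theorem comp_pullD_rgammaε_bijective (T : DerivedCategory (FSch.ModF (FSch.completionAlong X 𝓚) hl.1))
    (hT : FTors.IsDTorsF (FSch.completionAlong X 𝓚) hl.1 T) (F : DerivedCategory (ModSite.Mod X.sheaf)) :
    Function.Bijective fun t : T ⟶ (SiteCmp.pullD (toX 𝓚 hl.1)).obj ((FTors.RgammaZp X 𝓚).obj F) =>
      t ≫ (SiteCmp.pullD (toX 𝓚 hl.1)).map ((FTors.RgammaZpε X 𝓚).app F) := by
  let E := (toX 𝓚 hl.1).pull
  let D := SiteCmp.pullD (toX 𝓚 hl.1)
  let cE := E.mapHomologicalComplex (ComplexShape.up ℤ)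
  obtain ⟨J, hJ, hinj, ⟨eF⟩⟩ := exists_model F
  haveI := hJ
  obtain ⟨e, he⟩ := exists_rgamma_iso (FTors.powIdealFam X 𝓚) J
  let P := cE.obj J
  haveI : IsIso ((compη (stable_opI hl)).app P) := isIso_compη_gens (stable_opI hl) P fun V y hy => by
    obtain ⟨A, r, g, -, hle, hyA, hgoodX, hgood, -, hgF⟩ := exists_gens_point 𝓚 hl V hy
    exact ⟨hatU 𝓚 A, r, _, hle, hyA, hgood, hgF, fun n =>
      haveI := hinj n; GPull.divAt_pull (toX 𝓚 hl.1) (hinf_toX 𝓚 hl) hgoodX (J.X n) g⟩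
  choose θ hθ using fun n => exists_gamma_pull_iso 𝓚 hl (J.X n)
  let ΓX := ((FTors.gamma _ (FTors.powIdealFam X 𝓚)).mapHomologicalComplex (ComplexShape.up ℤ)).obj J
  let ΓF := ((FTors.gamma _ (opI hl)).mapHomologicalComplex (ComplexShape.up ℤ)).obj P
  let Θ : cE.obj ΓX ≅ ΓF := HomologicalComplex.Hom.isoOfComponents θ fun i j _ => by
    haveI := mono_gammaι' (opI hl) (P.X j)
    rw [← cancel_mono ((FTors.gammaι (opI hl)).app (P.X j)), Category.assoc, Category.assoc]
    refine (congrArg ((θ i).hom ≫ ·) ((FTors.gammaι (opI hl)).naturality (P.d i j))).trans ?_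
    refine (Category.assoc _ _ _).symm.trans ((congrArg (· ≫ P.d i j) (hθ i)).trans ?_)
    refine ((E.map_comp _ _).symm.trans ((congrArg E.map
      ((FTors.gammaι (FTors.powIdealFam X 𝓚)).naturality (J.d i j)).symm).trans (E.map_comp _ _))).trans ?_
    exact congrArg (_ ≫ ·) (hθ j).symm
  have hΘ : Θ.hom ≫ gIncl (opI hl) P = cE.map (gIncl (FTors.powIdealFam X 𝓚) J) :=
    HomologicalComplex.hom_ext _ _ hθ
  let ε := (FTors.RgammaTε (FSch.completionAlong X 𝓚) hl.1).app (DerivedCategory.Q.obj P)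
  have hη : (compη (stable_opI hl)).app P ≫ ε = DerivedCategory.Q.map (gIncl (opI hl) P) := compη_ε _ P
  let κ := E.mapDerivedCategoryFactors
  let a : D.obj ((FTors.RgammaZp X 𝓚).obj F) ≅ (FTors.RgammaT _ hl.1).obj (DerivedCategory.Q.obj P) :=
    D.mapIso ((FTors.RgammaZp X 𝓚).mapIso eF ≪≫ e.symm) ≪≫ κ.app ΓX ≪≫
      DerivedCategory.Q.mapIso Θ ≪≫ asIso ((compη (stable_opI hl)).app P)
  let b : D.obj F ≅ DerivedCategory.Q.obj P := D.mapIso eF ≪≫ κ.app J
  have hsq : a.hom ≫ ε = D.map ((FTors.RgammaZpε X 𝓚).app F) ≫ b.hom := by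
    have h1 : (FTors.RgammaZp X 𝓚).map eF.hom ≫ e.inv ≫ DerivedCategory.Q.map (gIncl (FTors.powIdealFam X 𝓚) J) =
        (FTors.RgammaZpε X 𝓚).app F ≫ eF.hom := by
      rw [← he, Iso.inv_hom_id_assoc]
      exact (FTors.RgammaZpε X 𝓚).naturality eF.hom
    dsimp only [a, b, Iso.trans_hom, Functor.mapIso_hom, asIso_hom, Iso.symm_hom]
    simp only [Category.assoc]
    rw [hη, ← Functor.map_comp, hΘ]
    have h2 : D.map (DerivedCategory.Q.map (gIncl (FTors.powIdealFam X 𝓚) J)) ≫ (κ.app J).hom =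
        (κ.app ΓX).hom ≫ DerivedCategory.Q.map (cE.map (gIncl (FTors.powIdealFam X 𝓚) J)) :=
      κ.hom.naturality _
    rw [← h2, ← Functor.map_comp_assoc, ← Functor.map_comp_assoc]
    exact congrArg (fun z => D.map z ≫ (κ.app J).hom) ((Category.assoc _ _ _).trans h1)
  have hb := (b.homToEquiv (Z := T)).symm.bijective.comp
    ((comp_rgammaε_bijective (stable_opI hl) T (DerivedCategory.Q.obj P) hT).comp (a.homToEquiv (Z := T)).bijective)
  refine (Function.Bijective.of_comp_iff _ (Equiv.refl _).bijective).1 ?_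
  convert hb using 1
  funext t
  show t ≫ D.map _ = ((t ≫ a.hom) ≫ ε) ≫ b.inv
  rw [Category.assoc t, hsq]
  simp only [Category.assoc, Iso.hom_inv_id, Category.comp_id]

include hl in
/-- Derived torsion commutes with the inverse image to the completion. -/
theorem existsUnique_iso_pullD (F : DerivedCategory (ModSite.Mod X.sheaf)) :
    ∃! e : (SiteCmp.pullD (toX 𝓚 hl.1)).obj ((FTors.RgammaZp X 𝓚).obj F) ≅
        (FTors.RgammaT (FSch.completionAlong X 𝓚) hl.1).obj ((SiteCmp.pullD (toX 𝓚 hl.1)).obj F),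
      e.hom ≫ (FTors.RgammaTε (FSch.completionAlong X 𝓚) hl.1).app ((SiteCmp.pullD (toX 𝓚 hl.1)).obj F) =
        (SiteCmp.pullD (toX 𝓚 hl.1)).map ((FTors.RgammaZpε X 𝓚).app F) := by
  have hA := isDTorsF_pullD 𝓚 hl (isDTors_rgamma (FTors.powIdealFam X 𝓚) F)
  have hB := isDTors_rgamma (opI hl) ((SiteCmp.pullD (toX 𝓚 hl.1)).obj F)
  refine existsUnique_iso_of_bijective _ _ ?_ ?_
  all_goals rintro T (rfl | rfl)
  · exact comp_pullD_rgammaε_bijective 𝓚 hl _ hA F
  · exact comp_pullD_rgammaε_bijective 𝓚 hl _ hB F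
  · exact comp_rgammaε_bijective (stable_opI hl) _ _ hA
  · exact comp_rgammaε_bijective (stable_opI hl) _ _ hB

include hl in
/-- The inverse image to the completion is fully faithful against torsion objects. -/
theorem bijective_pullD_map (G F : DerivedCategory (ModSite.Mod X.sheaf))
    (hGF : FTors.IsDTorsZp X 𝓚 G ∨ FTors.IsDTorsZp X 𝓚 F) :
    Function.Bijective fun φ : G ⟶ F => (SiteCmp.pullD (toX 𝓚 hl.1)).map φ := by
  haveI := (exact_toX_push 𝓚 hl).1
  haveI := (exact_toX_push 𝓚 hl).2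
  let D := SiteCmp.pullD (toX 𝓚 hl.1)
  let P := (toX 𝓚 hl.1).push.mapDerivedCategory
  let Ad : D ⊣ P := H9Misc.TelLocal.derivedAdjunction (toX 𝓚 hl.1).adj
  have hunit : ∀ {K}, FTors.IsDTorsZp X 𝓚 K → IsIso (Ad.unit.app K) := fun hK =>
    DerivedAdj.isIso_unit _ _ fun i => isIso_unit_toX 𝓚 hl (hK i)
  suffices hs : Function.Bijective fun φ : G ⟶ F => φ ≫ Ad.unit.app F by
    have h1 : (fun φ : G ⟶ F => D.map φ) = (Ad.homEquiv _ _).symm ∘ fun φ => φ ≫ Ad.unit.app F := funext fun φ => by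
      refine (Equiv.eq_symm_apply _).2 ?_
      rw [Adjunction.homEquiv_unit]
      exact (Ad.unit.naturality φ).symm
    show Function.Bijective fun φ : G ⟶ F => D.map φ
    rw [h1]
    exact (Ad.homEquiv _ _).symm.bijective.comp hs
  rcases hGF with hG | hF
  · let ε := (FTors.RgammaZpε X 𝓚).app F
    haveI := hunit (isDTors_rgamma (FTors.powIdealFam X 𝓚) F)
    have hε := comp_rgammaε_bijective (stable_powIdealFam 𝓚) G F hG
    have h2 : Function.Bijective fun t : G ⟶ P.obj (D.obj ((FTors.RgammaZp X 𝓚).obj F)) => t ≫ P.map (D.map ε) := by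
      have h3 : (fun t : G ⟶ P.obj (D.obj ((FTors.RgammaZp X 𝓚).obj F)) => t ≫ P.map (D.map ε)) =
          (Ad.homEquiv _ _) ∘ (fun s => s ≫ D.map ε) ∘ (Ad.homEquiv _ _).symm := funext fun t => by
        show t ≫ _ = Ad.homEquiv _ _ ((Ad.homEquiv _ _).symm t ≫ D.map ε)
        rw [Ad.homEquiv_naturality_right, Equiv.apply_symm_apply]
      rw [h3]
      exact (Ad.homEquiv _ _).bijective.comp ((comp_pullD_rgammaε_bijective 𝓚 hl _ (isDTorsF_pullD 𝓚 hl hG) F).comp
        (Ad.homEquiv _ _).symm.bijective)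
    refine (Function.Bijective.of_comp_iff _ hε).1 ?_
    have h4 : ((fun φ : G ⟶ F => φ ≫ Ad.unit.app F) ∘ fun ψ => ψ ≫ ε) =
        (fun t => t ≫ P.map (D.map ε)) ∘ ((asIso (Ad.unit.app ((FTors.RgammaZp X 𝓚).obj F))).homToEquiv (Z := G)) :=
      funext fun ψ => by
        show (ψ ≫ ε) ≫ _ = (ψ ≫ Ad.unit.app _) ≫ _
        rw [Category.assoc, Category.assoc]
        exact congrArg (ψ ≫ ·) (Ad.unit.naturality ε)
    show Function.Bijective (_ ∘ _)
    rw [h4]
    exact h2.comp (Equiv.bijective _)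
  · haveI := hunit hF
    exact ((asIso (Ad.unit.app F)).homToEquiv (Z := G)).bijective

end Groth.Agent.H26.FMod
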