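import Groth.Agent.H26.FMod.GammaStable
import Groth.Agent.S1032
import Groth.Agent.TriCat.KInjRes
import Mathlib.Algebra.Homology.DerivedCategory.KInjective

/-!
# Derived torsion sections
-/

noncomputable section

set_option autoImplicit false
set_option maxHeartbeats 1000000
set_option backward.isDefEq.respectTransparency false
set_option backward.isDefEq.respectTransparency.types false
set_option linter.style.haveILetI false
set_option synthInstance.maxSize 1000
set_option synthInstance.maxHeartbeats 200000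

universe u

open CategoryTheory CategoryTheory.Limits Opposite TopologicalSpace
open Groth.Agent.ModTensor Groth.Agent.ModPull
open Groth.Agent.H26.FMod.HomSec

attribute [local instance] HasDerivedCategory.standard

namespace Groth.Agent.H26.FMod.GStab

variable {T : TopCat.{u}} {O : Sheaf (Opens.grothendieckTopology T) CommRingCat.{u}} (I : FTors.IdealFam O)

lemma isTors_gamma (M : ModSite.Mod O) : FTors.IsTors I ((FTors.gamma O I).obj M) := fun U s => by
  obtain ⟨S, hS, hSp⟩ := (FTors.IsTorsSect.iff_exists (I := I) (M := M) (s : FTors.torsSub I M U).1).1 (s : FTors.torsSub I M U).2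
  refine (FTors.IsTorsSect.iff_exists _).2 ⟨S, hS, fun V g hg => ?_⟩
  obtain ⟨n, hn⟩ := hSp g hg
  exact ⟨n, fun W k a ha => Subtype.ext (hn k a ha)⟩

lemma isTors_of_iso' {M N : ModSite.Mod O} (e : M ≅ N) (hM : FTors.IsTors I M) : FTors.IsTors I N := fun U s => by
  have h1 : FTors.IsTorsSect I N (U := U) (e.hom.val.app (op U) (e.inv.val.app (op U) s)) :=
    FTors.IsTorsSect.hom e.hom (hM U _)
  rwa [show e.hom.val.app (op U) (e.inv.val.app (op U) s) = s from
    ConcreteCategory.congr_hom (congrArg (fun φ : N ⟶ N => φ.val.app (op U)) e.inv_hom_id) s] at h1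

instance : (FTors.IsTors I).IsClosedUnderIsomorphisms := ⟨fun e h => isTors_of_iso' I e h⟩

/-- The inclusion is an isomorphism exactly on torsion modules. -/
lemma isIso_gammaι' {M : ModSite.Mod O} (hM : FTors.IsTors I M) : IsIso ((FTors.gammaι I).app M) := by
  haveI : Mono ((FTors.gammaι I).app M) := HomSec.mono_of_locally _ fun V x hx =>
    ModPull.Locally.of_id fun W g => by
      obtain rfl : x = 0 := Subtype.ext hx
      exact rz_zero _ _
  haveI : Epi ((FTors.gammaι I).app M) := HomSec.epi_of_locally _ fun V y =>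
    ModPull.Locally.of_id fun W g => ⟨(⟨rz M g y, hM W _⟩ : FTors.torsSub I M W), rfl⟩
  exact isIso_of_mono_of_epi _

lemma isTors_of_isIso {M : ModSite.Mod O} [IsIso ((FTors.gammaι I).app M)] : FTors.IsTors I M :=
  isTors_of_iso' I (asIso ((FTors.gammaι I).app M)) (isTors_gamma I M)

variable [FTors.HasRgamma I]

/-- The derived torsion functor at a K-injective complex. -/
theorem exists_rgamma_iso (J : CochainComplex (ModSite.Mod O) ℤ) [hJ : J.IsKInjective] :
    ∃ e : DerivedCategory.Q.obj (((FTors.gamma O I).mapHomologicalComplex (ComplexShape.up ℤ)).obj J) ≅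
        (FTors.Rgamma I).obj (DerivedCategory.Q.obj J),
      e.hom ≫ (FTors.Rgammaε I).app (DerivedCategory.Q.obj J) = DerivedCategory.Q.map (gIncl I J) := by
  have hres : ∀ L : CochainComplex (ModSite.Mod O) ℤ,
      ∃ (I' : CochainComplex (ModSite.Mod O) ℤ) (f : L ⟶ I'), I'.IsKInjective ∧ QuasiIso f := fun L => by
    obtain ⟨I', f, h1, h2, -, -⟩ := TriCat.exists_kInjective_resolution'.{u} L
    exact ⟨I', f, h1, h2⟩
  let W := HomotopyCategory.quasiIso (ModSite.Mod O) (ComplexShape.up ℤ)
  let α := (FTors.gammaKh I).totalRightDerivedUnit DerivedCategory.Qh W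
  let X := (HomotopyCategory.quotient (ModSite.Mod O) (ComplexShape.up ℤ)).obj J
  haveI : IsIso (α.app X) := (Groth.Agent.S1032.result hres (FTors.gammaKh I)).2 J hJ
  let κ := DerivedCategory.quotientCompQhIso (ModSite.Mod O)
  let Γ := (FTors.gamma O I).mapHomologicalComplex (ComplexShape.up ℤ)
  let e₀ : DerivedCategory.Q.obj (Γ.obj J) ≅ (FTors.gammaKh I).obj X :=
    (κ.app (Γ.obj J)).symm ≪≫
      DerivedCategory.Qh.mapIso (((FTors.gamma O I).mapHomotopyCategoryFactors (ComplexShape.up ℤ)).app J).symm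
  refine ⟨e₀ ≪≫ asIso (α.app X) ≪≫ (FTors.Rgamma I).mapIso (κ.app J), ?_⟩
  have hfac : α.app X ≫ (FTors.Rgammaε I).app (DerivedCategory.Qh.obj X) = (FTors.gammaτ I).app X :=
    ((FTors.Rgamma I).rightDerived_fac_app α W (𝟭 (DerivedCategory (ModSite.Mod O)))
      (FTors.gammaτ I ≫ (Functor.rightUnitor _).inv) X).trans (Category.comp_id _)
  simp only [Iso.trans_hom, asIso_hom, Functor.mapIso_hom, Category.assoc]
  rw [(FTors.Rgammaε I).naturality (κ.app J).hom, Functor.id_map]
  show e₀.hom ≫ α.app X ≫ (FTors.Rgammaε I).app (DerivedCategory.Qh.obj X) ≫ κ.hom.app J = _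
  rw [reassoc_of% hfac]
  have hτ : (FTors.gammaτ I).app X = (FTors.gammaτ0 I).app J := rfl
  rw [hτ]
  dsimp only [FTors.gammaτ0, NatTrans.comp_app, Functor.associator_inv_app, Functor.associator_hom_app,
    Functor.whiskerRight_app, Functor.leftUnitor_hom_app, e₀, Iso.trans_hom, Iso.symm_hom, Iso.app_inv,
    Functor.mapIso_hom, Iso.app_hom]
  simp
  rw [← DerivedCategory.Qh.map_comp_assoc, ← Functor.map_comp,
    show (NatTrans.mapHomologicalComplex (FTors.gammaι I) (ComplexShape.up ℤ)).app J ≫
      (Functor.mapHomologicalComplexIdIso (ModSite.Mod O) (ComplexShape.up ℤ)).hom.app J = gIncl I J from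
        HomologicalComplex.hom_ext _ _ fun n => Category.comp_id _]
  exact (congrArg (κ.inv.app _ ≫ ·) (κ.hom.naturality (gIncl I J))).trans (κ.inv_hom_id_app_assoc _ _)

omit [FTors.HasRgamma I] in
/-- Resolutions of objects of the derived category. -/
lemma exists_model (K : DerivedCategory (ModSite.Mod O)) :
    ∃ J : CochainComplex (ModSite.Mod O) ℤ, J.IsKInjective ∧ (∀ n, Injective (J.X n)) ∧
      Nonempty (K ≅ DerivedCategory.Q.obj J) := by
  obtain ⟨J, g, hJ, hg, -, hinj⟩ := TriCat.exists_kInjective_resolution'.{u} (DerivedCategory.Q.objPreimage K)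
  exact ⟨J, hJ, hinj, ⟨(DerivedCategory.Q.objObjPreimageIso K).symm ≪≫
    @asIso _ _ _ _ (DerivedCategory.Q.map g) ((DerivedCategory.isIso_Q_map_iff_quasiIso _ _).2 hg)⟩⟩

omit [FTors.HasRgamma I] in
lemma isTors_homology_of_iso {K : DerivedCategory (ModSite.Mod O)} (hK : FTors.IsDTors I K)
    {J : CochainComplex (ModSite.Mod O) ℤ} (e : K ≅ DerivedCategory.Q.obj J) (n : ℤ) :
    FTors.IsTors I (J.homology n) :=
  isTors_of_iso' I ((DerivedCategory.homologyFunctor (ModSite.Mod O) n).mapIso e ≪≫
    (DerivedCategory.homologyFunctorFactors (ModSite.Mod O) n).app J) (hK n)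

omit [FTors.HasRgamma I] in
lemma isDTors_Q {G : CochainComplex (ModSite.Mod O) ℤ} (hG : ∀ n, FTors.IsTors I (G.homology n)) :
    FTors.IsDTors I (DerivedCategory.Q.obj G) := fun n =>
  isTors_of_iso' I ((DerivedCategory.homologyFunctorFactors (ModSite.Mod O) n).app G).symm (hG n)

omit [FTors.HasRgamma I] in
lemma isDTors_of_iso {K L : DerivedCategory (ModSite.Mod O)} (e : K ≅ L) (hK : FTors.IsDTors I K) :
    FTors.IsDTors I L := fun n =>
  isTors_of_iso' I ((DerivedCategory.homologyFunctor (ModSite.Mod O) n).mapIso e) (hK n)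

omit [FTors.HasRgamma I] in
lemma isTors_homology_gamma (J : CochainComplex (ModSite.Mod O) ℤ) (n : ℤ) :
    FTors.IsTors I ((((FTors.gamma O I).mapHomologicalComplex (ComplexShape.up ℤ)).obj J).homology n) :=
  HomSec.isTors_homology I (fun m => isTors_gamma I (J.X m)) n

/-- Derived torsion has torsion cohomology. -/
theorem isDTors_rgamma (K : DerivedCategory (ModSite.Mod O)) : FTors.IsDTors I ((FTors.Rgamma I).obj K) := by
  obtain ⟨J, hJ, -, ⟨eK⟩⟩ := exists_model K
  haveI := hJ
  obtain ⟨e, -⟩ := exists_rgamma_iso I J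
  exact isDTors_of_iso I (e ≪≫ ((FTors.Rgamma I).mapIso eK).symm) (isDTors_Q I (isTors_homology_gamma I J))

/-- The stability hypothesis: torsion sections of injective complexes with torsion cohomology. -/
def Stable : Prop := ∀ K : CochainComplex (ModSite.Mod O) ℤ, (∀ n, Injective (K.X n)) →
  (∀ n, FTors.IsTors I (K.homology n)) → QuasiIso (gIncl I K)

omit [FTors.HasRgamma I] in
/-- Good opens give stability. -/
theorem stable_of_good (hgood : ∀ (V : Opens T), ∀ y ∈ V, ∃ U : Opens T, U ≤ V ∧ y ∈ U ∧ Good I U) : Stable I :=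
  fun _ hinj htors => quasiIso_gIncl hgood hinj htors

variable {I} (hst : Stable I)

include hst in
/-- Objects with torsion cohomology are their own derived torsion. -/
theorem isIso_rgammaε {K : DerivedCategory (ModSite.Mod O)} (hK : FTors.IsDTors I K) :
    IsIso ((FTors.Rgammaε I).app K) := by
  obtain ⟨J, hJ, hinj, ⟨eK⟩⟩ := exists_model K
  haveI := hJ
  obtain ⟨e, he⟩ := exists_rgamma_iso I J
  haveI := (DerivedCategory.isIso_Q_map_iff_quasiIso _ _).2 (hst J hinj (isTors_homology_of_iso I hK eK))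
  haveI : IsIso ((FTors.Rgammaε I).app (DerivedCategory.Q.obj J)) := by
    rw [show (FTors.Rgammaε I).app (DerivedCategory.Q.obj J) = e.inv ≫ DerivedCategory.Q.map (gIncl I J) from
      (Iso.eq_inv_comp e).2 he]
    infer_instance
  exact (NatTrans.isIso_app_iff_of_iso _ eK).2 this

include hst in
theorem isDTors_iff_isIso (K : DerivedCategory (ModSite.Mod O)) :
    FTors.IsDTors I K ↔ IsIso ((FTors.Rgammaε I).app K) :=
  ⟨isIso_rgammaε hst, fun h => isDTors_of_iso I (asIso ((FTors.Rgammaε I).app K)) (isDTors_rgamma I K)⟩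

omit [FTors.HasRgamma I] in
lemma exists_Q_map {K J : CochainComplex (ModSite.Mod O) ℤ} [J.IsKInjective]
    (φ : DerivedCategory.Q.obj K ⟶ DerivedCategory.Q.obj J) : ∃ f : K ⟶ J, DerivedCategory.Q.map f = φ := by
  let κ := DerivedCategory.quotientCompQhIso (ModSite.Mod O)
  obtain ⟨χ, hχ⟩ := (CochainComplex.IsKInjective.Qh_map_bijective _ J).2 (κ.hom.app K ≫ φ ≫ κ.inv.app J)
  obtain ⟨f, rfl⟩ := (HomotopyCategory.quotient (ModSite.Mod O) _).map_surjective χ
  exact ⟨f, (NatIso.naturality_1 κ f).symm.trans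
    ((congrArg (fun q => κ.inv.app K ≫ q ≫ κ.hom.app J) hχ).trans (by simp))⟩

omit [FTors.HasRgamma I] in
lemma homotopy_of_Q_map_eq {K J : CochainComplex (ModSite.Mod O) ℤ} [J.IsKInjective] (a b : K ⟶ J)
    (h : DerivedCategory.Q.map a = DerivedCategory.Q.map b) : Nonempty (Homotopy a b) := by
  refine ⟨HomotopyCategory.homotopyOfEq a b ((CochainComplex.IsKInjective.Qh_map_bijective _ J).1 ?_)⟩
  let κ := DerivedCategory.quotientCompQhIso (ModSite.Mod O)
  exact (NatIso.naturality_2 κ a).symm.trans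
    ((congrArg (fun q => κ.hom.app K ≫ q ≫ κ.inv.app J) h).trans (NatIso.naturality_2 κ b))

include hst in
/-- The universal property of derived torsion. -/
theorem comp_rgammaε_bijective (L K : DerivedCategory (ModSite.Mod O)) (hL : FTors.IsDTors I L) :
    Function.Bijective (fun g : L ⟶ (FTors.Rgamma I).obj K => g ≫ (FTors.Rgammaε I).app K) := by
  haveI := isIso_rgammaε hst hL
  refine ⟨fun g₁ g₂ hg => sub_eq_zero.1 ?_, fun φ =>
    ⟨inv ((FTors.Rgammaε I).app L) ≫ (FTors.Rgamma I).map φ, ?_⟩⟩
  · replace hg : (g₁ - g₂) ≫ (FTors.Rgammaε I).app K = 0 := by rw [Preadditive.sub_comp]; exact sub_eq_zero.2 hg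
    generalize g₁ - g₂ = g at hg ⊢
    obtain ⟨J, hJ, hinj, ⟨eK⟩⟩ := exists_model K
    obtain ⟨JL, hJL, hinjL, ⟨eL⟩⟩ := exists_model L
    haveI := hJ
    haveI := hJL
    obtain ⟨e, he⟩ := exists_rgamma_iso I J
    let Γ := (FTors.gamma O I).mapHomologicalComplex (ComplexShape.up ℤ)
    let G := Γ.obj J
    let g' : DerivedCategory.Q.obj JL ⟶ DerivedCategory.Q.obj G :=
      eL.inv ≫ g ≫ (FTors.Rgamma I).map eK.hom ≫ e.inv
    have hg' : g' ≫ DerivedCategory.Q.map (gIncl I J) = 0 := by
      rw [← he]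
      simp only [g', Category.assoc, Iso.inv_hom_id_assoc]
      rw [(FTors.Rgammaε I).naturality eK.hom, reassoc_of% hg]
      simp
    suffices hz : g' = 0 by
      have h1 : g = eL.hom ≫ g' ≫ e.hom ≫ (FTors.Rgamma I).map eK.inv := by
        simp [g', ← Functor.map_comp]
      rw [h1, hz, zero_comp, comp_zero]
    obtain ⟨J', f, hJ', hf, -, hinj'⟩ := TriCat.exists_kInjective_resolution'.{u} G
    haveI := hJ'
    haveI := hf
    haveI : IsIso (DerivedCategory.Q.map f) := (DerivedCategory.isIso_Q_map_iff_quasiIso _ _).2 hf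
    obtain ⟨ι, hι⟩ := exists_Q_map (J := J) (inv (DerivedCategory.Q.map f) ≫ DerivedCategory.Q.map (gIncl I J))
    obtain ⟨h, hh⟩ := exists_Q_map (J := J') (g' ≫ DerivedCategory.Q.map f)
    have hQ : ∀ {M N : CochainComplex (ModSite.Mod O) ℤ} [N.IsKInjective] (a b : M ⟶ N),
        DerivedCategory.Q.map a = DerivedCategory.Q.map b →
        DerivedCategory.Q.map (Γ.map a) = DerivedCategory.Q.map (Γ.map b) := fun {M N} _ a b hab =>
      DerivedCategory.Q_map_eq_of_homotopy _ ((FTors.gamma O I).mapHomotopy (homotopy_of_Q_map_eq a b hab).some)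
    have hnat : ∀ {M N : CochainComplex (ModSite.Mod O) ℤ} (a : M ⟶ N),
        gIncl I M ≫ a = Γ.map a ≫ gIncl I N := fun {M N} a =>
      HomologicalComplex.hom_ext _ _ fun n => ((FTors.gammaι I).naturality (a.f n)).symm
    haveI : IsIso (DerivedCategory.Q.map (gIncl I J')) := (DerivedCategory.isIso_Q_map_iff_quasiIso _ _).2
      (hst J' hinj' fun n => isTors_homology_of_iso I (isDTors_Q I (isTors_homology_gamma I J))
        (asIso (DerivedCategory.Q.map f)) n)
    haveI : IsIso (gIncl I G) := by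
      haveI : ∀ n, IsIso ((gIncl I G).f n) := fun n => isIso_gammaι' I (isTors_gamma I (J.X n))
      exact HomologicalComplex.Hom.isIso_of_components _
    haveI : IsIso (DerivedCategory.Q.map (Γ.map f)) := by
      have h1 := congrArg DerivedCategory.Q.map (hnat f)
      rw [Functor.map_comp, Functor.map_comp] at h1
      exact IsIso.of_isIso_fac_right h1.symm
    have hΓι : Γ.map (gIncl I J) = gIncl I G := HomologicalComplex.hom_ext _ _ fun n => by
      haveI : Mono ((FTors.gammaι I).app (J.X n)) := HomSec.mono_of_locally _ fun V x hx =>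
        ModPull.Locally.of_id fun W g => by
          obtain rfl : x = 0 := Subtype.ext hx
          exact rz_zero _ _
      exact (cancel_mono ((FTors.gammaι I).app (J.X n))).1
        ((FTors.gammaι I).naturality ((FTors.gammaι I).app (J.X n)))
    haveI : IsIso (DerivedCategory.Q.map (Γ.map (gIncl I J))) := by
      rw [hΓι]
      infer_instance
    haveI : IsIso (DerivedCategory.Q.map (Γ.map ι)) := by
      have h1 : DerivedCategory.Q.map (Γ.map f) ≫ DerivedCategory.Q.map (Γ.map ι) =
          DerivedCategory.Q.map (Γ.map (gIncl I J)) := by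
        rw [← Functor.map_comp, ← Functor.map_comp]
        exact hQ _ _ (by rw [Functor.map_comp, hι, IsIso.hom_inv_id_assoc])
      exact IsIso.of_isIso_fac_left h1
    haveI : IsIso (DerivedCategory.Q.map (gIncl I JL)) :=
      (DerivedCategory.isIso_Q_map_iff_quasiIso _ _).2 (hst JL hinjL (isTors_homology_of_iso I hL eL))
    have h3 : DerivedCategory.Q.map (Γ.map h) = 0 := by
      rw [← cancel_mono (DerivedCategory.Q.map (Γ.map ι)), zero_comp, ← Functor.map_comp, ← Functor.map_comp,
        ← DerivedCategory.Q.map_zero _ _, ← Γ.map_zero JL J]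
      refine hQ _ _ ?_
      rw [Functor.map_comp, hι, hh, Category.assoc, IsIso.hom_inv_id_assoc, hg', Functor.map_zero]
    rw [← cancel_mono (DerivedCategory.Q.map f), zero_comp, ← hh, ← cancel_epi (DerivedCategory.Q.map (gIncl I JL)),
      comp_zero, ← Functor.map_comp, hnat, Functor.map_comp, h3, zero_comp]
  · show (inv _ ≫ (FTors.Rgamma I).map φ) ≫ _ = φ
    rw [Category.assoc]
    exact (congrArg (inv ((FTors.Rgammaε I).app L) ≫ ·) ((FTors.Rgammaε I).naturality φ)).trans
      (IsIso.inv_hom_id_assoc _ _)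

end Groth.Agent.H26.FMod.GStab
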