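import Groth.Agent.H26.FMod.GammaStable
import Groth.Agent.ModTensor.Flat
import Groth.Agent.TriCat.KInjCriterion
import Groth.Agent.SiteBase.RpushD.Devissage
import Mathlib.Algebra.Homology.HomologySequence
import Mathlib.CategoryTheory.Abelian.GrothendieckAxioms.Basic
import Mathlib.CategoryTheory.Limits.Shapes.Countable
import Mathlib.CategoryTheory.Functor.OfSequence

/-!
# Cohomology of torsion sections through localisations
-/

noncomputable section

set_option autoImplicit false
set_option maxHeartbeats 1000000
set_option backward.isDefEq.respectTransparency false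
set_option backward.isDefEq.respectTransparency.types false
set_option linter.style.haveILetI false
set_option synthInstance.maxSize 1000
set_option synthInstance.maxHeartbeats 200000

universe u

open CategoryTheory CategoryTheory.Limits Opposite TopologicalSpace
open Groth.Agent.ModTensor Groth.Agent.ModPull
open Groth.Agent.H26.FMod.HomSec Groth.Agent.H26.FMod.GStab

attribute [local instance] HasDerivedCategory.standard

namespace Groth.Agent.H26.FMod.GLoc

variable {T : TopCat.{u}} {O : Sheaf (Opens.grothendieckTopology T) CommRingCat.{u}}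
  (a : O.obj.obj (op (⊤ : Opens T)))

/-- The restriction of a global section of the ring. -/
abbrev at' (V : Opens T) : O.obj.obj (op V) := ρ (O := O) (le_top : V ≤ ⊤) a

lemma smul_swap (M : ModSite.Mod O) {V : Opens T} (b c : O.obj.obj (op V)) (x : Se M V) :
    b • c • x = c • b • x := smul_comm b c x

/-- Multiplication by a global section of the ring. -/
def smulHom (M : ModSite.Mod O) : M ⟶ M :=
  ⟨PresheafOfModules.homMk
    { app := fun X => AddCommGrpCat.ofHom
        (DistribSMul.toAddMonoidHom (((fg O).obj M).obj X) (at' a X.unop))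
      naturality := fun X Y f => by
        ext x
        refine Eq.trans ?_ (rm_smul M (leOfHom f.unop) (at' a X.unop) x).symm
        exact congrArg (· • rm M (leOfHom f.unop) x) (ρ_ρ le_top (leOfHom f.unop) a).symm }
    fun X r x => smul_swap M (V := X.unop) (at' a X.unop) r x⟩

lemma ev_smulHom (M : ModSite.Mod O) {V : Opens T} (x : Se M V) : ev (smulHom a M) V x = at' a V • x := rfl

lemma smulHom_natural {M N : ModSite.Mod O} (φ : M ⟶ N) : smulHom a M ≫ φ = φ ≫ smulHom a N := by
  apply (fg O).map_injective
  refine PresheafOfModules.hom_ext fun X => ModuleCat.hom_ext (LinearMap.ext fun x => ?_)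
  exact map_smul (ev φ X.unop) (at' a X.unop) x

/-- The sequence of multiplications. -/
def seqF : ModSite.Mod O ⥤ ℕ ⥤ ModSite.Mod O where
  obj M := Functor.ofSequence (X := fun _ => M) (fun _ => smulHom a M)
  map {M N} φ := NatTrans.ofSequence (F := Functor.ofSequence (X := fun _ => M) (fun _ => smulHom a M))
    (G := Functor.ofSequence (X := fun _ => N) (fun _ => smulHom a N)) (fun _ => φ) fun n => by
      rw [Functor.ofSequence_map_homOfLE_succ, Functor.ofSequence_map_homOfLE_succ]
      exact smulHom_natural a φ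
  map_id M := by ext n; rfl
  map_comp φ ψ := by ext n; rfl

/-- The localisation at a global section of the ring. -/
abbrev locF : ModSite.Mod O ⥤ ModSite.Mod O := seqF a ⋙ colim

/-- The map to the localisation. -/
abbrev toLoc (M : ModSite.Mod O) : M ⟶ (locF a).obj M := colimit.ι ((seqF a).obj M) 0

lemma preservesFiniteLimits_seqF : PreservesFiniteLimits (seqF a) :=
  ⟨fun J _ _ => ⟨fun {K} => ⟨fun {c} hc => ⟨evaluationJointlyReflectsLimits _ fun _ => hc⟩⟩⟩⟩

lemma preservesFiniteColimits_seqF : PreservesFiniteColimits (seqF a) :=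
  ⟨fun J _ _ => ⟨fun {K} => ⟨fun {c} hc => ⟨evaluationJointlyReflectsColimits _ fun _ => hc⟩⟩⟩⟩

lemma preservesFiniteLimits_locF : PreservesFiniteLimits (locF a) := by
  haveI := preservesFiniteLimits_seqF a
  haveI := AB5OfSize_shrink.{0, 0, u, u} (ModSite.Mod O)
  haveI : HasExactColimitsOfShape ℕ (ModSite.Mod O) := AB5OfSize.ofShape ℕ
  haveI : PreservesFiniteLimits (colim : (ℕ ⥤ ModSite.Mod O) ⥤ ModSite.Mod O) :=
    HasExactColimitsOfShape.preservesFiniteLimits
  exact comp_preservesFiniteLimits _ _

lemma preservesFiniteColimits_locF : PreservesFiniteColimits (locF a) := by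
  haveI := preservesFiniteColimits_seqF a
  haveI : PreservesFiniteColimits (colim : (ℕ ⥤ ModSite.Mod O) ⥤ ModSite.Mod O) :=
    PreservesColimitsOfSize.preservesFiniteColimits.{0, 0} _
  exact comp_preservesFiniteColimits _ _

lemma additive_locF : (locF a).Additive := by
  haveI := preservesFiniteLimits_locF a
  exact Functor.additive_of_preserves_binary_products _

/-- Stages of the localisation. -/
lemma ev_map_seq (M : ModSite.Mod O) (n k : ℕ) {V : Opens T} (x : Se M V) :
    ev (((seqF a).obj M).map (homOfLE (Nat.le_add_right n k))) V x = at' a V ^ k • x := by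
  induction k with
  | zero =>
    rw [show homOfLE (Nat.le_add_right n 0) = 𝟙 n from rfl, CategoryTheory.Functor.map_id, pow_zero, one_smul]
    rfl
  | succ k ih =>
    rw [show homOfLE (Nat.le_add_right n (k + 1)) =
      homOfLE (Nat.le_add_right n k) ≫ homOfLE (Nat.le_succ (n + k)) from rfl, Functor.map_comp]
    show ev (((seqF a).obj M).map (homOfLE (Nat.le_succ (n + k)))) V
      (ev (((seqF a).obj M).map (homOfLE (Nat.le_add_right n k))) V x) = _
    rw [ih, pow_succ', mul_smul]
    refine Eq.trans ?_ (ev_smulHom a M (at' a V ^ k • x))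
    exact congrArg (fun φ : M ⟶ M => ev φ V (at' a V ^ k • x))
      (Functor.ofSequence_map_homOfLE_succ (X := fun _ => M) (fun _ => smulHom a M) (n + k))

/-- The localisation of a module all whose sections are locally killed by powers vanishes. -/
lemma isZero_locF {M : ModSite.Mod O}
    (hM : ∀ (V : Opens T) (x : Se M V), ∀ y ∈ V, ∃ (W : Opens T) (hW : W ≤ V) (k : ℕ), y ∈ W ∧
      at' a W ^ k • rm M hW x = 0) : IsZero ((locF a).obj M) := by
  rw [IsZero.iff_id_eq_zero]
  refine colimit.hom_ext fun n => ?_
  refine (Category.comp_id _).trans (Eq.trans ?_ comp_zero.symm)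
  apply (fg O).map_injective
  refine PresheafOfModules.hom_ext fun X => ModuleCat.hom_ext (LinearMap.ext fun x => ?_)
  refine eq_of_point ((locF a).obj M) fun y hy => ?_
  obtain ⟨W, hW, k, hyW, hk⟩ := hM X.unop x y hy
  refine ⟨W, hW, hyW, ?_⟩
  show rm _ hW (ev (colimit.ι ((seqF a).obj M) n) X.unop x) = rm _ hW (0 : Se ((locF a).obj M) X.unop)
  refine Eq.trans ((ev_res (colimit.ι ((seqF a).obj M) n) (homOfLE hW) x).symm.trans ?_) (rz_zero _ _).symm
  rw [← colimit.w ((seqF a).obj M) (homOfLE (Nat.le_add_right n k)), ev_comp, ev_map_seq]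
  exact (congrArg _ hk).trans (map_zero _)

/-- A module on which multiplication is bijective is its own localisation. -/
lemma isIso_toLoc (M : ModSite.Mod O) [IsIso (smulHom a M)] : IsIso (toLoc a M) := by
  haveI : ∀ {i j : ℕ} (f : i ⟶ j), IsIso (((seqF a).obj M).map f) := by
    intro i j f
    obtain ⟨k, rfl⟩ := Nat.exists_eq_add_of_le (leOfHom f)
    rw [Subsingleton.elim f (homOfLE (Nat.le_add_right i k))]
    clear f
    induction k with
    | zero =>
      rw [show homOfLE (Nat.le_add_right i 0) = 𝟙 i from rfl, CategoryTheory.Functor.map_id]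
      infer_instance
    | succ k ih =>
      rw [show homOfLE (Nat.le_add_right i (k + 1)) =
        homOfLE (Nat.le_add_right i k) ≫ homOfLE (Nat.le_succ (i + k)) from rfl, Functor.map_comp]
      haveI := ih
      haveI : IsIso (((seqF a).obj M).map (homOfLE (Nat.le_succ (i + k)))) := by
        rw [show ((seqF a).obj M).map (homOfLE (Nat.le_succ (i + k))) = smulHom a M from
          Functor.ofSequence_map_homOfLE_succ (X := fun _ => M) (fun _ => smulHom a M) (i + k)]
        infer_instance
      infer_instance
  exact isIso_ι_of_isInitial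
    (IsInitial.ofUniqueHom (fun j : ℕ => homOfLE (Nat.zero_le j)) fun _ _ => Subsingleton.elim _ _) _

section Step

variable (J J' : FTors.IdealFam O)

/-- The hypotheses of a step: `J'`-torsion is `J`-torsion locally killed by powers of `a`. -/
structure IsStep : Prop where
  iff : ∀ (M : ModSite.Mod O) (V : Opens T) (x : Se M V), FTors.IsTorsSect J' M (U := V) x ↔
    FTors.IsTorsSect J M (U := V) x ∧
      ∀ y ∈ V, ∃ (W : Opens T) (hW : W ≤ V) (k : ℕ), y ∈ W ∧ at' a W ^ k • rm M hW x = 0

/-- Local divisibility of torsion sections by the powers of `a`, up to sections killed by a power. -/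
def HasDiv (M : ModSite.Mod O) : Prop :=
  ∀ (V : Opens T) (x : Se M V), FTors.IsTorsSect J M (U := V) x → ∀ y ∈ V, ∃ (W : Opens T) (hW : W ≤ V)
    (m : ℕ) (z : Se M W), y ∈ W ∧ FTors.IsTorsSect J M (U := W) z ∧
      at' a W ^ (m + 1) • z = at' a W ^ m • rm M hW x

variable {a J J'}

/-- The inclusion of the smaller torsion. -/
def stepι (hs : IsStep a J J') : FTors.gamma O J' ⟶ FTors.gamma O J where
  app M := ⟨PresheafOfModules.homMk
    { app := fun X => AddCommGrpCat.ofHom
        { toFun := fun s => (⟨(s : FTors.torsSub J' M X.unop).1,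
            ((hs.iff M X.unop _).1 (s : FTors.torsSub J' M X.unop).2).1⟩ : FTors.torsSub J M X.unop)
          map_zero' := Subtype.ext rfl
          map_add' := fun _ _ => Subtype.ext rfl }
      naturality := fun X Y f => by ext s; exact Subtype.ext rfl }
    fun X r s => Subtype.ext rfl⟩
  naturality M N φ := by
    apply SheafOfModules.hom_ext
    ext X s
    rfl

lemma mono_stepι (hs : IsStep a J J') (M : ModSite.Mod O) : Mono ((stepι hs).app M) :=
  HomSec.mono_of_locally _ fun V x hx => ModPull.Locally.of_id fun W g => by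
    obtain rfl : x = 0 := Subtype.ext (congrArg (fun t : FTors.torsSub J M V => t.1) hx)
    exact rz_zero _ _

/-- Multiplication is bijective on the quotient. -/
lemma isIso_smulHom_cokernel (hs : IsStep a J J') {M : ModSite.Mod O} (hdiv : HasDiv a J M) :
    IsIso (smulHom a (cokernel ((stepι hs).app M))) := by
  haveI := mono_stepι hs M
  let ι := (stepι hs).app M
  let π := cokernel.π ι
  let S := ShortComplex.mk ι π (cokernel.condition ι)
  have hS : S.Exact := S.exact_of_g_is_cokernel (cokernelIsCokernel ι)
  have hzero : ∀ (V : Opens T) (v : Se ((FTors.gamma O J).obj M) V),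
      (∀ y ∈ V, ∃ (W : Opens T) (hW : W ≤ V) (k : ℕ), y ∈ W ∧
        at' a W ^ k • rm M hW (v : FTors.torsSub J M V).1 = 0) → ev π V v = 0 := fun V v hv => by
    let u : Se ((FTors.gamma O J').obj M) V :=
      (⟨_, (hs.iff M V _).2 ⟨(v : FTors.torsSub J M V).2, hv⟩⟩ : FTors.torsSub J' M V)
    rw [show v = ev ι V u from Subtype.ext rfl, ← ev_comp, cokernel.condition]
    rfl
  haveI : Mono (smulHom a (cokernel ι)) := HomSec.mono_of_locally _ fun V q hq => by
    refine (locally_exists_app_eq π q).bind fun W g ⟨v, hv⟩ => ?_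
    replace hv : ev π W v = rz (cokernel ι) g q := hv
    have hav : ev π W (at' a W • v) = 0 := by
      rw [map_smul]
      refine (congrArg (at' a W • ·) hv).trans ?_
      show at' a W • rz _ g q = 0
      rw [show at' a W • rz (cokernel ι) g q = ev (smulHom a (cokernel ι)) W (rz _ g q) from rfl, ev_res, hq]
      exact rz_zero _ _
    refine (HomSec.locally_of_exact hS _ hav).mono fun W' g' ⟨u, hu⟩ => ?_
    have h0 : ev π W' (rz _ g' v) = 0 := by
      refine hzero W' _ fun y hy => ?_
      obtain ⟨W'', hW'', k, hyW'', hk⟩ := ((hs.iff M W' _).1 (u : FTors.torsSub J' M W').2).2 y hy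
      refine ⟨W'', hW'', k + 1, hyW'', ?_⟩
      have h1 : (u : FTors.torsSub J' M W').1 = rz M g' (at' a W • (v : FTors.torsSub J M W).1) :=
        congrArg Subtype.val (hu : (⟨_, _⟩ : FTors.torsSub J M W') = _)
      rw [h1, show rz M g' (at' a W • (v : FTors.torsSub J M W).1) = ρ (leOfHom g') (at' a W) •
        rz M g' (v : FTors.torsSub J M W).1 from rm_smul M (leOfHom g') _ _, rm_smul, ρ_ρ, ρ_ρ, smul_smul,
        ← pow_succ] at hk
      exact hk
    rw [rz_comp, ← hv, ← ev_res]
    exact h0
  haveI : Epi (smulHom a (cokernel ι)) := HomSec.epi_of_locally _ fun V q => by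
    refine (locally_exists_app_eq π q).bind fun W g ⟨v, hv⟩ => ?_
    replace hv : ev π W v = rz (cokernel ι) g q := hv
    refine locally_of_point (fun y hy => ?_) (fun A B k k' ⟨x, hx⟩ => ?_)
    · obtain ⟨W', hW', m, z, hyW', hzJ, hz⟩ := hdiv W _ (v : FTors.torsSub J M W).2 y hy
      let zs : Se ((FTors.gamma O J).obj M) W' := (⟨z, hzJ⟩ : FTors.torsSub J M W')
      refine ⟨W', hW', hyW', ev π W' zs, ?_⟩
      have h0 : ev π W' (at' a W' • zs - rm _ hW' v) = 0 := hzero W' _ fun y' hy' => by
        refine ⟨W', le_rfl, m, hy', ?_⟩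
        show at' a W' ^ m • rm M le_rfl (at' a W' • z - rm M hW' (v : FTors.torsSub J M W).1) = 0
        rw [show rm M le_rfl (at' a W' • z - rm M hW' (v : FTors.torsSub J M W).1) =
          at' a W' • z - rm M hW' (v : FTors.torsSub J M W).1 from FTors.res_id M _, smul_sub, smul_smul,
          ← pow_succ, hz, sub_self]
      rw [map_sub, map_smul, sub_eq_zero] at h0
      rw [ev_smulHom, h0, rz_comp, ← hv, ← ev_res]
    · exact ⟨rz _ k' x, by rw [ev_res, hx, rz_comp, rz_comp, rz_comp]⟩
  exact isIso_of_mono_of_epi _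

/-- A step preserves a weak Serre class stable under countable colimits. -/
theorem prop_homology_step (hs : IsStep a J J') (K : CochainComplex (ModSite.Mod O) ℤ) (hdiv : ∀ n, HasDiv a J (K.X n)) (P : ObjectProperty (ModSite.Mod O))
    [WSerre.IsWeakSerre P] (hloc : ∀ M, P M → P ((locF a).obj M))
    (hK : ∀ n, P ((((FTors.gamma O J).mapHomologicalComplex (ComplexShape.up ℤ)).obj K).homology n)) (n : ℤ) :
    P ((((FTors.gamma O J').mapHomologicalComplex (ComplexShape.up ℤ)).obj K).homology n) := by
  haveI := preservesFiniteLimits_locF a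
  haveI := preservesFiniteColimits_locF a
  haveI := additive_locF a
  let f := (NatTrans.mapHomologicalComplex (stepι hs) (ComplexShape.up ℤ)).app K
  haveI : ∀ m, Mono (f.f m) := fun m => mono_stepι hs (K.X m)
  haveI : Mono f := HomologicalComplex.mono_of_mono_f f inferInstance
  let S := ShortComplex.mk f (cokernel.π f) (cokernel.condition f)
  have hS : S.ShortExact := TriCat.shortExact_cokernel f
  let Lc := (locF a).mapHomologicalComplex (ComplexShape.up ℤ)
  have key : ∀ m, IsIso (((locF a).map (S.g.f m))) ∧ IsIso (toLoc a (S.X₃.X m)) := fun m => by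
    have hm : (S.map (HomologicalComplex.eval _ _ m)).ShortExact := hS.map_of_exact _
    constructor
    · have hz : IsZero ((locF a).obj (S.X₁.X m)) := isZero_locF a fun V x y hy => by
        obtain ⟨W, hW, k, hyW, hk⟩ := ((hs.iff (K.X m) V _).1 (x : FTors.torsSub J' (K.X m) V).2).2 y hy
        exact ⟨W, hW, k, hyW, Subtype.ext hk⟩
      have hLm := hm.map_of_exact (locF a)
      haveI : Mono ((locF a).map (S.g.f m)) := hLm.exact.mono_g (hz.eq_of_src _ _)
      haveI : Epi ((locF a).map (S.g.f m)) := hLm.epi_g
      exact isIso_of_mono_of_epi _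
    · let e : cokernel ((stepι hs).app (K.X m)) ≅ S.X₃.X m :=
        IsColimit.coconePointUniqueUpToIso (cokernelIsCokernel _) hm.gIsCokernel
      haveI := isIso_smulHom_cokernel hs (hdiv m)
      haveI : IsIso (smulHom a (S.X₃.X m)) := by
        rw [show smulHom a (S.X₃.X m) = e.inv ≫ smulHom a _ ≫ e.hom by
          rw [smulHom_natural a e.hom, Iso.inv_hom_id_assoc]]
        infer_instance
      exact isIso_toLoc a _
  let η : S.X₃ ⟶ Lc.obj S.X₃ :=
    { f := fun m => toLoc a (S.X₃.X m)
      comm' := fun i j _ => ((colimit.ι_map ((seqF a).map (S.X₃.d i j)) 0).trans rfl) }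
  haveI : ∀ m, IsIso (η.f m) := fun m => (key m).2
  haveI : ∀ m, IsIso ((Lc.map S.g).f m) := fun m => (key m).1
  haveI : IsIso η := HomologicalComplex.Hom.isIso_of_components _
  haveI : IsIso (Lc.map S.g) := HomologicalComplex.Hom.isIso_of_components _
  have h3 : ∀ m, P (S.X₃.homology m) := fun m =>
    P.prop_of_iso (((S.X₂.sc m).mapHomologyIso (locF a)).symm ≪≫
      (HomologicalComplex.homologyFunctor _ _ m).mapIso (asIso (Lc.map S.g) ≪≫ (asIso η).symm)) (hloc _ (hK m))
  exact SiteBase.RpushD.prop_middle (hS.homology_exact₃ (n - 1) n (by simp))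
    (hS.homology_exact₁ (n - 1) n (by simp)) (hS.homology_exact₂ n) (hK (n - 1)) (h3 (n - 1)) (hK n) (h3 n)

end Step

end Groth.Agent.H26.FMod.GLoc
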