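import Groth.Agent.H26.FMod.CohComplete
import Groth.Agent.H26.FMod.GammaDerived
import Groth.Agent.H9Misc.DerCompExists

/-!
# Torsion objects, Koszul complexes and derived completeness on a formal scheme
-/

noncomputable section

set_option autoImplicit false
set_option maxHeartbeats 1000000
set_option linter.style.haveILetI false
set_option backward.isDefEq.respectTransparency false
set_option backward.isDefEq.respectTransparency.types false
set_option synthInstance.maxSize 1000
set_option synthInstance.maxHeartbeats 200000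

universe u

open CategoryTheory CategoryTheory.Category CategoryTheory.Limits Opposite TopologicalSpace AlgebraicGeometry
open CategoryTheory.Pretriangulated
open Groth.Agent.ModTensor Groth.Agent.ModPull

attribute [local instance] HasDerivedCategory.standard

namespace Groth.Agent.H26.FMod.GOrth

open Groth.Agent.H9Misc

section Site

variable {T : TopCat.{u}} {O : Sheaf (Opens.grothendieckTopology T) CommRingCat.{u}} {I : FTors.IdealFam O}

/-- Shifts preserve torsion cohomology. -/
lemma isDTors_shift {K : DerivedCategory (ModSite.Mod O)} (hK : FTors.IsDTors I K) (a : ℤ) :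
    FTors.IsDTors I (K⟦a⟧) := fun i =>
  GStab.isTors_of_iso' I
    (((DerivedCategory.homologyFunctor (ModSite.Mod O) 0).shiftIso a i (a + i) rfl).app K).symm (hK (a + i))

variable [FTors.HasRgamma I]

/-- The shifted universal property of derived torsion. -/
lemma comp_bijective_shift (hst : GStab.Stable I) {L : DerivedCategory (ModSite.Mod O)} (hL : FTors.IsDTors I L)
    (E : DerivedCategory (ModSite.Mod O)) (m : ℤ) :
    Function.Bijective (fun y : L ⟶ ((FTors.Rgamma I).obj E)⟦m⟧ => y ≫ ((FTors.Rgammaε I).app E)⟦m⟧') := by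
  let e := shiftFunctorCompIsoId (DerivedCategory (ModSite.Mod O)) (-m) m (by omega)
  let F : ∀ X : DerivedCategory (ModSite.Mod O), (L⟦-m⟧ ⟶ X) ≃ (L ⟶ X⟦m⟧) := fun X =>
    (Equiv.ofBijective _ ⟨(shiftFunctor _ m).map_injective, (shiftFunctor _ m).map_surjective⟩).trans
      (e.app L).homFromEquiv
  have hF : ∀ {X Y : DerivedCategory (ModSite.Mod O)} (z : L⟦-m⟧ ⟶ X) (g : X ⟶ Y),
      F Y (z ≫ g) = F X z ≫ g⟦m⟧' := fun z g => by
    show e.inv.app L ≫ (z ≫ g)⟦m⟧' = (e.inv.app L ≫ z⟦m⟧') ≫ g⟦m⟧'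
    rw [Functor.map_comp, assoc]
  have h := GStab.comp_rgammaε_bijective hst (L⟦-m⟧) E (isDTors_shift hL (-m))
  refine (Function.Bijective.of_comp_iff _ (F _).bijective).1 ?_
  convert (F _).bijective.comp h using 1
  funext z
  exact (hF z _).symm

/-- Torsion objects have no maps to the cone of the derived torsion. -/
theorem subsingleton_hom_cone (hst : GStab.Stable I) {L : DerivedCategory (ModSite.Mod O)} (hL : FTors.IsDTors I L)
    (E : DerivedCategory (ModSite.Mod O)) {D : DerivedCategory (ModSite.Mod O)} (g : E ⟶ D)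
    (h : D ⟶ ((FTors.Rgamma I).obj E)⟦(1 : ℤ)⟧)
    (hT : Triangle.mk ((FTors.Rgammaε I).app E) g h ∈ distTriang _) (n : ℤ) : Subsingleton (L ⟶ D⟦n⟧) := by
  let ε := (FTors.Rgammaε I).app E
  let c := shiftFunctorAdd' (DerivedCategory (ModSite.Mod O)) 1 n (1 + n) rfl
  refine subsingleton_of_forall_eq 0 fun x => ?_
  have hy : x ≫ h⟦n⟧' = 0 := by
    have h0 : h ≫ ε⟦(1 : ℤ)⟧' = 0 := comp_distTriang_mor_zero₃₁ _ hT
    refine (cancel_mono (c.inv.app _)).1 ((comp_bijective_shift hst hL E (1 + n)).1 ?_)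
    show ((x ≫ h⟦n⟧') ≫ c.inv.app _) ≫ ε⟦1 + n⟧' = (0 ≫ c.inv.app _) ≫ ε⟦1 + n⟧'
    rw [zero_comp, zero_comp, assoc, ← c.inv.naturality ε]
    show (x ≫ h⟦n⟧') ≫ (ε⟦(1 : ℤ)⟧')⟦n⟧' ≫ _ = 0
    rw [assoc, ← assoc (h⟦n⟧'), ← Functor.map_comp, h0, Functor.map_zero, zero_comp, comp_zero]
  obtain ⟨y, hy'⟩ := DLim.exact₃_shift _ hT n x hy
  obtain ⟨z, hz⟩ := (comp_bijective_shift hst hL E n).2 y
  rw [← hy', ← hz]
  show (z ≫ ε⟦n⟧') ≫ g⟦n⟧' = 0
  rw [assoc, ← Functor.map_comp, show ε ≫ g = 0 from comp_distTriang_mor_zero₁₂ _ hT, Functor.map_zero, comp_zero]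

end Site

section FSch

variable {𝔛 : FSch.Sys.{u}} (h : 𝔛.IsLocNoethFormal) {V : (𝔛.X 0).Opens} {l : List (Rg h.1 V)}

include h in
/-- Extensions by zero of modules killed by powers of local generators are torsion. -/
theorem isTors_extZero (hl : Kos.GenPair (defIdeal h) V l) {M : ModSite.Mod ((𝔛.Osh h.1).over V)} (K : ℕ)
    (hM : ∀ a ∈ l, DerComp.smulEnd (DerComp.GSec.ofSect (𝔛.Osh h.1) V a ^ K) M = 0) :
    FTors.IsTors (opI h) ((ModSite.extZero (𝔛.Osh h.1) V).obj M) := by
  let O := 𝔛.Osh h.1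
  let N := (ModSite.extZero O V).obj M
  let γ := (FTors.gammaι (opI h)).app N
  let adj := ModSite.extZeroAdj O V
  haveI : Mono γ := HomSec.mono_of_locally _ fun W x hx =>
    ModPull.Locally.of_id fun W' g => by
      obtain rfl : x = 0 := Subtype.ext hx
      exact HomSec.rz_zero _ _
  let q : N ⟶ cokernel γ := cokernel.π γ
  have hq : adj.homEquiv M (cokernel γ) q = 0 := by
    rw [Adjunction.homEquiv_unit]
    refine (fg (O.over V)).map_injective (PresheafOfModules.hom_ext fun Y => ModuleCat.hom_ext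
      (LinearMap.ext fun m => ?_))
    let u : Sec N Y.unop.left := ((adj.unit.app M).val.app Y).hom m
    have hu : FTors.IsTorsSect (opI h) N (U := Y.unop.left) u := by
      refine isTorsSect_of_genPair h hl K (leOfHom Y.unop.hom) u fun a ha => ?_
      have h1 := congrArg (fun φ : M ⟶ M => (φ.val.app Y).hom m) (hM a ha)
      have h2 := congrArg ((adj.unit.app M).val.app Y).hom
        ((DerComp.smulEnd_apply (DerComp.GSec.ofSect O V a ^ K) M Y m).symm.trans h1)
      refine Eq.trans ?_ (h2.trans (map_zero _))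
      exact (((adj.unit.app M).val.app Y).hom.map_smul
        (DerComp.GSec.val' (DerComp.GSec.ofSect O V a ^ K) Y) m).symm
    show (q.val.app (op Y.unop.left)).hom u = 0
    exact congrArg (fun φ : (FTors.gamma O (opI h)).obj N ⟶ cokernel γ =>
      (φ.val.app (op Y.unop.left)).hom ⟨u, hu⟩) (cokernel.condition γ)
  haveI : Epi γ := Preadditive.epi_of_cokernel_zero
    ((adj.homEquiv M (cokernel γ)).injective (hq.trans (Adjunction.homEquiv_unit adj _ _ 0 |>.trans (by simp)).symm))
  haveI : IsIso γ := isIso_of_mono_of_epi _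
  exact GStab.isTors_of_isIso (opI h)

include h in
/-- Koszul complexes of local generators have torsion cohomology. -/
theorem isDTors_kosFree (hl : Kos.GenPair (defIdeal h) V l) :
    FTors.IsDTors (opI h) (DerivedCategory.Q.obj (Kos.kosFree V l)) := by
  classical
  refine GStab.isDTors_Q (opI h) fun i => GStab.isTors_of_iso' (opI h)
    ((((Kos.kosUnit V l).sc i).mapHomologyIso (ModSite.extZero (𝔛.Osh h.1) V))).symm ?_
  have hk : ∀ a : {a // a ∈ l}, ∃ k : ℕ,
      DerComp.smulEnd (DerComp.GSec.ofSect (𝔛.Osh h.1) V a.1 ^ k) ((Kos.kosUnit V l).homology i) = 0 := fun a => by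
    obtain ⟨k, ⟨H⟩⟩ := KosCx.exists_null (l.map fun a => DerComp.GSec.ofSect (𝔛.Osh h.1) V a)
      ((HomologicalComplex.single _ (ComplexShape.up ℤ) 0).obj (ModSite.unit ((𝔛.Osh h.1).over V)))
      (List.mem_map.2 ⟨a.1, a.2, rfl⟩)
    refine ⟨k, ?_⟩
    have h1 := H.homologyMap_eq i
    rw [HomologicalComplex.homologyMap_zero] at h1
    refine (comp_id (DerComp.smulEnd (DerComp.GSec.ofSect (𝔛.Osh h.1) V a.1 ^ k) _)).symm.trans ?_
    refine Eq.trans ?_ h1
    refine ((ShortComplex.homologyMap_smul ((HomologicalComplex.shortComplexFunctor _ _ i).map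
      (𝟙 (Kos.kosUnit V l))) _).trans ?_).symm
    rw [CategoryTheory.Functor.map_id, ShortComplex.homologyMap_id]
    rfl
  choose k hk using hk
  refine isTors_extZero h hl (Finset.univ.sup k) fun a ha => ?_
  obtain ⟨j, hj⟩ := Nat.exists_eq_add_of_le (Finset.le_sup (f := k) (Finset.mem_univ (⟨a, ha⟩ : {a // a ∈ l})))
  rw [hj, pow_add, ← DerComp.smulEnd_comp]
  exact (congrArg (· ≫ _) (hk ⟨a, ha⟩)).trans zero_comp

end FSch

end Groth.Agent.H26.FMod.GOrth
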