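import Groth.Agent.QCoh.Ab.LerayNat
import Groth.Agent.FFun.GenModule
import Groth.Prelude.Def_ARSys

/-!
# The Mittag-Leffler condition from finite generation of graded pieces
-/

noncomputable section

set_option autoImplicit false
set_option linter.style.haveILetI false
set_option backward.isDefEq.respectTransparency false
set_option backward.isDefEq.respectTransparency.types false

universe u

open CategoryTheory CategoryTheory.Limits TopologicalSpace Opposite CategoryTheory.Abelian

namespace Groth.Agent.H26.FMod.GradedML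

variable {X : TopCat.{u}} (F : ℕᵒᵖ ⥤ CohTop.Ab X)

/-- The transition. -/
abbrev P {j m : ℕ} (h : j ≤ m) : F.obj (op m) ⟶ F.obj (op j) := F.map (homOfLE h).op

lemma P_comp {i j m : ℕ} (h : i ≤ j) (h' : j ≤ m) : P F h' ≫ P F h = P F (h.trans h') := by
  rw [← Functor.map_comp]
  exact congrArg F.map (Subsingleton.elim _ _)

lemma P_self (m : ℕ) : P F (le_refl m) = 𝟙 _ := by
  exact (congrArg F.map (Subsingleton.elim _ _)).trans (F.map_id _)

/-- The kernel of a transition. -/
abbrev K {j m : ℕ} (h : j ≤ m) : CohTop.Ab X := kernel (P F h)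

/-- Map between kernels of transitions. -/
abbrev KK {j j' m m' : ℕ} (h : j ≤ m) (h' : j' ≤ m') (a : F.obj (op m) ⟶ F.obj (op m'))
    (b : F.obj (op j) ⟶ F.obj (op j')) (w : a ≫ P F h' = P F h ≫ b) : K F h ⟶ K F h' :=
  kernel.map _ _ a b w.symm

/-- The graded piece inside a kernel. -/
abbrev inK {j m : ℕ} (h : j ≤ m) : K F (Nat.le_succ m) ⟶ K F (h.trans (Nat.le_succ m)) :=
  KK F _ _ (𝟙 _) (P F h) (by rw [Category.id_comp, P_comp])

/-- Projection of kernels. -/
abbrev prK {j m : ℕ} (h : j ≤ m) : K F (h.trans (Nat.le_succ m)) ⟶ K F h :=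
  KK F _ _ (P F (Nat.le_succ m)) (𝟙 _) (by rw [Category.comp_id, P_comp])

/-- The sequence of a graded piece. -/
def ses {j m : ℕ} (h : j ≤ m) : ShortComplex (CohTop.Ab X) :=
  ShortComplex.mk (inK F h) (prK F h) (by
    rw [← cancel_mono (kernel.ι (P F h)), zero_comp, Category.assoc]
    simp)

instance mono_inK {j m : ℕ} (h : j ≤ m) : Mono (inK F h) := by
  have e : inK F h ≫ kernel.ι _ = kernel.ι (P F (Nat.le_succ m)) := by simp
  exact mono_of_mono_fac e

instance mono_ses_f {j m : ℕ} (h : j ≤ m) : Mono (ses F h).f := mono_inK F h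

lemma ses_shortExact (hepi : ∀ n, Epi (P F (Nat.le_succ n))) {j m : ℕ} (h : j ≤ m) :
    (ses F h).ShortExact where
  mono_f := mono_ses_f F h
  epi_g := by
    show Epi (prK F h)
    rw [epi_iff_surjective_up_to_refinements]
    intro T x
    haveI := hepi m
    obtain ⟨T', π, hπ, y, hy⟩ := surjective_up_to_refinements_of_epi (P F (Nat.le_succ m)) (x ≫ kernel.ι _)
    refine ⟨T', π, hπ, kernel.lift _ y ?_, ?_⟩
    · rw [← P_comp F h (Nat.le_succ m), ← reassoc_of% hy, kernel.condition, comp_zero, comp_zero]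
    · rw [← cancel_mono (kernel.ι (P F h))]
      simp [hy]
  exact := ShortComplex.exact_of_f_is_kernel _
    (KernelFork.IsLimit.ofι' _ _ fun {W} x hx =>
      ⟨kernel.lift _ (x ≫ kernel.ι _) (by
          have h1 : (x ≫ prK F h) ≫ kernel.ι _ = 0 := by rw [show x ≫ prK F h = 0 from hx, zero_comp]
          simpa using h1),
        by rw [← cancel_mono (kernel.ι (P F (h.trans (Nat.le_succ m))))]; simp [ses]⟩)

/-- The classes killed below depth `i`. -/
def B (q n i : ℕ) : AddSubgroup (CohTop.H (K F (Nat.le_succ n)) q) :=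
  (Sheaf.H.map (inK F (Nat.sub_le n i)) q).ker

lemma map_congr' {G G' : CohTop.Ab X} {φ ψ : G ⟶ G'} (e : φ = ψ) (q : ℕ) (x : CohTop.H G q) :
    Sheaf.H.map φ q x = Sheaf.H.map ψ q x := by rw [e]

lemma map_zero' {G G' : CohTop.Ab X} (q : ℕ) (x : CohTop.H G q) : Sheaf.H.map (0 : G ⟶ G') q x = 0 := by
  show ((Sheaf.functorH _ q).map 0).hom x = 0
  rw [Functor.map_zero]
  rfl

lemma mem_B_of_le {q n i i' : ℕ} (h : i ≤ i') {x : CohTop.H (K F (Nat.le_succ n)) q} (hx : x ∈ B F q n i) :
    x ∈ B F q n i' := by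
  let g := KK F ((Nat.sub_le n i).trans (Nat.le_succ n)) ((Nat.sub_le n i').trans (Nat.le_succ n)) (𝟙 _)
    (P F (show n - i' ≤ n - i by omega)) (by rw [Category.id_comp, P_comp])
  have e : inK F (Nat.sub_le n i) ≫ g = inK F (Nat.sub_le n i') := by
    rw [← cancel_mono (kernel.ι _)]; simp [g]
  show Sheaf.H.map (inK F (Nat.sub_le n i')) q x = 0
  rw [← map_congr' e, Sheaf.H.map_comp_apply, show Sheaf.H.map (inK F (Nat.sub_le n i)) q x = 0 from hx, map_zero]

/-- Transition maps compatible with a shift. -/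
structure Shift where
  /-- The maps. -/
  μ : ∀ n, F.obj (op n) ⟶ F.obj (op (n + 1))
  comm : ∀ {j m : ℕ} (h : j ≤ m), μ m ≫ P F (Nat.succ_le_succ h) = P F h ≫ μ j

/-- Operators on graded pieces. -/
abbrev Shift.t (S : Shift F) (n : ℕ) : K F (Nat.le_succ n) ⟶ K F (Nat.le_succ (n + 1)) :=
  KK F _ _ (S.μ (n + 1)) (S.μ n) (S.comm (Nat.le_succ n))

lemma Shift.mem_B (S : Shift F) {q n i : ℕ} {x : CohTop.H (K F (Nat.le_succ n)) q} (hx : x ∈ B F q n i) :
    Sheaf.H.map (S.t F n) q x ∈ B F q (n + 1) i := by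
  have hle : n + 1 - i ≤ n - i + 1 := by omega
  let g := KK F ((Nat.sub_le n i).trans (Nat.le_succ n)) ((Nat.sub_le (n + 1) i).trans (Nat.le_succ (n + 1)))
    (S.μ (n + 1)) (S.μ (n - i) ≫ P F hle) (by
      rw [← P_comp F hle (Nat.succ_le_succ ((Nat.sub_le n i).trans (Nat.le_succ n))), ← Category.assoc, S.comm,
        Category.assoc])
  have e : inK F (Nat.sub_le n i) ≫ g = S.t F n ≫ inK F (Nat.sub_le (n + 1) i) := by
    rw [← cancel_mono (kernel.ι _)]; simp [g]
  show Sheaf.H.map (inK F (Nat.sub_le (n + 1) i)) q (Sheaf.H.map (S.t F n) q x) = 0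
  rw [← Sheaf.H.map_comp_apply, ← map_congr' e, Sheaf.H.map_comp_apply,
    show Sheaf.H.map (inK F (Nat.sub_le n i)) q x = 0 from hx, map_zero]

variable (hzero : IsZero (F.obj (op 0))) (hepi : ∀ n, Epi (P F (Nat.le_succ n)))

include hzero in
lemma mem_B_top {q n : ℕ} {x : CohTop.H (K F (Nat.le_succ n)) q} (hx : Sheaf.H.map (kernel.ι _) q x = 0) :
    x ∈ B F q n n := by
  have hj : n - n = 0 := Nat.sub_self n
  have hP : P F ((Nat.sub_le n n).trans (Nat.le_succ n)) = 0 := by
    exact (show IsZero (F.obj (op (n - n))) by rw [hj]; exact hzero).eq_of_tgt _ _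
  let g : F.obj (op (n + 1)) ⟶ K F ((Nat.sub_le n n).trans (Nat.le_succ n)) := kernel.lift _ (𝟙 _) (by simp [hP])
  have e : inK F (Nat.sub_le n n) = kernel.ι _ ≫ g := by
    rw [← cancel_mono (kernel.ι _)]; simp [g]
  show Sheaf.H.map (inK F (Nat.sub_le n n)) q x = 0
  rw [map_congr' e, Sheaf.H.map_comp_apply, hx, map_zero]

include hepi hzero in
/-- Bounded depth of the obstructions gives lifts. -/
theorem exists_lift_of_stab {p c : ℕ} (hstab : ∀ n, B F (p + 1) n n ≤ B F (p + 1) n c)
    {k a : ℕ} (hka : k + c ≤ a) (x : CohTop.H (F.obj (op a)) p) :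
    ∀ (m : ℕ) (hm : a ≤ m), ∃ y : CohTop.H (F.obj (op m)) p,
      Sheaf.H.map (P F (show k ≤ m by omega)) p y = Sheaf.H.map (P F (show k ≤ a by omega)) p x := by
  intro m hm
  induction m, hm using Nat.le_induction with
  | base => exact ⟨x, rfl⟩
  | succ m hm ih =>
    obtain ⟨y, hy⟩ := ih
    haveI := hepi m
    let T : ShortComplex (CohTop.Ab X) :=
      ShortComplex.mk (kernel.ι (P F (Nat.le_succ m))) (P F (Nat.le_succ m)) (kernel.condition _)
    have hT : T.ShortExact := { exact := ShortComplex.exact_kernel _, mono_f := inferInstance, epi_g := hepi m }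
    let δ := QCoh.Ab.connecting hT p y
    have h0 : Sheaf.H.map T.f (p + 1) δ = 0 := by
      show (y.comp hT.extClass rfl).comp (Ext.mk₀ T.f) (add_zero _) = 0
      rw [Ext.comp_assoc_of_third_deg_zero, hT.extClass_comp, Ext.comp_zero]
    have h1 : δ ∈ B F (p + 1) m c := hstab m (mem_B_top F hzero h0)
    have hj : k ≤ m - c := by omega
    let S := ses F (Nat.sub_le m c)
    have hS := ses_shortExact F hepi (Nat.sub_le m c)
    obtain ⟨w, hw⟩ := Ext.covariant_sequence_exact₁ _ hS δ h1 rfl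
    let φ : S ⟶ T := ShortComplex.homMk (𝟙 _) (kernel.ι _) (kernel.ι _) (by simp [S, T, ses]) (by simp [S, T, ses])
    have h2 : QCoh.Ab.connecting hT p (Sheaf.H.map φ.τ₃ p w) = δ := by
      rw [← QCoh.Ab.connecting_naturality hS hT φ p w]
      exact (map_congr' (show φ.τ₁ = 𝟙 _ from rfl) _ _).trans ((Sheaf.H.map_id_apply _).trans hw)
    have h3 : QCoh.Ab.connecting hT p (y - Sheaf.H.map φ.τ₃ p w) = 0 := by rw [map_sub, h2, sub_self]
    obtain ⟨z, hz⟩ := (QCoh.Ab.connecting_eq_zero_iff hT p _).1 h3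
    refine ⟨z, ?_⟩
    rw [← hy, ← map_congr' (P_comp F (show k ≤ m by omega) (Nat.le_succ m)), Sheaf.H.map_comp_apply,
      show Sheaf.H.map (P F (Nat.le_succ m)) p z = y - Sheaf.H.map φ.τ₃ p w from hz, map_sub, sub_eq_self,
      ← Sheaf.H.map_comp_apply]
    refine (map_congr' ?_ p w).trans (map_zero' p w)
    show kernel.ι (P F (Nat.sub_le m c)) ≫ P F _ = 0
    rw [← P_comp F hj (Nat.sub_le m c), kernel.condition_assoc, zero_comp]

variable (A : Type u) [CommRing A] [IsNoetherianRing A] {r : ℕ} (S : Fin r → Shift F)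

/-- Generation in bounded degrees bounds the depth of the obstructions. -/
theorem exists_stab (q : ℕ) {H : ℕ → Type u} [∀ n, AddCommGroup (H n)] [∀ n, Module A (H n)]
    [∀ n, Module.Finite A (H n)] (T : ∀ n, Fin r → (H n →ₗ[A] H (n + 1)))
    (hT : ∀ n i j x, T (n + 1) i (T n j x) = T (n + 1) j (T n i x))
    {d₀ : ℕ} (hgen : ∀ n, d₀ ≤ n → ⨆ i, LinearMap.range (T n i) = ⊤)
    (e : ∀ n, CohTop.H (K F (Nat.le_succ n)) q ≃+ H n)
    (he : ∀ n i x, e (n + 1) (Sheaf.H.map ((S i).t F n) q x) = T n i (e n x))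
    (hA : ∀ n (a : A) (x), x ∈ B F q n n → (e n).symm (a • e n x) ∈ B F q n n) :
    ∃ c, ∀ n, B F q n n ≤ B F q n c := by
  let M : ∀ n, Submodule A (H n) := fun n =>
    { carrier := {y | (e n).symm y ∈ B F q n n}
      add_mem' := fun {y y'} hy hy' => by
        show (e n).symm (y + y') ∈ B F q n n
        rw [map_add]; exact add_mem hy hy'
      zero_mem' := by
        show (e n).symm 0 ∈ B F q n n
        rw [map_zero]; exact zero_mem _
      smul_mem' := fun a y hy => by
        show (e n).symm (a • y) ∈ B F q n n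
        have := hA n a _ hy
        rwa [AddEquiv.apply_symm_apply] at this }
  have hsymm : ∀ n i y, (e (n + 1)).symm (T n i y) = Sheaf.H.map ((S i).t F n) q ((e n).symm y) := fun n i y =>
    (e (n + 1)).injective (by rw [AddEquiv.apply_symm_apply, he, AddEquiv.apply_symm_apply])
  obtain ⟨d, hd⟩ := FFun.Gen.exists_gen_sub T hT hgen M fun n i y hy => by
    show (e (n + 1)).symm (T n i y) ∈ B F q (n + 1) (n + 1)
    rw [hsymm]
    exact mem_B_of_le F (Nat.le_succ n) ((S i).mem_B F hy)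
  refine ⟨d, fun n => ?_⟩
  induction n with
  | zero => exact fun x hx => mem_B_of_le F (Nat.zero_le d) hx
  | succ n ih =>
    rcases le_or_gt (n + 1) d with h | h
    · exact fun x hx => mem_B_of_le F h hx
    intro x hx
    have h1 : e (n + 1) x ∈ ⨆ i, (M n).map (T n i) := hd n (by omega) (by
      show (e (n + 1)).symm (e (n + 1) x) ∈ B F q (n + 1) (n + 1)
      rwa [AddEquiv.symm_apply_apply])
    rw [← (e (n + 1)).symm_apply_apply x]
    refine Submodule.iSup_induction _ (motive := fun y => (e (n + 1)).symm y ∈ B F q (n + 1) d) h1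
      (fun i y hy => ?_) (by rw [map_zero]; exact zero_mem _) fun y y' hy hy' => by rw [map_add]; exact add_mem hy hy'
    obtain ⟨z, hz, rfl⟩ := Submodule.mem_map.1 hy
    rw [hsymm]
    exact (S i).mem_B F (ih hz)

end Groth.Agent.H26.FMod.GradedML
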