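import Groth.Agent.H26.FMod.LevelCoh
import Groth.Agent.H26.FMod.Ind
import Groth.Agent.FFun.GenSheaf

/-!
# The graded pieces of a coherent module
-/

noncomputable section

set_option autoImplicit false
set_option maxHeartbeats 1000000
set_option linter.style.haveILetI false
set_option backward.isDefEq.respectTransparency false
set_option backward.isDefEq.respectTransparency.types false

universe u

open CategoryTheory CategoryTheory.Limits TopologicalSpace Opposite AlgebraicGeometry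
open Groth.Agent.ModTensor Groth.Agent.ModPull

namespace Groth.Agent.H26.FMod

variable {𝔛 : FSch.Sys.{u}} (h : 𝔛.IsLocNoethFormal) {𝔉 : FSch.ModF 𝔛 h.1}

include h in
/-- Maps are determined on affine opens. -/
lemma hom_ext_affine {𝔐 𝔑 : FSch.ModF 𝔛 h.1} {φ ψ : 𝔐 ⟶ 𝔑}
    (e : ∀ U, IsAffineOpen U → ∀ x, mapS φ U x = mapS ψ U x) : φ = ψ := by
  refine ext_mapS fun W x => eq_of_locally' 𝔑 ?_
  refine ⟨{ arrows := fun V g => rs ((fg (𝔛.Osh h.1)).obj 𝔑) g.op (mapS φ W x) =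
              rs ((fg (𝔛.Osh h.1)).obj 𝔑) g.op (mapS ψ W x),
            downward_closed := fun {V V' f} hf g => by
              rw [SecGen.rs_op_comp, SecGen.rs_op_comp, hf] }, ?_, fun V g hg => hg⟩
  intro y hy
  obtain ⟨_, ⟨U, hU, rfl⟩, hyU, hle⟩ := (𝔛.X 0).isBasis_affineOpens.exists_subset_of_mem_open hy W.2
  refine ⟨U, homOfLE hle, ?_, hyU⟩
  show rs _ _ _ = rs _ _ _
  exact (mapS_res φ hle x).symm.trans ((e U hU _).trans (mapS_res ψ hle x))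

include h in
lemma isIso_of_affine {𝔐 𝔑 : FSch.ModF 𝔛 h.1} (φ : 𝔐 ⟶ 𝔑)
    (e : ∀ U, IsAffineOpen U → Function.Bijective (mapS φ U)) : IsIso φ := by
  haveI : Mono φ := ⟨fun a b hab => hom_ext_affine h fun U hU x => (e U hU).1 (by
    exact congrArg (fun t => ((fg (𝔛.Osh h.1)).map t).app (op U) x) hab)⟩
  haveI : Epi φ := ⟨fun a b hab => hom_ext_affine h fun U hU y => by
    obtain ⟨x, rfl⟩ := (e U hU).2 y
    exact congrArg (fun t => ((fg (𝔛.Osh h.1)).map t).app (op U) x) hab⟩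
  exact isIso_of_mono_of_epi _

variable (h𝔉 : FSch.IsCohF 𝔛 h.1 𝔉)

include h h𝔉 in
lemma epi_toLvl (k : ℕ) : Epi (toLvl k 𝔉) := ⟨fun a b hab => hom_ext_affine h fun U hU y => by
  obtain ⟨x, rfl⟩ := puk_surjective h h𝔉 k hU y
  exact congrArg (fun t => ((fg (𝔛.Osh h.1)).map t).app (op U) x) hab⟩

include h h𝔉 in
/-- A coherent module killed by the ideal of definition lives on the first level. -/
lemma isIso_toLvl_zero (hk : ∀ U, IsAffineOpen U → ∀ r ∈ Jd h.1 U, ∀ x : Sec 𝔉 U, r • x = 0) :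
    IsIso (toLvl 0 𝔉) := by
  refine isIso_of_affine h _ fun U hU => ⟨(injective_iff_map_eq_zero _).2 fun x hx => ?_, ?_⟩
  · have h1 := (puk_eq_zero_iff h h𝔉 hU 0 x).1 hx
    rw [pow_one] at h1
    exact Submodule.smul_induction_on h1 (fun r hr y _ => hk U hU r hr y) fun y y' hy hy' => by rw [hy, hy', add_zero]
  · exact puk_surjective h h𝔉 0 hU

variable (𝔉) in
/-- The levels, beginning with zero. -/
def Lq : ℕ → FSch.ModF 𝔛 h.1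
  | 0 => kernel (𝟙 𝔉)
  | n + 1 => lvl n 𝔉

variable (𝔉) in
/-- The transitions. -/
def tq : ∀ n, Lq h 𝔉 (n + 1) ⟶ Lq h 𝔉 n
  | 0 => 0
  | n + 1 => FSch.levelTrans 𝔛 h.1 𝔉 n

lemma isZero_Lq_zero : IsZero (Lq h 𝔉 0) := isZero_kernel_of_mono (𝟙 𝔉)

include h𝔉 in
lemma isCohF_Lq : ∀ n, FSch.IsCohF 𝔛 h.1 (Lq h 𝔉 n)
  | 0 => isCohF_kernel h h𝔉 h𝔉 (𝟙 𝔉)
  | n + 1 => isCohF_lvl h h𝔉 n

lemma toLvl_tq (n : ℕ) : toLvl (n + 1) 𝔉 ≫ tq h 𝔉 (n + 1) = toLvl n 𝔉 := FSch.unit_levelTrans 𝔛 h.1 𝔉 n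

include h𝔉 in
lemma epi_tq : ∀ n, Epi (tq h 𝔉 n)
  | 0 => ⟨fun a b _ => (isZero_Lq_zero h).eq_of_src a b⟩
  | n + 1 => by
    haveI := epi_toLvl h h𝔉 n
    exact epi_of_epi_fac (toLvl_tq h n)

variable (𝔉) in
/-- The graded piece. -/
abbrev Cq (n : ℕ) : FSch.ModF 𝔛 h.1 := kernel (tq h 𝔉 n)

lemma hom_zero_gen {U : (𝔛.X 0).Opens} (φ : Lq h 𝔉 1 ⟶ Lq h 𝔉 0) (x : Sec (Lq h 𝔉 1) U) : mapS φ U x = 0 := by
  rw [(isZero_Lq_zero h).eq_of_tgt φ 0, show mapS (0 : Lq h 𝔉 1 ⟶ Lq h 𝔉 0) U x =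
    ((fg (𝔛.Osh h.1)).map (0 : Lq h 𝔉 1 ⟶ Lq h 𝔉 0)).app (op U) x from rfl, Functor.map_zero]
  rfl

include h𝔉 in
lemma isCohF_Cq (n : ℕ) : FSch.IsCohF 𝔛 h.1 (Cq h 𝔉 n) :=
  isCohF_kernel h (isCohF_Lq h h𝔉 (n + 1)) (isCohF_Lq h h𝔉 n) _

include h𝔉 in
/-- Sections of a graded piece come from a power of the ideal of definition. -/
lemma exists_lift_Cq (n : ℕ) {U : (𝔛.X 0).Opens} (hU : IsAffineOpen U) (x : Sec (Cq h 𝔉 n) U) :
    ∃ y ∈ Jd h.1 U ^ n • (⊤ : Submodule (Rg h.1 U) (Sec 𝔉 U)),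
      puk n 𝔉 U y = mapS (kernel.ι (tq h 𝔉 n)) U x := by
  obtain ⟨y, hy⟩ := puk_surjective h h𝔉 n hU (mapS (kernel.ι (tq h 𝔉 n)) U x)
  refine ⟨y, ?_, hy⟩
  cases n with
  | zero => rw [pow_zero, Ideal.one_eq_top, Submodule.top_smul]; exact Submodule.mem_top
  | succ n =>
    refine (puk_eq_zero_iff h h𝔉 hU n y).1 ?_
    refine (congrArg (fun t => ((fg (𝔛.Osh h.1)).map t).app (op U) y) (toLvl_tq h n)).symm.trans ?_
    refine (congrArg (mapS (tq h 𝔉 (n + 1)) U) hy).trans ?_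
    exact congrArg (fun t => ((fg (𝔛.Osh h.1)).map t).app (op U) x) (kernel.condition (tq h 𝔉 (n + 1)))

include h𝔉 in
lemma smul_Cq_eq_zero (n : ℕ) {U : (𝔛.X 0).Opens} (hU : IsAffineOpen U) (r : Rg h.1 U) (hr : r ∈ Jd h.1 U)
    (x : Sec (Cq h 𝔉 n) U) : r • x = 0 := by
  obtain ⟨y, hy, hy'⟩ := exists_lift_Cq h h𝔉 n hU x
  apply app_injective (kernel.ι (tq h 𝔉 n)) (op U)
  refine (map_smul (mapS (kernel.ι (tq h 𝔉 n)) U) r x).trans (Eq.trans ?_ (map_zero _).symm)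
  rw [← hy']
  refine (map_smul (mapS (toLvl n 𝔉) U) r y).symm.trans ((puk_eq_zero_iff h h𝔉 hU n _).2 ?_)
  rw [pow_succ', Submodule.mul_smul]
  exact Submodule.smul_mem_smul hr hy

section Ops

variable (r : Rg h.1 ⊤) (hr : ∀ U, IsAffineOpen U → rTop r U ∈ Jd h.1 U)

include h𝔉 hr in
lemma ι_smulF (n : ℕ) : kernel.ι (tq h 𝔉 n) ≫ smulF r (Lq h 𝔉 (n + 1)) = 0 := by
  rw [← smulF_naturality]
  refine (congrArg (· ≫ _) (show smulF r (Cq h 𝔉 n) = 0 from hom_ext_affine h fun U hU x => ?_)).trans zero_comp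
  exact smul_Cq_eq_zero h h𝔉 n hU _ (hr U hU) x

/-- Multiplication raising the level. -/
def muq (n : ℕ) : Lq h 𝔉 n ⟶ Lq h 𝔉 (n + 1) :=
  haveI := epi_tq h h𝔉 n
  (ShortComplex.exact_kernel (tq h 𝔉 n)).desc (smulF r _) (ι_smulF h h𝔉 r hr n)

lemma tq_muq (n : ℕ) : tq h 𝔉 n ≫ muq h h𝔉 r hr n = smulF r _ :=
  haveI := epi_tq h h𝔉 n
  (ShortComplex.exact_kernel (tq h 𝔉 n)).g_desc _ _

lemma muq_tq (n : ℕ) : muq h h𝔉 r hr (n + 1) ≫ tq h 𝔉 (n + 1) = tq h 𝔉 n ≫ muq h h𝔉 r hr n := by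
  haveI := epi_tq h h𝔉 (n + 1)
  refine (cancel_epi (tq h 𝔉 (n + 1))).1 ?_
  rw [← Category.assoc, tq_muq, tq_muq, smulF_naturality]

lemma muq_smulF (s : Rg h.1 ⊤) (n : ℕ) :
    smulF s _ ≫ muq h h𝔉 r hr n = muq h h𝔉 r hr n ≫ smulF s _ := smulF_naturality s _

/-- Multiplication between graded pieces. -/
def tC (n : ℕ) : Cq h 𝔉 n ⟶ Cq h 𝔉 (n + 1) :=
  kernel.map _ _ (muq h h𝔉 r hr (n + 1)) (muq h h𝔉 r hr n) (muq_tq h h𝔉 r hr n).symm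

lemma tC_ι (n : ℕ) :
    tC h h𝔉 r hr n ≫ kernel.ι (tq h 𝔉 (n + 1)) = kernel.ι (tq h 𝔉 n) ≫ muq h h𝔉 r hr (n + 1) :=
  kernel.lift_ι _ _ _

lemma muq_puk (n : ℕ) (U : (𝔛.X 0).Opens) (y : Sec 𝔉 U) :
    mapS (muq h h𝔉 r hr (n + 1)) U (puk n 𝔉 U y) = mapS (toLvl (n + 1) 𝔉) U (rTop r U • y) := by
  have e1 : toLvl n 𝔉 ≫ muq h h𝔉 r hr (n + 1) = smulF r 𝔉 ≫ toLvl (n + 1) 𝔉 :=
    (congrArg (· ≫ muq h h𝔉 r hr (n + 1)) (toLvl_tq h n).symm).trans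
      ((Category.assoc _ _ _).trans ((congrArg (_ ≫ ·) (tq_muq h h𝔉 r hr (n + 1))).trans
        (smulF_naturality r (toLvl (n + 1) 𝔉)).symm))
  exact (mapS_comp (toLvl n 𝔉) _ U y).symm.trans ((congrArg (fun t => mapS t U y) e1).trans (mapS_comp _ _ U y))

end Ops

lemma comm_gen {s : ℕ} (r : Fin s → Rg h.1 ⊤) (hr : ∀ i U, IsAffineOpen U → rTop (r i) U ∈ Jd h.1 U)
    (n : ℕ) (i j : Fin s) :
    muq h h𝔉 (r j) (hr j) n ≫ muq h h𝔉 (r i) (hr i) (n + 1) =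
      muq h h𝔉 (r i) (hr i) n ≫ muq h h𝔉 (r j) (hr j) (n + 1) := by
  haveI := epi_tq h h𝔉 n
  haveI := epi_tq h h𝔉 (n + 1)
  have key : ∀ a b, tq h 𝔉 (n + 1) ≫ tq h 𝔉 n ≫ muq h h𝔉 (r a) (hr a) n ≫ muq h h𝔉 (r b) (hr b) (n + 1) =
      smulF (r b) _ ≫ smulF (r a) _ := fun a b => by
    rw [← Category.assoc (tq h 𝔉 n), tq_muq, muq_smulF, ← Category.assoc, tq_muq]
  refine (cancel_epi (tq h 𝔉 n)).1 ((cancel_epi (tq h 𝔉 (n + 1))).1 ?_)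
  rw [key, key, smulF_comm]

variable {s : ℕ} (r : Fin s → Rg h.1 ⊤)
  (hJ : ∀ U, IsAffineOpen U → Jd h.1 U = Ideal.span (Set.range fun i => rTop (r i) U))

include hJ in
lemma rTop_mem (i : Fin s) (U : (𝔛.X 0).Opens) (hU : IsAffineOpen U) : rTop (r i) U ∈ Jd h.1 U :=
  (hJ U hU).symm ▸ Ideal.subset_span ⟨i, rfl⟩

include h𝔉 hJ in
/-- The operators generate. -/
theorem tC_jointly_epi (n : ℕ) {Q : FSch.ModF 𝔛 h.1} (d : Cq h 𝔉 (n + 1) ⟶ Q)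
    (hd : ∀ i, tC h h𝔉 (r i) (rTop_mem h r hJ i) n ≫ d = 0) : d = 0 := by
  refine hom_ext_affine h fun U hU x => ?_
  obtain ⟨y, hy, hy'⟩ := exists_lift_Cq h h𝔉 (n + 1) hU x
  rw [pow_succ', Submodule.mul_smul, hJ U hU] at hy
  suffices key : ∀ y : Sec 𝔉 U, y ∈ Ideal.span (Set.range fun i => rTop (r i) U) •
      (Jd h.1 U ^ n • (⊤ : Submodule (Rg h.1 U) (Sec 𝔉 U))) →
      ∃ x' : Sec (Cq h 𝔉 (n + 1)) U, puk (n + 1) 𝔉 U y = mapS (kernel.ι (tq h 𝔉 (n + 1))) U x' ∧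
        mapS d U x' = 0 by
    obtain ⟨x', h1, h2⟩ := key y (by rw [← hJ U hU]; rw [← hJ U hU] at hy; exact hy)
    rw [app_injective (kernel.ι (tq h 𝔉 (n + 1))) (op U) (hy'.symm.trans h1)]
    exact h2
  let S : Submodule (Rg h.1 U) (Sec 𝔉 U) :=
    { carrier := {y | ∃ x' : Sec (Cq h 𝔉 (n + 1)) U,
        puk (n + 1) 𝔉 U y = mapS (kernel.ι (tq h 𝔉 (n + 1))) U x' ∧ mapS d U x' = 0}
      add_mem' := by
        rintro y y' ⟨a, ha, ha'⟩ ⟨b, hb, hb'⟩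
        exact ⟨a + b, (map_add _ _ _).trans ((congrArg₂ (· + ·) ha hb).trans (map_add _ _ _).symm), by rw [map_add, ha', hb', add_zero]⟩
      zero_mem' := ⟨0, (map_zero _).trans (map_zero _).symm, map_zero _⟩
      smul_mem' := by
        rintro c y ⟨a, ha, ha'⟩
        exact ⟨c • a, (map_smul (mapS (toLvl (n + 1) 𝔉) U) c y).trans
          ((congrArg (fun v : Sec (lvl (n + 1) 𝔉) U => c • v) ha).trans (map_smul (mapS (kernel.ι (tq h 𝔉 (n + 1))) U) c a).symm), by rw [map_smul, ha', smul_zero]⟩ }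
  refine fun y hy => (Submodule.smul_le.2 (fun c hc z hz => ?_) hy : y ∈ S)
  have hle : Ideal.span (Set.range fun i => rTop (r i) U) ≤ S.comap (LinearMap.toSpanSingleton (Rg h.1 U) _ z) := by
    refine Ideal.span_le.2 ?_
    rintro _ ⟨i, rfl⟩
    obtain ⟨x', hx'⟩ := exists_kernel_sec (tq h 𝔉 n) U (show Sec (Lq h 𝔉 (n + 1)) U from puk n 𝔉 U z) (by
      cases n with
      | zero => exact hom_zero_gen h _ _
      | succ n =>
        exact (congrArg (fun t => ((fg (𝔛.Osh h.1)).map t).app (op U) z) (toLvl_tq h n)).trans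
          ((puk_eq_zero_iff h h𝔉 hU n z).2 hz))
    refine ⟨mapS (tC h h𝔉 (r i) (rTop_mem h r hJ i) n) U x', ?_, ?_⟩
    · refine Eq.trans ?_ (congrArg (fun t => ((fg (𝔛.Osh h.1)).map t).app (op U) x')
        (tC_ι h h𝔉 (r i) (rTop_mem h r hJ i) n)).symm
      refine Eq.trans ?_ (congrArg (mapS (muq h h𝔉 (r i) (rTop_mem h r hJ i) (n + 1)) U) hx').symm
      refine Eq.trans ?_ (muq_puk h h𝔉 (r i) (rTop_mem h r hJ i) n U z).symm
      rfl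
    · exact congrArg (fun t => ((fg (𝔛.Osh h.1)).map t).app (op U) x') (hd i)
  exact hle hc

end Groth.Agent.H26.FMod
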