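import Groth.Agent.H26.FMod.HLim
import Groth.Agent.H26.FMod.Compl
import Groth.Agent.S0937
import Groth.Agent.QCoh.Bound

/-!
# Cohomology of coherent modules on formal schemes as limits over the levels
-/

noncomputable section

set_option autoImplicit false
set_option linter.style.haveILetI false
set_option backward.isDefEq.respectTransparency false
set_option backward.isDefEq.respectTransparency.types false

universe u

open CategoryTheory CategoryTheory.Limits TopologicalSpace Opposite AlgebraicGeometry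
open Groth.Agent.ModTensor Groth.Agent.ModPull Groth.Agent.LocalFactor Groth.Agent.SecGen

namespace Groth.Agent.H26.FMod

variable {𝔛 : FSch.Sys.{u}}

instance cocontinuous_gInv (hF : 𝔛.IsFormal) (k : ℕ) :
    (Opens.map (𝔛.gInv hF k)).IsCocontinuous (Opens.grothendieckTopology (𝔛.X 0))
      (Opens.grothendieckTopology (𝔛.X k)) := by
  refine ⟨fun {U S} hS x hx => ?_⟩
  have e1 : (𝔛.gInv hF k) ((𝔛.toX k).base x) = x :=
    congrArg (fun t => t x) (𝔛.toX_base_gInv hF k)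
  obtain ⟨W, g, hg, hxW⟩ := hS ((𝔛.toX k).base x) (show (𝔛.gInv hF k) _ ∈ U by rw [e1]; exact hx)
  refine ⟨U ⊓ (Opens.map (𝔛.toX k).base).obj W, homOfLE inf_le_left, ?_, hx, hxW⟩
  have hle : (Opens.map (𝔛.gInv hF k)).obj (U ⊓ (Opens.map (𝔛.toX k).base).obj W) ≤ W := fun z hz => by
    have e2 : (𝔛.toX k).base ((𝔛.gInv hF k) z) = z := congrArg (fun t => t z) (𝔛.gInv_toX_base hF k)
    have h2 : (𝔛.toX k).base ((𝔛.gInv hF k) z) ∈ W := hz.2
    rwa [e2] at h2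
  show S.arrows ((Opens.map (𝔛.gInv hF k)).map (homOfLE inf_le_left))
  rw [Subsingleton.elim ((Opens.map (𝔛.gInv hF k)).map (homOfLE inf_le_left)) (homOfLE hle ≫ g)]
  exact S.downward_closed hg _

instance preservesPullbacks_gInv (hF : 𝔛.IsFormal) (k : ℕ) :
    PreservesLimitsOfShape WalkingCospan (Opens.map (𝔛.gInv hF k)) :=
  inferInstanceAs (PreservesLimitsOfShape WalkingCospan (Opens.mapMapIso (asIso (𝔛.gInv hF k))).functor)

variable (hF : 𝔛.IsFormal)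

/-- The underlying abelian sheaf functor. -/
abbrev Sh : FSch.ModF 𝔛 hF ⥤ Sheaf (Opens.grothendieckTopology (𝔛.X 0)) AddCommGrpCat.{u} :=
  SheafOfModules.toSheaf (ModSite.ringSh (𝔛.Osh hF))

variable (𝔉 : FSch.ModF 𝔛 hF)

/-- The abelian sheaves of the levels. -/
abbrev lvS (k : ℕ) : Sheaf (Opens.grothendieckTopology (𝔛.X 0)) AddCommGrpCat.{u} :=
  (Sh hF).obj ((FSch.levelMor 𝔛 hF k).push.obj ((FSch.levelMor 𝔛 hF k).pull.obj 𝔉))

/-- The transitions of the abelian sheaves of the levels. -/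
abbrev lvT (k : ℕ) : lvS hF 𝔉 (k + 1) ⟶ lvS hF 𝔉 k := (Sh hF).map (FSch.levelTrans 𝔛 hF 𝔉 k)

lemma subsingleton_HU_lvS (h : 𝔛.IsLocNoethFormal) (𝔉 : FSch.ModF 𝔛 h.1) (h𝔉 : FSch.IsCohF 𝔛 h.1 𝔉)
    {U : (𝔛.X 0).Opens} (hU : IsAffineOpen U) (p k : ℕ) :
    Subsingleton (CohSite.HU (lvS h.1 𝔉 k) (p + 1) U) := by
  obtain ⟨e⟩ := S0937.result (Opens.grothendieckTopology (𝔛.X 0)) (Opens.grothendieckTopology (𝔛.X k))
    (Opens.map (𝔛.gInv h.1 k)) (coverPreserving_opens_map (𝔛.gInv h.1 k))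
    (QCoh.abSheaf (pullK k 𝔉)) U (p + 1)
  have := QCoh.subsingleton_HU_of_isAffineOpen (isCoh_pullK k 𝔉 h𝔉).1 (isAffineOpen_lvU h.1 k hU) p
  exact @Equiv.subsingleton _ _ e.toEquiv this

lemma levelTrans_eq (k : ℕ) :
    FSch.levelTrans 𝔛 hF 𝔉 k =
      (FSch.levelSysOf 𝔛 hF (sysOf hF 𝔉).F (sysOf hF 𝔉).toPush).map (homOfLE (Nat.le_add_right k 1)).op := by
  rw [FSch.levelSysOf_map_succ, toPush_sysOf]
  rfl

variable (h : 𝔛.IsLocNoethFormal) (𝔉 : FSch.ModF 𝔛 h.1) (h𝔉 : FSch.IsCohF 𝔛 h.1 𝔉)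

include h𝔉 in
lemma surjective_lvT {U : (𝔛.X 0).Opens} (hU : IsAffineOpen U) (k : ℕ) :
    Function.Surjective ((lvT h.1 𝔉 k).hom.app (op U)).hom := by
  intro y
  have h𝔐 : (sysOf h.1 𝔉).IsCoh := fun k => isCoh_pullK k 𝔉 h𝔉
  obtain ⟨m, hm⟩ := ((chartM _ h h𝔐 hU).2 k).1 y
  refine ⟨qm h.1 (sysOf h.1 𝔉) (k + 1) U m, ?_⟩
  refine Eq.trans ?_ hm
  have e := FSch.realProj_map 𝔛 h.1 (sysOf h.1 𝔉).F (sysOf h.1 𝔉).toPush k
  rw [← FSch.levelSysOf_map_succ, ← levelTrans_eq] at e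
  exact congrArg (fun t : (sysOf h.1 𝔉).realMod h.1 ⟶ (FSch.levelMor 𝔛 h.1 k).push.obj (pullK k 𝔉) =>
    ((fg (𝔛.Osh h.1)).map t).app (op U) m) e

include h𝔉 in
lemma limOne_lvS {U : (𝔛.X 0).Opens} (hU : IsAffineOpen U) :
    CohCx.LimOneIsZero (fun n => (lvS h.1 𝔉 n).obj.obj (op U)) (fun n => ((lvT h.1 𝔉 n).hom.app (op U)).hom) :=
  fun b => by
    obtain ⟨w, hw⟩ := DLim.limOne_of_eventually_surjective 0 (fun n => (lvS h.1 𝔉 n).obj.obj (op U))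
      (fun n => ((lvT h.1 𝔉 n).hom.app (op U)).hom) (fun n _ => surjective_lvT h 𝔉 h𝔉 hU n) b
    exact ⟨w, funext hw⟩

include h𝔉 in
/-- A coherent module is the limit of the abelian sheaves of its levels. -/
lemma exists_limit_iso : ∃ e : (Sh h.1).obj 𝔉 ≅ limit (CohCx.opSequence (lvS h.1 𝔉) (lvT h.1 𝔉)),
    ∀ k, e.hom ≫ limit.π (CohCx.opSequence (lvS h.1 𝔉) (lvT h.1 𝔉)) (op k) =
      (Sh h.1).map ((FSch.levelMor 𝔛 h.1 k).adj.unit.app 𝔉) := by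
  haveI := isIso_toReal h 𝔉 h𝔉
  let D := FSch.levelSysOf 𝔛 h.1 (sysOf h.1 𝔉).F (sysOf h.1 𝔉).toPush
  haveI : IsIso ((limit.isLimit D).lift (unitCone h.1 𝔉)) := inferInstanceAs (IsIso (toReal h.1 𝔉))
  have hc : IsLimit (unitCone h.1 𝔉) := IsLimit.ofPointIso (limit.isLimit D)
  let η : D ⋙ Sh h.1 ⟶ CohCx.opSequence (lvS h.1 𝔉) (lvT h.1 𝔉) :=
    NatTrans.ofOpSequence (fun n => 𝟙 (lvS h.1 𝔉 n)) fun n => by
      refine (Category.comp_id _).trans (Eq.trans ?_ (Category.id_comp _).symm)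
      refine Eq.trans ?_ (Functor.ofOpSequence_map_homOfLE_succ (X := lvS h.1 𝔉) (lvT h.1 𝔉) n).symm
      exact congrArg (Sh h.1).map (levelTrans_eq h.1 𝔉 n).symm
  haveI : ∀ j, IsIso (η.app j) := fun j => inferInstanceAs (IsIso (𝟙 (lvS h.1 𝔉 j.unop)))
  haveI := NatIso.isIso_of_isIso_app η
  haveI : PreservesLimitsOfShape ℕᵒᵖ (Sh h.1 ⋙ sheafToPresheaf _ AddCommGrpCat.{u}) :=
    inferInstanceAs (PreservesLimitsOfShape ℕᵒᵖ (SheafOfModules.forget (ModSite.ringSh (𝔛.Osh h.1)) ⋙ PresheafOfModules.toPresheaf _))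
  haveI : PreservesLimitsOfShape ℕᵒᵖ (Sh h.1) :=
    preservesLimitsOfShape_of_reflects_of_preserves (Sh h.1) (sheafToPresheaf _ AddCommGrpCat.{u})
  have hl := (IsLimit.postcomposeHomEquiv (asIso η) _).symm (isLimitOfPreserves (Sh h.1) hc)
  refine ⟨hl.conePointUniqueUpToIso (limit.isLimit _), fun k => ?_⟩
  refine (hl.conePointUniqueUpToIso_hom_comp (limit.isLimit _) (op k)).trans ?_
  exact Category.comp_id _

include h𝔉 in
/-- Compatible classes on the levels come from a class of the module. -/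
theorem exists_HF_lift (n : ℕ) (y : ∀ k, Sheaf.H (lvS h.1 𝔉 k) n)
    (hy : ∀ k, Sheaf.H.map (lvT h.1 𝔉 k) n (y (k + 1)) = y k) :
    ∃ x : Sheaf.H ((Sh h.1).obj 𝔉) n,
      ∀ k, Sheaf.H.map ((Sh h.1).map ((FSch.levelMor 𝔛 h.1 k).adj.unit.app 𝔉)) n x = y k := by
  obtain ⟨e, he⟩ := exists_limit_iso h 𝔉 h𝔉
  obtain ⟨x, hx⟩ := HLim.exists_lift (lvS h.1 𝔉) (lvT h.1 𝔉) {U | IsAffineOpen (X := 𝔛.X 0) U}
    (DLim.isCoveredBy_of_isBasis (𝔛.X 0).isBasis_affineOpens)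
    (fun U hU p k => subsingleton_HU_lvS h 𝔉 h𝔉 hU p k) (fun U hU => limOne_lvS h 𝔉 h𝔉 hU) n y hy
  refine ⟨Sheaf.H.map e.inv n x, fun k => ?_⟩
  refine (Sheaf.H.map_comp_apply _ _ x).symm.trans (Eq.trans ?_ (hx k))
  rw [← he k, Iso.inv_hom_id_assoc]
  rfl

include h𝔉 in
/-- Classes killed on all levels vanish, given the vanishing of `lim¹` one degree below. -/
theorem HF_eq_zero (n : ℕ) (hone : ∀ m, m + 1 = n →
      CohCx.LimOneIsZero (fun k => Sheaf.H (lvS h.1 𝔉 k) m) (fun k => Sheaf.H.map (lvT h.1 𝔉 k) m))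
    (x : Sheaf.H ((Sh h.1).obj 𝔉) n)
    (hx : ∀ k, Sheaf.H.map ((Sh h.1).map ((FSch.levelMor 𝔛 h.1 k).adj.unit.app 𝔉)) n x = 0) : x = 0 := by
  obtain ⟨e, he⟩ := exists_limit_iso h 𝔉 h𝔉
  have hz : ∀ k, Sheaf.H.map (limit.π (CohCx.opSequence (lvS h.1 𝔉) (lvT h.1 𝔉)) (op k)) n
      (Sheaf.H.map e.hom n x) = 0 := fun k => by
    exact (Sheaf.H.map_comp_apply _ _ x).symm.trans ((congrArg (fun q => Sheaf.H.map q n x) (he k)).trans (hx k))
  have key : Sheaf.H.map e.hom n x = 0 := by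
    match n with
    | 0 => exact HLim.eq_zero_zero _ _ _ hz
    | m + 1 =>
      exact HLim.eq_zero_succ (lvS h.1 𝔉) (lvT h.1 𝔉) {U | IsAffineOpen (X := 𝔛.X 0) U}
        (DLim.isCoveredBy_of_isBasis (𝔛.X 0).isBasis_affineOpens)
        (fun U hU p k => subsingleton_HU_lvS h 𝔉 h𝔉 hU p k) (fun U hU => limOne_lvS h 𝔉 h𝔉 hU) m
        (hone m rfl) _ hz
  have h2 := congrArg (Sheaf.H.map e.inv n) key
  rwa [← Sheaf.H.map_comp_apply, Iso.hom_inv_id, Sheaf.H.map_id_apply, map_zero] at h2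

end Groth.Agent.H26.FMod
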