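import Groth.Agent.SiteBase.DLim.Single
import Groth.Agent.SiteBase.DLim.Top
import Groth.Agent.H9Misc.BrownGroth
import Groth.Prelude.Def_CohTop

/-!
# Cohomology of limits of acyclic systems of sheaves
-/

noncomputable section

set_option autoImplicit false
set_option linter.style.haveILetI false
set_option backward.isDefEq.respectTransparency false

universe u

open CategoryTheory CategoryTheory.Limits Opposite Pretriangulated Abelian DerivedCategory

namespace Groth.Agent.H26.HLim

variable {C : Type u} [SmallCategory C] {J : GrothendieckTopology C}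

/-- A model of the derived category of sheaves with small Hom sets. -/
@[implicit_reducible]
def smallD : HasDerivedCategory.{u} (Sheaf J AddCommGrpCat.{u}) :=
  H9Misc.BrownGroth.smallDerived (Sheaf J AddCommGrpCat.{u}) fun M => by
    obtain ⟨I, f, hI, hf, -, -⟩ := TriCat.exists_kInjective_resolution' M
    exact ⟨I, f, hI, hf⟩

variable (F : ℕ → Sheaf J AddCommGrpCat.{u}) (t : ∀ n, F (n + 1) ⟶ F n)

section Derived

variable [HasDerivedCategory.{u} (Sheaf J AddCommGrpCat.{u})]

local notation "Φ" => DerivedCategory.singleFunctor (Sheaf J AddCommGrpCat) 0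

variable [HasProduct fun n => (DerivedCategory.singleFunctor (Sheaf J AddCommGrpCat.{u}) 0).obj (F n)]

/-- The limit of an acyclic system is its derived limit, through the projections. -/
theorem isRlimVia_limit
    (h : DCoh.IsRlim (fun n => (DerivedCategory.singleFunctor _ 0).obj (F n))
      (fun n => (DerivedCategory.singleFunctor _ 0).map (t n))
      ((DerivedCategory.singleFunctor (Sheaf J AddCommGrpCat.{u}) 0).obj (limit (CohCx.opSequence F t)))) :
    CohCx.IsRlimVia (fun n => (Φ).obj (F n)) (fun n => (Φ).map (t n)) ((Φ).obj (limit (CohCx.opSequence F t)))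
      (fun n => (Φ).map (limit.π (CohCx.opSequence F t) (op n))) := by
  obtain ⟨a, c, hT⟩ := h
  let D := CohCx.opSequence F t
  let α : ∀ n, limit D ⟶ F n := fun n => (Φ).preimage (a ≫ Pi.π (fun n => (Φ).obj (F n)) n)
  have ha : Pi.lift (fun n => (Φ).map (α n)) = a := Pi.hom_ext _ _ fun n => by
    rw [Pi.lift_π, (Φ).map_preimage]
  have hL : CohCx.IsRlimVia (fun n => (Φ).obj (F n)) (fun n => (Φ).map (t n)) ((Φ).obj (limit D)) (fun n => (Φ).map (α n)) :=
    ⟨c, by rw [ha]; exact hT⟩
  have hα : ∀ n, α (n + 1) ≫ t n = α n := fun n => (Φ).map_injective (by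
    rw [Functor.map_comp]; exact DLim.rlim_comp_t hL n)
  let π : ∀ n, limit D ⟶ F n := fun n => limit.π D (op n)
  have hπ : ∀ n, π (n + 1) ≫ t n = π n := fun n => by
    have e := limit.w D (homOfLE (Nat.le_add_right n 1)).op
    rwa [show D.map (homOfLE (Nat.le_add_right n 1)).op = t n from Functor.ofOpSequence_map_homOfLE_succ _ n] at e
  let cα : Cone D := ⟨limit D, NatTrans.ofOpSequence α fun n => by
    simp only [Functor.const_obj_obj, Functor.const_obj_map, Category.id_comp]
    rw [show D.map (homOfLE (Nat.le_add_right n 1)).op = t n from Functor.ofOpSequence_map_homOfLE_succ _ n]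
    exact (hα n).symm⟩
  let w : limit D ⟶ limit D := limit.lift D cα
  have hw : ∀ n, w ≫ limit.π D (op n) = α n := fun n => limit.lift_π cα (op n)
  obtain ⟨v, hv⟩ : ∃ v : limit D ⟶ limit D, ∀ n, v ≫ α n = π n := by
    obtain ⟨y, hy⟩ := DLim.rlim_exists_lift hL 0 (S := (Φ).obj (limit D))
      (fun n => (Φ).map (π n) ≫ (shiftFunctorZero _ ℤ).inv.app ((Φ).obj (F n))) fun n => by
        rw [Category.assoc, ← NatTrans.naturality, Functor.id_map, ← Functor.map_comp_assoc, hπ]
    refine ⟨(Φ).preimage (y ≫ (shiftFunctorZero _ ℤ).hom.app _), fun n => (Φ).map_injective ?_⟩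
    rw [Functor.map_comp, (Φ).map_preimage, Category.assoc]
    have e := (shiftFunctorZero (DerivedCategory (Sheaf J AddCommGrpCat.{u})) ℤ).hom.naturality ((Φ).map (α n))
    simp only [Functor.id_map] at e
    rw [← e, ← Category.assoc, hy, Category.assoc, Iso.inv_hom_id_app]
    exact Category.comp_id _
  have hvw : v ≫ w = 𝟙 _ := limit.hom_ext fun n => by
    rw [Category.assoc, Category.id_comp]
    exact (congrArg (v ≫ ·) (hw n.unop)).trans (hv n.unop)
  have hwv : w ≫ v = 𝟙 _ := by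
    refine sub_eq_zero.1 ((Φ).map_injective ?_)
    rw [(Φ).map_zero, ← cancel_mono ((shiftFunctorZero (DerivedCategory (Sheaf J AddCommGrpCat.{u})) ℤ).inv.app _),
      zero_comp]
    refine DLim.rlim_eq_zero hL 0 (fun b => ⟨fun _ => 0, fun n => ?_⟩) _ fun n => ?_
    · have : b n = 0 := DLim.hom_to_shift_eq_zero_of_isGE ((Φ).obj (F n)) 0 _ (by omega) _
      simp [this]
    · rw [Category.assoc, ← NatTrans.naturality, Functor.id_map, ← Functor.map_comp_assoc, Preadditive.sub_comp,
        Category.assoc, hv, hw, Category.id_comp, sub_self, (Φ).map_zero, zero_comp]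
  refine ⟨c ≫ ((Φ).map w)⟦(1 : ℤ)⟧', isomorphic_distinguished _ hT _
    (Triangle.isoMk _ _ ((Φ).mapIso ⟨v, w, hvw, hwv⟩) (Iso.refl _) (Iso.refl _) ?_ ?_ ?_)⟩
  · refine (Category.comp_id _).trans ?_
    show _ = (Φ).map v ≫ a
    refine Pi.hom_ext _ _ fun n => ?_
    show Pi.lift (fun n => (Φ).map (π n)) ≫ Pi.π _ n = ((Φ).map v ≫ a) ≫ Pi.π _ n
    rw [Pi.lift_π, Category.assoc, ← (Φ).map_preimage (a ≫ Pi.π _ n), ← (Φ).map_comp]
    exact congrArg (fun q => (Φ).map q) (hv n).symm
  · exact (Category.comp_id _).trans (Category.id_comp _).symm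
  · show (c ≫ ((Φ).map w)⟦(1 : ℤ)⟧') ≫ ((Φ).map v)⟦(1 : ℤ)⟧' = 𝟙 _ ≫ c
    rw [Category.assoc, ← Functor.map_comp, ← Functor.map_comp, hwv, (Φ).map_id, CategoryTheory.Functor.map_id,
      Category.comp_id, Category.id_comp]

omit [HasProduct fun n => (DerivedCategory.singleFunctor (Sheaf J AddCommGrpCat.{u}) 0).obj (F n)] in
lemma hom_comp_mk₀ {S G G' : Sheaf J AddCommGrpCat.{u}} {m : ℕ} (x : Ext S G m) (f : G ⟶ G') :
    (x.comp (Ext.mk₀ f) (add_zero m)).hom = x.hom ≫ ((Φ).map f)⟦(m : ℤ)⟧' := by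
  rw [Ext.comp_hom, Ext.mk₀_hom, ShiftedHom.comp_mk₀]

end Derived

variable (B : Set C) (hB : DLim.IsCoveredBy J B)
  (h1 : ∀ U ∈ B, ∀ (p n : ℕ), Subsingleton (CohSite.HU (F n) (p + 1) U))
  (h2 : ∀ U ∈ B, CohCx.LimOneIsZero (fun n => (F n).obj.obj (op U)) (fun n => ((t n).hom.app (op U)).hom))

include hB h1 h2 in
/-- Compatible families of classes lift to the limit. -/
theorem exists_lift (m : ℕ) (y : ∀ n, Sheaf.H (F n) m) (hy : ∀ n, Sheaf.H.map (t n) m (y (n + 1)) = y n) :
    ∃ x : Sheaf.H (limit (CohCx.opSequence F t)) m,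
      ∀ n, Sheaf.H.map (limit.π (CohCx.opSequence F t) (op n)) m x = y n := by
  letI := smallD (C := C) (J := J)
  haveI := DLim.hasProduct_nat fun n => (DerivedCategory.singleFunctor (Sheaf J AddCommGrpCat.{u}) 0).obj (F n)
  have hL := isRlimVia_limit F t (DLim.isRlim_single F t hB h1 h2).1
  obtain ⟨z, hz⟩ := DLim.rlim_exists_lift hL (m : ℤ) (fun n => Ext.hom (y n)) fun n => by
    rw [← hom_comp_mk₀]; exact congrArg Ext.hom (hy n)
  refine ⟨Ext.homEquiv.symm z, fun n => Ext.homEquiv.injective ?_⟩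
  show Ext.hom ((Ext.homEquiv.symm z).comp (Ext.mk₀ _) (add_zero m)) = Ext.hom (y n)
  rw [hom_comp_mk₀, ← hz n]
  exact congrArg (fun q => q ≫ _) (Ext.homEquiv.apply_symm_apply z)

omit [SmallCategory C] in
/-- Classes of degree zero are separated by the projections. -/
theorem eq_zero_zero {C : Type u} [SmallCategory C] {J : GrothendieckTopology C}
    (F : ℕ → Sheaf J AddCommGrpCat.{u}) (t : ∀ n, F (n + 1) ⟶ F n)
    (x : Sheaf.H (limit (CohCx.opSequence F t)) 0)
    (hx : ∀ n, Sheaf.H.map (limit.π (CohCx.opSequence F t) (op n)) 0 x = 0) : x = 0 := by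
  refine Ext.addEquiv₀.injective ?_
  rw [map_zero]
  refine limit.hom_ext fun n => ?_
  rw [zero_comp, ← Sheaf.H.addEquiv₀_map]
  exact (congrArg Ext.addEquiv₀ (hx n.unop)).trans (map_zero _)

include hB h1 h2 in
/-- Classes killed by all projections vanish if the previous system has no `lim¹`. -/
theorem eq_zero_succ (m : ℕ)
    (hone : CohCx.LimOneIsZero (fun n => Sheaf.H (F n) m) (fun n => Sheaf.H.map (t n) m))
    (x : Sheaf.H (limit (CohCx.opSequence F t)) (m + 1))
    (hx : ∀ n, Sheaf.H.map (limit.π (CohCx.opSequence F t) (op n)) (m + 1) x = 0) : x = 0 := by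
  letI := smallD (C := C) (J := J)
  haveI := DLim.hasProduct_nat fun n => (DerivedCategory.singleFunctor (Sheaf J AddCommGrpCat.{u}) 0).obj (F n)
  have hL := isRlimVia_limit F t (DLim.isRlim_single F t hB h1 h2).1
  refine Ext.homEquiv.injective ?_
  show Ext.hom x = Ext.hom 0
  rw [Ext.zero_hom]
  refine DLim.rlim_eq_zero hL ((m + 1 : ℕ) : ℤ) ?_ (Ext.hom x) fun n => ?_
  · obtain ⟨k, hk, hk'⟩ : ∃ k : ℤ, k = (m : ℤ) ∧ k = ((m + 1 : ℕ) : ℤ) - 1 := ⟨m, rfl, by push_cast; ring⟩
    rw [← hk']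
    subst hk
    intro b
    obtain ⟨w, hw⟩ := hone fun n => Ext.homEquiv.symm (b n)
    refine ⟨fun n => Ext.hom (w n), fun n => ?_⟩
    rw [← hom_comp_mk₀]
    have e := congrArg Ext.homAddEquiv (congrFun hw n)
    rw [map_sub] at e
    exact e.trans (Ext.homEquiv.apply_symm_apply _)
  · rw [← hom_comp_mk₀]
    exact (congrArg Ext.hom (hx n)).trans (by rw [Ext.zero_hom])

end Groth.Agent.H26.HLim
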