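import Groth.Agent.H26.FMod.QCClose
import Groth.Agent.H26.FMod.Extension
import Groth.Agent.SiteBase.HHom
import Groth.Agent.SiteBase.PullSlice

/-!
# Internal homs out of coherent modules
-/

noncomputable section

set_option autoImplicit false
set_option maxHeartbeats 1000000
set_option linter.style.haveILetI false
set_option backward.isDefEq.respectTransparency false
set_option backward.isDefEq.respectTransparency.types false

universe u

open CategoryTheory CategoryTheory.Limits TopologicalSpace Opposite AlgebraicGeometry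
open Groth.Agent.ModTensor Groth.Agent.ModPull Groth.Agent.LocalFactor Groth.Agent.SecGen
open Groth.Agent.H26.QPres Groth.Agent.LHomLib

attribute [local instance] Pres.fκ Pres.fρ Abelian.hasFiniteBiproducts

namespace Groth.Agent.H26.FMod

open OpenTransfer

variable {𝔛 : FSch.Sys.{u}} (h : 𝔛.IsLocNoethFormal) (F G : FSch.ModF 𝔛 h.1) (U : (𝔛.X 0).Opens)

/-- The inclusion of an image open. -/
abbrev inU (W : Opens ((sys h U).X 0)) : (OpenRes.imgF h U).obj W ⟶ U := homOfLE (OpenRes.img_le h U W)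

/-- Evaluation at a section. -/
def evH (s : Sec F U) :
    (OpenRes.res h U).obj (HHom.hMod F G) ⟶ (OpenRes.res h U).obj G :=
  ⟨PresheafOfModules.homMk
    { app := fun W => AddCommGrpCat.ofHom
        { toFun := fun (τ : LHom F G ((OpenRes.imgF h U).obj W.unop)) =>
            τ.app (𝟙 _) (resM F (OpenRes.img_le h U W.unop) s)
          map_zero' := rfl
          map_add' := fun _ _ => rfl }
      naturality := fun W W' g => by
        ext τ
        let k := (OpenRes.imgF h U).map g.unop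
        show (LHom.app (τ : LHom F G ((OpenRes.imgF h U).obj W.unop)) (𝟙 _ ≫ k)) (resM F (OpenRes.img_le h U W'.unop) s) =
          rs ((fg (𝔛.Osh h.1)).obj G) k.op (LHom.app (τ : LHom F G ((OpenRes.imgF h U).obj W.unop)) (𝟙 _)
            (resM F (OpenRes.img_le h U W.unop) s))
        refine Eq.trans ?_ (LHom.nat (τ : LHom F G ((OpenRes.imgF h U).obj W.unop)) k (𝟙 _)
          (resM F (OpenRes.img_le h U W.unop) s))
        exact congrArg₂ (fun f x => LHom.app (τ : LHom F G ((OpenRes.imgF h U).obj W.unop)) f x)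
          (Subsingleton.elim _ _) (SecGen.rs_op_comp k _ s) }
    (fun W r τ => by
      let τ' : LHom F G ((OpenRes.imgF h U).obj W.unop) := τ
      let v : Sec G ((OpenRes.imgF h U).obj W.unop) := τ'.app (𝟙 _) (resM F (OpenRes.img_le h U W.unop) s)
      show ((𝔛.Osh h.1).obj.map (𝟙 _).op).hom (OpenRes.ph h U W.unop r) • v = OpenRes.ph h U W.unop r • v
      rw [op_id, CategoryTheory.Functor.map_id]
      rfl)⟩

lemma evH_app (s : Sec F U) (W : Opens ((sys h U).X 0)) (τ : LHom F G ((OpenRes.imgF h U).obj W)) :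
    mapS (evH h F G U s) W (show Sec ((OpenRes.res h U).obj (HHom.hMod F G)) W from τ) =
      τ.app (𝟙 _) (resM F (OpenRes.img_le h U W) s) := rfl

omit h in
lemma ext_biproduct {hF : 𝔛.IsFormal} {ι : Type} [Fintype ι] (B : ι → FSch.ModF 𝔛 hF) {W : (𝔛.X 0).Opens}
    {u v : Sec (⨁ B) W} (e : ∀ i, mapS (biproduct.π B i) W u = mapS (biproduct.π B i) W v) : u = v := by
  classical
  have e1 : ∀ z : Sec (⨁ B) W, z = ∑ i, mapS (biproduct.ι B i) W (mapS (biproduct.π B i) W z) := fun z => by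
    rw [Finset.sum_congr rfl fun i _ => (mapS_comp (biproduct.π B i) (biproduct.ι B i) W z).symm,
      ← mapS_sum, biproduct.total, mapS_id]
  rw [e1 u, e1 v]
  exact Finset.sum_congr rfl fun i _ => congrArg _ (e i)

variable {F G U}

include h in
lemma smulF_res (a : Rg h.1 U) : ∃ a' : Rg (hSys h U).1 ⊤, ∀ (W : Opens ((sys h U).X 0))
    (y : Sec ((OpenRes.res h U).obj G) W),
    mapS (smulF a' ((OpenRes.res h U).obj G)) W y =
      (show Sec ((OpenRes.res h U).obj G) W from
        res (OpenRes.img_le h U W) a • (show Sec G ((OpenRes.imgF h U).obj W) from y)) := by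
  obtain ⟨a', ha'⟩ := (OpenRes.bijective_ph h U ⊤).2 (res (img_top h U).le a)
  refine ⟨a', fun W y => ?_⟩
  rw [smulF_app]
  show OpenRes.ph h U W (rTop a' W) • (show Sec G ((OpenRes.imgF h U).obj W) from y) = _
  refine congrArg (· • _) ?_
  refine (OpenRes.ph_res h U (homOfLE le_top) a').trans ?_
  rw [ha']
  exact res_res h _ _ a

include h in
/-- The internal hom as a kernel on an open with a presentation. -/
theorem exists_kernel_iso (P : Pres (𝔛.Osh h.1) F U) :
    ∃ (φ : (⨁ fun _ : P.κ => (OpenRes.res h U).obj G) ⟶ ⨁ fun _ : P.ρ => (OpenRes.res h U).obj G),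
      Nonempty ((OpenRes.res h U).obj (HHom.hMod F G) ≅ kernel φ) := by
  classical
  choose A' hA' using fun j i => smulF_res h (G := G) (P.A j i)
  let G' := (OpenRes.res h U).obj G
  let B := ⨁ fun _ : P.κ => G'
  let φ : B ⟶ ⨁ fun _ : P.ρ => G' :=
    biproduct.lift fun j => ∑ i, biproduct.π (fun _ : P.κ => G') i ≫ smulF (A' j i) G'
  let θ : (OpenRes.res h U).obj (HHom.hMod F G) ⟶ B := biproduct.lift fun i => evH h F G U (P.s i)
  have hθ : ∀ i W τ, mapS (biproduct.π (fun _ : P.κ => G') i) W (mapS θ W τ) =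
      mapS (evH h F G U (P.s i)) W τ := fun i W τ => by
    rw [← mapS_comp, biproduct.lift_π]
  have hφ : ∀ j W z, mapS (biproduct.π (fun _ : P.ρ => G') j) W (mapS φ W z) =
      ∑ i, (show Sec G' W from res (OpenRes.img_le h U W) (P.A j i) •
        (show Sec G ((OpenRes.imgF h U).obj W) from mapS (biproduct.π (fun _ : P.κ => G') i) W z)) := fun j W z => by
    rw [← mapS_comp, biproduct.lift_π, mapS_sum]
    exact Finset.sum_congr rfl fun i _ => (mapS_comp _ _ _ _).trans (hA' j i W _)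
  have w : θ ≫ φ = 0 := ext_mapS fun W τ => by
    refine Eq.trans ?_ (mapS_zero _ _).symm
    rw [mapS_comp]
    have hz : ∀ j, mapS (biproduct.π (fun _ : P.ρ => G') j) W (mapS φ W (mapS θ W τ)) = 0 := fun j => by
      rw [hφ]
      simp only [hθ]
      let τ' : LHom F G ((OpenRes.imgF h U).obj W) := τ
      show (∑ i, res (OpenRes.img_le h U W) (P.A j i) • τ'.app (𝟙 _) (resM F (OpenRes.img_le h U W) (P.s i)) :
        Sec G ((OpenRes.imgF h U).obj W)) = 0
      rw [← Finset.sum_congr rfl fun i _ => map_smul (τ'.app (𝟙 _)) _ _, ← map_sum]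
      have h1 := congrArg (resM F (OpenRes.img_le h U W)) (P.rel j)
      rw [resM_sum] at h1
      refine (congrArg (τ'.app (𝟙 _)) (h1.trans (map_zero _))).trans ?_
      exact map_zero _
    exact ext_biproduct (fun _ : P.ρ => G') fun j => (hz j).trans (map_zero _).symm
  let v := kernel.lift φ θ w
  haveI : Mono θ := ⟨fun {Z} p q hpq => ext_mapS fun W z => by
    let a : LHom F G ((OpenRes.imgF h U).obj W) := mapS p W z
    let b : LHom F G ((OpenRes.imgF h U).obj W) := mapS q W z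
    show a = b
    refine app_eq_of_gens (Gens.pull (show Gens F P.s from P.gen) (inU h U W)) fun i => ?_
    have h1 := congrArg (fun r => mapS (biproduct.π (fun _ : P.κ => G') i) W (mapS r W z)) hpq
    simp only [mapS_comp] at h1
    exact (hθ i W _).symm.trans (h1.trans (hθ i W _))⟩
  haveI : Mono v := mono_of_mono_fac (kernel.lift_ι φ θ w)
  haveI : Epi v := ⟨fun {Z} p q hpq => ext_mapS fun W z => by
    let y : P.κ → Sec G ((OpenRes.imgF h U).obj W) := fun i =>
      mapS (biproduct.π (fun _ : P.κ => G') i) W (mapS (kernel.ι φ) W z)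
    obtain ⟨τ, hτ⟩ := exists_lhom_of_pres (presPull P (inU h U W)) y fun j => by
      refine Eq.trans ?_ ((hφ j W (mapS (kernel.ι φ) W z)).symm.trans ?_)
      · rfl
      · rw [mapS_kernel, map_zero]
    let t : Sec ((OpenRes.res h U).obj (HHom.hMod F G)) W := τ
    have ht : mapS v W t = z := by
      refine app_injective (kernel.ι φ) (op W) ?_
      show mapS (kernel.ι φ) W (mapS v W t) = mapS (kernel.ι φ) W z
      rw [← mapS_comp, kernel.lift_ι]
      exact ext_biproduct (fun _ : P.κ => G') fun i => (hθ i W t).trans (hτ i)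
    have h1 := congrArg (fun r => mapS r W t) hpq
    simp only [mapS_comp, ht] at h1
    exact h1⟩
  haveI : IsIso v := isIso_of_mono_of_epi v
  exact ⟨φ, ⟨asIso v⟩⟩

include h in
lemma ind_biproduct {𝔜 : FSch.Sys.{u}} (h𝔜 : 𝔜.IsLocNoethFormal) {κ : Type} [Fintype κ]
    {M : FSch.ModF 𝔜 h𝔜.1} (hM : IndCoh M) : IndCoh (⨁ fun _ : κ => M) :=
  ind_of_iso h𝔜 ((biproduct.isoCoproduct fun _ : ULift.{u} κ => M).symm ≪≫
      biproduct.whiskerEquiv Equiv.ulift (fun _ => Iso.refl M))
    (ind_sigma h𝔜 (fun _ : ULift.{u} κ => M) fun _ => hM)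

include h in
lemma isCohF_biproduct {𝔜 : FSch.Sys.{u}} (h𝔜 : 𝔜.IsLocNoethFormal) {κ : Type} [Fintype κ]
    {M : FSch.ModF 𝔜 h𝔜.1} (hM : FSch.IsCohF 𝔜 h𝔜.1 M) : FSch.IsCohF 𝔜 h𝔜.1 (⨁ fun _ : κ => M) :=
  ObjectProperty.prop_of_iso _ ((biproduct.isoCoproduct fun _ : ULift.{u} κ => M).symm ≪≫
      biproduct.whiskerEquiv Equiv.ulift (fun _ => Iso.refl M))
    (isCohF_sigma _ fun _ : ULift.{u} κ => hM)

include h in
/-- A neighbourhood with a presentation on which the second module is ind-coherent. -/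
theorem exists_pres_ind (hF : FSch.IsCohF 𝔛 h.1 F)
    [SheafOfModules.IsQuasicoherent.{u} (R := ModSite.ringSh (𝔛.Osh h.1)) G] {W : (𝔛.X 0).Opens} {x : 𝔛.X 0}
    (hx : x ∈ W) : ∃ U : (𝔛.X 0).Opens, IsAffineOpen U ∧ x ∈ U ∧ U ≤ W ∧
      IndCoh ((OpenRes.res h U).obj G) ∧ Nonempty (Pres (𝔛.Osh h.1) F U) := by
  haveI := hF
  obtain ⟨S, hS, hSp⟩ := locally_exists_pres F W
  obtain ⟨V, g, hg, hxV⟩ := hS x hx
  obtain ⟨P⟩ := hSp g hg
  obtain ⟨U, hU, hxU, hUV, h₁, -⟩ := exists_ind_res h (𝔉 := G) (𝔊 := G) hxV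
  exact ⟨U, hU, hxU, hUV.trans (leOfHom g), h₁, ⟨presPull P (homOfLE hUV)⟩⟩

include h in
/-- Internal homs from coherent to quasi-coherent modules are quasi-coherent. -/
theorem isQC_hMod (hF : FSch.IsCohF 𝔛 h.1 F)
    [SheafOfModules.IsQuasicoherent.{u} (R := ModSite.ringSh (𝔛.Osh h.1)) G] :
    SheafOfModules.IsQuasicoherent.{u} (R := ModSite.ringSh (𝔛.Osh h.1)) (HHom.hMod F G) :=
  isQC_of_ind_res h fun x W hx => by
    obtain ⟨U, hU, hxU, hUW, hind, ⟨P⟩⟩ := exists_pres_ind h (G := G) hF hx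
    obtain ⟨φ, ⟨e⟩⟩ := exists_kernel_iso h (G := G) P
    exact ⟨U, hU, hxU, hUW, ind_of_iso (hSys h U) e.symm
      (ind_kernel (hSys h U) (ind_biproduct h (hSys h U) hind) (ind_biproduct h (hSys h U) hind) φ)⟩

include h in
/-- Internal homs of coherent modules are coherent. -/
theorem isCohF_hMod (hF : FSch.IsCohF 𝔛 h.1 F) (hG : FSch.IsCohF 𝔛 h.1 G) :
    FSch.IsCohF 𝔛 h.1 (HHom.hMod F G) := by
  haveI := hG
  refine isFinitePresentation_of_pres _ fun X => ?_
  refine ⟨{ arrows := fun V g => Nonempty (Pres (𝔛.Osh h.1) (HHom.hMod F G) V),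
            downward_closed := fun {V V' f} ⟨P⟩ g => ⟨presPull P g⟩ }, ?_, fun V g hg => hg⟩
  intro y hy
  obtain ⟨U, hU, hyU, hUX, -, ⟨P⟩⟩ := exists_pres_ind h (G := G) hF hy
  obtain ⟨φ, ⟨e⟩⟩ := exists_kernel_iso h (G := G) P
  have hG' : FSch.IsCohF (sys h U) (hSys h U).1 ((OpenRes.res h U).obj G) :=
    ObjectProperty.prop_of_iso _ ((OpenRes.resPullIso h U).app G).symm (isCohF_res h U G hG)
  have hK : FSch.IsCohF (sys h U) (hSys h U).1 ((OpenRes.res h U).obj (HHom.hMod F G)) :=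
    ObjectProperty.prop_of_iso _ e.symm
      (isCohF_kernel (hSys h U) (isCohF_biproduct h (hSys h U) hG') (isCohF_biproduct h (hSys h U) hG') φ)
  have hT := isAffineOpen_top_sys h hU
  obtain ⟨n, z, hz, -⟩ := exists_gens_coh (hSys h U) hK hT
  obtain ⟨Q⟩ := nonempty_pres_of_hasRel (hSys h U) hT z hz
    (hasRel_ind (hSys h U) (ind_of_coh (hSys h U) hK) hT z)
  exact ⟨(OpenRes.imgF h U).obj ⊤, homOfLE ((img_top h U).le.trans hUX), ⟨OpenRes.presImg h U _ Q⟩,
    (img_top h U).ge hyU⟩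

end Groth.Agent.H26.FMod
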