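import Groth.Agent.H26.FMod.OpenProper
import Groth.Agent.H26.FMod.Ind
import Groth.Agent.H26.Edge.RpushMod
import Groth.Agent.SiteBase.ColimCollection
import Groth.Agent.SiteBase.Rpush
import Groth.Agent.SiteBase.Global
import Groth.Agent.SiteBase.CompareSit.Killing

/-!
# Ind-coherent modules are acyclic on affine opens
-/

noncomputable section

set_option autoImplicit false
set_option maxHeartbeats 1000000
set_option linter.style.haveILetI false
set_option backward.isDefEq.respectTransparency false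
set_option backward.isDefEq.respectTransparency.types false

universe u

open CategoryTheory CategoryTheory.Limits TopologicalSpace Opposite AlgebraicGeometry

namespace Groth.Agent.H26.IndAc

/-- Finite coverings of affine opens by basic opens. -/
def Cov (X : Scheme.{u}) (U : X.Opens) (ι : Type u) (Y : ι → Over U) : Prop :=
  Finite ι ∧ IsAffineOpen U ∧ (∃ a : ι → Γ(X, U), ∀ i, (Y i).left = X.basicOpen (a i)) ∧
    Sieve.ofArrows (fun i => (Y i).left) (fun i => (Y i).hom) ∈ Opens.grothendieckTopology X U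

lemma exists_basicOpen_eq_iInf {X : Scheme.{u}} {U : X.Opens} : ∀ (p : ℕ) (a : Fin (p + 1) → Γ(X, U)),
    ∃ b : Γ(X, U), X.basicOpen b = ⨅ k, X.basicOpen (a k)
  | 0, a => ⟨a 0, le_antisymm (le_iInf fun k => by rw [show k = (0 : Fin (0 + 1)) from Fin.ext (by omega)]) (iInf_le _ 0)⟩
  | p + 1, a => by
    obtain ⟨b, hb⟩ := exists_basicOpen_eq_iInf p fun k => a k.succ
    refine ⟨a 0 * b, ?_⟩
    rw [Scheme.basicOpen_mul, hb]
    refine le_antisymm (le_iInf fun k => ?_) (le_inf (iInf_le _ 0) (le_iInf fun k => iInf_le _ k.succ))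
    cases k using Fin.cases with
    | zero => exact inf_le_left
    | succ k => exact inf_le_right.trans (iInf_le _ k)

lemma cov_h1 {X : Scheme.{u}} (U : X.Opens) (ι : Type u) (Y : ι → Over U) (hY : Cov X U ι Y) :
    Finite ι ∧ U ∈ {V : X.Opens | IsAffineOpen V} ∧
      Sieve.ofArrows (fun i => (Y i).left) (fun i => (Y i).hom) ∈ Opens.grothendieckTopology X U ∧
      ∀ (p : ℕ) (a : Fin (p + 1) → ι), (∏ᶜ fun k => Y (a k)).left ∈ {V : X.Opens | IsAffineOpen V} := by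
  obtain ⟨hfin, hU, ⟨f, hf⟩, hc⟩ := hY
  refine ⟨hfin, hU, hc, fun p a => ?_⟩
  obtain ⟨b, hb⟩ := exists_basicOpen_eq_iInf p fun k => f (a k)
  have e : (∏ᶜ fun k => Y (a k)).left = X.basicOpen b := by
    refine le_antisymm ?_ ?_
    · rw [hb]
      exact le_iInf fun k => ((Pi.π (fun k => Y (a k)) k).left).le.trans (hf (a k)).le
    · exact (Pi.lift (P := Over.mk (homOfLE (X.basicOpen_le b))) fun k =>
        Over.homMk (homOfLE ((hb.le.trans (iInf_le _ k)).trans (hf (a k)).ge))).left.le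
  show IsAffineOpen _
  rw [e]
  exact hU.basicOpen b

lemma cov_h2 {X : Scheme.{u}} (U : X.Opens) (hU : U ∈ {V : X.Opens | IsAffineOpen V})
    (T : Sieve U) (hT : T ∈ Opens.grothendieckTopology X U) :
    ∃ (ι : Type u) (Y : ι → Over U), Cov X U ι Y ∧ ∀ i, T.arrows (Y i).hom := by
  have hU' : IsAffineOpen U := hU
  have h1 : ∀ x : U, ∃ f : Γ(X, U), x.1 ∈ X.basicOpen f ∧ ∃ g : X.basicOpen f ⟶ U, T.arrows g := fun x => by
    obtain ⟨V, g, hg, hxV⟩ := hT x.1 x.2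
    obtain ⟨f, hf, hxf⟩ := hU'.exists_basicOpen_le ⟨x.1, hxV⟩ x.2
    exact ⟨f, hxf, homOfLE hf ≫ g, T.downward_closed hg _⟩
  choose f hxf g hg using h1
  obtain ⟨s, hs⟩ := hU'.isCompact.elim_finite_subcover (fun x : U => (X.basicOpen (f x) : Set X))
    (fun x => (X.basicOpen (f x)).2) fun x hx => Set.mem_iUnion.2 ⟨⟨x, hx⟩, hxf _⟩
  refine ⟨s, fun i => Over.mk (g i.1), ⟨inferInstance, hU', ⟨fun i => f i.1, fun i => rfl⟩, ?_⟩, fun i => hg i.1⟩
  intro x hx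
  obtain ⟨i, hi, hxi⟩ := Set.mem_iUnion₂.1 (hs hx)
  exact ⟨_, g i, Sieve.ofArrows_mk _ _ (⟨i, hi⟩ : s), hxi⟩

variable {X : Scheme.{u}} {Λ : Type u} [SmallCategory Λ] [IsFiltered Λ]

/-- Cohomology on affine opens commutes with filtered colimits. -/
theorem comm_affine (D : Λ ⥤ Sheaf (Opens.grothendieckTopology X.toPresheafedSpace.carrier) AddCommGrpCat.{u})
    {U : X.Opens} (hU : IsAffineOpen U) (q : ℕ) :
    ToposFinLib.Comm (CohCx.freeSheaf (Opens.grothendieckTopology X.toPresheafedSpace.carrier) U) q D :=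
  ColimCollection.comm_all {V : X.Opens | IsAffineOpen V} (Cov X) cov_h1 cov_h2 hU q D

end Groth.Agent.H26.IndAc

namespace Groth.Agent.H26.FMod

open OpenTransfer Groth.Agent.ModTensor Groth.Agent.ModPull

variable {𝔛 : FSch.Sys.{u}} (h : 𝔛.IsLocNoethFormal)

include h in
lemma isProperHom_id : FSch.IsProperHom (𝟙 𝔛) := by
  refine ⟨fun n => ?_, ?_⟩
  · show IsPullback (𝔛.ι n) (𝟙 (𝔛.X n)) (𝟙 (𝔛.X (n + 1))) (𝔛.ι n)
    exact IsPullback.of_vert_isIso ⟨by simp⟩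
  · show IsProper (𝟙 (𝔛.X 0))
    infer_instance

include h in
/-- Coherent modules are acyclic on affine opens. -/
theorem subsingleton_HU_coh (𝔉 : FSch.ModF 𝔛 h.1) (h𝔉 : FSch.IsCohF 𝔛 h.1 𝔉) {U : (𝔛.X 0).Opens}
    (hU : IsAffineOpen U) (p : ℕ) : Subsingleton (CohSite.HU ((Sh h.1).obj 𝔉) (p + 1) U) := by
  have hone : ∀ m, CohCx.LimOneIsZero (fun k => CohSite.HU (lvS h.1 𝔉 k) m U) (tU h 𝔉 U m) := fun m =>
    limOne_HU h (𝟙 𝔛) h 𝔉 h𝔉 (isProperHom_id h) hU m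
  exact subsingleton_of_forall_eq 0 fun x => HU_eq_zero h 𝔉 h𝔉 U (p + 1) (fun m _ => hone m) x fun k =>
    @Subsingleton.elim _ (subsingleton_HU_lvS h 𝔉 h𝔉 hU p k) _ _

include h in
/-- Ind-coherent modules are acyclic on affine opens. -/
theorem subsingleton_HU_ind (𝔐 : FSch.ModF 𝔛 h.1)
    (h𝔐 : (ObjectProperty.ind.{u} fun 𝔊 : FSch.ModF 𝔛 h.1 => FSch.IsCohF 𝔛 h.1 𝔊) 𝔐) {U : (𝔛.X 0).Opens}
    (hU : IsAffineOpen U) (p : ℕ) : Subsingleton (CohSite.HU ((Sh h.1).obj 𝔐) (p + 1) U) := by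
  obtain ⟨Λ, _, _, pres, hp⟩ := h𝔐
  haveI : PreservesColimitsOfSize.{u, u} (Sh h.1) := ModTensor.preservesColimits_toSheaf (𝔛.Osh h.1)
  let D := pres.diag ⋙ Sh h.1
  let e : colimit D ≅ (Sh h.1).obj 𝔐 :=
    (colimit.isColimit D).coconePointUniqueUpToIso (isColimitOfPreserves (Sh h.1) pres.isColimit)
  refine subsingleton_of_forall_eq 0 fun x => ?_
  let x' : CategoryTheory.Abelian.Ext (CohCx.freeSheaf _ U) (colimit D) (p + 1) :=
    CategoryTheory.Abelian.Ext.comp (x : CategoryTheory.Abelian.Ext _ _ (p + 1))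
      (CategoryTheory.Abelian.Ext.mk₀ e.inv) (add_zero (p + 1))
  obtain ⟨i, y, hy⟩ := (IndAc.comm_affine D hU (p + 1)).surj x'
  have hy0 : y = 0 := @Subsingleton.elim _ (subsingleton_HU_coh h (pres.diag.obj i) (hp i) hU p) y 0
  have hx' : x' = 0 := by rw [← hy, hy0, CategoryTheory.Abelian.Ext.zero_comp]
  have h2 : CategoryTheory.Abelian.Ext.comp x' (CategoryTheory.Abelian.Ext.mk₀ e.hom) (add_zero (p + 1)) = x := by
    show CategoryTheory.Abelian.Ext.comp (CategoryTheory.Abelian.Ext.comp (x : CategoryTheory.Abelian.Ext _ _ (p + 1))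
      (CategoryTheory.Abelian.Ext.mk₀ e.inv) (add_zero (p + 1))) _ _ = _
    rw [CategoryTheory.Abelian.Ext.comp_assoc_of_third_deg_zero, CategoryTheory.Abelian.Ext.mk₀_comp_mk₀,
      Iso.inv_hom_id, CategoryTheory.Abelian.Ext.comp_mk₀_id]
  rw [← h2, hx', CategoryTheory.Abelian.Ext.zero_comp]

variable {𝔜 : FSch.Sys.{u}} (h𝔜 : 𝔜.IsLocNoethFormal) (g : 𝔛 ⟶ 𝔜)

include h h𝔜 in
/-- Affine morphisms have no higher direct images of ind-coherent modules. -/
theorem isZero_rpush_affine [IsAffineHom ((g : FSch.Hom 𝔛 𝔜).app 0)] [HasInjectiveResolutions (FSch.ModF 𝔛 h.1)]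
    (𝔐 : FSch.ModF 𝔛 h.1) (h𝔐 : (ObjectProperty.ind.{u} fun 𝔊 : FSch.ModF 𝔛 h.1 => FSch.IsCohF 𝔛 h.1 𝔊) 𝔐)
    (i : ℕ) : IsZero ((FSch.RpushF g h.1 h𝔜.1 (i + 1)).obj 𝔐) := by
  obtain ⟨e⟩ := Edge.nonempty_rpush_toSheaf (FSch.homMor g h.1 h𝔜.1) (i + 1)
  have z := SiteBase.isZero_rpush (Opens.grothendieckTopology (𝔛.X 0))
    (Opens.grothendieckTopology (𝔜.X 0)) (Opens.map ((g : FSch.Hom 𝔛 𝔜).app 0).base) (i + 1) ((Sh h.1).obj 𝔐)
    fun V ξ => ⟨{ arrows := fun W f => CohSite.res ((Sh h.1).obj 𝔐) (i + 1)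
                    ((Opens.map ((g : FSch.Hom 𝔛 𝔜).app 0).base).map f) ξ = 0
                  downward_closed := fun {W W' f} hf k => by
                    rw [Functor.map_comp, CompareSit.res_comp_apply, hf, map_zero] },
      fun y hy => by
        obtain ⟨_, ⟨A, hA, rfl⟩, hyA, hle⟩ := (𝔜.X 0).isBasis_affineOpens.exists_subset_of_mem_open hy V.2
        exact ⟨A, homOfLE hle, @Subsingleton.elim _ (subsingleton_HU_ind h 𝔐 h𝔐
          (hA.preimage ((g : FSch.Hom 𝔛 𝔜).app 0)) i) _ _, hyA⟩,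
      fun W f hf => hf⟩
  have z' := z.of_iso (e.app 𝔐)
  rw [IsZero.iff_id_eq_zero] at z' ⊢
  exact (Sh h𝔜.1).map_injective (((Sh h𝔜.1).map_id _).trans (z'.trans ((Sh h𝔜.1).map_zero _ _).symm))

include h in
/-- No higher cohomology of ind-coherent modules on affine formal schemes. -/
theorem subsingleton_HF_ind [IsAffine (𝔛.X 0)] (𝔐 : FSch.ModF 𝔛 h.1)
    (h𝔐 : (ObjectProperty.ind.{u} fun 𝔊 : FSch.ModF 𝔛 h.1 => FSch.IsCohF 𝔛 h.1 𝔊) 𝔐) (i : ℕ) :
    Subsingleton (FSch.HF 𝔛 h.1 𝔐 (i + 1)) :=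
  haveI := subsingleton_HU_ind h 𝔐 h𝔐 (isAffineOpen_top (𝔛.X 0)) i
  (SiteBase.huTerminalEquiv (T := (⊤ : (𝔛.X 0).Opens)) isTerminalTop ((Sh h.1).obj 𝔐) (i + 1)).symm.toEquiv.subsingleton

end Groth.Agent.H26.FMod
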