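import Groth.Agent.H26.FMod.TorsCompact
import Groth.Agent.IndExt.AdditiveExact
import Mathlib.CategoryTheory.Abelian.Subcategory
import Mathlib.CategoryTheory.Abelian.GrothendieckAxioms.Basic
import Mathlib.CategoryTheory.Filtered.Final
import Mathlib.CategoryTheory.Limits.FullSubcategory

/-!
# Extending exact functors from coherent modules to their filtered colimits
-/

noncomputable section

set_option autoImplicit false
set_option maxHeartbeats 1000000
set_option linter.style.haveILetI false
set_option backward.isDefEq.respectTransparency false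

universe u v' u'

open CategoryTheory CategoryTheory.Limits TopologicalSpace Opposite AlgebraicGeometry

namespace Groth.Agent.H26.FMod

namespace KanExact

variable {𝔛 : FSch.Sys.{u}} (h : 𝔛.IsLocNoethFormal)

/-- The coherent modules. -/
abbrev Coh' : ObjectProperty (FSch.ModF 𝔛 h.1) := fun 𝔊 => FSch.IsCohF 𝔛 h.1 𝔊

/-- The inclusion of the coherent modules in their filtered colimits. -/
abbrev incl : (Coh' h).FullSubcategory ⥤ (ObjectProperty.ind.{u} (Coh' h)).FullSubcategory :=
  ObjectProperty.ιOfLE (ObjectProperty.le_ind (Coh' h) : Coh' h ≤ ObjectProperty.ind.{u} (Coh' h))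

/-- The inclusion in all modules. -/
abbrev indι : (ObjectProperty.ind.{u} (Coh' h)).FullSubcategory ⥤ FSch.ModF 𝔛 h.1 :=
  (ObjectProperty.ind.{u} (Coh' h)).ι

lemma closed_colimits (J : Type u) [SmallCategory J] :
    (ObjectProperty.ind.{u} (Coh' h)).IsClosedUnderColimitsOfShape J :=
  ⟨fun _ ⟨hX⟩ => ind_colimit h hX.isColimit hX.prop_diag_obj⟩

lemma hasColimits : HasColimitsOfSize.{u, u} (ObjectProperty.ind.{u} (Coh' h)).FullSubcategory :=
  ⟨fun J _ => haveI := closed_colimits h J; inferInstance⟩

lemma preservesColimits_indι : PreservesColimitsOfSize.{u, u} (indι h) :=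
  ⟨fun {J} _ =>
    haveI := closed_colimits h J
    preservesColimitOfShape_of_createsColimitsOfShape_and_hasColimitsOfShape _⟩

lemma closed_kernels : (ObjectProperty.ind.{u} (Coh' h)).IsClosedUnderKernels :=
  ⟨by
    intro _ ⟨f, k, hk, hf⟩
    exact ind_of_iso h ((kernelIsKernel f).conePointUniqueUpToIso hk) (ind_kernel h hf.1 hf.2 f)⟩

lemma closed_cokernels : (ObjectProperty.ind.{u} (Coh' h)).IsClosedUnderCokernels :=
  ⟨by
    intro _ ⟨f, k, hk, hf⟩
    exact ind_of_iso h ((cokernelIsCokernel f).coconePointUniqueUpToIso hk) (ind_cokernel h hf.1 hf.2 f)⟩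

lemma containsZero [(Coh' h).ContainsZero] : (ObjectProperty.ind.{u} (Coh' h)).ContainsZero := by
  obtain ⟨Z, hZ, hP⟩ := ObjectProperty.exists_prop_of_containsZero (Coh' h)
  exact ⟨Z, hZ, ObjectProperty.le_ind _ _ hP⟩

lemma closed_products : (ObjectProperty.ind.{u} (Coh' h)).IsClosedUnderFiniteProducts := by
  classical
  haveI : HasFiniteBiproducts (FSch.ModF 𝔛 h.1) := Abelian.hasFiniteBiproducts
  refine ⟨fun J _ => ⟨fun X ⟨hX⟩ => ?_⟩⟩
  let F : J → FSch.ModF 𝔛 h.1 := fun j => hX.diag.obj ⟨j⟩
  have h1 : IndCoh (∐ fun j : ULift.{u} J => F j.down) := ind_sigma h _ fun j => hX.prop_diag_obj _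
  have e1 : (∐ fun j : ULift.{u} J => F j.down) ≅ ⨁ F :=
    Sigma.whiskerEquiv Equiv.ulift (fun _ => Iso.refl _) ≪≫ (biproduct.isoCoproduct F).symm
  have e2 : ⨁ F ≅ X := (biproduct.isLimit F).conePointUniqueUpToIso
    ((IsLimit.postcomposeHomEquiv Discrete.natIsoFunctor _).symm hX.isLimit)
  exact ind_of_iso h (e1 ≪≫ e2) h1

theorem essentiallySmall : EssentiallySmall.{u} (Coh' h).FullSubcategory := by
  obtain ⟨S, C, hC, hS⟩ := exists_small_coh h
  let T : S → (Coh' h).FullSubcategory := fun s => ⟨C s, hC s⟩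
  let F : InducedCategory (Coh' h).FullSubcategory T ⥤ (Coh' h).FullSubcategory := inducedFunctor T
  haveI : F.EssSurj := ⟨fun X => by
    obtain ⟨s, ⟨e⟩⟩ := hS X.obj X.property
    exact ⟨s, ⟨(Coh' h).isoMk e⟩⟩⟩
  haveI : F.IsEquivalence := { }
  haveI : LocallySmall.{u} (InducedCategory (Coh' h).FullSubcategory T) :=
    ⟨fun a b => small_of_injective (f := fun g : a ⟶ b => g.hom.hom) fun g g' hg =>
      InducedCategory.hom_ext (InducedCategory.hom_ext hg)⟩
  haveI : Small.{u} (InducedCategory (Coh' h).FullSubcategory T) := inferInstanceAs (Small.{u} S)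
  haveI : EssentiallySmall.{u} (InducedCategory (Coh' h).FullSubcategory T) :=
    essentiallySmall_of_small_of_locallySmall _
  exact (essentiallySmall_congr F.asEquivalence).1 inferInstance

variable [CompactSpace (𝔛.X 0)]

theorem isFinitelyPresentable_incl (p : (Coh' h).FullSubcategory) :
    IsFinitelyPresentable.{u} ((incl h).obj p) := by
  rw [isFinitelyPresentable_iff_preservesFilteredColimitsOfSize]
  refine ⟨fun J _ _ => ⟨fun {D} => ?_⟩⟩
  haveI := preservesColimits_indι h
  haveI := preservesColimit_coyoneda_coh h p.property (D ⋙ indι h)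
  haveI : PreservesColimit D (indι h ⋙ coyoneda.obj (op p.obj)) := comp_preservesColimit _ _
  exact preservesColimit_of_natIso D (F := indι h ⋙ coyoneda.obj (op p.obj))
    (NatIso.ofComponents (fun X => Equiv.toIso
      { toFun := fun f => ObjectProperty.homMk f
        invFun := fun f => f.hom
        left_inv := fun _ => rfl
        right_inv := fun _ => rfl }) (fun _ => rfl))

/-- The canonical diagram over an object is filtered and its colimit is the object. -/
theorem filtered_and_dense :
    (∀ Y, IsFiltered (CostructuredArrow (incl h) Y)) ∧ (incl h).IsDense := by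
  suffices hY : ∀ Y, IsFiltered (CostructuredArrow (incl h) Y) ∧ (incl h).isDenseAt Y from
    ⟨fun Y => (hY Y).1, ⟨fun Y => (hY Y).2⟩⟩
  intro Y
  obtain ⟨J, _, _, pres, hp⟩ := id Y.property
  let DS : J ⥤ (Coh' h).FullSubcategory := ObjectProperty.lift (Coh' h) pres.diag hp
  let cY : Cocone (DS ⋙ incl h) :=
    Cocone.mk Y
      { app := fun j => ObjectProperty.homMk (pres.ι.app j)
        naturality := fun i j g => InducedCategory.hom_ext (pres.ι.naturality g) }
  have hc : IsColimit cY := isColimitOfReflects (indι h) pres.isColimit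
  haveI := fun p => isFinitelyPresentable_incl h p
  let T : J ⥤ CostructuredArrow (incl h) Y :=
    { obj := fun j => CostructuredArrow.mk (cY.ι.app j)
      map := fun g => CostructuredArrow.homMk (DS.map g) ((cY.ι.naturality g).trans (Category.comp_id _))
      map_id := fun j => CostructuredArrow.hom_ext _ _ (DS.map_id j)
      map_comp := fun f g => CostructuredArrow.hom_ext _ _ (DS.map_comp f g) }
  have h1 : ∀ d, ∃ j, Nonempty (d ⟶ T.obj j) := fun d => by
    obtain ⟨j, g, hg⟩ := IsFinitelyPresentable.exists_hom_of_isColimit hc d.hom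
    exact ⟨j, ⟨CostructuredArrow.homMk ((Coh' h).homMk g.hom) hg⟩⟩
  have h2 : ∀ {d : CostructuredArrow (incl h) Y} {j : J} (s s' : d ⟶ T.obj j),
      ∃ (k : J) (t : j ⟶ k), s ≫ T.map t = s' ≫ T.map t := fun {d j} s s' => by
    obtain ⟨k, a, b, hk⟩ := IsFinitelyPresentable.exists_eq_of_isColimit hc ((incl h).map s.left)
      ((incl h).map s'.left) ((CostructuredArrow.w s).trans (CostructuredArrow.w s').symm)
    refine ⟨IsFiltered.coeq a b, a ≫ IsFiltered.coeqHom a b, CostructuredArrow.hom_ext _ _ ((incl h).map_injective ?_)⟩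
    show (incl h).map (s.left ≫ DS.map (a ≫ IsFiltered.coeqHom a b)) =
      (incl h).map (s'.left ≫ DS.map (a ≫ IsFiltered.coeqHom a b))
    have h3 : (incl h).map s.left ≫ (DS ⋙ incl h).map a = (incl h).map s'.left ≫ (DS ⋙ incl h).map b := hk
    rw [(incl h).map_comp, (incl h).map_comp]
    conv_rhs => rw [IsFiltered.coeq_condition a b]
    rw [DS.map_comp, DS.map_comp, (incl h).map_comp, (incl h).map_comp, ← Category.assoc, ← Category.assoc]
    exact congrArg (· ≫ _) h3
  haveI : T.Final := (Functor.final_iff_of_isFiltered T).2 ⟨h1, h2⟩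
  haveI : IsFilteredOrEmpty (CostructuredArrow (incl h) Y) :=
    { cocone_objs := fun a b => by
        obtain ⟨i, ⟨f⟩⟩ := h1 a
        obtain ⟨j, ⟨g⟩⟩ := h1 b
        exact ⟨T.obj (IsFiltered.max i j), f ≫ T.map (IsFiltered.leftToMax i j),
          g ≫ T.map (IsFiltered.rightToMax i j), trivial⟩
      cocone_maps := fun a b f g => by
        obtain ⟨j, ⟨s⟩⟩ := h1 b
        obtain ⟨k, t, e⟩ := h2 (f ≫ s) (g ≫ s)
        exact ⟨T.obj k, s ≫ T.map t, (Category.assoc _ _ _).symm.trans (e.trans (Category.assoc _ _ _))⟩ }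
  haveI : Nonempty (CostructuredArrow (incl h) Y) := ⟨T.obj IsFiltered.nonempty.some⟩
  refine ⟨{}, ⟨(Functor.Final.isColimitWhiskerEquiv T _) ?_⟩⟩
  exact IsColimit.ofIsoColimit hc (Cocone.ext (Iso.refl _) fun j => (Category.comp_id _).trans (Category.id_comp _).symm)

variable [(Coh' h).ContainsZero] [(Coh' h).IsClosedUnderKernels] [(Coh' h).IsClosedUnderCokernels]
  [(Coh' h).IsClosedUnderFiniteProducts]
  {A' : Type u'} [Category.{v'} A'] [Abelian A'] [HasFilteredColimitsOfSize.{u, u} A'] [AB5OfSize.{u, u} A']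

/-- The extension of an exact functor is exact. -/
theorem exact_pointwiseLeftKanExtension (G : (Coh' h).FullSubcategory ⥤ A')
    [PreservesFiniteLimits G] [PreservesFiniteColimits G] [(incl h).HasPointwiseLeftKanExtension G] :
    PreservesFiniteLimits ((incl h).pointwiseLeftKanExtension G) ∧
      PreservesFiniteColimits ((incl h).pointwiseLeftKanExtension G) := by
  haveI := containsZero h
  haveI := closed_kernels h
  haveI := closed_cokernels h
  haveI := closed_products h
  haveI := essentiallySmall h
  haveI := hasColimits h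
  haveI := (filtered_and_dense h).1
  haveI := (filtered_and_dense h).2
  haveI := fun p => isFinitelyPresentable_incl h p
  haveI := preservesColimits_indι h
  haveI : HasFiniteBiproducts A' := Abelian.hasFiniteBiproducts
  haveI : LocallySmall.{u} (ObjectProperty.ind.{u} (Coh' h)).FullSubcategory :=
    ⟨fun a b => small_of_injective (f := fun g : a ⟶ b => g.hom) fun _ _ e => InducedCategory.hom_ext e⟩
  haveI := (Coh' h).preservesKernels_ι
  haveI := (Coh' h).preservesCokernels_ι
  haveI := (ObjectProperty.ind.{u} (Coh' h)).preservesKernels_ι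
  haveI : PreservesFiniteLimits (Coh' h).ι :=
    (Coh' h).ι.preservesFiniteLimits_of_preservesKernels
  haveI : PreservesFiniteColimits (Coh' h).ι :=
    (Coh' h).ι.preservesFiniteColimits_of_preservesCokernels
  haveI : PreservesFiniteLimits (incl h ⋙ indι h) := inferInstanceAs (PreservesFiniteLimits (Coh' h).ι)
  haveI : PreservesFiniteColimits (incl h ⋙ indι h) := inferInstanceAs (PreservesFiniteColimits (Coh' h).ι)
  haveI : PreservesFiniteLimits (incl h) :=
    ⟨fun J _ _ => preservesLimitsOfShape_of_reflects_of_preserves (incl h) (indι h)⟩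
  haveI : PreservesFiniteColimits (incl h) :=
    ⟨fun J _ _ => preservesColimitsOfShape_of_reflects_of_preserves (incl h) (indι h)⟩
  haveI : (incl h).Additive := ⟨rfl⟩
  let L := (incl h).pointwiseLeftKanExtension G
  let hL := (incl h).pointwiseLeftKanExtensionIsPointwiseLeftKanExtension G
  haveI : IsIso ((incl h).pointwiseLeftKanExtensionUnit G) := hL.isIso_hom
  let e := asIso ((incl h).pointwiseLeftKanExtensionUnit G)
  haveI : PreservesFiniteLimits (incl h ⋙ L) := ⟨fun J _ _ => preservesLimitsOfShape_of_natIso e⟩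
  haveI : PreservesFiniteColimits (incl h ⋙ L) := ⟨fun J _ _ => preservesColimitsOfShape_of_natIso e⟩
  haveI : PreservesFilteredColimitsOfSize.{u, u} L :=
    IndExt.preservesFilteredColimits_of_pointwise L _ hL
  haveI := SiteBase.isGrothendieckAbelian_sheafOfModules (ModSite.ringSh (𝔛.Osh h.1))
  haveI : PreservesFiniteLimits (indι h) := (indι h).preservesFiniteLimits_of_preservesKernels
  have hC : ∀ (J : Type u) [SmallCategory J] [IsFiltered J], PreservesLimitsOfShape WalkingParallelPair
      (colim : (J ⥤ (ObjectProperty.ind.{u} (Coh' h)).FullSubcategory) ⥤ _) := fun J _ _ => by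
    haveI : PreservesLimitsOfShape WalkingParallelPair (colim ⋙ indι h :
        (J ⥤ (ObjectProperty.ind.{u} (Coh' h)).FullSubcategory) ⥤ _) :=
      preservesLimitsOfShape_of_natIso (preservesColimitNatIso (indι h)).symm
    exact preservesLimitsOfShape_of_reflects_of_preserves colim (indι h)
  have hB : ∀ (J : Type u) [SmallCategory J] [IsFiltered J], PreservesLimitsOfShape WalkingParallelPair
      (colim : (J ⥤ A') ⥤ A') := fun J _ _ => inferInstance
  exact ⟨(IndExt.leftExact_of_compact (incl h) hC hB L).2.1, (IndExt.rightExact_of_compact (incl h) L).2.1⟩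

end KanExact

end Groth.Agent.H26.FMod
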