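import Groth.Prelude.Def_CohCx
import Groth.Prelude.Def_ARSys
import Mathlib.Algebra.Category.Grp.EpiMono
import Mathlib.Algebra.Category.Grp.Abelian
import Groth.Agent.ARLib.Basic

/-!
# Mittag-Leffler systems of abelian groups
-/

noncomputable section

set_option autoImplicit false

universe u

open CategoryTheory CategoryTheory.Limits Opposite

namespace Groth.Agent.H26.FMod.MLLim

/-- The images in each degree are eventually constant. -/
def Stab (G : ℕ → Type u) [∀ n, AddCommGroup (G n)] (c : ∀ {n m : ℕ}, n ≤ m → G m →+ G n) : Prop :=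
  ∀ n, ∃ N, ∀ (a : ℕ) (ha : n ≤ a), N ≤ a → ∀ (m : ℕ) (hm : a ≤ m) (x : G a),
    ∃ y : G m, c (ha.trans hm) y = c ha x

variable {G : ℕ → Type u} [∀ n, AddCommGroup (G n)] (c : ∀ {n m : ℕ}, n ≤ m → G m →+ G n)
  (hc₀ : ∀ n x, c (le_refl n) x = x)
  (hc₁ : ∀ {i j m : ℕ} (h : i ≤ j) (h' : j ≤ m) (x : G m), c h (c h' x) = c (h.trans h') x)

include hc₀ hc₁ in
/-- Vanishing of `lim¹` for stable images. -/
theorem limOne_of_stab (hst : Stab G c) (t : ∀ n, G (n + 1) →+ G n)
    (ht : ∀ n x, t n x = c (Nat.le_succ n) x) : CohCx.LimOneIsZero G t := by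
  classical
  choose N₀ hN₀ using hst
  let N : ℕ → ℕ := fun n => (Finset.range (n + 1)).sup N₀ + n
  have hN : ∀ n, n ≤ N n := fun n => Nat.le_add_left _ _
  have hN' : ∀ n, N₀ n ≤ N n := fun n =>
    le_trans (Finset.le_sup (f := N₀) (Finset.self_mem_range_succ n)) (Nat.le_add_right _ _)
  have hNm : ∀ n, N n ≤ N (n + 1) := fun n =>
    add_le_add (Finset.sup_mono (Finset.range_mono (Nat.le_succ _))) (Nat.le_succ n)
  -- elements of the stable image are the first terms of compatible families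
  have key : ∀ n (x : G (N n)), ∃ z : ∀ j, G j, (∀ j, c (Nat.le_succ j) (z (j + 1)) = z j) ∧
      z n = c (hN n) x := by
    intro n x
    have hlift : ∀ k (w : G (N (n + k))), ∃ w' : G (N (n + (k + 1))),
        c (show n + k ≤ N (n + (k + 1)) from (hN _).trans (hNm _)) w' = c (hN (n + k)) w := fun k w => by
      obtain ⟨y, hy⟩ := hN₀ (n + k) (N (n + k)) (hN _) (hN' _) (N (n + (k + 1))) (hNm _) w
      exact ⟨y, hy⟩
    choose g hg using hlift
    let w : ∀ k, G (N (n + k)) := fun k => Nat.rec (motive := fun k => G (N (n + k))) x g k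
    refine ⟨fun j => c (show j ≤ N (n + j) from (Nat.le_add_left j n).trans (hN _)) (w j), fun j => ?_, ?_⟩
    · rw [hc₁]
      rw [← hc₁ (show j ≤ n + j from Nat.le_add_left j n) (show n + j ≤ N (n + (j + 1)) from (hN _).trans (hNm _))]
      show c _ (c _ (g j (w j))) = _
      rw [hg, hc₁]
    · have hk : ∀ k, c (show n ≤ N (n + k) from (Nat.le_add_right n k).trans (hN _)) (w k) = c (hN n) x := by
        intro k
        induction k with
        | zero => rfl
        | succ k ih =>
          rw [← hc₁ (show n ≤ n + k from Nat.le_add_right n k) (show n + k ≤ N (n + (k + 1)) from (hN _).trans (hNm _))]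
          show c _ (c _ (g k (w k))) = _
          rw [hg, hc₁]
          exact ih
      exact hk n
  intro y
  let cc : ∀ n m, G n := fun n m => if h : n ≤ m then c h (y m) else 0
  let u : ∀ n, G n := fun n => ∑ m ∈ Finset.Ico n (N n + 1), cc n m
  have htcc : ∀ n m, n + 1 ≤ m → t n (cc (n + 1) m) = cc n m := fun n m h => by
    simp only [cc, dif_pos h, dif_pos (show n ≤ m by omega), ht, hc₁]
  have hsum : ∀ n (s : Finset ℕ), (∀ m ∈ s, N n ≤ m) → ∃ z : ∀ j, G j,
      (∀ j, c (Nat.le_succ j) (z (j + 1)) = z j) ∧ z n = ∑ m ∈ s, cc n m := by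
    intro n s
    induction s using Finset.induction with
    | empty => exact fun _ => ⟨0, fun j => map_zero _, by simp⟩
    | insert b s hb ih =>
      intro hs
      obtain ⟨z, hz, hz'⟩ := ih fun m hm => hs m (Finset.mem_insert_of_mem hm)
      have hbN := hs b (Finset.mem_insert_self _ _)
      obtain ⟨z₂, hz₂, hz₂'⟩ := key n (c hbN (y b))
      refine ⟨z₂ + z, fun j => ?_, ?_⟩
      · rw [Pi.add_apply, Pi.add_apply, map_add, hz₂, hz]
      · rw [Finset.sum_insert hb, Pi.add_apply, hz', hz₂', hc₁]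
        simp only [cc, dif_pos ((hN n).trans hbN)]
  have hdiff : ∀ n, ∃ z : ∀ j, G j, (∀ j, c (Nat.le_succ j) (z (j + 1)) = z j) ∧
      z n = y n - (u n - t n (u (n + 1))) := fun n => by
    have h1 : t n (u (n + 1)) = ∑ m ∈ Finset.Ico (n + 1) (N (n + 1) + 1), cc n m := by
      rw [map_sum]
      exact Finset.sum_congr rfl fun m hm => htcc n m (Finset.mem_Ico.1 hm).1
    have h2 : u n = y n + ∑ m ∈ Finset.Ico (n + 1) (N n + 1), cc n m := by
      show ∑ m ∈ Finset.Ico n (N n + 1), cc n m = _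
      rw [Finset.sum_eq_sum_Ico_succ_bot (by have := hN n; omega)]
      simp only [cc, dif_pos (le_refl n), hc₀]
    have h3 := Finset.sum_Ico_consecutive (fun m => cc n m) (show n + 1 ≤ N n + 1 by have := hN n; omega)
      (Nat.succ_le_succ (hNm n))
    obtain ⟨z, hz, hz'⟩ := hsum n (Finset.Ico (N n + 1) (N (n + 1) + 1))
      fun m hm => by have := (Finset.mem_Ico.1 hm).1; omega
    exact ⟨z, hz, by rw [hz', h1, h2, ← h3]; abel⟩
  choose z hz hz' using hdiff
  let g : ℕ → ∀ j, G j := fun n => Nat.rec (motive := fun _ => ∀ j, G j) 0 (fun m gm => gm - z m) n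
  have hg : ∀ n j, c (Nat.le_succ j) (g n (j + 1)) = g n j := by
    intro n
    induction n with
    | zero => exact fun j => map_zero _
    | succ n ih =>
      intro j
      show c _ (g n (j + 1) - z n (j + 1)) = g n j - z n j
      rw [map_sub, ih, hz]
  refine ⟨fun n => u n + g n n, funext fun n => ?_⟩
  show (u n + g n n) - t n (u (n + 1) + g (n + 1) (n + 1)) = y n
  rw [map_add, show t n (g (n + 1) (n + 1)) = g (n + 1) n from (ht n _).trans (hg (n + 1) n),
    show g (n + 1) n = g n n - z n n from rfl, hz']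
  abel

omit [∀ n, AddCommGroup (G n)] in
/-- Concrete images in the categorical sense. -/
theorem isML_of_stab (X : ARSys.PS AddCommGrpCat.{u})
    (hst : ∀ n, ∃ N, ∀ (a : ℕ) (ha : n ≤ a), N ≤ a → ∀ (m : ℕ) (hm : a ≤ m) (x : X.obj (op a)),
      ∃ y : X.obj (op m), ARSys.tr X (ha.trans hm) y = ARSys.tr X ha x) : ARSys.IsML X := by
  intro n
  obtain ⟨N, hN⟩ := hst n
  refine ⟨N, fun s hs => le_antisymm ?_ ?_⟩
  · refine (ARLib.imageSubobject_le_iff (ARSys.shiftMap X s n) (ARSys.shiftMap X N n)).2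
      ⟨_, 𝟙 _, inferInstance, ARSys.tr X (show n + N ≤ n + s by omega), ?_⟩
    exact (Category.id_comp _).trans (ARLib.tr_tr X _ _).symm
  · let fN : X.obj (op (n + N)) ⟶ X.obj (op n) := ARSys.tr X (Nat.le_add_right n N)
    let fs : X.obj (op (n + s)) ⟶ X.obj (op n) := ARSys.tr X (Nat.le_add_right n s)
    let P : AddSubgroup (X.obj (op (n + N)) × X.obj (op (n + s))) :=
      { carrier := {p | fN.hom p.1 = fs.hom p.2}
        add_mem' := fun {p q} hp hq => by
          show fN.hom (p.1 + q.1) = fs.hom (p.2 + q.2)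
          rw [map_add, map_add, show fN.hom p.1 = fs.hom p.2 from hp, show fN.hom q.1 = fs.hom q.2 from hq]
        zero_mem' := by show fN.hom 0 = fs.hom 0; rw [map_zero, map_zero]
        neg_mem' := fun {p} hp => by
          show fN.hom (-p.1) = fs.hom (-p.2)
          rw [map_neg, map_neg, show fN.hom p.1 = fs.hom p.2 from hp] }
    refine (ARLib.imageSubobject_le_iff (ARSys.shiftMap X N n) (ARSys.shiftMap X s n)).2
      ⟨AddCommGrpCat.of P, AddCommGrpCat.ofHom ((AddMonoidHom.fst _ _).comp P.subtype),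
        (AddCommGrpCat.epi_iff_surjective _).2 fun x => ?_,
        AddCommGrpCat.ofHom ((AddMonoidHom.snd _ _).comp P.subtype), ?_⟩
    · obtain ⟨y, hy⟩ := hN (n + N) (Nat.le_add_right n N) (Nat.le_add_left N n) (n + s) (by omega) x
      exact ⟨⟨(x, y), hy.symm⟩, rfl⟩
    · ext p
      exact p.2

end Groth.Agent.H26.FMod.MLLim
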