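import Groth.Agent.H26.FMod.ScalarsSpf
import Groth.Agent.H26.FMod.GradedML
import Groth.Agent.H26.FMod.MLLim
import Groth.Agent.H26.FMod.HFLim
import Groth.Agent.Lib.PushHNat
import Groth.Agent.FFun.GenSheaf
import Groth.Agent.S0002

/-!
# The Mittag-Leffler condition for the levels of a coherent module, proper over a formal spectrum
-/

noncomputable section

set_option autoImplicit false
set_option maxHeartbeats 1000000
set_option linter.style.haveILetI false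
set_option backward.isDefEq.respectTransparency false
set_option backward.isDefEq.respectTransparency.types false

universe u

open CategoryTheory CategoryTheory.Limits TopologicalSpace Opposite AlgebraicGeometry
open Groth.Agent.ModTensor Groth.Agent.ModPull
open Groth.Agent.PnCoh.Finite (mapLin)

attribute [local instance] Groth.Agent.QCoh.hasFiniteBiproducts

namespace Groth.Agent.H26.FMod

variable {𝔛 : FSch.Sys.{u}} (h : 𝔛.IsLocNoethFormal) {𝔉 : FSch.ModF 𝔛 h.1}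
  (h𝔉 : FSch.IsCohF 𝔛 h.1 𝔉)

lemma map_PP {X : TopCat.{u}} (F : ℕᵒᵖ ⥤ CohTop.Ab X) {i j m : ℕ} (hij : i ≤ j) (hjm : j ≤ m) (p : ℕ)
    (x : CohTop.H (F.obj (op m)) p) :
    Sheaf.H.map (GradedML.P F hij) p (Sheaf.H.map (GradedML.P F hjm) p x) =
      Sheaf.H.map (GradedML.P F (hij.trans hjm)) p x := by
  rw [← Sheaf.H.map_comp_apply, GradedML.P_comp]

lemma map_P_self {X : TopCat.{u}} (F : ℕᵒᵖ ⥤ CohTop.Ab X) (m p : ℕ) (x : CohTop.H (F.obj (op m)) p) :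
    Sheaf.H.map (GradedML.P F (le_refl m)) p x = x := by
  rw [GradedML.P_self, Sheaf.H.map_id_apply]

/-- The abelian sheaves of the levels, beginning with zero. -/
abbrev Fq (𝔉 : FSch.ModF 𝔛 h.1) : ℕᵒᵖ ⥤ CohTop.Ab ((𝔛.X 0).toPresheafedSpace.carrier) :=
  Functor.ofOpSequence (X := fun n => (Sh h.1).obj (Lq h 𝔉 n)) fun n => (Sh h.1).map (tq h 𝔉 n)

lemma P_Fq (n : ℕ) : GradedML.P (Fq h 𝔉) (Nat.le_succ n) = (Sh h.1).map (tq h 𝔉 n) :=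
  Functor.ofOpSequence_map_homOfLE_succ (X := fun n => (Sh h.1).obj (Lq h 𝔉 n))
    (fun n => (Sh h.1).map (tq h 𝔉 n)) n

lemma isZero_Fq_zero : IsZero ((Fq h 𝔉).obj (op 0)) := (Sh h.1).map_isZero (isZero_Lq_zero h)

include h𝔉 in
lemma epi_Fq (n : ℕ) : Epi (GradedML.P (Fq h 𝔉) (Nat.le_succ n)) := by
  haveI := epi_tq h h𝔉 n
  rw [P_Fq]
  exact inferInstanceAs (Epi ((Sh h.1).map (tq h 𝔉 n)))

/-- Compatible maps of the levels commute with all transitions. -/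
lemma comm_all (μ : ∀ n, Lq h 𝔉 n ⟶ Lq h 𝔉 (n + 1))
    (hμ : ∀ n, μ (n + 1) ≫ tq h 𝔉 (n + 1) = tq h 𝔉 n ≫ μ n) {j m : ℕ} (hjm : j ≤ m) :
    (Sh h.1).map (μ m) ≫ GradedML.P (Fq h 𝔉) (Nat.succ_le_succ hjm) =
      GradedML.P (Fq h 𝔉) hjm ≫ (Sh h.1).map (μ j) := by
  induction m, hjm using Nat.le_induction with
  | base =>
    rw [GradedML.P_self, GradedML.P_self]
    exact (Category.comp_id _).trans (Category.id_comp _).symm
  | succ m hm ih =>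
    rw [← GradedML.P_comp (Fq h 𝔉) (Nat.succ_le_succ hm) (Nat.le_succ (m + 1)), ← Category.assoc, P_Fq,
      ← GradedML.P_comp (Fq h 𝔉) hm (Nat.le_succ m), Category.assoc _ _ ((Sh h.1).map (μ j)), ← ih, P_Fq,
      ← Category.assoc, ← Functor.map_comp, hμ, Functor.map_comp, Category.assoc]

lemma comm_smul (r : Rg h.1 ⊤) {j m : ℕ} (hjm : j ≤ m) :
    (Sh h.1).map (smulF r (Lq h 𝔉 m)) ≫ GradedML.P (Fq h 𝔉) hjm =
      GradedML.P (Fq h 𝔉) hjm ≫ (Sh h.1).map (smulF r (Lq h 𝔉 j)) := by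
  induction m, hjm using Nat.le_induction with
  | base =>
    rw [GradedML.P_self]
    exact (Category.comp_id _).trans (Category.id_comp _).symm
  | succ m hm ih =>
    rw [← GradedML.P_comp (Fq h 𝔉) hm (Nat.le_succ m), Category.assoc, ← ih, P_Fq,
      ← Category.assoc, ← Functor.map_comp, smulF_naturality, Functor.map_comp, Category.assoc]

/-- The graded piece as a kernel of abelian sheaves. -/
def kn (n : ℕ) : (Sh h.1).obj (Cq h 𝔉 n) ⟶ GradedML.K (Fq h 𝔉) (Nat.le_succ n) :=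
  kernel.lift _ ((Sh h.1).map (kernel.ι (tq h 𝔉 n))) (by
    rw [P_Fq, ← Functor.map_comp, kernel.condition, Functor.map_zero])

lemma kn_ι (n : ℕ) : kn h (𝔉 := 𝔉) n ≫ kernel.ι (GradedML.P (Fq h 𝔉) (Nat.le_succ n)) =
    (Sh h.1).map (kernel.ι (tq h 𝔉 n)) := kernel.lift_ι _ _ _

lemma isIso_kn (n : ℕ) : IsIso (kn h (𝔉 := 𝔉) n) := by
  have e : kn h (𝔉 := 𝔉) n =
      (PreservesKernel.iso (Sh h.1) (tq h 𝔉 n) ≪≫ kernelIsoOfEq (P_Fq h n).symm).hom := by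
    rw [← cancel_mono (kernel.ι (GradedML.P (Fq h 𝔉) (Nat.le_succ n))), kn_ι, Iso.trans_hom, Category.assoc,
      kernelIsoOfEq_hom_comp_ι, PreservesKernel.iso_hom, kernelComparison_comp_ι]
  rw [e]
  infer_instance

/-- The graded piece as a sheaf of modules on the first level. -/
abbrev Gq (𝔉 : FSch.ModF 𝔛 h.1) (n : ℕ) : (𝔛.X 0).Modules := pullK 0 (Cq h 𝔉 n)

lemma isClosedEmbedding_gInv : Topology.IsClosedEmbedding (𝔛.gInv h.1 0) :=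
  (𝔛.levelHomeo h.1 0).symm.isClosedEmbedding

/-- Classes of the graded piece. -/
def psi (p n : ℕ) (φ : (Sh h.1).obj (lvl 0 (Cq h 𝔉 n)) ⟶ GradedML.K (Fq h 𝔉) (Nat.le_succ n)) :
    Coh.HH (𝔛.X 0) (Gq h 𝔉 n) p →+ CohTop.H (GradedML.K (Fq h 𝔉) (Nat.le_succ n)) p :=
  AddMonoidHom.comp (Sheaf.H.map φ p)
    (PushHNat.pushH (𝔛.gInv h.1 0) (isClosedEmbedding_gInv h) (Coh.toAb (Gq h 𝔉 n)) p)

lemma psi_natural (p n n' : ℕ) (φ : (Sh h.1).obj (lvl 0 (Cq h 𝔉 n)) ⟶ GradedML.K (Fq h 𝔉) (Nat.le_succ n))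
    (φ' : (Sh h.1).obj (lvl 0 (Cq h 𝔉 n')) ⟶ GradedML.K (Fq h 𝔉) (Nat.le_succ n'))
    (χ : GradedML.K (Fq h 𝔉) (Nat.le_succ n) ⟶ GradedML.K (Fq h 𝔉) (Nat.le_succ n'))
    (g : Cq h 𝔉 n ⟶ Cq h 𝔉 n')
    (w : (Sh h.1).map ((FSch.levelMor 𝔛 h.1 0).push.map ((FSch.levelMor 𝔛 h.1 0).pull.map g)) ≫ φ' = φ ≫ χ)
    (x : Coh.HH (𝔛.X 0) (Gq h 𝔉 n) p) :
    psi h p n' φ' (Sheaf.H.map ((SheafOfModules.toSheaf (𝔛.X 0).ringCatSheaf).map
      ((FSch.levelMor 𝔛 h.1 0).pull.map g)) p x) = Sheaf.H.map χ p (psi h p n φ x) := by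
  refine (congrArg (Sheaf.H.map φ' p) (PushHNat.pushH_natural (𝔛.gInv h.1 0) (isClosedEmbedding_gInv h)
    ((SheafOfModules.toSheaf (𝔛.X 0).ringCatSheaf).map ((FSch.levelMor 𝔛 h.1 0).pull.map g)) p x)).trans ?_
  refine (Sheaf.H.map_comp_apply _ _ _).symm.trans ?_
  refine Eq.trans ?_ (Sheaf.H.map_comp_apply φ χ _)
  exact congrArg (fun t => Sheaf.H.map t p
    (PushHNat.pushH (𝔛.gInv h.1 0) (isClosedEmbedding_gInv h) (Coh.toAb (Gq h 𝔉 n)) p x)) w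

include h𝔉 in
lemma isIso_toLvl_Cq (n : ℕ) : IsIso (toLvl 0 (Cq h 𝔉 n)) :=
  isIso_toLvl_zero h (isCohF_Cq h h𝔉 n) fun U hU r hr x => smul_Cq_eq_zero h h𝔉 n hU r hr x

/-- The comparison with the kernels. -/
def cmpK (n : ℕ) : (Sh h.1).obj (lvl 0 (Cq h 𝔉 n)) ⟶ GradedML.K (Fq h 𝔉) (Nat.le_succ n) :=
  haveI := isIso_toLvl_Cq h h𝔉 n
  (Sh h.1).map (inv (toLvl 0 (Cq h 𝔉 n))) ≫ kn h n

lemma cmpK_natural {n n' : ℕ} (g : Cq h 𝔉 n ⟶ Cq h 𝔉 n')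
    (χ : GradedML.K (Fq h 𝔉) (Nat.le_succ n) ⟶ GradedML.K (Fq h 𝔉) (Nat.le_succ n'))
    (w : (Sh h.1).map g ≫ kn h n' = kn h n ≫ χ) :
    (Sh h.1).map ((FSch.levelMor 𝔛 h.1 0).push.map ((FSch.levelMor 𝔛 h.1 0).pull.map g)) ≫ cmpK h h𝔉 n' =
      cmpK h h𝔉 n ≫ χ := by
  haveI := isIso_toLvl_Cq h h𝔉 n
  haveI := isIso_toLvl_Cq h h𝔉 n'
  have e : (FSch.levelMor 𝔛 h.1 0).push.map ((FSch.levelMor 𝔛 h.1 0).pull.map g) ≫ inv (toLvl 0 (Cq h 𝔉 n')) =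
      inv (toLvl 0 (Cq h 𝔉 n)) ≫ g := by
    rw [IsIso.eq_inv_comp, ← Category.assoc, IsIso.comp_inv_eq]
    exact ((FSch.levelMor 𝔛 h.1 0).adj.unit.naturality g).symm
  show (Sh h.1).map _ ≫ (Sh h.1).map _ ≫ kn h n' = ((Sh h.1).map _ ≫ kn h n) ≫ χ
  rw [← Category.assoc, ← Functor.map_comp, e, Functor.map_comp, Category.assoc, w, Category.assoc]

include h𝔉 in
lemma bijective_psi (p n : ℕ) : Function.Bijective (psi h p n (cmpK h h𝔉 n)) := by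
  haveI := isIso_toLvl_Cq h h𝔉 n
  haveI := isIso_kn h (𝔉 := 𝔉) n
  haveI : IsIso (cmpK h h𝔉 n) := by
    show IsIso ((Sh h.1).map (inv (toLvl 0 (Cq h 𝔉 n))) ≫ kn h n)
    infer_instance
  show Function.Bijective (Sheaf.H.map (cmpK h h𝔉 n) p ∘
    PushHNat.pushH (𝔛.gInv h.1 0) (isClosedEmbedding_gInv h) (Coh.toAb (Gq h 𝔉 n)) p)
  refine Function.Bijective.comp ?_ (PushHNat.bijective_pushH (𝔛.gInv h.1 0) (isClosedEmbedding_gInv h) _ p)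
  exact Function.bijective_iff_has_inverse.2 ⟨Sheaf.H.map (inv (cmpK h h𝔉 n)) p,
    fun x => by rw [← Sheaf.H.map_comp_apply, IsIso.hom_inv_id, Sheaf.H.map_id_apply],
    fun x => by rw [← Sheaf.H.map_comp_apply, IsIso.inv_hom_id, Sheaf.H.map_id_apply]⟩

section Sys

variable {s : ℕ} (r : Fin s → Rg h.1 ⊤)
  (hJ : ∀ U, IsAffineOpen U → Jd h.1 U = Ideal.span (Set.range fun i => rTop (r i) U))

/-- The shifts of the levels. -/
def shiftq (i : Fin s) : GradedML.Shift (Fq h 𝔉) where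
  μ n := (Sh h.1).map (muq h h𝔉 (r i) (rTop_mem h r hJ i) n)
  comm hjm := comm_all h _ (muq_tq h h𝔉 (r i) (rTop_mem h r hJ i)) hjm

include hJ in
lemma kn_shiftq (i : Fin s) (n : ℕ) :
    (Sh h.1).map (tC h h𝔉 (r i) (rTop_mem h r hJ i) n) ≫ kn h (n + 1) =
      kn h n ≫ (shiftq h h𝔉 r hJ i).t (Fq h 𝔉) n := by
  rw [← cancel_mono (kernel.ι (GradedML.P (Fq h 𝔉) (Nat.le_succ (n + 1)))), Category.assoc, Category.assoc,
    kn_ι, kernel.lift_ι, reassoc_of% (kn_ι h (𝔉 := 𝔉) n), ← Functor.map_comp, tC_ι, Functor.map_comp]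
  rfl

/-- The system of the graded pieces on the first level. -/
def sysC : FFun.Gen.Sys (𝔛.X 0) s where
  G := Gq h 𝔉
  t n i := (FSch.levelMor 𝔛 h.1 0).pull.map (tC h h𝔉 (r i) (rTop_mem h r hJ i) n)
  comm n i j := by
    rw [← Functor.map_comp, ← Functor.map_comp]
    refine congrArg _ ((cancel_mono (kernel.ι (tq h 𝔉 (n + 1 + 1)))).1 ?_)
    rw [Category.assoc, Category.assoc, tC_ι, tC_ι, ← Category.assoc, ← Category.assoc, tC_ι, tC_ι,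
      Category.assoc, Category.assoc]
    exact congrArg (kernel.ι (tq h 𝔉 n) ≫ ·) (comm_gen h h𝔉 r (rTop_mem h r hJ) (n + 1) i j)

include hJ in
lemma genFrom_sysC : (sysC h h𝔉 r hJ).GenFrom 0 := fun n _ => ⟨fun {Z} g g' hg => by
  apply ((FSch.levelMor 𝔛 h.1 0).adj.homEquiv (Cq h 𝔉 (n + 1)) Z).injective
  rw [← sub_eq_zero]
  refine tC_jointly_epi h h𝔉 r hJ n _ fun i => ?_
  rw [Preadditive.comp_sub, sub_eq_zero, ← Adjunction.homEquiv_naturality_left,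
    ← Adjunction.homEquiv_naturality_left]
  refine congrArg _ ?_
  have e := congrArg (fun t => biproduct.ι (fun _ : ULift.{u} (Fin s) => (sysC h h𝔉 r hJ).G n) ⟨i⟩ ≫ t) hg
  simp only [FFun.Gen.Sys.tAll, biproduct.ι_desc_assoc] at e
  exact e⟩

end Sys

variable {A : Type u} [CommRing A] {J : Ideal A} (f : 𝔛 ⟶ FSch.spf A J)

lemma mem_B_smul (r : Rg h.1 ⊤) {q n i : ℕ} {x : CohTop.H (GradedML.K (Fq h 𝔉) (Nat.le_succ n)) q}
    (hx : x ∈ GradedML.B (Fq h 𝔉) q n i) :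
    Sheaf.H.map (GradedML.KK (Fq h 𝔉) (Nat.le_succ n) (Nat.le_succ n) _ _ (comm_smul h r (Nat.le_succ n))) q x ∈
      GradedML.B (Fq h 𝔉) q n i := by
  let g := GradedML.KK (Fq h 𝔉) ((Nat.sub_le n i).trans (Nat.le_succ n)) ((Nat.sub_le n i).trans (Nat.le_succ n))
    _ _ (comm_smul h r ((Nat.sub_le n i).trans (Nat.le_succ n)))
  have e : GradedML.inK (Fq h 𝔉) (Nat.sub_le n i) ≫ g =
      GradedML.KK (Fq h 𝔉) (Nat.le_succ n) (Nat.le_succ n) _ _ (comm_smul h r (Nat.le_succ n)) ≫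
        GradedML.inK (Fq h 𝔉) (Nat.sub_le n i) := by
    rw [← cancel_mono (kernel.ι _)]; simp [g]
  show Sheaf.H.map (GradedML.inK (Fq h 𝔉) (Nat.sub_le n i)) q (Sheaf.H.map _ q x) = 0
  rw [← Sheaf.H.map_comp_apply, ← GradedML.map_congr' e, Sheaf.H.map_comp_apply,
    show Sheaf.H.map (GradedML.inK (Fq h 𝔉) (Nat.sub_le n i)) q x = 0 from hx, map_zero]

lemma kn_smul (r : Rg h.1 ⊤) (n : ℕ) :
    (Sh h.1).map (smulF r (Cq h 𝔉 n)) ≫ kn h n =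
      kn h n ≫ GradedML.KK (Fq h 𝔉) (Nat.le_succ n) (Nat.le_succ n) _ _ (comm_smul h r (Nat.le_succ n)) := by
  rw [← cancel_mono (kernel.ι (GradedML.P (Fq h 𝔉) (Nat.le_succ n))), Category.assoc, Category.assoc,
    kn_ι, kernel.lift_ι, reassoc_of% (kn_ι h (𝔉 := 𝔉) n), ← Functor.map_comp, smulF_naturality, Functor.map_comp]

variable [IsNoetherianRing A] (hf : FSch.IsProperHom f) (h𝔜 : J.FG)

include h𝔉 hf h𝔜 in
/-- Lifts to high levels. -/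
theorem exists_lift (p : ℕ) : ∃ c, ∀ {k a : ℕ} (_ : k + c ≤ a) (x : CohTop.H ((Fq h 𝔉).obj (op a)) p)
    (m : ℕ) (hm : a ≤ m), ∃ y : CohTop.H ((Fq h 𝔉).obj (op m)) p,
      Sheaf.H.map (GradedML.P (Fq h 𝔉) (show k ≤ m by omega)) p y =
        Sheaf.H.map (GradedML.P (Fq h 𝔉) (show k ≤ a by omega)) p x := by
  classical
  obtain ⟨s, a, ha⟩ := Submodule.fg_iff_exists_fin_generating_family.1 h𝔜
  let r : Fin s → Rg h.1 ⊤ := fun i => rA f h.1 (a i)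
  have hJ : ∀ U, IsAffineOpen U → Jd h.1 U = Ideal.span (Set.range fun i => rTop (r i) U) :=
    Jd_eq_span f h hf.1 a ha
  letI : (𝔛.X 0).Over (Spec (CommRingCat.of A)) := ⟨pA f 0⟩
  haveI hp : IsProper ((f : FSch.Hom 𝔛 _).app 0) := hf.2
  haveI : IsClosedImmersion (FSch.spfToSpec A J 0) :=
    IsClosedImmersion.spec_of_surjective (CommRingCat.ofHom (Ideal.Quotient.mk (J ^ (0 + 1)))) Ideal.Quotient.mk_surjective
  haveI : IsProper (𝔛.X 0 ↘ Spec (CommRingCat.of A)) :=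
    inferInstanceAs (IsProper ((f : FSch.Hom 𝔛 _).app 0 ≫ FSch.spfToSpec A J 0))
  haveI := h.2.2 0
  haveI : CompactSpace (𝔛.X 0) := QuasiCompact.compactSpace_of_compactSpace (𝔛.X 0 ↘ Spec (CommRingCat.of A))
  haveI : IsNoetherian (𝔛.X 0) := {}
  let S := sysC h h𝔉 r hJ
  have hS : ∀ n, Coh.IsCoh (S.G n) := fun n => isCoh_pullK 0 _ (isCohF_Cq h h𝔉 n)
  have hfin : ∀ M : (𝔛.X 0).Modules, Coh.IsCoh M → ∀ q, Module.Finite A (Coh.HH (𝔛.X 0) M q) :=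
    fun M hM q => S0002.result A (𝔛.X 0) M hM q
  obtain ⟨d₀, hgen⟩ := FFun.Gen.exists_genHH (A := A) hfin (p + 1) S hS 0 (genFrom_sysC h h𝔉 r hJ)
  haveI : ∀ n, Module.Finite A (Coh.HH (𝔛.X 0) (Gq h 𝔉 n) (p + 1)) := fun n => hfin _ (hS n) _
  let e : ∀ n, CohTop.H (GradedML.K (Fq h 𝔉) (Nat.le_succ n)) (p + 1) ≃+ Coh.HH (𝔛.X 0) (Gq h 𝔉 n) (p + 1) :=
    fun n => (AddEquiv.ofBijective _ (bijective_psi h h𝔉 (p + 1) n)).symm
  have he : ∀ n i x, e (n + 1) (Sheaf.H.map ((shiftq h h𝔉 r hJ i).t (Fq h 𝔉) n) (p + 1) x) =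
      mapLin A (S.t n i) (p + 1) (e n x) := fun n i x => by
    apply (e (n + 1)).symm.injective
    rw [AddEquiv.symm_apply_apply]
    obtain ⟨y, rfl⟩ := (e n).symm.surjective x
    rw [AddEquiv.apply_symm_apply]
    exact (psi_natural h (p + 1) n (n + 1) (cmpK h h𝔉 n) (cmpK h h𝔉 (n + 1)) _ _
      (cmpK_natural h h𝔉 _ _ (kn_shiftq h h𝔉 r hJ i n)) y).symm
  have hA : ∀ n (b : A) (x), x ∈ GradedML.B (Fq h 𝔉) (p + 1) n n →
      (e n).symm (b • e n x) ∈ GradedML.B (Fq h 𝔉) (p + 1) n n := fun n b x hx => by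
    obtain ⟨y, rfl⟩ := (e n).symm.surjective x
    rw [AddEquiv.apply_symm_apply]
    have h1 := psi_natural h (p + 1) n n (cmpK h h𝔉 n) (cmpK h h𝔉 n) _ _
      (cmpK_natural h h𝔉 _ _ (kn_smul h (rA f h.1 b) n)) y
    have h2 : (b • y : Coh.HH (𝔛.X 0) (Gq h 𝔉 n) (p + 1)) =
        Sheaf.H.map ((SheafOfModules.toSheaf (𝔛.X 0).ringCatSheaf).map
          ((FSch.levelMor 𝔛 h.1 0).pull.map (smulF (rA f h.1 b) (Cq h 𝔉 n)))) (p + 1) y := by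
      rw [pull_smulF, pr_rA]
      rfl
    show psi h (p + 1) n (cmpK h h𝔉 n) (b • y) ∈ _
    rw [h2, h1]
    exact mem_B_smul h (rA f h.1 b) hx
  obtain ⟨c, hc⟩ := GradedML.exists_stab (Fq h 𝔉) A (shiftq h h𝔉 r hJ) (p + 1)
    (H := fun n => Coh.HH (𝔛.X 0) (Gq h 𝔉 n) (p + 1)) (fun n i => mapLin A (S.t n i) (p + 1))
    (fun n i j x => FFun.Gen.HH_comm S (p + 1) n i j x) hgen e he hA
  exact ⟨c, fun hka x m hm =>
    GradedML.exists_lift_of_stab (Fq h 𝔉) (isZero_Fq_zero h) (epi_Fq h h𝔉) hc hka x m hm⟩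

/-- Transition of the cohomology of the levels. -/
abbrev trH (p : ℕ) {k m : ℕ} (hkm : k ≤ m) : Sheaf.H (lvS h.1 𝔉 m) p →+ Sheaf.H (lvS h.1 𝔉 k) p :=
  Sheaf.H.map (GradedML.P (Fq h 𝔉) (Nat.succ_le_succ hkm)) p

lemma trH_succ (p k : ℕ) (x : Sheaf.H (lvS h.1 𝔉 (k + 1)) p) :
    Sheaf.H.map (lvT h.1 𝔉 k) p x = trH h (𝔉 := 𝔉) p (Nat.le_succ k) x :=
  (GradedML.map_congr' (P_Fq h (𝔉 := 𝔉) (k + 1)) p x).symm

include h𝔉 hf h𝔜 in
theorem stab_trH (p : ℕ) :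
    MLLim.Stab (fun k => Sheaf.H (lvS h.1 𝔉 k) p) (fun {_ _} hkm => trH h (𝔉 := 𝔉) p hkm) := by
  obtain ⟨c, hc⟩ := exists_lift h h𝔉 f hf h𝔜 p
  intro n
  refine ⟨n + c, fun a ha hN m hm x => ?_⟩
  obtain ⟨y, hy⟩ := hc (k := n + 1) (a := a + 1) (by omega) x (m + 1) (Nat.succ_le_succ hm)
  exact ⟨y, hy⟩

include h𝔉 hf h𝔜 in
theorem limOne_lvS_H (p : ℕ) :
    CohCx.LimOneIsZero (fun k => Sheaf.H (lvS h.1 𝔉 k) p) (fun k => Sheaf.H.map (lvT h.1 𝔉 k) p) := by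
  refine MLLim.limOne_of_stab (G := fun k => Sheaf.H (lvS h.1 𝔉 k) p)
    (fun {_ _} hkm => trH h (𝔉 := 𝔉) p hkm) (fun n x => ?_) (fun {i j m} hij hjm x => ?_)
    (stab_trH h h𝔉 f hf h𝔜 p) _ (fun k x => trH_succ h p k x)
  · exact map_P_self (Fq h 𝔉) (n + 1) p x
  · exact map_PP (Fq h 𝔉) (Nat.succ_le_succ hij) (Nat.succ_le_succ hjm) p x

include h𝔉 hf h𝔜 in
theorem isML_HF (n : ℕ) :
    ARSys.IsML (Functor.ofOpSequence
      (X := fun k => AddCommGrpCat.of (FSch.HF 𝔛 h.1 ((FSch.levelMor 𝔛 h.1 k).push.obj ((FSch.levelMor 𝔛 h.1 k).pull.obj 𝔉)) n))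
      (fun k => AddCommGrpCat.ofHom
        (Sheaf.H.map ((SheafOfModules.toSheaf _).map (FSch.levelTrans 𝔛 h.1 𝔉 k)) n))) := by
  refine MLLim.isML_of_stab _ fun k => ?_
  obtain ⟨N, hN⟩ := stab_trH h h𝔉 f hf h𝔜 n k
  let Ψ : ℕᵒᵖ ⥤ AddCommGrpCat.{u} := Functor.ofOpSequence
      (X := fun k => AddCommGrpCat.of (FSch.HF 𝔛 h.1 ((FSch.levelMor 𝔛 h.1 k).push.obj ((FSch.levelMor 𝔛 h.1 k).pull.obj 𝔉)) n))
      (fun k => AddCommGrpCat.ofHom (Sheaf.H.map ((SheafOfModules.toSheaf _).map (FSch.levelTrans 𝔛 h.1 𝔉 k)) n))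
  have key : ∀ {j m : ℕ} (hjm : j ≤ m) (x : Ψ.obj (op m)),
      (Ψ.map (homOfLE hjm).op).hom x = trH h (𝔉 := 𝔉) n hjm x := by
    intro j m hjm
    induction m, hjm using Nat.le_induction with
    | base =>
      intro x
      rw [show (homOfLE (le_refl j)).op = 𝟙 (op j) from Subsingleton.elim _ _, CategoryTheory.Functor.map_id]
      exact (map_P_self (Fq h 𝔉) (j + 1) n x).symm
    | succ m hjm ih =>
      intro x
      rw [show (homOfLE (hjm.trans (Nat.le_succ m))).op = (homOfLE (Nat.le_succ m)).op ≫ (homOfLE hjm).op from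
        Subsingleton.elim _ _, Functor.map_comp, AddCommGrpCat.hom_comp, AddMonoidHom.comp_apply, ih,
        show Ψ.map (homOfLE (Nat.le_succ m)).op = _ from Functor.ofOpSequence_map_homOfLE_succ _ m]
      refine (congrArg (trH h (𝔉 := 𝔉) n hjm) (trH_succ h n m x)).trans ?_
      exact map_PP (Fq h 𝔉) (Nat.succ_le_succ hjm) (Nat.succ_le_succ (Nat.le_succ m)) n x
  refine ⟨N, fun a ha hNa m hm x => ?_⟩
  obtain ⟨y, hy⟩ := hN a ha hNa m hm x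
  exact ⟨y, (key _ y).trans (hy.trans (key _ x).symm)⟩

end Groth.Agent.H26.FMod
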