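import Groth.Agent.H26.FMod.OpenTransfer
import Groth.Agent.H26.FMod.ProperML
import Groth.Agent.FComplLib.Restrict
import Groth.Agent.FComplLib.AffineSys
import Groth.Agent.H26.Edge.Lim

/-!
# A proper morphism of formal schemes over an affine open
-/

noncomputable section

set_option autoImplicit false
set_option maxHeartbeats 1000000
set_option linter.style.haveILetI false
set_option backward.isDefEq.respectTransparency false
set_option backward.isDefEq.respectTransparency.types false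

universe u

open CategoryTheory CategoryTheory.Limits TopologicalSpace Opposite AlgebraicGeometry

namespace Groth.Agent.H26.FMod.OpenTransfer

variable {𝔛 𝔜 : FSch.Sys.{u}} (h𝔛 : 𝔛.IsLocNoethFormal) (h𝔜 : 𝔜.IsLocNoethFormal) (f : 𝔛 ⟶ 𝔜)

/-- The inverse image of an open. -/
abbrev preU (U : (𝔜.X 0).Opens) : (𝔛.X 0).Opens :=
  (Opens.map ((f : FSch.Hom 𝔛 𝔜).app 0).base).obj U

lemma isProperHom_restrictOpen (hf : FSch.IsProperHom f) (U : (𝔜.X 0).Opens) :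
    FSch.IsProperHom (FSch.Hom.restrictOpen f h𝔛.1 h𝔜.1 U) := by
  refine ⟨fun n => ?_, ?_⟩
  · let V := preU f U
    have hc1 := congrArg (fun t : 𝔛.restrictOpen h𝔛.1 V ⟶ 𝔜 => (t : FSch.Hom _ _).app n)
      (FSch.Hom.restrictOpen_ι f h𝔛.1 h𝔜.1 U)
    have hc2 := congrArg (fun t : 𝔛.restrictOpen h𝔛.1 V ⟶ 𝔜 => (t : FSch.Hom _ _).app (n + 1))
      (FSch.Hom.restrictOpen_ι f h𝔛.1 h𝔜.1 U)
    refine IsPullback.of_bot ?_ ((FSch.Hom.restrictOpen f h𝔛.1 h𝔜.1 U : FSch.Hom _ _).comm n).symm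
      (FComplLib.isAdicHom_restrictOpenι 𝔜 h𝔜.1 U n)
    change (FSch.Hom.restrictOpen f h𝔛.1 h𝔜.1 U : FSch.Hom _ _).app n ≫ _ = (𝔛.restrictOpenι h𝔛.1 V : FSch.Hom _ _).app n ≫ _ at hc1
    change (FSch.Hom.restrictOpen f h𝔛.1 h𝔜.1 U : FSch.Hom _ _).app (n + 1) ≫ _ = (𝔛.restrictOpenι h𝔛.1 V : FSch.Hom _ _).app (n + 1) ≫ _ at hc2
    rw [hc1, hc2]
    exact (FComplLib.isAdicHom_restrictOpenι 𝔛 h𝔛.1 V n).paste_vert (hf.1 n)
  · exact MorphismProperty.of_isPullback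
      (FComplLib.isPullback_resLE ((f : FSch.Hom 𝔛 𝔜).app 0) (𝔜.lvU h𝔜.1 0 U)
        (𝔛.lvU h𝔛.1 0 (preU f U)) (FSch.Hom.lvU_preimage f h𝔛.1 h𝔜.1 0 U).ge
        (FSch.Hom.lvU_preimage f h𝔛.1 h𝔜.1 0 U).symm).flip hf.2

/-- Composing a proper morphism with an isomorphism of systems. -/
lemma isProperHom_comp_iso {𝔚 : FSch.Sys.{u}} {g : 𝔛 ⟶ 𝔜} (hg : FSch.IsProperHom g) (e : 𝔜 ≅ 𝔚) :
    FSch.IsProperHom (g ≫ e.hom) := by
  have hi : ∀ n, IsIso ((e.hom : FSch.Hom _ _).app n) := fun n =>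
    ⟨(e.inv : FSch.Hom _ _).app n,
      congrArg (fun t : 𝔜 ⟶ 𝔜 => (t : FSch.Hom _ _).app n) e.hom_inv_id,
      congrArg (fun t : 𝔚 ⟶ 𝔚 => (t : FSch.Hom _ _).app n) e.inv_hom_id⟩
  refine ⟨fun n => ?_, ?_⟩
  · haveI := hi n
    haveI := hi (n + 1)
    exact (hg.1 n).paste_vert (IsPullback.of_vert_isIso ⟨((e.hom : FSch.Hom _ _).comm n).symm⟩)
  · haveI := hi 0
    haveI : IsProper ((g : FSch.Hom 𝔛 𝔜).app 0) := hg.2
    show IsProper ((g : FSch.Hom 𝔛 𝔜).app 0 ≫ (e.hom : FSch.Hom _ _).app 0)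
    infer_instance

include h𝔜 in
/-- Over an affine open the source is proper over a formal spectrum. -/
lemma exists_proper_spf (hf : FSch.IsProperHom f) {U : (𝔜.X 0).Opens} (hU : IsAffineOpen U) :
    ∃ (A : Type u) (_ : CommRing A) (J : Ideal A) (g : sys h𝔛 (preU f U) ⟶ FSch.spf A J),
      IsNoetherianRing A ∧ J.FG ∧ FSch.IsProperHom g := by
  obtain ⟨hF, hA, hN⟩ := (S13342.result 𝔜 h𝔜.1 U).2.1 h𝔜
  haveI : IsAffine ((𝔜.restrictOpen h𝔜.1 U).X 0) :=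
    (isAffineOpen_lvU h𝔜.1 0 hU : IsAffineOpen (𝔜.lvU h𝔜.1 0 U))
  haveI := hN 0
  haveI := hN 1
  obtain ⟨A, _, J, hA', hJ, ⟨e⟩⟩ :=
    FComplLib.exists_iso_spf hF hA (FComplLib.locFG_of_isLocallyNoetherian _)
  exact ⟨A, inferInstance, J, FSch.Hom.restrictOpen f h𝔛.1 h𝔜.1 U ≫ e.hom, hA', IsNoetherian.noetherian J,
    isProperHom_comp_iso (isProperHom_restrictOpen h𝔛 h𝔜 f hf U) e⟩

variable (h : 𝔛.IsLocNoethFormal) (𝔉 : FSch.ModF 𝔛 h.1) (h𝔉 : FSch.IsCohF 𝔛 h.1 𝔉)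

/-- Transition of the cohomology over an open of the levels. -/
def trU (W : (𝔛.X 0).Opens) (p : ℕ) {k m : ℕ} (hkm : k ≤ m) :
    CohSite.HU (lvS h.1 𝔉 m) p W →+ CohSite.HU (lvS h.1 𝔉 k) p W :=
  (CategoryTheory.Abelian.Ext.mk₀ (GradedML.P (Fq h 𝔉) (Nat.succ_le_succ hkm))).postcomp _ (add_zero p)

lemma trU_self (W : (𝔛.X 0).Opens) (p k : ℕ) (x : CohSite.HU (lvS h.1 𝔉 k) p W) :
    trU h 𝔉 W p (le_refl k) x = x := by
  show CategoryTheory.Abelian.Ext.comp _ (CategoryTheory.Abelian.Ext.mk₀ (GradedML.P (Fq h 𝔉) (le_refl (k + 1)))) (add_zero p) = _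
  rw [GradedML.P_self, CategoryTheory.Abelian.Ext.comp_mk₀_id]

lemma trU_trU (W : (𝔛.X 0).Opens) (p : ℕ) {i j m : ℕ} (hij : i ≤ j) (hjm : j ≤ m)
    (x : CohSite.HU (lvS h.1 𝔉 m) p W) :
    trU h 𝔉 W p hij (trU h 𝔉 W p hjm x) = trU h 𝔉 W p (hij.trans hjm) x := by
  show CategoryTheory.Abelian.Ext.comp (CategoryTheory.Abelian.Ext.comp (x : CategoryTheory.Abelian.Ext _ _ p)
      (CategoryTheory.Abelian.Ext.mk₀ (GradedML.P (Fq h 𝔉) (Nat.succ_le_succ hjm))) (add_zero p))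
      (CategoryTheory.Abelian.Ext.mk₀ (GradedML.P (Fq h 𝔉) (Nat.succ_le_succ hij))) (add_zero p) =
    CategoryTheory.Abelian.Ext.comp (x : CategoryTheory.Abelian.Ext _ _ p)
      (CategoryTheory.Abelian.Ext.mk₀ (GradedML.P (Fq h 𝔉) (Nat.succ_le_succ (hij.trans hjm)))) (add_zero p)
  rw [CategoryTheory.Abelian.Ext.comp_assoc_of_third_deg_zero, CategoryTheory.Abelian.Ext.mk₀_comp_mk₀,
    GradedML.P_comp]

/-- One step. -/
abbrev tU (W : (𝔛.X 0).Opens) (p k : ℕ) : CohSite.HU (lvS h.1 𝔉 (k + 1)) p W →+ CohSite.HU (lvS h.1 𝔉 k) p W :=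
  (CategoryTheory.Abelian.Ext.mk₀ (lvT h.1 𝔉 k)).postcomp _ (add_zero p)

lemma tU_eq (W : (𝔛.X 0).Opens) (p k : ℕ) (x : CohSite.HU (lvS h.1 𝔉 (k + 1)) p W) :
    tU h 𝔉 W p k x = trU h 𝔉 W p (Nat.le_succ k) x := by
  show CategoryTheory.Abelian.Ext.comp (x : CategoryTheory.Abelian.Ext _ _ p)
      (CategoryTheory.Abelian.Ext.mk₀ (lvT h.1 𝔉 k)) (add_zero p) =
    CategoryTheory.Abelian.Ext.comp (x : CategoryTheory.Abelian.Ext _ _ p)
      (CategoryTheory.Abelian.Ext.mk₀ (GradedML.P (Fq h 𝔉) (Nat.succ_le_succ (Nat.le_succ k)))) (add_zero p)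
  exact congrArg (fun t : lvS h.1 𝔉 (k + 1) ⟶ lvS h.1 𝔉 k =>
    CategoryTheory.Abelian.Ext.comp (x : CategoryTheory.Abelian.Ext _ _ p) (CategoryTheory.Abelian.Ext.mk₀ t) (add_zero p))
    (P_Fq h (𝔉 := 𝔉) (k + 1)).symm

include h𝔉 in
lemma cmpH_trU (V : (𝔛.X 0).Opens) (p : ℕ) {k m : ℕ} (hkm : k ≤ m)
    (x : CohSite.HU (lvS h.1 𝔉 m) p (Edge.img (V0 h V) ⊤)) :
    cmpH h V 𝔉 p k (trU h 𝔉 _ p hkm x) =
      trH (hSys h V) (𝔉 := res' h V 𝔉) p hkm (cmpH h V 𝔉 p m x) := by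
  induction m, hkm using Nat.le_induction with
  | base => rw [trU_self]; exact (map_P_self (Fq (hSys h V) (res' h V 𝔉)) (k + 1) p _).symm
  | succ m hkm ih =>
    rw [← trU_trU h 𝔉 _ p hkm (Nat.le_succ m), ih, ← tU_eq]
    refine (congrArg (trH (hSys h V) (𝔉 := res' h V 𝔉) p hkm) ((cmpH_natural h V 𝔉 h𝔉 p m x).trans
      (trH_succ (hSys h V) p m _))).trans ?_
    exact map_PP (Fq (hSys h V) (res' h V 𝔉)) (Nat.succ_le_succ hkm) (Nat.succ_le_succ (Nat.le_succ m)) p _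

include h𝔉 in
lemma stab_trU_img (V : (𝔛.X 0).Opens) (p : ℕ)
    (hst : MLLim.Stab (fun k => Sheaf.H (lvS (hSys h V).1 (res' h V 𝔉) k) p)
      (fun {_ _} hkm => trH (hSys h V) (𝔉 := res' h V 𝔉) p hkm)) :
    MLLim.Stab (fun k => CohSite.HU (lvS h.1 𝔉 k) p (Edge.img (V0 h V) ⊤))
      (fun {_ _} hkm => trU h 𝔉 (Edge.img (V0 h V) ⊤) p hkm) := by
  intro n
  obtain ⟨N, hN⟩ := hst n
  refine ⟨N, fun a ha hNa m hm x => ?_⟩
  obtain ⟨y, hy⟩ := hN a ha hNa m hm (cmpH h V 𝔉 p a x)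
  obtain ⟨y', rfl⟩ := (bijective_cmpH h V 𝔉 p m).2 y
  exact ⟨y', (bijective_cmpH h V 𝔉 p n).1
    ((cmpH_trU h 𝔉 h𝔉 V p (ha.trans hm) y').trans (hy.trans (cmpH_trU h 𝔉 h𝔉 V p ha x).symm))⟩

include h𝔜 h𝔉 in
/-- Stability of the images over inverse images of affine opens. -/
theorem stab_trU (hf : FSch.IsProperHom f) {U : (𝔜.X 0).Opens} (hU : IsAffineOpen U) (p : ℕ) :
    MLLim.Stab (fun k => CohSite.HU (lvS h.1 𝔉 k) p (preU f U))
      (fun {_ _} hkm => trU h 𝔉 (preU f U) p hkm) := by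
  obtain ⟨A, _, J, g, _, hJ, hg⟩ := exists_proper_spf h h𝔜 f hf hU
  have key := stab_trU_img h 𝔉 h𝔉 (preU f U) p
    (stab_trH (hSys h (preU f U)) (isCohF_res h (preU f U) 𝔉 h𝔉) g hg hJ p)
  have e : Edge.img (V0 h (preU f U)) ⊤ = preU f U := (Edge.img_top _).trans (lvU_zero (preU f U))
  exact e ▸ key

include h𝔜 h𝔉 in
/-- No `lim¹` over inverse images of affine opens. -/
theorem limOne_HU (hf : FSch.IsProperHom f) {U : (𝔜.X 0).Opens} (hU : IsAffineOpen U) (p : ℕ) :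
    CohCx.LimOneIsZero (fun k => CohSite.HU (lvS h.1 𝔉 k) p (preU f U)) (tU h 𝔉 (preU f U) p) :=
  MLLim.limOne_of_stab (G := fun k => CohSite.HU (lvS h.1 𝔉 k) p (preU f U))
    (fun {_ _} hkm => trU h 𝔉 (preU f U) p hkm) (fun n x => trU_self h 𝔉 _ p n x)
    (fun {_ _ _} hij hjm x => trU_trU h 𝔉 _ p hij hjm x) (stab_trU h𝔜 f h 𝔉 h𝔉 hf hU p) _
    (fun k x => tU_eq h 𝔉 _ p k x)


/-- The map to the cohomology of a level. -/
abbrev uU (W : (𝔛.X 0).Opens) (p k : ℕ) : CohSite.HU ((Sh h.1).obj 𝔉) p W →+ CohSite.HU (lvS h.1 𝔉 k) p W :=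
  (CategoryTheory.Abelian.Ext.mk₀ ((Sh h.1).map ((FSch.levelMor 𝔛 h.1 k).adj.unit.app 𝔉))).postcomp _ (add_zero p)

include h𝔉 in
/-- Compatible classes over an open come from a class of the module. -/
theorem exists_HU_lift (W : (𝔛.X 0).Opens) (p : ℕ) (y : ∀ k, CohSite.HU (lvS h.1 𝔉 k) p W)
    (hy : ∀ k, tU h 𝔉 W p k (y (k + 1)) = y k) :
    ∃ x : CohSite.HU ((Sh h.1).obj 𝔉) p W, ∀ k, uU h 𝔉 W p k x = y k := by
  obtain ⟨e, he⟩ := exists_limit_iso h 𝔉 h𝔉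
  obtain ⟨x, hx⟩ := EdgeLim.exists_lift (lvS h.1 𝔉) (lvT h.1 𝔉) {U | IsAffineOpen (X := 𝔛.X 0) U}
    (DLim.isCoveredBy_of_isBasis (𝔛.X 0).isBasis_affineOpens)
    (fun U hU p k => subsingleton_HU_lvS h 𝔉 h𝔉 hU p k) (fun U hU => limOne_lvS h 𝔉 h𝔉 hU)
    (CohCx.freeSheaf (Opens.grothendieckTopology (𝔛.X 0)) W) p y hy
  refine ⟨x.comp (CategoryTheory.Abelian.Ext.mk₀ e.inv) (add_zero p), fun k => ?_⟩
  show CategoryTheory.Abelian.Ext.comp (CategoryTheory.Abelian.Ext.comp x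
      (CategoryTheory.Abelian.Ext.mk₀ e.inv) (add_zero p))
    (CategoryTheory.Abelian.Ext.mk₀ ((Sh h.1).map ((FSch.levelMor 𝔛 h.1 k).adj.unit.app 𝔉))) (add_zero p) = y k
  rw [CategoryTheory.Abelian.Ext.comp_assoc_of_third_deg_zero, CategoryTheory.Abelian.Ext.mk₀_comp_mk₀, ← he k,
    Iso.inv_hom_id_assoc]
  exact hx k

include h𝔉 in
/-- Classes over an open killed on all levels vanish, given the vanishing of `lim¹` one degree below. -/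
theorem HU_eq_zero (W : (𝔛.X 0).Opens) (p : ℕ)
    (hone : ∀ m, m + 1 = p → CohCx.LimOneIsZero (fun k => CohSite.HU (lvS h.1 𝔉 k) m W) (tU h 𝔉 W m))
    (x : CohSite.HU ((Sh h.1).obj 𝔉) p W) (hx : ∀ k, uU h 𝔉 W p k x = 0) : x = 0 := by
  obtain ⟨e, he⟩ := exists_limit_iso h 𝔉 h𝔉
  let x' := CategoryTheory.Abelian.Ext.comp (x : CategoryTheory.Abelian.Ext _ _ p)
    (CategoryTheory.Abelian.Ext.mk₀ e.hom) (add_zero p)
  have hz : ∀ k, x'.comp (CategoryTheory.Abelian.Ext.mk₀ (limit.π (CohCx.opSequence (lvS h.1 𝔉) (lvT h.1 𝔉)) (op k)))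
      (add_zero p) = 0 := fun k => by
    rw [CategoryTheory.Abelian.Ext.comp_assoc_of_third_deg_zero, CategoryTheory.Abelian.Ext.mk₀_comp_mk₀, he k]
    exact hx k
  have key : x' = 0 := by
    clear_value x'
    clear hx x
    match p, x', hz, hone with
    | 0, x', hz, _ => exact EdgeLim.eq_zero_zero _ _ _ x' hz
    | m + 1, x', hz, hone =>
      refine EdgeLim.eq_zero_succ (lvS h.1 𝔉) (lvT h.1 𝔉) {U | IsAffineOpen (X := 𝔛.X 0) U}
        (DLim.isCoveredBy_of_isBasis (𝔛.X 0).isBasis_affineOpens)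
        (fun U hU p k => subsingleton_HU_lvS h 𝔉 h𝔉 hU p k) (fun U hU => limOne_lvS h 𝔉 h𝔉 hU) _ m
        (fun b => ?_) x' hz
      obtain ⟨w, hw⟩ := hone m rfl b
      exact ⟨w, fun n => congrFun hw n⟩
  have h2 : CategoryTheory.Abelian.Ext.comp x' (CategoryTheory.Abelian.Ext.mk₀ e.inv) (add_zero p) = x := by
    show CategoryTheory.Abelian.Ext.comp (CategoryTheory.Abelian.Ext.comp (x : CategoryTheory.Abelian.Ext _ _ p)
      (CategoryTheory.Abelian.Ext.mk₀ e.hom) (add_zero p)) _ _ = _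
    rw [CategoryTheory.Abelian.Ext.comp_assoc_of_third_deg_zero, CategoryTheory.Abelian.Ext.mk₀_comp_mk₀,
      Iso.hom_inv_id, CategoryTheory.Abelian.Ext.comp_mk₀_id]
  rw [← h2, key, CategoryTheory.Abelian.Ext.zero_comp]

end Groth.Agent.H26.FMod.OpenTransfer
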