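import Groth.Agent.H26.FMod.OpenProper
import Groth.Agent.H26.Edge.RpushMod

/-!
# Restriction of modules to an open of a formal scheme
-/

noncomputable section

set_option autoImplicit false
set_option maxHeartbeats 1000000
set_option linter.style.haveILetI false
set_option backward.isDefEq.respectTransparency false
set_option backward.isDefEq.respectTransparency.types false

universe u

open CategoryTheory CategoryTheory.Limits TopologicalSpace Opposite AlgebraicGeometry
open Groth.Agent.ModTensor Groth.Agent.ModPull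

namespace Groth.Agent.H26.FMod.OpenRes

open OpenTransfer

variable {𝔛 : FSch.Sys.{u}} (h : 𝔛.IsLocNoethFormal) (V : (𝔛.X 0).Opens)

/-- The inclusion on spaces. -/
abbrev j0 : (sys h V).X 0 ⟶ 𝔛.X 0 := (inc h V : FSch.Hom _ _).app 0

/-- Images of opens. -/
abbrev imgF : Opens ((sys h V).X 0) ⥤ Opens (𝔛.X 0) := (V0 h V).isOpenEmbedding.isOpenMap.functor

/-- The structure map of the inclusion. -/
abbrev shp : 𝔛.Osh h.1 ⟶ (TopCat.Sheaf.pushforward CommRingCat.{u} (j0 h V).base).obj ((sys h V).Osh (hSys h V).1) :=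
  FSch.Hom.sharp (inc h V) (hSys h V).1 h.1

lemma img_le (W : Opens ((sys h V).X 0)) : (imgF h V).obj W ≤ V := by
  rintro _ ⟨y, -, rfl⟩
  exact (lvU_zero (hF := h.1) V).le y.2

lemma pre_img (W : Opens ((sys h V).X 0)) : (Opens.map (j0 h V).base).obj ((imgF h V).obj W) = W :=
  Opens.ext (Set.preimage_image_eq _ Subtype.val_injective)

/-- Bijectivity checked on the levels of two inverse limits. -/
lemma bijective_of_levels {R R' : Type*} {L L' : ℕ → Type*} [CommRing R] [CommRing R']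
    [∀ n, CommRing (L n)] [∀ n, CommRing (L' n)]
    (p : ∀ n, R →+* L n) (t : ∀ n, L (n + 1) →+* L n) (hext : ∀ x y, (∀ n, p n x = p n y) → x = y)
    (hlift : ∀ y : ∀ n, L n, (∀ n, t n (y (n + 1)) = y n) → ∃ x, ∀ n, p n x = y n)
    (p' : ∀ n, R' →+* L' n) (t' : ∀ n, L' (n + 1) →+* L' n) (hp' : ∀ n x, t' n (p' (n + 1) x) = p' n x)
    (hext' : ∀ x y, (∀ n, p' n x = p' n y) → x = y)
    (a : ∀ n, L n →+* L' n) (ha : ∀ n, Function.Bijective (a n))
    (hat : ∀ n y, a n (t n y) = t' n (a (n + 1) y))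
    (φ : R →+* R') (hφ : ∀ n x, p' n (φ x) = a n (p n x)) : Function.Bijective φ := by
  refine ⟨fun x y hxy => hext x y fun k => (ha k).1 (by rw [← hφ, ← hφ, hxy]), fun z => ?_⟩
  choose y hy using fun k => (ha k).2 (p' k z)
  obtain ⟨x, hx⟩ := hlift y fun k => (ha k).1 (by rw [hat, hy, hy, hp'])
  exact ⟨x, hext' _ _ fun k => by rw [hφ, hx, hy]⟩

lemma bijective_shp {W : (𝔛.X 0).Opens} (hW : W ≤ V) :
    Function.Bijective ((shp h V).hom.app (op W)).hom := by
  have hl : ∀ k (x : Rg h.1 W), pr (hSys h V).1 k ((Opens.map (j0 h V).base).obj W) (((shp h V).hom.app (op W)).hom x) =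
      ((FSch.Hom.levelPush (inc h V) (hSys h V).1 h.1 k).hom.app (op W)).hom (pr h.1 k W x) := fun k x =>
    congrArg (fun t => t.hom.app (op W) x) (FSch.Hom.sharp_proj (inc h V) (hSys h V).1 h.1 k)
  have hb : ∀ k, Function.Bijective ((FSch.Hom.levelPush (inc h V) (hSys h V).1 h.1 k).hom.app (op W)).hom := fun k => by
    haveI : IsIso ((FSch.Hom.levelPush (inc h V) (hSys h V).1 h.1 k).hom.app (op W)) := by
      rw [FSch.Hom.levelPush_app]
      haveI : IsOpenImmersion ((inc h V : FSch.Hom _ _).app k) := inferInstanceAs (IsOpenImmersion (𝔛.lvU h.1 k V).ι)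
      have hr : 𝔛.lvU h.1 k W ≤ ((inc h V : FSch.Hom _ _).app k).opensRange := by
        show 𝔛.lvU h.1 k W ≤ (𝔛.lvU h.1 k V).ι.opensRange
        rw [Scheme.Opens.opensRange_ι]
        exact ((Opens.map (𝔛.gInv h.1 k)).map (homOfLE hW)).le
      haveI := ((inc h V : FSch.Hom _ _).app k).isIso_app (𝔛.lvU h.1 k W) hr
      rw [Scheme.Hom.appLE, show (homOfLE _).op = (eqToHom (FSch.Hom.lvU_preimage (inc h V) (hSys h V).1 h.1 k W).symm).op
        from Subsingleton.elim _ _]
      infer_instance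
    exact ConcreteCategory.bijective_of_isIso _
  exact bijective_of_levels (fun k => pr h.1 k W) (fun k => tr h.1 k W)
    (fun x y e => pr_ext W e) (fun y e => pr_lift W y e)
    (fun k => pr (hSys h V).1 k ((Opens.map (j0 h V).base).obj W))
    (fun k => tr (hSys h V).1 k ((Opens.map (j0 h V).base).obj W))
    (fun k x => tr_pr k _ x) (fun x y e => pr_ext _ e)
    (fun k => ((FSch.Hom.levelPush (inc h V) (hSys h V).1 h.1 k).hom.app (op W)).hom) hb
    (fun k y => congrArg (fun t : 𝔛.levelObj h.1 (k + 1) ⟶ (TopCat.Sheaf.pushforward CommRingCat.{u} (j0 h V).base).obj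
        ((sys h V).levelObj (hSys h V).1 k) => (t.hom.app (op W)).hom y)
      (FSch.Hom.levelMap_levelPush (inc h V) (hSys h V).1 h.1 k))
    ((shp h V).hom.app (op W)).hom hl

instance : (imgF h V).IsContinuous (Opens.grothendieckTopology ((sys h V).X 0)) (Opens.grothendieckTopology (𝔛.X 0)) :=
  Topology.IsOpenEmbedding.functor_isContinuous (f := (V0 h V).inclusion') (V0 h V).isOpenEmbedding

/-- Sections over the image give sections of the induced system. -/
def cSh : ((imgF h V).sheafPushforwardContinuous CommRingCat.{u} (Opens.grothendieckTopology ((sys h V).X 0))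
    (Opens.grothendieckTopology (𝔛.X 0))).obj (𝔛.Osh h.1) ⟶ (sys h V).Osh (hSys h V).1 :=
  ⟨{ app := fun W => (shp h V).hom.app (op ((imgF h V).obj W.unop)) ≫
        ((sys h V).Osh (hSys h V).1).obj.map (eqToHom (pre_img h V W.unop).symm).op
     naturality := fun W W' i => by
       have n1 := (shp h V).hom.naturality ((imgF h V).map i.unop).op
       rw [Category.assoc]
       refine ((Category.assoc _ _ _).symm.trans ((congrArg (· ≫ _) n1).trans (Category.assoc _ _ _))).trans ?_
       refine congrArg (_ ≫ ·) ?_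
       refine ((((sys h V).Osh (hSys h V).1).obj.map_comp _ _).symm.trans
         ((congrArg ((sys h V).Osh (hSys h V).1).obj.map (Subsingleton.elim _ _)).trans
           (((sys h V).Osh (hSys h V).1).obj.map_comp _ _))) }⟩

lemma isIso_cSh : IsIso (cSh h V) := by
  haveI : ∀ W, IsIso (((sheafToPresheaf _ _).map (cSh h V)).app W) := fun W => by
    haveI : IsIso ((shp h V).hom.app (op ((imgF h V).obj W.unop))) :=
      (ConcreteCategory.isIso_iff_bijective _).2 (bijective_shp h V (img_le h V W.unop))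
    exact inferInstanceAs (IsIso ((shp h V).hom.app (op ((imgF h V).obj W.unop)) ≫
      ((sys h V).Osh (hSys h V).1).obj.map (eqToHom (pre_img h V W.unop).symm).op))
  haveI := NatIso.isIso_of_isIso_app ((sheafToPresheaf _ _).map (cSh h V))
  exact isIso_of_reflects_iso _ (sheafToPresheaf _ _)

/-- The structure map of restriction. -/
def phi : (sys h V).Osh (hSys h V).1 ⟶ ((imgF h V).sheafPushforwardContinuous CommRingCat.{u}
    (Opens.grothendieckTopology ((sys h V).X 0)) (Opens.grothendieckTopology (𝔛.X 0))).obj (𝔛.Osh h.1) :=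
  haveI := isIso_cSh h V
  inv (cSh h V)

/-- The structure map of restriction, on rings. -/
abbrev phiR : ModSite.ringSh ((sys h V).Osh (hSys h V).1) ⟶ ((imgF h V).sheafPushforwardContinuous RingCat.{u}
    (Opens.grothendieckTopology ((sys h V).X 0)) (Opens.grothendieckTopology (𝔛.X 0))).obj (ModSite.ringSh (𝔛.Osh h.1)) :=
  (sheafCompose _ (forget₂ CommRingCat.{u} RingCat.{u})).map (phi h V)

/-- Restriction of modules. -/
abbrev res : FSch.ModF 𝔛 h.1 ⥤ FSch.ModF (sys h V) (hSys h V).1 :=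
  SheafOfModules.pushforward.{u} (phiR h V)

lemma map_map_self {C : Type*} [Category C] [Quiver.IsThin Cᵒᵖ] (F : Cᵒᵖ ⥤ CommRingCat.{u}) {A B : Cᵒᵖ}
    (a : A ⟶ B) (b : B ⟶ A) (y : F.obj A) : (F.map b).hom ((F.map a).hom y) = y := by
  refine (congrArg (fun t => t.hom y) (F.map_comp a b)).symm.trans ?_
  rw [Subsingleton.elim (a ≫ b) (𝟙 A), F.map_id]
  rfl

lemma adj_h1 (U : (𝔛.X 0).Opens) (e : (imgF h V).obj ((Opens.map (j0 h V).base).obj U) ⟶ U)
    (x : (𝔛.Osh h.1).obj.obj (op U)) :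
    (𝔛.Osh h.1).obj.map e.op x =
      ((phi h V).hom.app (op ((Opens.map (j0 h V).base).obj U))).hom (((shp h V).hom.app (op U)).hom x) := by
  haveI := isIso_cSh h V
  have h2 : ∀ z, ((phi h V).hom.app (op ((Opens.map (j0 h V).base).obj U))).hom
      (((cSh h V).hom.app (op ((Opens.map (j0 h V).base).obj U))).hom z) = z := fun z =>
    congrArg (fun t => t.hom.app (op ((Opens.map (j0 h V).base).obj U)) z) (IsIso.hom_inv_id (cSh h V))
  refine (h2 _).symm.trans (congrArg _ ?_)
  refine (congrArg (((sys h V).Osh (hSys h V).1).obj.map (eqToHom (pre_img h V _).symm).op).hom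
    (congrArg (fun t => t.hom x) ((shp h V).hom.naturality e.op))).trans ?_
  exact map_map_self ((sys h V).Osh (hSys h V).1).obj _ _ _

lemma adj_h2 (W : Opens ((sys h V).X 0)) (e : W ⟶ (Opens.map (j0 h V).base).obj ((imgF h V).obj W))
    (x : ((sys h V).Osh (hSys h V).1).obj.obj (op W)) :
    ((sys h V).Osh (hSys h V).1).obj.map e.op
      (((shp h V).hom.app (op ((imgF h V).obj W))).hom (((phi h V).hom.app (op W)).hom x)) = x := by
  haveI := isIso_cSh h V
  refine Eq.trans ?_ (congrArg (fun t => t.hom.app (op W) x) (IsIso.inv_hom_id (cSh h V)))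
  exact congrArg (fun t => (((sys h V).Osh (hSys h V).1).obj.map t).hom
    (((shp h V).hom.app (op ((imgF h V).obj W))).hom (((phi h V).hom.app (op W)).hom x))) (Subsingleton.elim _ _)

/-- Restriction is left adjoint to the direct image. -/
def resAdj : res h V ⊣ FSch.pushF (inc h V) (hSys h V).1 h.1 :=
  SheafOfModules.pushforwardPushforwardAdj
    (show imgF h V ⊣ Opens.map (j0 h V).base from (V0 h V).isOpenEmbedding.isOpenMap.adjunction) (phiR h V)
    (FSch.homMor (inc h V) (hSys h V).1 h.1).sharpR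
    (by ext U x; exact adj_h1 h V U.unop _ x)
    (by ext W x; exact adj_h2 h V W.unop _ x)

/-- Underlying abelian sheaves of restrictions. -/
def resShIso : res h V ⋙ Sh (hSys h V).1 ≅ Sh h.1 ⋙ Edge.R (V0 h V) :=
  NatIso.ofComponents (fun _ => Iso.refl _) fun _ => (Category.comp_id _).trans (Category.id_comp _).symm

lemma preservesFiniteLimits_res : PreservesFiniteLimits (res h V) := by
  haveI := Edge.preservesFiniteLimits_R (V0 h V)
  haveI : PreservesFiniteLimits (res h V ⋙ Sh (hSys h V).1) :=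
    preservesFiniteLimits_of_natIso (resShIso h V).symm
  exact preservesFiniteLimits_of_reflects_of_preserves (res h V) (Sh (hSys h V).1)

lemma preservesFiniteColimits_res : PreservesFiniteColimits (res h V) :=
  haveI : PreservesColimitsOfSize.{0, 0} (res h V) := (resAdj h V).leftAdjoint_preservesColimits
  PreservesColimitsOfSize.preservesFiniteColimits (res h V)

/-- Restriction is inverse image. -/
def resPullIso : res h V ≅ FSch.pullF (inc h V) (hSys h V).1 h.1 :=
  (resAdj h V).leftAdjointUniq (FSch.homMor (inc h V) (hSys h V).1 h.1).adj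

lemma isIso_unit (M : FSch.ModF 𝔛 h.1) {W : (𝔛.X 0).Opens} (hW : W ≤ V) :
    IsIso (((Sh h.1).map ((resAdj h V).unit.app M)).hom.app (op W)) := by
  have e : (imgF h V).obj ((Opens.map (j0 h V).base).obj W) = W := by
    refine Opens.ext (Set.image_preimage_eq_of_subset fun x hx => ?_)
    exact ⟨⟨x, (lvU_zero (hF := h.1) V).ge (hW hx)⟩, rfl⟩
  show IsIso (((Sh h.1).obj M).obj.map (((V0 h V).isOpenEmbedding.isOpenMap.adjunction).counit.app W).op)
  rw [show (((V0 h V).isOpenEmbedding.isOpenMap.adjunction).counit.app W) = eqToHom e from Subsingleton.elim _ _]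
  infer_instance

lemma isIso_counit : IsIso (resAdj h V).counit := by
  haveI : ∀ N, IsIso ((resAdj h V).counit.app N) := fun N => by
    haveI : ∀ W, IsIso (((Sh (hSys h V).1).map ((resAdj h V).counit.app N)).hom.app W) := fun W => by
      show IsIso (((Sh (hSys h V).1).obj N).obj.map
        (((V0 h V).isOpenEmbedding.isOpenMap.adjunction).unit.app W.unop).op)
      rw [show (((V0 h V).isOpenEmbedding.isOpenMap.adjunction).unit.app W.unop) =
        eqToHom (pre_img h V W.unop).symm from Subsingleton.elim _ _]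
      infer_instance
    haveI : IsIso ((Sh (hSys h V).1 ⋙ sheafToPresheaf _ _).map ((resAdj h V).counit.app N)) :=
      @NatIso.isIso_of_isIso_app _ _ _ _ _ _ _ (fun W => this W)
    exact isIso_of_reflects_iso _ (Sh (hSys h V).1 ⋙ sheafToPresheaf _ _)
  exact NatIso.isIso_of_isIso_app _

section BaseChange

lemma bc_natural {A A' B B' : Type*} [Category A] [Category A'] [Category B] [Category B']
    {L : A ⥤ A'} {R : A' ⥤ A} (a : L ⊣ R) {L' : B ⥤ B'} {R' : B' ⥤ B} (b : L' ⊣ R') (F : A ⥤ B) (F' : A' ⥤ B')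
    (σ : R ⋙ F ⟶ F' ⋙ R') {M M' : A} (φ : M ⟶ M') :
    L'.map (F.map φ) ≫ L'.map (F.map (a.unit.app M') ≫ σ.app (L.obj M')) ≫ b.counit.app (F'.obj (L.obj M')) =
      (L'.map (F.map (a.unit.app M) ≫ σ.app (L.obj M)) ≫ b.counit.app (F'.obj (L.obj M))) ≫ F'.map (L.map φ) := by
  rw [Category.assoc, ← b.counit_naturality (F'.map (L.map φ)), ← L'.map_comp_assoc, ← L'.map_comp_assoc]
  congr 2
  rw [← F.map_comp_assoc, ← a.unit_naturality, F.map_comp, Category.assoc, Category.assoc]
  exact congrArg (_ ≫ ·) (σ.naturality (L.map φ))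

variable {𝔜 : FSch.Sys.{u}} (h𝔜 : 𝔜.IsLocNoethFormal) (f : 𝔛 ⟶ 𝔜) (U : (𝔜.X 0).Opens)

/-- The restricted morphism. -/
abbrev fU : sys h (preU f U) ⟶ sys h𝔜 U := FSch.Hom.restrictOpen f h.1 h𝔜.1 U

/-- The two ways of pushing forward. -/
abbrev sqU : FSch.pushF (inc h (preU f U)) (hSys h (preU f U)).1 h.1 ⋙ FSch.pushF f h.1 h𝔜.1 ≅
    FSch.pushF (fU h h𝔜 f U) (hSys h (preU f U)).1 (hSys h𝔜 U).1 ⋙ FSch.pushF (inc h𝔜 U) (hSys h𝔜 U).1 h𝔜.1 :=
  FSch.pushSq (inc h (preU f U)) f (fU h h𝔜 f U) (inc h𝔜 U) (FSch.Hom.restrictOpen_ι f h.1 h𝔜.1 U).symm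
    (hSys h (preU f U)).1 h.1 (hSys h𝔜 U).1 h𝔜.1

/-- Base change to the open. -/
def bc : FSch.pushF f h.1 h𝔜.1 ⋙ res h𝔜 U ⟶
    res h (preU f U) ⋙ FSch.pushF (fU h h𝔜 f U) (hSys h (preU f U)).1 (hSys h𝔜 U).1 where
  app M := (res h𝔜 U).map ((FSch.pushF f h.1 h𝔜.1).map ((resAdj h (preU f U)).unit.app M) ≫
      (sqU h h𝔜 f U).hom.app ((res h (preU f U)).obj M)) ≫
    (resAdj h𝔜 U).counit.app _
  naturality M M' φ := bc_natural (resAdj h (preU f U)) (resAdj h𝔜 U) (FSch.pushF f h.1 h𝔜.1)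
    (FSch.pushF (fU h h𝔜 f U) (hSys h (preU f U)).1 (hSys h𝔜 U).1) (sqU h h𝔜 f U).hom φ

lemma isIso_bc : IsIso (bc h h𝔜 f U) := by
  haveI := isIso_counit h𝔜 U
  haveI : ∀ M, IsIso ((bc h h𝔜 f U).app M) := fun M => by
    haveI : IsIso ((res h𝔜 U).map ((FSch.pushF f h.1 h𝔜.1).map ((resAdj h (preU f U)).unit.app M))) := by
      let F := Sh (hSys h𝔜 U).1 ⋙ sheafToPresheaf _ AddCommGrpCat.{u}
      haveI : ∀ W, IsIso ((F.map ((res h𝔜 U).map ((FSch.pushF f h.1 h𝔜.1).map
          ((resAdj h (preU f U)).unit.app M)))).app W) := fun W => by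
        exact isIso_unit h (preU f U) M
          (W := (Opens.map ((f : FSch.Hom 𝔛 𝔜).app 0).base).obj ((imgF h𝔜 U).obj W.unop))
          ((Opens.map ((f : FSch.Hom 𝔛 𝔜).app 0).base).map (homOfLE (img_le h𝔜 U W.unop))).le
      haveI := @NatIso.isIso_of_isIso_app _ _ _ _ _ _ (F.map ((res h𝔜 U).map ((FSch.pushF f h.1 h𝔜.1).map
          ((resAdj h (preU f U)).unit.app M)))) (fun W => this W)
      exact isIso_of_reflects_iso _ F
    show IsIso ((res h𝔜 U).map (_ ≫ _) ≫ _)
    rw [Functor.map_comp]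
    infer_instance
  exact NatIso.isIso_of_isIso_app _

lemma totallyAcyclic_res [HasInjectiveResolutions (FSch.ModF 𝔛 h.1)] (Q : FSch.ModF 𝔛 h.1) [Injective Q]
    (W : Opens ((sys h V).X 0)) (i : ℕ) :
    Subsingleton (CohSite.HU ((Sh (hSys h V).1).obj ((res h V).obj Q)) (i + 1) W) := by
  haveI := SiteBase.subsingleton_HU_of_totallyAcyclic
    (SiteBase.isTotallyAcyclic_toSheaf_injective (ModSite.ringSh (𝔛.Osh h.1)) Q) (Edge.img (V0 h V) W) i
  exact (Edge.bijective_restrHW (V0 h V) W ((Sh h.1).obj Q) (i + 1)).2.subsingleton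

variable [HasInjectiveResolutions (FSch.ModF 𝔛 h.1)]

include h h𝔜 in
/-- Higher direct images commute with restriction to an open. -/
theorem nonempty_rpush_res [HasInjectiveResolutions (FSch.ModF (sys h (preU f U)) (hSys h (preU f U)).1)] (q : ℕ) :
    Nonempty (FSch.RpushF f h.1 h𝔜.1 q ⋙ res h𝔜 U ≅
      res h (preU f U) ⋙ FSch.RpushF (fU h h𝔜 f U) (hSys h (preU f U)).1 (hSys h𝔜 U).1 q) := by
  haveI := SpObjSS.enoughInjectives_of_hasInjectiveResolutions (C := FSch.ModF 𝔛 h.1)
  haveI := SpObjSS.enoughInjectives_of_hasInjectiveResolutions (C := FSch.ModF (sys h (preU f U)) (hSys h (preU f U)).1)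
  haveI := preservesFiniteLimits_res h𝔜 U
  haveI := preservesFiniteColimits_res h𝔜 U
  haveI := preservesFiniteLimits_res h (preU f U)
  haveI := preservesFiniteColimits_res h (preU f U)
  haveI := isIso_bc h h𝔜 f U
  haveI : (res h (preU f U)).Additive := Functor.additive_of_preserves_binary_products _
  haveI : (res h𝔜 U).Additive := Functor.additive_of_preserves_binary_products _
  let G := FSch.pushF (fU h h𝔜 f U) (hSys h (preU f U)).1 (hSys h𝔜 U).1
  obtain ⟨e⟩ := SiteBase.nonempty_rightDerived_precomp_of_acyclic (res h (preU f U)) G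
    (fun Q hQ i => by
      obtain ⟨eY⟩ := Edge.nonempty_rpush_toSheaf (FSch.homMor (fU h h𝔜 f U) (hSys h (preU f U)).1 (hSys h𝔜 U).1) (i + 1)
      have z := SiteBase.isZero_rpush_of_subsingleton (Opens.grothendieckTopology ((sys h (preU f U)).X 0))
        (Opens.grothendieckTopology ((sys h𝔜 U).X 0)) (Opens.map ((fU h h𝔜 f U : FSch.Hom _ _).app 0).base) (i + 1)
        ((Sh (hSys h (preU f U)).1).obj ((res h (preU f U)).obj Q))
        (fun W => haveI := hQ; totallyAcyclic_res h (preU f U) Q _ i)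
      have z' := z.of_iso (eY.app ((res h (preU f U)).obj Q))
      rw [IsZero.iff_id_eq_zero] at z' ⊢
      exact (Sh (hSys h𝔜 U).1).map_injective (((Sh (hSys h𝔜 U).1).map_id _).trans (z'.trans ((Sh (hSys h𝔜 U).1).map_zero _ _).symm))) q
  exact ⟨(SiteBase.rightDerivedCompIso (FSch.pushF f h.1 h𝔜.1) (res h𝔜 U) q).symm ≪≫
    SiteBase.rightDerivedCongr (asIso (bc h h𝔜 f U)) q ≪≫ e⟩

end BaseChange

end Groth.Agent.H26.FMod.OpenRes
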