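import Groth.Agent.H26.FMod.PullSys
import Groth.Agent.H26.FMod.GradedPieces
import Groth.Agent.H26.FMod.HFLim
import Groth.Agent.H26.Edge.Restr
import Groth.Agent.S13342

/-!
# The levels over an open are the levels of the induced system
-/

noncomputable section

set_option autoImplicit false
set_option maxHeartbeats 1000000
set_option linter.style.haveILetI false
set_option backward.isDefEq.respectTransparency false
set_option backward.isDefEq.respectTransparency.types false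

universe u

open CategoryTheory CategoryTheory.Limits TopologicalSpace Opposite AlgebraicGeometry
open Groth.Agent.ModTensor Groth.Agent.ModPull

namespace Groth.Agent.H26.FMod.OpenTransfer

section Gen

/-- The comparison across a square of adjunctions. -/
lemma sq_unit_gen {OB OA OC OD : Type*} [Category OB] [Category OA] [Category OC] [Category OD]
    {bL : OD ⥤ OB} {bR : OB ⥤ OD} (b : bL ⊣ bR) {aL : OB ⥤ OA} {aR : OA ⥤ OB} (a : aL ⊣ aR)
    {dL : OD ⥤ OC} {dR : OC ⥤ OD} (d : dL ⊣ dR) {cL : OC ⥤ OA} {cR : OA ⥤ OC} (c : cL ⊣ cR)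
    (π : aR ⋙ bR ≅ cR ⋙ dR) (F : OD) :
    d.unit.app F ≫ dR.map (c.unit.app (dL.obj F) ≫
        cR.map (((conjugateIsoEquiv (b.comp a) (d.comp c)).symm π).hom.app F)) ≫ π.inv.app (aL.obj (bL.obj F)) =
      b.unit.app F ≫ bR.map (a.unit.app (bL.obj F)) := by
  let σ := (conjugateIsoEquiv (b.comp a) (d.comp c)).symm π
  have e := unit_conjugateEquiv_symm (b.comp a) (d.comp c) π.hom F
  rw [Adjunction.comp_unit_app, Adjunction.comp_unit_app] at e
  simp only [Functor.comp_map, Functor.comp_obj, Category.assoc] at e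
  have e2 : d.unit.app F ≫ dR.map (c.unit.app (dL.obj F) ≫ cR.map (σ.hom.app F)) =
      b.unit.app F ≫ bR.map (a.unit.app (bL.obj F)) ≫ π.hom.app (aL.obj (bL.obj F)) := by
    rw [Functor.map_comp]
    exact e.symm
  rw [← Category.assoc, e2, Category.assoc, Category.assoc, Iso.hom_inv_id_app]
  exact congrArg (_ ≫ ·) (Category.comp_id _)

end Gen

variable {𝔛 : FSch.Sys.{u}} (h : 𝔛.IsLocNoethFormal) (V : (𝔛.X 0).Opens) (𝔉 : FSch.ModF 𝔛 h.1)
  (h𝔉 : FSch.IsCohF 𝔛 h.1 𝔉)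

/-- The induced system. -/
abbrev sys : FSch.Sys.{u} := 𝔛.restrictOpen h.1 V

include h in
lemma hSys : (sys h V).IsLocNoethFormal := (S13342.result 𝔛 h.1 V).2.1 h

/-- The inclusion. -/
abbrev inc : sys h V ⟶ 𝔛 := 𝔛.restrictOpenι h.1 V

/-- The module on the induced system. -/
abbrev res' : FSch.ModF (sys h V) (hSys h V).1 := (FSch.pullF (inc h V) (hSys h V).1 h.1).obj 𝔉

include h𝔉 in
lemma isCohF_res : FSch.IsCohF (sys h V) (hSys h V).1 (res' h V 𝔉) :=
  haveI := h𝔉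
  PullQc.isFinitePresentation_pull (FSch.homMor (inc h V) (hSys h V).1 h.1) 𝔉

/-- The restriction maps of the levels. -/
def theta (k : ℕ) : lvl k 𝔉 ⟶ (FSch.pushF (inc h V) (hSys h V).1 h.1).obj (lvl k (res' h V 𝔉)) :=
  (FSch.levelMor 𝔛 h.1 k).push.map
      ((ModSite.RMor.ofScheme ((inc h V : FSch.Hom _ _).app k)).adj.unit.app (pullK k 𝔉) ≫
        (ModSite.RMor.ofScheme ((inc h V : FSch.Hom _ _).app k)).push.map
          ((FSch.lvPullSq (inc h V) (hSys h V).1 h.1 k).hom.app 𝔉)) ≫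
    (FSch.lvPushSq (inc h V) (hSys h V).1 h.1 k).inv.app (pullK k (res' h V 𝔉))

lemma toLvl_theta (k : ℕ) :
    toLvl k 𝔉 ≫ theta h V 𝔉 k = (FSch.homMor (inc h V) (hSys h V).1 h.1).adj.unit.app 𝔉 ≫
      (FSch.pushF (inc h V) (hSys h V).1 h.1).map (toLvl k (res' h V 𝔉)) :=
  sq_unit_gen (FSch.homMor (inc h V) (hSys h V).1 h.1).adj (FSch.levelMor (sys h V) (hSys h V).1 k).adj
    (FSch.levelMor 𝔛 h.1 k).adj (ModSite.RMor.ofScheme ((inc h V : FSch.Hom _ _).app k)).adj
    (FSch.lvPushSq (inc h V) (hSys h V).1 h.1 k) 𝔉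

include h𝔉 in
lemma theta_trans (k : ℕ) :
    theta h V 𝔉 (k + 1) ≫ (FSch.pushF (inc h V) (hSys h V).1 h.1).map
        (FSch.levelTrans (sys h V) (hSys h V).1 (res' h V 𝔉) k) =
      FSch.levelTrans 𝔛 h.1 𝔉 k ≫ theta h V 𝔉 k := by
  haveI := epi_toLvl h h𝔉 (k + 1)
  rw [← cancel_epi (toLvl (k + 1) 𝔉)]
  refine ((Category.assoc _ _ _).symm.trans ((congrArg (· ≫ _) (toLvl_theta h V 𝔉 (k + 1))).trans ?_))
  refine ((Category.assoc _ _ _).trans (congrArg (_ ≫ ·) ((Functor.map_comp _ _ _).symm.trans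
    (congrArg (FSch.pushF (inc h V) (hSys h V).1 h.1).map (FSch.unit_levelTrans (sys h V) (hSys h V).1 (res' h V 𝔉) k))))).trans ?_
  refine (toLvl_theta h V 𝔉 k).symm.trans ?_
  exact ((congrArg (· ≫ theta h V 𝔉 k) (FSch.unit_levelTrans 𝔛 h.1 𝔉 k)).symm.trans (Category.assoc _ _ _))

lemma isIso_unit_app {X Y : Scheme.{u}} (f : X ⟶ Y) [IsOpenImmersion f] (M : Y.Modules) {W : Y.Opens}
    (hW : W ≤ f.opensRange) : IsIso (Scheme.Modules.Hom.app (M := M)
      (N := (Scheme.Modules.pushforward f).obj ((ModSite.RMor.ofScheme f).pull.obj M))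
      ((ModSite.RMor.ofScheme f).adj.unit.app M) W) := by
  let adj' := (ModSite.RMor.ofScheme f).adj
  have e := Adjunction.unit_leftAdjointUniq_hom_app (Scheme.Modules.restrictAdjunction f) adj' M
  rw [show adj'.unit.app M = _ from e.symm, Scheme.Modules.Hom.comp_app]
  haveI : IsIso (((Scheme.Modules.restrictAdjunction f).unit.app M).app W) := by
    rw [Scheme.Modules.restrictAdjunction_unit_app_app]
    have hW' : f ''ᵁ f ⁻¹ᵁ W = W := by
      rw [Scheme.Hom.image_preimage_eq_opensRange_inf]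
      exact inf_eq_right.2 hW
    rw [show (homOfLE (f.image_preimage_le W)) = eqToHom hW' from Subsingleton.elim _ _]
    infer_instance
  infer_instance

/-- The open, as an open of the first level. -/
abbrev V0 : (𝔛.X 0).Opens := 𝔛.lvU h.1 0 V

/-- Restriction undoes the direct image. -/
def restrPush (S : CohTop.Ab (TopCat.of (V0 h V))) :
    (Edge.R (V0 h V)).obj ((CohTop.push (TopCat.ofHom ⟨Subtype.val, continuous_subtype_val⟩ :
      TopCat.of (V0 h V) ⟶ (𝔛.X 0).toPresheafedSpace.carrier)).obj S) ≅ S :=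
  (fullyFaithfulSheafToPresheaf _ _).preimageIso
    (NatIso.ofComponents
      (fun W => S.obj.mapIso (eqToIso (congrArg op (Opens.ext (Set.preimage_image_eq _ Subtype.val_injective)))))
      fun {W W'} i => (S.obj.map_comp _ _).symm.trans ((congrArg S.obj.map (Subsingleton.elim _ _)).trans (S.obj.map_comp _ _)))

lemma restrPush_natural {S S' : CohTop.Ab (TopCat.of (V0 h V))} (φ : S ⟶ S') :
    (Edge.R (V0 h V)).map ((CohTop.push (TopCat.ofHom ⟨Subtype.val, continuous_subtype_val⟩ :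
      TopCat.of (V0 h V) ⟶ (𝔛.X 0).toPresheafedSpace.carrier)).map φ) ≫ (restrPush h V S').hom =
      (restrPush h V S).hom ≫ φ := by
  apply Sheaf.hom_ext
  ext W : 2
  exact (φ.hom.naturality _).symm

/-- The comparison of the restricted levels. -/
def beta (k : ℕ) : (Edge.R (V0 h V)).obj (lvS h.1 𝔉 k) ⟶ lvS (hSys h V).1 (res' h V 𝔉) k :=
  (Edge.R (V0 h V)).map ((Sh h.1).map (theta h V 𝔉 k)) ≫
    (restrPush h V (lvS (hSys h V).1 (res' h V 𝔉) k)).hom

lemma isIso_beta (k : ℕ) : IsIso (beta h V 𝔉 k) := by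
  haveI : IsIso ((Edge.R (V0 h V)).map ((Sh h.1).map (theta h V 𝔉 k))) := by
    haveI : ∀ W, IsIso (((Edge.R (V0 h V)).map ((Sh h.1).map (theta h V 𝔉 k))).hom.app W) := fun W => by
      let U := Edge.img (V0 h V) W.unop
      haveI : IsOpenImmersion ((inc h V : FSch.Hom _ _).app k) := inferInstanceAs (IsOpenImmersion (𝔛.lvU h.1 k V).ι)
      have hU : 𝔛.lvU h.1 k U ≤ ((inc h V : FSch.Hom _ _).app k).opensRange := by
        show 𝔛.lvU h.1 k U ≤ (𝔛.lvU h.1 k V).ι.opensRange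
        rw [Scheme.Opens.opensRange_ι]
        refine ((Opens.map (𝔛.gInv h.1 k)).map (homOfLE ?_)).le
        rintro _ ⟨y, -, rfl⟩
        exact (lvU_zero (hF := h.1) V).le y.2
      let c := ModSite.RMor.ofScheme ((inc h V : FSch.Hom _ _).app k)
      haveI := isIso_unit_app ((inc h V : FSch.Hom _ _).app k) (pullK k 𝔉) hU
      haveI : IsIso (Scheme.Modules.Hom.app
          (M := (Scheme.Modules.pushforward ((inc h V : FSch.Hom _ _).app k)).obj (c.pull.obj (pullK k 𝔉)))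
          (N := (Scheme.Modules.pushforward ((inc h V : FSch.Hom _ _).app k)).obj (pullK k (res' h V 𝔉)))
          (c.push.map ((FSch.lvPullSq (inc h V) (hSys h V).1 h.1 k).hom.app 𝔉)) (𝔛.lvU h.1 k U)) :=
        inferInstanceAs (IsIso ((((Scheme.Modules.pushforward ((inc h V : FSch.Hom _ _).app k)).mapIso
          (show c.pull.obj (pullK k 𝔉) ≅ pullK k (res' h V 𝔉) from
            (FSch.lvPullSq (inc h V) (hSys h V).1 h.1 k).app 𝔉)).hom).app (𝔛.lvU h.1 k U)))
      haveI : IsIso ((Sh h.1).map ((FSch.lvPushSq (inc h V) (hSys h V).1 h.1 k).inv.app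
          (pullK k (res' h V 𝔉)))) := inferInstance
      haveI : IsIso (((Sh h.1).map ((FSch.lvPushSq (inc h V) (hSys h V).1 h.1 k).inv.app
          (pullK k (res' h V 𝔉)))).hom.app (op U)) :=
        inferInstanceAs (IsIso (((sheafToPresheaf _ _).map ((Sh h.1).map ((FSch.lvPushSq (inc h V) (hSys h V).1 h.1 k).inv.app
          (pullK k (res' h V 𝔉))))).app (op U)))
      show IsIso (((Sh h.1).map (theta h V 𝔉 k)).hom.app (op U))
      rw [theta, Functor.map_comp]
      show IsIso ((Scheme.Modules.Hom.app (M := pullK k 𝔉)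
          (N := (Scheme.Modules.pushforward ((inc h V : FSch.Hom _ _).app k)).obj (c.pull.obj (pullK k 𝔉)))
          (c.adj.unit.app (pullK k 𝔉)) (𝔛.lvU h.1 k U) ≫ Scheme.Modules.Hom.app
          (M := (Scheme.Modules.pushforward ((inc h V : FSch.Hom _ _).app k)).obj (c.pull.obj (pullK k 𝔉)))
          (N := (Scheme.Modules.pushforward ((inc h V : FSch.Hom _ _).app k)).obj (pullK k (res' h V 𝔉)))
          (c.push.map ((FSch.lvPullSq (inc h V) (hSys h V).1 h.1 k).hom.app 𝔉)) (𝔛.lvU h.1 k U)) ≫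
        ((Sh h.1).map ((FSch.lvPushSq (inc h V) (hSys h V).1 h.1 k).inv.app (pullK k (res' h V 𝔉)))).hom.app (op U))
      infer_instance
    haveI : IsIso ((sheafToPresheaf _ _).map ((Edge.R (V0 h V)).map ((Sh h.1).map (theta h V 𝔉 k)))) :=
      @NatIso.isIso_of_isIso_app _ _ _ _ _ _ _ (fun W => this W)
    exact isIso_of_reflects_iso _ (sheafToPresheaf _ _)
  exact inferInstanceAs (IsIso (_ ≫ _))

include h𝔉 in
lemma beta_natural (k : ℕ) :
    (Edge.R (V0 h V)).map (lvT h.1 𝔉 k) ≫ beta h V 𝔉 k = beta h V 𝔉 (k + 1) ≫ lvT (hSys h V).1 (res' h V 𝔉) k := by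
  rw [beta, beta, Category.assoc, ← restrPush_natural, ← Category.assoc, ← Category.assoc,
    ← Functor.map_comp, ← Functor.map_comp, lvT, ← Functor.map_comp, ← theta_trans h V 𝔉 h𝔉 k, Functor.map_comp]
  rfl

/-- Cohomology of a level over the open and of the level of the induced system. -/
def cmpH (m k : ℕ) : CohSite.HU (lvS h.1 𝔉 k) m (Edge.img (V0 h V) ⊤) →+
    Sheaf.H (lvS (hSys h V).1 (res' h V 𝔉) k) m :=
  AddMonoidHom.comp (Sheaf.H.map (beta h V 𝔉 k) m) (Edge.restrH (V0 h V) (lvS h.1 𝔉 k) m)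

lemma bijective_cmpH (m k : ℕ) : Function.Bijective (cmpH h V 𝔉 m k) := by
  haveI := isIso_beta h V 𝔉 k
  show Function.Bijective (Sheaf.H.map (beta h V 𝔉 k) m ∘ Edge.restrH (V0 h V) (lvS h.1 𝔉 k) m)
  refine Function.Bijective.comp ?_ (Edge.bijective_restrH _ _ _)
  exact Function.bijective_iff_has_inverse.2 ⟨Sheaf.H.map (inv (beta h V 𝔉 k)) m,
    fun x => by rw [← Sheaf.H.map_comp_apply, IsIso.hom_inv_id, Sheaf.H.map_id_apply],
    fun x => by rw [← Sheaf.H.map_comp_apply, IsIso.inv_hom_id, Sheaf.H.map_id_apply]⟩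

include h𝔉 in
lemma cmpH_natural (m k : ℕ)
    (x : CategoryTheory.Abelian.Ext (CohCx.freeSheaf (Opens.grothendieckTopology (𝔛.X 0)) (Edge.img (V0 h V) ⊤))
      (lvS h.1 𝔉 (k + 1)) m) :
    cmpH h V 𝔉 m k (x.comp (CategoryTheory.Abelian.Ext.mk₀ (lvT h.1 𝔉 k)) (add_zero m)) =
      Sheaf.H.map (lvT (hSys h V).1 (res' h V 𝔉) k) m (cmpH h V 𝔉 m (k + 1) x) := by
  show Sheaf.H.map (beta h V 𝔉 k) m (Edge.restrH (V0 h V) (lvS h.1 𝔉 k) m _) =
    Sheaf.H.map (lvT (hSys h V).1 (res' h V 𝔉) k) m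
      (Sheaf.H.map (beta h V 𝔉 (k + 1)) m (Edge.restrH (V0 h V) (lvS h.1 𝔉 (k + 1)) m x))
  rw [Edge.restrH_map, ← Sheaf.H.map_comp_apply, beta_natural h V 𝔉 h𝔉 k, Sheaf.H.map_comp_apply]
  rfl

end Groth.Agent.H26.FMod.OpenTransfer
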