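import Groth.Agent.H26.FMod.Sec

/-!
# Presentations of the module of a coherent system
-/

noncomputable section

set_option autoImplicit false
set_option linter.style.haveILetI false
set_option backward.isDefEq.respectTransparency false
set_option backward.isDefEq.respectTransparency.types false

universe u

open CategoryTheory CategoryTheory.Limits TopologicalSpace Opposite AlgebraicGeometry
open Groth.Agent.ModTensor Groth.Agent.ModPull Groth.Agent.LocalFactor Groth.Agent.SecGen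

namespace Groth.Agent.H26.FMod

variable {𝔛 : FSch.Sys.{u}} {hF : 𝔛.IsFormal}

/-- The restriction to a basic open is a localisation for quasi-coherent modules. -/
lemma level_locM {X : Scheme.{u}} {M : X.Modules} (hM : Coh.IsQCoh M) {U V : X.Opens} (hU : IsAffineOpen U)
    (s : Γ(X, U)) (i : V ⟶ U) (e : V = X.basicOpen s) :
    (∀ c : Γ(M, V), ∃ (m : ℕ) (b : Γ(M, U)), M.presheaf.map i.op b = X.presheaf.map i.op s ^ m • c) ∧
      ∀ b : Γ(M, U), M.presheaf.map i.op b = 0 → ∃ N : ℕ, s ^ N • b = 0 := by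
  subst e
  obtain rfl : i = homOfLE (X.basicOpen_le s) := Subsingleton.elim _ _
  exact ⟨QCoh.exists_pow_smul_eq_map hM hU s, QCoh.exists_pow_smul_eq_zero hM hU s⟩

/-- Covering by basic opens. -/
lemma locally_D (h : 𝔛.IsLocNoethFormal) {U W : (𝔛.X 0).Opens} (hU : IsAffineOpen U) (hW : W ≤ U)
    (P : ∀ ⦃V : (𝔛.X 0).Opens⦄, (V ⟶ W) → Prop)
    (hP : ∀ (a : Rg h.1 U) (ha : D h.1 a ≤ W), P (homOfLE ha))
    (hres : ∀ ⦃V V' : (𝔛.X 0).Opens⦄ (g : V' ⟶ V) (k : V ⟶ W), P k → P (g ≫ k)) :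
    ModPull.Locally (Opens.grothendieckTopology (𝔛.X 0)) W P := by
  refine ⟨{ arrows := fun V g => ∃ a : Rg h.1 U, V ≤ D h.1 a ∧ D h.1 a ≤ W,
            downward_closed := fun {V V' f} ⟨a, h1, h2⟩ g => ⟨a, (leOfHom g).trans h1, h2⟩ }, ?_, ?_⟩
  · intro x hx
    obtain ⟨a, ha, ha'⟩ := exists_D h hU hW hx
    exact ⟨D h.1 a, homOfLE ha', ⟨a, le_rfl, ha'⟩, ha⟩
  · rintro V g ⟨a, h1, h2⟩
    exact (Subsingleton.elim _ g : homOfLE h1 ≫ homOfLE h2 = g) ▸ hres (homOfLE h1) (homOfLE h2) (hP a h2)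

variable {𝔐 : FSch.ModSys 𝔛}

lemma res_mem_Jd_pow {U V : (𝔛.X 0).Opens} (hle : V ≤ U) (k : ℕ) {x : Rg hF U} (hx : x ∈ Jd hF U ^ k) :
    res hle x ∈ Jd hF V ^ k := by
  have h1 := Ideal.mem_map_of_mem (res (hF := hF) hle) hx
  rw [Ideal.map_pow] at h1
  refine Ideal.pow_right_mono (Ideal.map_le_iff_le_comap.2 fun y hy => ?_) k h1
  rw [Ideal.mem_comap, RingHom.mem_ker, pr_res, RingHom.mem_ker.1 hy, map_zero]

variable (h : 𝔛.IsLocNoethFormal) (h𝔐 : 𝔐.IsCoh) {U : (𝔛.X 0).Opens} (hU : IsAffineOpen U)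
  (a : Rg h.1 U)

include h h𝔐 hU in
lemma numM (n : ℕ) (c : Sm h.1 𝔐 n (D h.1 a)) : ∃ (m : ℕ) (b : Sec (𝔐.realMod h.1) U),
    qm h.1 𝔐 n (D h.1 a) (resM (𝔐.realMod h.1) (D_le a) b) =
      pr h.1 n (D h.1 a) (res (D_le a) a) ^ m • c := by
  obtain ⟨m, b, hb⟩ := (level_locM (h𝔐 n).1 (isAffineOpen_lvU h.1 n hU) (pr h.1 n U a)
    ((Opens.map (𝔛.gInv h.1 n)).map (homOfLE (D_le a))) (lvU_D a n)).1 c
  obtain ⟨b', rfl⟩ := ((chartM 𝔐 h h𝔐 hU).2 n).1 b
  refine ⟨m, b', ?_⟩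
  rw [qm_res, pr_res]
  exact hb

include h h𝔐 hU in
lemma denM (n : ℕ) (b : Sec (𝔐.realMod h.1) U)
    (hb : qm h.1 𝔐 n (D h.1 a) (resM (𝔐.realMod h.1) (D_le a) b) = 0) :
    ∃ N : ℕ, a ^ N • b ∈ Jd h.1 U ^ (n + 1) • (⊤ : Submodule (Rg h.1 U) (Sec (𝔐.realMod h.1) U)) := by
  rw [qm_res] at hb
  obtain ⟨N, hN⟩ := (level_locM (h𝔐 n).1 (isAffineOpen_lvU h.1 n hU) (pr h.1 n U a)
    ((Opens.map (𝔛.gInv h.1 n)).map (homOfLE (D_le a))) (lvU_D a n)).2 _ hb
  refine ⟨N, (((chartM 𝔐 h h𝔐 hU).2 n).2 _).1 ?_⟩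
  rw [qm_smul, map_pow]
  exact hN

include hU in
lemma num_fun {κ : Type} [Finite κ] (n : ℕ) (c : κ → Lv h.1 n (D h.1 a)) :
    ∃ (m : ℕ) (b : κ → Rg h.1 U), ∀ i,
      pr h.1 n (D h.1 a) (res (D_le a) a) ^ m * c i = pr h.1 n (D h.1 a) (res (D_le a) (b i)) := by
  classical
  choose m b hb using fun i => num h hU a n (c i)
  cases nonempty_fintype κ
  refine ⟨Finset.univ.sup m, fun i => a ^ (Finset.univ.sup m - m i) * b i, fun i => ?_⟩
  rw [map_mul, map_pow, map_mul, map_pow, ← hb i, ← mul_assoc, ← pow_add,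
    Nat.sub_add_cancel (Finset.le_sup (f := m) (Finset.mem_univ i))]

variable {κ : Type} [Fintype κ] (x : κ → Sec (𝔐.realMod h.1) U)

include h h𝔐 hU in
/-- Generators on an affine open generate on the basic opens. -/
theorem gen_D (hx : Submodule.span (Rg h.1 U) (Set.range x) = ⊤) (t : Sec (𝔐.realMod h.1) (D h.1 a)) :
    ∃ c : κ → Rg h.1 (D h.1 a), t = ∑ i, c i • resM (𝔐.realMod h.1) (D_le a) (x i) := by
  have hV := isAffineOpen_D hU a
  haveI := noetherian h hV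
  haveI := complete h hV
  haveI := (chartM 𝔐 h h𝔐 hV).1
  let N := Submodule.span (Rg h.1 (D h.1 a)) (Set.range fun i => resM (𝔐.realMod h.1) (D_le a) (x i))
  suffices t ∈ N by
    obtain ⟨c, hc⟩ := (Submodule.mem_span_range_iff_exists_fun _).1 this
    exact ⟨c, hc.symm⟩
  refine mem_of_forall_mem_sup (Jd h.1 (D h.1 a)) N t fun k => ?_
  obtain ⟨m, b, hb⟩ := numM h h𝔐 hU a k (qm h.1 𝔐 k (D h.1 a) t)
  obtain ⟨r, hr⟩ := (Submodule.mem_span_range_iff_exists_fun _).1 (hx ▸ trivial : b ∈ Submodule.span (Rg h.1 U) (Set.range x))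
  have hbN : resM (𝔐.realMod h.1) (D_le a) b ∈ N := by
    rw [← hr, resM, rs_sum]
    exact Submodule.sum_mem _ fun i _ => by
      rw [rs_smul]; exact Submodule.smul_mem _ _ (Submodule.subset_span ⟨i, rfl⟩)
  obtain ⟨v, hv⟩ := ((isUnit_res h hU a).pow m).exists_left_inv
  have hd : res (D_le a) a ^ m • t - resM (𝔐.realMod h.1) (D_le a) b ∈
      Jd h.1 (D h.1 a) ^ (k + 1) • (⊤ : Submodule (Rg h.1 (D h.1 a)) (Sec (𝔐.realMod h.1) (D h.1 a))) := by
    refine (((chartM 𝔐 h h𝔐 hV).2 k).2 _).1 ?_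
    rw [map_sub, qm_smul, hb, map_pow, sub_self]
  have ht : t = v • (resM (𝔐.realMod h.1) (D_le a) b + (res (D_le a) a ^ m • t - resM (𝔐.realMod h.1) (D_le a) b)) := by
    rw [add_sub_cancel, smul_smul, hv, one_smul]
  rw [ht]
  exact Submodule.smul_mem _ _ (Submodule.add_mem_sup hbN
    (Submodule.smul_mono (Ideal.pow_le_pow_right (Nat.le_succ k)) le_rfl hd))

include h h𝔐 hU in
/-- Relations on an affine open generate the relations on the basic opens. -/
theorem exact_D {ρ : Type} [Fintype ρ] (A : ρ → κ → Rg h.1 U)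
    (hA : ∀ r : κ → Rg h.1 U, ∑ i, r i • x i = 0 → r ∈ Submodule.span (Rg h.1 U) (Set.range A))
    (c : κ → Rg h.1 (D h.1 a)) (hc : ∑ i, c i • resM (𝔐.realMod h.1) (D_le a) (x i) = 0) :
    ∃ d : ρ → Rg h.1 (D h.1 a), ∀ i, c i = ∑ j, d j * res (D_le a) (A j i) := by
  classical
  haveI := noetherian h hU
  haveI := (chartM 𝔐 h h𝔐 hU).1
  have hV := isAffineOpen_D hU a
  haveI := noetherian h hV
  haveI := complete h hV
  let A' : ρ → κ → Rg h.1 (D h.1 a) := fun j i => res (D_le a) (A j i)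
  suffices c ∈ Submodule.span (Rg h.1 (D h.1 a)) (Set.range A') by
    obtain ⟨d, hd⟩ := (Submodule.mem_span_range_iff_exists_fun _).1 this
    exact ⟨d, fun i => by rw [← hd, Finset.sum_apply]; rfl⟩
  let f : (κ → Rg h.1 U) →ₗ[Rg h.1 U] Sec (𝔐.realMod h.1) U := Fintype.linearCombination (Rg h.1 U) x
  obtain ⟨e, he⟩ := exists_artinRees (Jd h.1 U) f
  refine mem_of_forall_mem_sup (Jd h.1 (D h.1 a)) _ c fun k => ?_
  let n := k + e
  obtain ⟨m, b, hb⟩ := num_fun h hU a n (fun i => pr h.1 n (D h.1 a) (c i))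
  have h0 : qm h.1 𝔐 n (D h.1 a) (resM (𝔐.realMod h.1) (D_le a) (∑ i, b i • x i)) = 0 := by
    have h1 := congrArg (fun z => pr h.1 n (D h.1 a) (res (D_le a) a) ^ m • qm h.1 𝔐 n (D h.1 a) z) hc
    simp only [map_zero, smul_zero, map_sum, qm_smul, Finset.smul_sum, smul_smul, hb] at h1
    rw [resM, rs_sum, map_sum]
    refine Eq.trans (Finset.sum_congr rfl fun i _ => ?_) h1
    rw [rs_smul, qm_smul]
  obtain ⟨N, hN⟩ := denM h h𝔐 hU a n _ h0
  have hfN : f (fun i => a ^ N * b i) ∈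
      Jd h.1 U ^ (k + e) • (⊤ : Submodule (Rg h.1 U) (Sec (𝔐.realMod h.1) U)) := by
    refine Submodule.smul_mono (Ideal.pow_le_pow_right (Nat.le_succ n)) le_rfl ?_
    rw [Finset.smul_sum] at hN
    simpa [f, Fintype.linearCombination_apply, smul_smul] using hN
  obtain ⟨r, hr, s, hs, hrs⟩ := Submodule.mem_sup.1 (he k _ hfN)
  have hr' : (fun i => res (D_le a) (r i)) ∈ Submodule.span (Rg h.1 (D h.1 a)) (Set.range A') := by
    obtain ⟨d, hd⟩ := (Submodule.mem_span_range_iff_exists_fun _).1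
      (hA r (by simpa [f, Fintype.linearCombination_apply] using LinearMap.mem_ker.1 hr))
    refine (Submodule.mem_span_range_iff_exists_fun _).2 ⟨fun j => res (D_le a) (d j), funext fun i => ?_⟩
    rw [← hd, Finset.sum_apply, Finset.sum_apply, map_sum]
    exact Finset.sum_congr rfl fun j _ => (map_mul _ _ _).symm
  have hs' : (fun i => res (D_le a) a ^ (N + m) * c i - res (D_le a) (r i)) ∈
      Jd h.1 (D h.1 a) ^ k • (⊤ : Submodule (Rg h.1 (D h.1 a)) (κ → Rg h.1 (D h.1 a))) := by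
    refine mem_smul_top_fun _ _ fun i => ?_
    have h2 : res (D_le a) a ^ (N + m) * c i - res (D_le a) (a ^ N * b i) ∈ Jd h.1 (D h.1 a) ^ k := by
      refine Ideal.pow_le_pow_right (by omega : k ≤ n + 1) ?_
      rw [← ker_pr h n hV, RingHom.mem_ker, map_sub, map_mul, map_pow, pow_add, mul_assoc, hb i,
        map_mul (res (D_le a)), map_pow (res (D_le a)), map_mul (pr h.1 n (D h.1 a)), map_pow, sub_self]
    have h3 := congrArg (res (D_le a)) (congrFun hrs i)
    rw [Pi.add_apply, map_add] at h3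
    rw [← h3] at h2
    have h4 := add_mem h2 (res_mem_Jd_pow (D_le a) k (mem_of_mem_smul_top_fun _ s hs i))
    rwa [show res (D_le a) a ^ (N + m) * c i - (res (D_le a) (r i) + res (D_le a) (s i)) +
      res (D_le a) (s i) = res (D_le a) a ^ (N + m) * c i - res (D_le a) (r i) by ring] at h4
  obtain ⟨v, hv⟩ := ((isUnit_res h hU a).pow (N + m)).exists_left_inv
  have hcv : c = v • ((fun i => res (D_le a) (r i)) +
      fun i => res (D_le a) a ^ (N + m) * c i - res (D_le a) (r i)) := funext fun i => by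
    rw [Pi.smul_apply, Pi.add_apply, smul_eq_mul, add_sub_cancel, ← mul_assoc, hv, one_mul]
  rw [hcv]
  exact Submodule.smul_mem _ _ (Submodule.add_mem_sup hr' hs')

include h h𝔐 hU in
/-- The presentation of the module of a system on an affine open. -/
def presOf {ρ : Type} [Fintype ρ] (A : ρ → κ → Rg h.1 U)
    (hx : Submodule.span (Rg h.1 U) (Set.range x) = ⊤) (hrel : ∀ j, ∑ i, A j i • x i = 0)
    (hA : ∀ r : κ → Rg h.1 U, ∑ i, r i • x i = 0 → r ∈ Submodule.span (Rg h.1 U) (Set.range A)) :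
    Pres (𝔛.Osh h.1) (𝔐.realMod h.1) U where
  κ := κ
  ρ := ρ
  fκ := inferInstance
  fρ := inferInstance
  s := x
  A := A
  rel := hrel
  gen W f t := by
    refine locally_D h hU (leOfHom f) _ (fun b hb => ?_) fun V V' g k hk => ?_
    · obtain ⟨c, hc⟩ := gen_D h h𝔐 hU b x hx (resM (𝔐.realMod h.1) hb t)
      exact ⟨c, hc⟩
    · obtain ⟨c, hc⟩ := hk
      refine ⟨fun i => ((𝔛.Osh h.1).obj.map g.op).hom (c i), ?_⟩
      rw [SecGen.rs_op_comp, hc, rs_sum]
      exact Finset.sum_congr rfl fun i _ => by rw [rs_smul, ← SecGen.rs_op_comp, Category.assoc]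
  exact W f c hc := by
    refine locally_D h hU (leOfHom f) _ (fun b hb => ?_) fun V V' g k hk => ?_
    · have h1 := congrArg (rs ((fg (𝔛.Osh h.1)).obj (𝔐.realMod h.1)) (homOfLE hb).op) hc
      rw [rs_sum] at h1
      obtain ⟨d, hd⟩ := exact_D h h𝔐 hU b x A hA (fun i => res hb (c i)) (by
        refine Eq.trans (Finset.sum_congr rfl fun i _ => ?_) (h1.trans (map_zero _))
        rw [rs_smul, ← SecGen.rs_op_comp]
        rfl)
      exact ⟨d, hd⟩
    · obtain ⟨d, hd⟩ := hk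
      refine ⟨fun j => ((𝔛.Osh h.1).obj.map g.op).hom (d j), fun i => ?_⟩
      rw [op_comp, Functor.map_comp]
      refine (congrArg ((𝔛.Osh h.1).obj.map g.op).hom (hd i)).trans ?_
      rw [map_sum]
      refine Finset.sum_congr rfl fun j _ => ?_
      rw [map_mul, Category.assoc, op_comp (f := g), Functor.map_comp]
      rfl

include h h𝔐 hU in
/-- The module of a coherent system has a presentation on every affine open. -/
theorem exists_pres : ∃ P : Pres (𝔛.Osh h.1) (𝔐.realMod h.1) U,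
    Submodule.span (Rg h.1 U) (Set.range P.s) = ⊤ := by
  classical
  haveI := noetherian h hU
  haveI := (chartM 𝔐 h h𝔐 hU).1
  obtain ⟨n, x, hx⟩ := Module.Finite.exists_fin (R := Rg h.1 U) (M := Sec (𝔐.realMod h.1) U)
  obtain ⟨m, A, hA⟩ := Submodule.fg_iff_exists_fin_generating_family.1
    (IsNoetherian.noetherian (LinearMap.ker (Fintype.linearCombination (Rg h.1 U) x)))
  refine ⟨presOf h h𝔐 hU x A hx (fun j => ?_) fun r hr => ?_, hx⟩
  · have h1 : A j ∈ LinearMap.ker (Fintype.linearCombination (Rg h.1 U) x) :=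
      hA ▸ Submodule.subset_span ⟨j, rfl⟩
    simpa [Fintype.linearCombination_apply] using h1
  · rw [hA]
    simpa [Fintype.linearCombination_apply] using hr

include h h𝔐 in
/-- The module of a coherent system is coherent. -/
theorem isCohF_realMod : FSch.IsCohF 𝔛 h.1 (𝔐.realMod h.1) := by
  refine isFinitePresentation_of_pres _ fun X => ?_
  refine ⟨{ arrows := fun V g => ∃ U : (𝔛.X 0).Opens, IsAffineOpen U ∧ V ≤ U,
            downward_closed := fun {V V' f} ⟨U, h1, h2⟩ g => ⟨U, h1, (leOfHom g).trans h2⟩ }, ?_, ?_⟩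
  · intro y hy
    obtain ⟨_, ⟨U, hU', rfl⟩, hyU, hle⟩ := (𝔛.X 0).isBasis_affineOpens.exists_subset_of_mem_open hy X.2
    exact ⟨U, homOfLE hle, ⟨U, hU', le_rfl⟩, hyU⟩
  · rintro V g ⟨U', hU', hVU⟩
    obtain ⟨P, -⟩ := exists_pres h h𝔐 hU'
    exact ⟨presPull P (homOfLE hVU)⟩

end Groth.Agent.H26.FMod
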