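import Mathlib.CategoryTheory.Limits.Cones
import Mathlib.CategoryTheory.Preadditive.Basic
import Mathlib.Order.Category.Preord

/-!
# Limits of pro-isomorphic systems
-/

set_option autoImplicit false

open CategoryTheory CategoryTheory.Limits Opposite

namespace Groth.Agent.H26.FMod

variable {C : Type*} [Category C] [Preadditive C] {F G : ℕᵒᵖ ⥤ C} (c : F ⟶ G)

/-- A pro-isomorphism of systems induces an isomorphism of limits. -/
theorem isIso_of_proIso (cx : Cone F) (hx : IsLimit cx) (cy : Cone G) (hy : IsLimit cy) (T : cx.pt ⟶ cy.pt)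
    (hT : ∀ j, T ≫ cy.π.app j = cx.π.app j ≫ c.app j)
    (hρ : ∀ n : ℕ, ∃ (m : ℕ) (h : n ≤ m) (ρ : G.obj (op m) ⟶ F.obj (op n)),
      c.app (op m) ≫ ρ = F.map (homOfLE h).op ∧ ρ ≫ c.app (op n) = G.map (homOfLE h).op)
    (him : ∀ n : ℕ, ∃ (m : ℕ) (h : n ≤ m), ∀ (Q : C) (d : G.obj (op n) ⟶ Q),
      c.app (op n) ≫ d = 0 → G.map (homOfLE h).op ≫ d = 0) : IsIso T := by
  classical
  choose m hm ρ hρ1 hρ2 using hρ
  let a : ∀ n, cy.pt ⟶ F.obj (op n) := fun n => cy.π.app (op (m n)) ≫ ρ n
  have ha : ∀ i j (h : i ≤ j), a j ≫ F.map (homOfLE h).op = a i := fun i j h => by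
    let M := m i + m j
    obtain ⟨M', hM', hvan⟩ := him M
    have hi : m i ≤ M := Nat.le_add_right _ _
    have hj : m j ≤ M := Nat.le_add_left _ _
    have d0 : c.app (op M) ≫ (G.map (homOfLE hj).op ≫ ρ j ≫ F.map (homOfLE h).op -
        G.map (homOfLE hi).op ≫ ρ i) = 0 := by
      rw [Preadditive.comp_sub, ← NatTrans.naturality_assoc, ← NatTrans.naturality_assoc, reassoc_of% hρ1 j,
        hρ1 i, ← Functor.map_comp, ← Functor.map_comp, ← Functor.map_comp, sub_eq_zero]
      exact congrArg _ (Subsingleton.elim _ _)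
    have e := hvan _ _ d0
    rw [Preadditive.comp_sub, sub_eq_zero] at e
    have w : ∀ k (hk : k ≤ M'), cy.π.app (op M') ≫ G.map (homOfLE hk).op = cy.π.app (op k) :=
      fun k hk => cy.w _
    show (cy.π.app (op (m j)) ≫ ρ j) ≫ _ = cy.π.app (op (m i)) ≫ ρ i
    rw [Category.assoc, ← w (m j) (hj.trans hM'), ← w (m i) (hi.trans hM'), Category.assoc, Category.assoc,
      show (homOfLE (hj.trans hM')).op = (homOfLE hM').op ≫ (homOfLE hj).op from Subsingleton.elim _ _,
      show (homOfLE (hi.trans hM')).op = (homOfLE hM').op ≫ (homOfLE hi).op from Subsingleton.elim _ _,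
      Functor.map_comp, Functor.map_comp, Category.assoc, Category.assoc, e]
  let K : Cone F :=
    { pt := cy.pt
      π := { app := fun j => a j.unop
             naturality := fun j k f => by
               obtain ⟨j⟩ := j
               obtain ⟨k⟩ := k
               obtain ⟨φ, rfl⟩ : ∃ φ, Quiver.Hom.op φ = f := ⟨f.unop, rfl⟩
               refine (Category.id_comp _).trans ?_
               exact (ha k j (leOfHom φ)).symm } }
  refine ⟨hx.lift K, hx.hom_ext fun j => ?_, hy.hom_ext fun j => ?_⟩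
  · obtain ⟨n⟩ := j
    rw [Category.assoc, hx.fac K, Category.id_comp]
    show T ≫ cy.π.app (op (m n)) ≫ ρ n = _
    rw [← Category.assoc, hT, Category.assoc, hρ1, cx.w]
  · obtain ⟨n⟩ := j
    rw [Category.assoc, hT, ← Category.assoc, hx.fac K, Category.id_comp]
    show (cy.π.app (op (m n)) ≫ ρ n) ≫ _ = _
    rw [Category.assoc, hρ2, cy.w]

end Groth.Agent.H26.FMod
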