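import Groth.Agent.H26.FMod.Pres
import Groth.Agent.SiteBase.PullSlice
import Groth.Agent.SiteBase.PullQc
import Groth.Agent.SiteBase.LHom
import Groth.Agent.FComplLib.AffSysSec
import Groth.Agent.QCoh.ExtendFT

/-!
# Inverse images of coherent modules to the levels, elementwise
-/

noncomputable section

set_option autoImplicit false
set_option linter.style.haveILetI false
set_option backward.isDefEq.respectTransparency false
set_option backward.isDefEq.respectTransparency.types false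

universe u

open CategoryTheory CategoryTheory.Limits TopologicalSpace Opposite AlgebraicGeometry
open Groth.Agent.ModTensor Groth.Agent.ModPull Groth.Agent.LocalFactor Groth.Agent.SecGen

attribute [local instance] Pres.fκ Pres.fρ

namespace Groth.Agent.H26.FMod

/-- A module on a scheme with prescribed sections on an affine open and controlled restrictions. -/
theorem exists_test {X : Scheme.{u}} {U : X.Opens} (hU : IsAffineOpen U) (M : ModuleCat.{u} Γ(X, U)) :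
    ∃ (Z : X.Modules) (ζ : M →+ Γ(Z, U)), (∀ (r : Γ(X, U)) (m : M), ζ (r • m) = r • ζ m) ∧
      ∀ (V : X.Opens) (i : V ⟶ U) (s : Γ(X, U)), V = X.basicOpen s → ∀ m : M,
        Z.presheaf.map i.op (ζ m) = 0 → ∃ N : ℕ, s ^ N • m = 0 := by
  let T : (Spec Γ(X, U)).Modules := tilde (R := Γ(X, U)) M
  let Z : X.Modules := (Scheme.Modules.pushforward hU.fromSpec).obj T
  let e : (Spec Γ(X, U)).presheaf.obj (op ⊤) ⟶ (Spec Γ(X, U)).presheaf.obj (op (hU.fromSpec ⁻¹ᵁ U)) :=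
    (Spec Γ(X, U)).presheaf.map (eqToHom hU.fromSpec_preimage_self).op
  let ζ : M →+ Γ(Z, U) := AddMonoidHom.mk'
    (fun m => (show Γ(T, hU.fromSpec ⁻¹ᵁ U) from
      T.presheaf.map (eqToHom hU.fromSpec_preimage_self).op (FComplLib.θ M m)))
    fun a b => (congrArg _ (map_add (FComplLib.θ M) a b)).trans (map_add (T.presheaf.map _).hom _ _)
  refine ⟨Z, ζ, fun r m => ?_, fun V i s hV m hm => ?_⟩
  · show (show Γ(T, hU.fromSpec ⁻¹ᵁ U) from T.presheaf.map _ (FComplLib.θ M (r • m))) =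
      hU.fromSpec.app U r • (show Γ(T, hU.fromSpec ⁻¹ᵁ U) from T.presheaf.map _ (FComplLib.θ M m))
    rw [FComplLib.θ_smul, QCoh.map_smul', hU.fromSpec_app_self]
    rfl
  · subst hV
    let s' : Γ(Spec Γ(X, U), ⊤) := (Scheme.ΓSpecIso Γ(X, U)).inv s
    have e1 : hU.fromSpec ⁻¹ᵁ X.basicOpen s = (Spec Γ(X, U)).basicOpen s' := by
      rw [hU.fromSpec_preimage_basicOpen]
      exact (basicOpen_eq_of_affine s).symm
    have h1 : T.presheaf.map (homOfLE ((Spec Γ(X, U)).basicOpen_le s')).op (FComplLib.θ M m) = 0 := by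
      have h2 : T.presheaf.map ((Opens.map hU.fromSpec.base).map i).op
          (T.presheaf.map (eqToHom hU.fromSpec_preimage_self).op (FComplLib.θ M m)) = 0 := hm
      have h3 := congrArg (T.presheaf.map (eqToHom e1.symm).op) h2
      rw [map_zero, QCoh.map_map, QCoh.map_map] at h3
      exact h3
    obtain ⟨N, hN⟩ := QCoh.exists_pow_smul_eq_zero (FComplLib.isQCoh_tilde M) (isAffineOpen_top _) s' _ h1
    refine ⟨N, (FComplLib.bijective_θ M).1 ?_⟩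
    rw [map_zero, FComplLib.θ_smul]
    refine Eq.trans ?_ hN
    exact congrArg (· • _) (map_pow (Scheme.ΓSpecIso Γ(X, U)).inv.hom s N)

variable {𝔛 : FSch.Sys.{u}} {hF : 𝔛.IsFormal}

/-- The inverse image to a level. -/
abbrev pullK (k : ℕ) (𝔉 : FSch.ModF 𝔛 hF) : (𝔛.X k).Modules := (FSch.levelMor 𝔛 hF k).pull.obj 𝔉

/-- Pulled back sections. -/
def puk (k : ℕ) (𝔉 : FSch.ModF 𝔛 hF) (U : (𝔛.X 0).Opens) : Sec 𝔉 U →+ Γ(pullK k 𝔉, 𝔛.lvU hF k U) :=
  AddMonoidHom.mk' (fun x => pu (FSch.levelMor 𝔛 hF k) 𝔉 (U := op U) x)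
    fun x y => pu_add (FSch.levelMor 𝔛 hF k) 𝔉 x y

lemma puk_smul (k : ℕ) (𝔉 : FSch.ModF 𝔛 hF) (U : (𝔛.X 0).Opens) (r : Rg hF U) (x : Sec 𝔉 U) :
    puk k 𝔉 U (r • x) = pr hF k U r • puk k 𝔉 U x :=
  pu_smul (FSch.levelMor 𝔛 hF k) 𝔉 r x

lemma puk_res (k : ℕ) (𝔉 : FSch.ModF 𝔛 hF) {U V : (𝔛.X 0).Opens} (hle : V ≤ U) (x : Sec 𝔉 U) :
    puk k 𝔉 V (resM 𝔉 hle x) =
      (pullK k 𝔉).presheaf.map ((Opens.map (𝔛.gInv hF k)).map (homOfLE hle)).op (puk k 𝔉 U x) :=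
  pu_rs (FSch.levelMor 𝔛 hF k) 𝔉 (homOfLE hle).op x

lemma isCoh_pullK (k : ℕ) (𝔉 : FSch.ModF 𝔛 hF) (h𝔉 : FSch.IsCohF 𝔛 hF 𝔉) : Coh.IsCoh (pullK k 𝔉) := by
  haveI := h𝔉
  haveI := PullQc.isFinitePresentation_pull (FSch.levelMor 𝔛 hF k) 𝔉
  exact ⟨inferInstanceAs (SheafOfModules.IsQuasicoherent
      (R := ModSite.ringSh (𝔛.X k).sheaf) ((FSch.levelMor 𝔛 hF k).pull.obj 𝔉)),
    inferInstanceAs (SheafOfModules.IsFiniteType
      (R := ModSite.ringSh (𝔛.X k).sheaf) ((FSch.levelMor 𝔛 hF k).pull.obj 𝔉))⟩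

variable (h : 𝔛.IsLocNoethFormal) {𝔉 : FSch.ModF 𝔛 h.1} {U : (𝔛.X 0).Opens} (hU : IsAffineOpen U)
  (P : Pres (𝔛.Osh h.1) 𝔉 U) (k : ℕ) (a : Rg h.1 U)

include hU in
/-- Pulled back generators generate on every level. -/
theorem pull_gen (h𝔉 : Coh.IsQCoh (pullK k 𝔉)) (z : Γ(pullK k 𝔉, 𝔛.lvU h.1 k (D h.1 a))) :
    ∃ c : P.κ → Lv h.1 k (D h.1 a), z = ∑ i, c i • puk k 𝔉 (D h.1 a) (resM 𝔉 (D_le a) (P.s i)) := by
  let f := FSch.levelMor 𝔛 h.1 k
  let T : Set Γ(pullK k 𝔉, 𝔛.lvU h.1 k (D h.1 a)) :=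
    Set.range fun i => puk k 𝔉 (D h.1 a) (resM 𝔉 (D_le a) (P.s i))
  suffices z ∈ Submodule.span (Lv h.1 k (D h.1 a)) T by
    obtain ⟨c, hc⟩ := (Submodule.mem_span_range_iff_exists_fun _).1 this
    exact ⟨c, hc.symm⟩
  refine QCoh.mem_span_of_locally h𝔉 (isAffineOpen_lvU h.1 k (isAffineOpen_D hU a)) T z fun x hx => ?_
  obtain ⟨S, hS, hSp⟩ := locally_combination f 𝔉 (W := 𝔛.lvU h.1 k (D h.1 a)) z
  obtain ⟨W', g, hg, hxW⟩ := hS x hx
  obtain ⟨X, j, n, b, t, ht⟩ := hSp g hg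
  let Y : (𝔛.X 0).Opens := X ⊓ D h.1 a
  let y : 𝔛.X 0 := (𝔛.gInv h.1 k) x
  have hy : y ∈ Y := ⟨leOfHom j hxW, hx⟩
  obtain ⟨S', hS', hSp'⟩ := ModPull.Locally.forall_fintype fun l : Fin n =>
    P.gen (W := Y) (homOfLE (inf_le_right.trans (D_le a))) (resM 𝔉 (inf_le_left : Y ≤ X) (t l))
  obtain ⟨V, g', hg', hyV⟩ := hS' y hy
  let Q : (𝔛.X k).Opens := W' ⊓ 𝔛.lvU h.1 k V
  have hQ : Q ≤ 𝔛.lvU h.1 k (D h.1 a) := inf_le_left.trans (leOfHom g)
  refine ⟨Q, hQ, ⟨hxW, hyV⟩, ?_⟩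
  have hVX : V ≤ X := (leOfHom g').trans inf_le_left
  have hVD : V ≤ D h.1 a := (leOfHom g').trans inf_le_right
  have key : ∀ l, QCoh.rs (pullK k 𝔉) (inf_le_left.trans (leOfHom j) : Q ≤ 𝔛.lvU h.1 k X) (puk k 𝔉 X (t l)) ∈
      Submodule.span Γ(𝔛.X k, Q) (QCoh.rs (pullK k 𝔉) hQ '' T) := by
    intro l
    obtain ⟨c, hc⟩ := hSp' g' hg' l
    have hc' : puk k 𝔉 V (resM 𝔉 hVX (t l)) =
        puk k 𝔉 V (∑ i, c i • resM 𝔉 (hVD.trans (D_le a)) (P.s i)) := by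
      refine congrArg (puk k 𝔉 V) (Eq.trans ?_ hc)
      exact SecGen.rs_op_comp g' (homOfLE inf_le_left) (t l)
    have hc2 := congrArg (QCoh.rs (pullK k 𝔉) (inf_le_right : Q ≤ 𝔛.lvU h.1 k V)) hc'
    simp only [puk_res, QCoh.rs, QCoh.map_map, map_sum] at hc2
    rw [show QCoh.rs (pullK k 𝔉) (inf_le_left.trans (leOfHom j) : Q ≤ 𝔛.lvU h.1 k X) (puk k 𝔉 X (t l)) =
      _ from hc2]
    refine Submodule.sum_mem _ fun i _ => ?_
    rw [puk_smul, QCoh.map_smul']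
    refine Submodule.smul_mem _ _ (Submodule.subset_span ⟨_, ⟨i, rfl⟩, ?_⟩)
    simp only [puk_res, QCoh.rs, QCoh.map_map]
    rfl
  have ht' := congrArg (QCoh.rs (pullK k 𝔉) (inf_le_left : Q ≤ W')) ht
  have e0 : QCoh.rs (pullK k 𝔉) hQ z =
      QCoh.rs (pullK k 𝔉) (inf_le_left : Q ≤ W') ((pullK k 𝔉).presheaf.map g.op z) :=
    (QCoh.map_map (M := pullK k 𝔉) _ _ _).symm
  rw [show QCoh.rs (pullK k 𝔉) hQ z = _ from e0.trans ht', QCoh.rs, map_sum]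
  refine Submodule.sum_mem _ fun l _ => ?_
  have e1 : (pullK k 𝔉).presheaf.map (homOfLE (inf_le_left : Q ≤ W')).op
      ((show Γ(𝔛.X k, W') from b l) • (pullK k 𝔉).presheaf.map j.op (puk k 𝔉 X (t l))) =
      (𝔛.X k).presheaf.map (homOfLE (inf_le_left : Q ≤ W')).op (show Γ(𝔛.X k, W') from b l) •
        QCoh.rs (pullK k 𝔉) (inf_le_left.trans (leOfHom j) : Q ≤ 𝔛.lvU h.1 k X) (puk k 𝔉 X (t l)) := by
    rw [QCoh.map_smul', QCoh.map_map]
    rfl
  exact e1 ▸ Submodule.smul_mem _ _ (key l)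

include hU in
/-- Pulled back relations generate the relations on every level. -/
theorem pull_exact (c : P.κ → Lv h.1 k (D h.1 a))
    (hc : ∑ i, c i • puk k 𝔉 (D h.1 a) (resM 𝔉 (D_le a) (P.s i)) = 0) :
    ∃ d : P.ρ → Lv h.1 k (D h.1 a), ∀ i, c i = ∑ j, d j * pr h.1 k (D h.1 a) (res (D_le a) (P.A j i)) := by
  classical
  let f := FSch.levelMor 𝔛 h.1 k
  let Ab : P.ρ → P.κ → Lv h.1 k U := fun j i => pr h.1 k U (P.A j i)
  let N := Submodule.span (Lv h.1 k U) (Set.range Ab)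
  obtain ⟨Z, ζ, hζ, hζ0⟩ := exists_test (isAffineOpen_lvU h.1 k hU)
    (ModuleCat.of (Lv h.1 k U) ((P.κ → Lv h.1 k U) ⧸ N))
  let ev : P.κ → ((P.κ → Lv h.1 k U) ⧸ N) := fun i => Submodule.Quotient.mk (Pi.single i 1)
  have hev : ∀ r : P.κ → Lv h.1 k U, ∑ i, r i • ev i = Submodule.Quotient.mk r := fun r => by
    conv_rhs => rw [pi_eq_sum_univ r]
    rw [← Submodule.mkQ_apply, map_sum]
    refine Finset.sum_congr rfl fun i _ => ?_
    rw [map_smul]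
    refine congrArg (r i • ·) (congrArg Submodule.Quotient.mk (funext fun j => ?_))
    simp [Pi.single_apply, eq_comm]
  let y : P.κ → Sec (f.push.obj Z) U := fun i => ζ (ev i)
  have hy : ∀ j, ∑ i, P.A j i • y i = 0 := fun j => by
    show ∑ i, pr h.1 k U (P.A j i) • ζ (ev i) = 0
    have h1 : ∑ i, Ab j i • ev i = 0 :=
      (hev (Ab j)).trans ((Submodule.Quotient.mk_eq_zero N).2 (Submodule.subset_span ⟨j, rfl⟩))
    have h2 := congrArg ζ h1
    rw [map_sum, map_zero] at h2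
    exact (Finset.sum_congr rfl fun i _ => (hζ (Ab j i) (ev i)).symm).trans h2
  obtain ⟨τ, hτ⟩ := LHomLib.exists_lhom_of_pres P y hy
  obtain ⟨σ, hσ⟩ := PullSlice.exists_pullLHom f U τ
  let ι : D h.1 a ⟶ U := homOfLE (D_le a)
  have hσs : ∀ i, σ.app (f.fn.map ι) (puk k 𝔉 (D h.1 a) (resM 𝔉 (D_le a) (P.s i))) =
      Z.presheaf.map ((Opens.map (𝔛.gInv h.1 k)).map ι).op (ζ (ev i)) := fun i => by
    refine (hσ (D h.1 a) ι _).trans ?_
    have h3 := τ.nat ι (𝟙 U) (P.s i)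
    rw [Category.comp_id, hτ] at h3
    exact h3
  have h0 : ∑ i, c i • Z.presheaf.map ((Opens.map (𝔛.gInv h.1 k)).map ι).op (ζ (ev i)) = 0 := by
    have h4 := congrArg (σ.app (f.fn.map ι)) hc
    erw [map_sum, map_zero] at h4
    refine Eq.trans (Finset.sum_congr rfl fun i _ => ?_) h4
    rw [← hσs i]
    exact (map_smul (σ.app (f.fn.map ι)) (c i) _).symm
  obtain ⟨m, b, hb⟩ := num_fun h hU a k c
  have h5 : Z.presheaf.map ((Opens.map (𝔛.gInv h.1 k)).map ι).op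
      (ζ (Submodule.Quotient.mk fun i => pr h.1 k U (b i))) = 0 := by
    rw [← hev, map_sum, map_sum]
    have h6 := congrArg (fun z => pr h.1 k (D h.1 a) (res (D_le a) a) ^ m • z) h0
    simp only [smul_zero, Finset.smul_sum, smul_smul, hb] at h6
    refine Eq.trans (Finset.sum_congr rfl fun i _ => ?_) h6
    rw [hζ, QCoh.map_smul', pr_res]
  obtain ⟨n, hn⟩ := hζ0 _ _ (pr h.1 k U a) (lvU_D a k) _ h5
  rw [← Submodule.Quotient.mk_smul, Submodule.Quotient.mk_eq_zero] at hn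
  obtain ⟨d, hd⟩ := (Submodule.mem_span_range_iff_exists_fun _).1 hn
  obtain ⟨v, hv⟩ := ((isUnit_pr hU a k).pow (n + m)).exists_left_inv
  refine ⟨fun j => v * resL k (D_le a) (d j), fun i => ?_⟩
  have h7 := congrArg (resL k (D_le a)) (congrFun hd i)
  rw [Finset.sum_apply, Pi.smul_apply, map_sum, smul_eq_mul, map_mul, map_pow, ← pr_res, ← pr_res,
    ← hb i, ← mul_assoc, ← pow_add] at h7
  have h8 := congrArg (v * ·) h7
  simp only [← mul_assoc, hv, one_mul, Finset.mul_sum] at h8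
  refine h8.symm.trans (Finset.sum_congr rfl fun j _ => ?_)
  rw [Pi.smul_apply, smul_eq_mul, map_mul, pr_res, mul_assoc]

end Groth.Agent.H26.FMod
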