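import Groth.Agent.H26.FMod.Compl
import Groth.Prelude.Def_FSch6

/-!
# Inverse images of coherent systems along morphisms of formal schemes
-/

noncomputable section

set_option autoImplicit false
set_option linter.style.haveILetI false
set_option backward.isDefEq.respectTransparency false
set_option backward.isDefEq.respectTransparency.types false

universe u

open CategoryTheory CategoryTheory.Limits TopologicalSpace Opposite AlgebraicGeometry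
open Groth.Agent.ModTensor Groth.Agent.ModPull Groth.Agent.LocalFactor Groth.Agent.SecGen

namespace Groth.Agent.H26.FMod

/-- Abstract units in a square. -/
lemma sq_gen {A0 A1 B0 B1 : Type*} [Category A0] [Category A1] [Category B0] [Category B1]
    {Pf : A1 ⥤ B1} {La : A1 ⥤ A0} {Pa : A0 ⥤ A1} (ada : La ⊣ Pa) {Lb : B1 ⥤ B0} {Pb : B0 ⥤ B1} (adb : Lb ⊣ Pb)
    {Lg : B0 ⥤ A0} {Pg : A0 ⥤ B0} (adg : Lg ⊣ Pg) {Q : A0 ⥤ B1} (c : Pa ⋙ Pf ≅ Q) (d : Pg ⋙ Pb ≅ Q)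
    {M : B1} {M1 : A1} {Z : A0} (uf : M ⟶ Pf.obj M1) (x : La.obj M1 ⟶ Z) (uq : M ⟶ Q.obj Z)
    {N : B0} (i : Z ⟶ Lg.obj (Lb.obj M)) (n : Lb.obj M ⟶ N)
    (h1 : uf ≫ Pf.map (ada.homEquiv _ _ x) ≫ c.hom.app Z = uq)
    (h2 : (adb.unit.app M ≫ Pb.map (adg.unit.app (Lb.obj M))) ≫ d.hom.app (Lg.obj (Lb.obj M)) =
      uq ≫ Q.map i) :
    uf ≫ Pf.map (ada.homEquiv _ _ ((x ≫ i) ≫ Lg.map n)) =
      (adb.homEquiv _ _ n ≫ Pb.map (adg.unit.app N)) ≫ d.hom.app _ ≫ c.inv.app _ := by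
  rw [Category.assoc x, ada.homEquiv_naturality_right, Pf.map_comp, ← cancel_mono (c.hom.app _)]
  simp only [Category.assoc, Iso.inv_hom_id_app]
  erw [c.hom.naturality, reassoc_of% h1, Q.map_comp, ← reassoc_of% h2, Category.comp_id, adb.homEquiv_unit]
  simp only [Category.assoc]
  refine congrArg (_ ≫ ·) ?_
  rw [← reassoc_of% (Pb.map_comp n (adg.unit.app N)), ← adg.unit_naturality n, Pb.map_comp, Category.assoc]
  exact congrArg (_ ≫ ·) (d.hom.naturality (Lg.map n)).symm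

/-- Composites with the comparison of a system. -/
lemma isIso_comp_gen {X0 Y0 XX YY : Type*} [Category X0] [Category Y0] [Category XX] [Category YY]
    {Lx : XX ⥤ X0} {Rx : X0 ⥤ XX} (ax : Lx ⊣ Rx) {L : YY ⥤ XX} {R : XX ⥤ YY} (a : L ⊣ R)
    {Ly : YY ⥤ Y0} {Ry : Y0 ⥤ YY} (ay : Ly ⊣ Ry) {Lf : Y0 ⥤ X0} {Rf : X0 ⥤ Y0} (af : Lf ⊣ Rf)
    (c : Rf ⋙ Ry ⟶ Rx ⋙ R) (M : YY)
    (hE : IsIso ((ax.homEquiv _ _).symm ((a.homEquiv M (Rx.obj ((Ly ⋙ Lf).obj M))).symm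
      ((ay.comp af).unit.app M ≫ c.app ((Ly ⋙ Lf).obj M)))))
    {N : Y0} (g : Ly.obj M ⟶ N) [IsIso g] (p : M ⟶ Ry.obj N) (hp : ay.homEquiv _ _ g = p) :
    IsIso ((ax.homEquiv _ _).symm ((a.homEquiv M (Rx.obj (Lf.obj N))).symm
      (p ≫ Ry.map (af.unit.app N) ≫ c.app (Lf.obj N)))) := by
  subst hp
  suffices e : (ax.homEquiv _ _).symm ((a.homEquiv M (Rx.obj (Lf.obj N))).symm
      (ay.homEquiv _ _ g ≫ Ry.map (af.unit.app N) ≫ c.app (Lf.obj N))) =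
      (ax.homEquiv _ _).symm ((a.homEquiv M (Rx.obj ((Ly ⋙ Lf).obj M))).symm
        ((ay.comp af).unit.app M ≫ c.app ((Ly ⋙ Lf).obj M))) ≫ Lf.map g by
    rw [e]; exact inferInstance
  apply (ax.homEquiv _ _).injective
  rw [ax.homEquiv_naturality_right, Equiv.apply_symm_apply, Equiv.apply_symm_apply]
  apply (a.homEquiv _ _).injective
  rw [a.homEquiv_naturality_right, Equiv.apply_symm_apply, Equiv.apply_symm_apply, Adjunction.comp_unit_app,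
    ay.homEquiv_unit]
  simp only [Category.assoc]
  erw [← c.naturality (Lf.map g)]
  refine congrArg (_ ≫ ·) ?_
  rw [← reassoc_of% (Ry.map_comp g (af.unit.app N)), ← af.unit_naturality g, Ry.map_comp, Category.assoc]
  rfl

/-- Abstract transition of inverse images. -/
lemma step_pb {A1 B1 B0 C D : Type*} [Category A1] [Category B1] [Category B0] [Category C] [Category D]
    {S : B1 ⥤ D} {S0 : B0 ⥤ D} {P : A1 ⥤ B1} {R1 : A1 ⥤ C} {R : C ⥤ D} {Pi : B0 ⥤ B1}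
    {M : D} {M1 : B1} {M0 : B0} {G1 Gi : A1} {Gk : B0} {X : C} (tY : M1 ⟶ Pi.obj M0) (u1 : M1 ⟶ P.obj G1)
    (u0 : M0 ⟶ Gk) (t : G1 ⟶ Gi) (pcX : R1.obj Gi ⟶ X) (pcY : Pi ⋙ S ⟶ S0) (sw : Pi.obj Gk ⟶ P.obj Gi)
    (i0 : S0.obj Gk ⟶ R.obj X) (p1 : M ⟶ S.obj M1) (p0 : M ⟶ S0.obj M0) {i1 : S.obj (P.obj G1) ⟶ R.obj (R1.obj G1)}
    (hp : p1 ≫ S.map tY ≫ pcY.app M0 = p0)
    (hA : u1 ≫ P.map t = (tY ≫ Pi.map u0) ≫ sw)
    {j1 : S.obj (P.obj Gi) ⟶ R.obj (R1.obj Gi)}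
    (hB : S.map sw ≫ j1 ≫ R.map pcX = pcY.app Gk ≫ i0)
    (c1 : ∀ G, S.obj (P.obj G) ⟶ R.obj (R1.obj G))
    (hnat : ∀ {G G'} (f : G ⟶ G'), S.map (P.map f) ≫ c1 G' = c1 G ≫ R.map (R1.map f))
    (e1 : i1 = c1 G1 := by rfl) (e2 : j1 = c1 Gi := by rfl) :
    (p1 ≫ S.map u1 ≫ i1) ≫ R.map (R1.map t ≫ pcX) = p0 ≫ S0.map u0 ≫ i0 := by
  subst e1 e2 hp
  rw [R.map_comp]
  simp only [Category.assoc]
  rw [← reassoc_of% (hnat t), ← reassoc_of% (S.map_comp u1 (P.map t)), hA, S.map_comp, S.map_comp]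
  simp only [Category.assoc]
  rw [hB]
  refine congrArg (p1 ≫ ·) (congrArg (S.map tY ≫ ·) ?_)
  exact (reassoc_of% (pcY.naturality u0)) i0

/-- The exchange of the direct images in a commutative square. -/
abbrev swapPush {A0 A1 B0 B1 : Scheme.{u}} (a : A0 ⟶ A1) (f : A1 ⟶ B1) (g : A0 ⟶ B0) (b : B0 ⟶ B1)
    (e : a ≫ f = g ≫ b) (G : A0.Modules) :
    (Scheme.Modules.pushforward b).obj ((Scheme.Modules.pushforward g).obj G) ⟶
      (Scheme.Modules.pushforward f).obj ((Scheme.Modules.pushforward a).obj G) :=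
  (Scheme.Modules.pushforwardComp g b).hom.app G ≫ (Scheme.Modules.pushforwardCongr e).inv.app G ≫
    (Scheme.Modules.pushforwardComp a f).inv.app G

/-- Units in a commutative square. -/
lemma unit_square {A0 A1 B0 B1 : Scheme.{u}} (a : A0 ⟶ A1) (f : A1 ⟶ B1) (g : A0 ⟶ B0) (b : B0 ⟶ B1)
    (e : a ≫ f = g ≫ b) (M : B1.Modules) {N : B0.Modules} (n : (Scheme.Modules.pullback b).obj M ⟶ N) :
    (Scheme.Modules.pullbackPushforwardAdjunction f).unit.app M ≫ (Scheme.Modules.pushforward f).map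
        ((Scheme.Modules.pullbackPushforwardAdjunction a).homEquiv _ _
          (((Scheme.Modules.pullbackComp a f).app M ≪≫ (Scheme.Modules.pullbackCongr e).app M ≪≫
            (Scheme.Modules.pullbackComp g b).symm.app M).hom ≫ (Scheme.Modules.pullback g).map n)) =
      ((Scheme.Modules.pullbackPushforwardAdjunction b).homEquiv _ _ n ≫ (Scheme.Modules.pushforward b).map
        ((Scheme.Modules.pullbackPushforwardAdjunction g).unit.app N)) ≫ swapPush a f g b e _ := by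
  let adf := Scheme.Modules.pullbackPushforwardAdjunction f
  let ada := Scheme.Modules.pullbackPushforwardAdjunction a
  have h1 := unit_pullComp a f (g ≫ b) e M
  have h2 := unit_conjugateEquiv ((Scheme.Modules.pullbackPushforwardAdjunction b).comp
      (Scheme.Modules.pullbackPushforwardAdjunction g)) (Scheme.Modules.pullbackPushforwardAdjunction (g ≫ b))
    (Scheme.Modules.pullbackComp g b).inv M
  rw [Scheme.Modules.conjugateEquiv_pullbackComp_inv, Adjunction.comp_unit_app] at h2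
  simp only [Iso.trans_hom, Iso.app_hom, Iso.symm_hom]
  rw [← Category.assoc ((Scheme.Modules.pullbackComp a f).hom.app M)]
  refine sq_gen (Pf := Scheme.Modules.pushforward f) (Pa := Scheme.Modules.pushforward a)
    (Pb := Scheme.Modules.pushforward b) (Pg := Scheme.Modules.pushforward g)
    (Q := Scheme.Modules.pushforward (g ≫ b)) ada (Scheme.Modules.pullbackPushforwardAdjunction b)
    (Scheme.Modules.pullbackPushforwardAdjunction g)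
    (Scheme.Modules.pushforwardComp a f ≪≫ Scheme.Modules.pushforwardCongr e)
    (Scheme.Modules.pushforwardComp g b) _ _ _
    ((Scheme.Modules.pullbackComp g b).inv.app M) n h1 ?_
  exact h2

variable {𝔛 𝔜 : FSch.Sys.{u}} (φ : 𝔛 ⟶ 𝔜) (hX : 𝔛.IsFormal) (hY : 𝔜.IsFormal)

/-- The square of direct images is compatible with the transitions. -/
lemma lvPushSq_succ (k : ℕ) (G : (𝔛.X k).Modules) :
    (FSch.levelMor 𝔜 hY (k + 1)).push.map
        (swapPush (𝔛.ι k) ((φ : FSch.Hom 𝔛 𝔜).app (k + 1)) ((φ : FSch.Hom 𝔛 𝔜).app k) (𝔜.ι k)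
          ((φ : FSch.Hom 𝔛 𝔜).comm k).symm G) ≫
        (FSch.lvPushSq φ hX hY (k + 1)).inv.app ((Scheme.Modules.pushforward (𝔛.ι k)).obj G) ≫
        (FSch.pushF φ hX hY).map ((FSch.pushCompare 𝔛 hX k).app G) =
      (FSch.pushCompare 𝔜 hY k).app ((Scheme.Modules.pushforward ((φ : FSch.Hom 𝔛 𝔜).app k)).obj G) ≫
        (FSch.lvPushSq φ hX hY k).inv.app G := by
  let f0 := (φ : FSch.Hom 𝔛 𝔜).app 0
  let fk := (φ : FSch.Hom 𝔛 𝔜).app k
  let fk1 := (φ : FSch.Hom 𝔛 𝔜).app (k + 1)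
  ext U x
  let a := U.unop
  change G.val.map (homOfLE (𝔛.lvU_le hX k (f0 ⁻¹ᵁ a))).op
      (G.val.map ((Opens.map (𝔛.ι k).base).map (eqToHom (FSch.Hom.lvU_preimage φ hX hY (k + 1) a).symm)).op
        (G.val.map (eqToHom (show (𝔛.ι k ≫ fk1) ⁻¹ᵁ 𝔜.lvU hY (k + 1) a = (fk ≫ 𝔜.ι k) ⁻¹ᵁ 𝔜.lvU hY (k + 1) a by
          rw [((φ : FSch.Hom 𝔛 𝔜).comm k).symm])).op x)) =
    G.val.map (eqToHom (FSch.Hom.lvU_preimage φ hX hY k a).symm).op
      (G.val.map ((Opens.map fk.base).map (homOfLE (𝔜.lvU_le hY k a))).op x)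
  refine (congrArg _ (QCoh.map_map (M := G) _ _ x)).trans ((QCoh.map_map (M := G) _ _ x).trans
    (Eq.trans ?_ (QCoh.map_map (M := G) _ _ x).symm))
  exact congrArg (fun q => G.presheaf.map (Quiver.Hom.op q) x) (Subsingleton.elim _ _)

variable (𝔐 : FSch.ModSys 𝔜)

/-- The levels of the inverse image of the module of a system. -/
abbrev psK (k : ℕ) :
    pullK k ((FSch.pullF φ hX hY).obj (𝔐.realMod hY)) ⟶ (FSch.ModSys.pullback φ 𝔐).F k :=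
  ((FSch.levelMor 𝔛 hX k).adj.homEquiv _ _).symm (((FSch.homMor φ hX hY).adj.homEquiv (𝔐.realMod hY)
    ((FSch.levelMor 𝔛 hX k).push.obj ((FSch.ModSys.pullback φ 𝔐).F k))).symm
      (FSch.realProj 𝔜 hY 𝔐.F 𝔐.toPush k ≫ (FSch.levelMor 𝔜 hY k).push.map
          ((ModSite.RMor.ofScheme ((φ : FSch.Hom 𝔛 𝔜).app k)).adj.unit.app (𝔐.F k)) ≫
        (FSch.lvPushSq φ hX hY k).inv.app ((FSch.ModSys.pullback φ 𝔐).F k)))

lemma homEquiv_psK (k : ℕ) :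
    (FSch.homMor φ hX hY).adj.homEquiv _ _ ((FSch.levelMor 𝔛 hX k).adj.homEquiv _ _ (psK φ hX hY 𝔐 k)) =
      FSch.realProj 𝔜 hY 𝔐.F 𝔐.toPush k ≫ (FSch.levelMor 𝔜 hY k).push.map
          ((ModSite.RMor.ofScheme ((φ : FSch.Hom 𝔛 𝔜).app k)).adj.unit.app (𝔐.F k)) ≫
        (FSch.lvPushSq φ hX hY k).inv.app ((FSch.ModSys.pullback φ 𝔐).F k) :=
  (congrArg _ (Equiv.apply_symm_apply _ _)).trans (Equiv.apply_symm_apply _ _)

lemma isIso_psK (k : ℕ) [IsIso (gK hY 𝔐 k)] : IsIso (psK φ hX hY 𝔐 k) := by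
  let fk := ModSite.RMor.ofScheme ((φ : FSch.Hom 𝔛 𝔜).app k)
  haveI hE := isIso_trans_gen (FSch.levelMor 𝔛 hX k).adj (FSch.homMor φ hX hY).adj
    ((FSch.levelMor 𝔜 hY k).adj.comp fk.adj) (FSch.lvPushSq φ hX hY k).inv (FSch.lvPushSq φ hX hY k).hom
    (fun G => Iso.inv_hom_id_app _ G) (fun G => Iso.hom_inv_id_app _ G) (𝔐.realMod hY)
  exact isIso_comp_gen (FSch.levelMor 𝔛 hX k).adj (FSch.homMor φ hX hY).adj (FSch.levelMor 𝔜 hY k).adj fk.adj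
    (FSch.lvPushSq φ hX hY k).inv (𝔐.realMod hY) hE (gK hY 𝔐 k) _ (Equiv.apply_symm_apply _ _)

lemma pullback_toPush (k : ℕ) :
    (FSch.ModSys.pullback φ 𝔐).toPush k =
      (Scheme.Modules.pullbackPushforwardAdjunction (𝔛.ι k)).homEquiv _ _
        ((FSch.ModSys.pullTrans φ k (𝔐.F (k + 1))).hom ≫
          (Scheme.Modules.pullback ((φ : FSch.Hom 𝔛 𝔜).app k)).map (𝔐.e k).hom) := rfl

lemma psK_transK (k : ℕ) :
    transK hX ((FSch.pullF φ hX hY).obj (𝔐.realMod hY)) k ≫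
        (Scheme.Modules.pushforward (𝔛.ι k)).map (psK φ hX hY 𝔐 k) =
      psK φ hX hY 𝔐 (k + 1) ≫ (FSch.ModSys.pullback φ 𝔐).toPush k := by
  haveI : ∀ G, Mono ((FSch.pushCompare 𝔛 hX k).app G) := fun G =>
    (SplitMono.mk _ (FSch.pushCompare_pushCompareInv 𝔛 hX k G)).mono
  refine trans_gen (FSch.levelMor 𝔛 hX (k + 1)).adj (FSch.levelMor 𝔛 hX k).adj (FSch.pushCompare 𝔛 hX k)
    (FSch.pushCompareInv 𝔛 hX k) (FSch.pushCompareInv_pushCompare 𝔛 hX k) (FSch.homMor φ hX hY).adj _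
    _ _ _ ?_
  rw [homEquiv_psK, homEquiv_psK]
  exact step_pb (S := (FSch.levelMor 𝔜 hY (k + 1)).push)
    (P := Scheme.Modules.pushforward ((φ : FSch.Hom 𝔛 𝔜).app (k + 1)))
    (R1 := (FSch.levelMor 𝔛 hX (k + 1)).push) (R := (FSch.homMor φ hX hY).push)
    (S0 := (FSch.levelMor 𝔜 hY k).push) (Pi := Scheme.Modules.pushforward (𝔜.ι k))
    _ _ _ _ _ (FSch.pushCompare 𝔜 hY k) _ _ _ _
    (FSch.realProj_map 𝔜 hY 𝔐.F 𝔐.toPush k)
    (by rw [pullback_toPush]; exact unit_square _ _ _ _ ((φ : FSch.Hom 𝔛 𝔜).comm k).symm _ (𝔐.e k).hom)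
    (lvPushSq_succ φ hX hY k _) (fun G => (FSch.lvPushSq φ hX hY (k + 1)).inv.app G)
    (fun f => (FSch.lvPushSq φ hX hY (k + 1)).inv.naturality f)

/-- The comparison of inverse images. -/
def pullCmp : (FSch.pullF φ hX hY).obj (𝔐.realMod hY) ⟶ (FSch.ModSys.pullback φ 𝔐).realMod hX :=
  toReal hX _ ≫ FSch.realLimMap 𝔛 hX (psK φ hX hY 𝔐)
    (fun k => (congrArg (fun t => t ≫ (Scheme.Modules.pushforward _).map (psK φ hX hY 𝔐 k))
      (toPush_sysOf _ k)).trans (psK_transK φ hX hY 𝔐 k))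

lemma pullCmp_adj (k : ℕ) :
    (FSch.homMor φ hX hY).adj.homEquiv _ _ (pullCmp φ hX hY 𝔐) ≫ (FSch.pushF φ hX hY).map
        (FSch.realProj 𝔛 hX _ _ k) ≫ (FSch.lvPushSq φ hX hY k).hom.app ((FSch.ModSys.pullback φ 𝔐).F k) =
      FSch.realProj 𝔜 hY _ _ k ≫ (FSch.levelMor 𝔜 hY k).push.map
        ((ModSite.RMor.ofScheme ((φ : FSch.Hom 𝔛 𝔜).app k)).adj.unit.app (𝔐.F k)) := by
  have e1 : pullCmp φ hX hY 𝔐 ≫ FSch.realProj 𝔛 hX _ _ k =
      (FSch.levelMor 𝔛 hX k).adj.homEquiv _ _ (psK φ hX hY 𝔐 k) := by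
    refine ((Category.assoc _ _ _).trans (congrArg (_ ≫ ·) (FSch.realLimMap_realProj _ hX _ _ k))).trans ?_
    refine ((Category.assoc _ _ _).symm.trans (congrArg (· ≫ _) (toReal_proj _ k))).trans ?_
    exact ((FSch.levelMor 𝔛 hX k).adj.homEquiv_unit _ _ _).symm
  rw [← Category.assoc, ← Adjunction.homEquiv_naturality_right, e1, homEquiv_psK, Category.assoc, Category.assoc]
  exact congrArg (_ ≫ ·) ((congrArg (_ ≫ ·) (Iso.inv_hom_id_app (FSch.lvPushSq φ hX hY k) _)).trans (Category.comp_id _))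

/-- For coherent systems the comparison is invertible. -/
theorem isIso_pullCmp (h𝔛 : 𝔛.IsLocNoethFormal) (h𝔜 : 𝔜.IsLocNoethFormal) (h𝔐 : 𝔐.IsCoh) :
    IsIso (pullCmp φ h𝔛.1 h𝔜.1 𝔐) := by
  haveI := isCohF_realMod h𝔜 h𝔐
  haveI := isIso_toReal h𝔛 ((FSch.pullF φ h𝔛.1 h𝔜.1).obj (𝔐.realMod h𝔜.1))
    (PullQc.isFinitePresentation_pull (FSch.homMor φ h𝔛.1 h𝔜.1) _)
  haveI : ∀ k, IsIso (gK h𝔜.1 𝔐 k) := fun k => isIso_gK h𝔜 𝔐 h𝔐 k
  haveI : ∀ k, IsIso (psK φ h𝔛.1 h𝔜.1 𝔐 k) := fun k => isIso_psK φ h𝔛.1 h𝔜.1 𝔐 k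
  haveI := isIso_realLimMap 𝔛 h𝔛.1 (psK φ h𝔛.1 h𝔜.1 𝔐)
    (G := (sysOf h𝔛.1 ((FSch.pullF φ h𝔛.1 h𝔜.1).obj (𝔐.realMod h𝔜.1))).F)
    (t := (sysOf h𝔛.1 ((FSch.pullF φ h𝔛.1 h𝔜.1).obj (𝔐.realMod h𝔜.1))).toPush)
    (G' := (FSch.ModSys.pullback φ 𝔐).F) (t' := (FSch.ModSys.pullback φ 𝔐).toPush)
  exact @IsIso.comp_isIso _ _ _ _ _ _ _ inferInstance (this _)

end Groth.Agent.H26.FMod
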