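import Groth.Agent.H26.FMod.ProIso
import Groth.Agent.H26.FMod.Algebraizable
import Groth.Agent.H26.FMod.ExistSupp
import Groth.Prelude.Def_FSch6

/-!
# Direct images of completed modules along proper morphisms
-/

noncomputable section

set_option autoImplicit false
set_option maxHeartbeats 1600000
set_option linter.style.haveILetI false
set_option backward.isDefEq.respectTransparency false
set_option backward.isDefEq.respectTransparency.types false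

universe u

open CategoryTheory CategoryTheory.Limits TopologicalSpace Opposite AlgebraicGeometry
open Groth.Agent.ModTensor Groth.Agent.ModPull

namespace Groth.Agent.H26.FMod

section Cone

variable {A : Type u} [CommRing A] (I : Ideal A) {X : Scheme.{u}} [X.Over (Spec (CommRingCat.of A))]
  (𝓚 : X.IdealSheafData) (h𝓚 : 𝓚 = (FSch.idealSpec A I).comap (X ↘ Spec (CommRingCat.of A)))
  [IsLocallyNoetherian X] (hX : (FSch.completionAlong X 𝓚).IsFormal) {M : X.Modules} (hM : Coh.IsCoh M)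

/-- The projection of a completed module to the quotients. -/
def projC (k : ℕ) : (toX 𝓚 hX).push.obj ((toX 𝓚 hX).pull.obj M) ⟶ Formal.modPow I (k + 1) M :=
  haveI := isIso_lvCmp I 𝓚 h𝓚 hX hM k
  (toX 𝓚 hX).push.map ((FSch.levelMor (FSch.completionAlong X 𝓚) hX k).adj.unit.app ((toX 𝓚 hX).pull.obj M)) ≫
    inv (lvCmp I 𝓚 h𝓚 hX hM k)

lemma unit_projC (k : ℕ) :
    (toX 𝓚 hX).adj.unit.app M ≫ projC I 𝓚 h𝓚 hX hM k = Formal.modPowπ I (k + 1) M := by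
  haveI := isIso_lvCmp I 𝓚 h𝓚 hX hM k
  refine (Category.assoc _ _ _).symm.trans ?_
  rw [IsIso.comp_inv_eq]
  exact (π_lvCmp I 𝓚 h𝓚 hX hM k).symm

/-- The systems of the levels and of the quotients. -/
def lvlIso : FSch.levelSysOf (FSch.completionAlong X 𝓚) hX (sysOf hX ((toX 𝓚 hX).pull.obj M)).F
      (sysOf hX ((toX 𝓚 hX).pull.obj M)).toPush ⋙ (toX 𝓚 hX).push ≅ Formal.completion I M :=
  haveI : ∀ k, IsIso (lvCmp I 𝓚 h𝓚 hX hM k) := fun k => isIso_lvCmp I 𝓚 h𝓚 hX hM k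
  NatIso.ofComponents (fun j => (asIso (lvCmp I 𝓚 h𝓚 hX hM j.unop)).symm) (by
    have h : ∀ k, ((toX 𝓚 hX).push.map (FSch.levelTrans (FSch.completionAlong X 𝓚) hX ((toX 𝓚 hX).pull.obj M) k)) ≫
        inv (lvCmp I 𝓚 h𝓚 hX hM k) = inv (lvCmp I 𝓚 h𝓚 hX hM (k + 1)) ≫ Formal.modPowTrans I (k + 1) M := fun k => by
      rw [IsIso.comp_inv_eq, Category.assoc, IsIso.eq_inv_comp]
      exact lvCmp_trans I 𝓚 h𝓚 hX hM k
    let α : FSch.levelSysOf (FSch.completionAlong X 𝓚) hX (sysOf hX ((toX 𝓚 hX).pull.obj M)).F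
        (sysOf hX ((toX 𝓚 hX).pull.obj M)).toPush ⋙ (toX 𝓚 hX).push ⟶ Formal.completion I M :=
      NatTrans.ofOpSequence (fun k => inv (lvCmp I 𝓚 h𝓚 hX hM k)) fun k => by
        rw [Functor.comp_map, ← levelTrans_eq, show (Formal.completion I M).map (homOfLE (Nat.le_add_right k 1)).op =
          Formal.modPowTrans I (k + 1) M from Functor.ofOpSequence_map_homOfLE_succ
            (X := fun n => Formal.modPow I (n + 1) M) (fun n => Formal.modPowTrans I (n + 1) M) k]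
        exact h k
    intro i j f
    exact α.naturality f)

/-- The cone of the completed module. -/
def coneC : Cone (Formal.completion I M) :=
  (Cone.postcompose (lvlIso I 𝓚 h𝓚 hX hM).hom).obj ((toX 𝓚 hX).push.mapCone (unitCone hX ((toX 𝓚 hX).pull.obj M)))

lemma coneC_π (j : ℕᵒᵖ) : (coneC I 𝓚 h𝓚 hX hM).π.app j = projC I 𝓚 h𝓚 hX hM j.unop := rfl

/-- The completed module is the limit of the quotients. -/
def isLimitConeC : IsLimit (coneC I 𝓚 h𝓚 hX hM) :=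
  haveI := isIso_toReal (S3854.result X 𝓚) ((toX 𝓚 hX).pull.obj M) (isFP_pull 𝓚 hX hM)
  haveI : PreservesLimitsOfSize.{0, 0} (toX 𝓚 hX).push := (toX 𝓚 hX).adj.rightAdjoint_preservesLimits
  (IsLimit.postcomposeHomEquiv (lvlIso I 𝓚 h𝓚 hX hM) _).symm (isLimitOfPreserves _
    (IsLimit.ofIsoLimit (limit.isLimit _)
      (Cone.ext (asIso (toReal hX ((toX 𝓚 hX).pull.obj M))) fun j => (toReal_proj _ j.unop).symm).symm))

/-- Direct image from the completion reflects isomorphisms. -/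
lemma isIso_of_isIso_toX_push {𝔉 𝔊 : FSch.ModF (FSch.completionAlong X 𝓚) hX} (θ : 𝔉 ⟶ 𝔊)
    (hθ : IsIso ((toX 𝓚 hX).push.map θ)) : IsIso θ := by
  have hs : ∀ V : ((FSch.completionAlong X 𝓚).X 0).Opens,
      Function.Bijective (((fg ((FSch.completionAlong X 𝓚).Osh hX)).map θ).app (op V)) := by
    intro V
    obtain ⟨t, ht, hVt⟩ := (FSch.completionToX X 𝓚 0).isClosedEmbedding.isInducing.isOpen_iff.1 V.2
    obtain rfl : (FSch.completionToX X 𝓚 0) ⁻¹ᵁ ⟨t, ht⟩ = V := Opens.ext hVt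
    exact (ConcreteCategory.isIso_iff_bijective (Scheme.Modules.Hom.app ((toX 𝓚 hX).push.map θ) ⟨t, ht⟩)).1
      (Scheme.Modules.Hom.isIso_iff_isIso_app.1 hθ ⟨t, ht⟩)
  haveI : IsIso ((fg ((FSch.completionAlong X 𝓚).Osh hX)).map θ) := by
    haveI : ∀ V, IsIso (((fg ((FSch.completionAlong X 𝓚).Osh hX)).map θ).app V) := fun V =>
      (ConcreteCategory.isIso_iff_bijective _).2 (hs V.unop)
    refine (isIso_iff_of_reflects_iso _ (PresheafOfModules.toPresheaf _)).1 ?_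
    refine @NatIso.isIso_of_isIso_app _ _ _ _ _ _ _ fun V => ?_
    exact (ConcreteCategory.isIso_iff_bijective _).2 (hs V.unop)
  exact isIso_of_reflects_iso θ (fg ((FSch.completionAlong X 𝓚).Osh hX))

end Cone

section Gen

variable {C D C' D' : Type*} [Category C] [Category D] [Category C'] [Category D'] {L : D ⥤ C} {R : C ⥤ D}
  (adj : L ⊣ R) {L' : D' ⥤ C'} {R' : C' ⥤ D'} (adj' : L' ⊣ R') (P : D' ⥤ D) (Φ : C' ⥤ C) (N : R' ⋙ P ≅ Φ ⋙ R)

/-- Compatibility of a comparison map with projections. -/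
lemma proj_gen {G : D'} {Lx : C} (uX : L.obj (P.obj G) ⟶ Lx) {Lz : C'} (uZ : L'.obj G ⟶ Lz)
    {QX : D} {QZ : D'} (cX : QX ⟶ R.obj Lx) [IsIso cX] (cZ : QZ ⟶ R'.obj Lz) [IsIso cZ]
    (πX : P.obj G ⟶ QX) [Epi πX] (πZ : G ⟶ QZ) (hX : πX ≫ cX = adj.unit.app _ ≫ R.map uX)
    (hZ : πZ ≫ cZ = adj'.unit.app G ≫ R'.map uZ) (cm : QX ⟶ P.obj QZ) (hm : πX ≫ cm = P.map πZ)
    (θ : L.obj (P.obj G) ⟶ Φ.obj (L'.obj G))
    (hθ : adj.homEquiv _ _ θ = P.map (adj'.unit.app G) ≫ N.hom.app _) (d : Lx ⟶ Φ.obj Lz)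
    (hd : uX ≫ d = θ ≫ Φ.map uZ) :
    R.map θ ≫ N.inv.app _ ≫ P.map (R'.map uZ ≫ inv cZ) = (R.map uX ≫ inv cX) ≫ cm := by
  have hn : R.map (Φ.map uZ) ≫ N.inv.app _ = N.inv.app _ ≫ P.map (R'.map uZ) := N.inv.naturality uZ
  have h1 : R.map θ ≫ N.inv.app _ ≫ P.map (R'.map uZ ≫ inv cZ) =
      (R.map uX ≫ inv cX) ≫ cX ≫ R.map d ≫ N.inv.app _ ≫ P.map (inv cZ) := by
    simp only [Category.assoc, IsIso.inv_hom_id_assoc]
    rw [← Functor.map_comp_assoc, hd, Functor.map_comp_assoc, reassoc_of% hn, Functor.map_comp]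
  refine h1.trans (congrArg ((R.map uX ≫ inv cX) ≫ ·) ?_)
  refine (cancel_epi πX).1 ?_
  have e : πX = adj.unit.app _ ≫ R.map uX ≫ inv cX := by
    rw [← Category.assoc, ← hX, Category.assoc, IsIso.hom_inv_id, Category.comp_id]
  have e' : πZ = adj'.unit.app G ≫ R'.map uZ ≫ inv cZ := by
    rw [← Category.assoc, ← hZ, Category.assoc, IsIso.hom_inv_id, Category.comp_id]
  rw [hm]
  conv_lhs => rw [e]
  rw [Category.assoc, ← h1]
  rw [adj.homEquiv_unit] at hθ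
  rw [reassoc_of% hθ]
  simp only [Functor.comp_obj, Iso.hom_inv_id_app_assoc, ← Functor.map_comp, ← e']

end Gen

section Push

variable {A : Type u} [CommRing A] (I : Ideal A) {X Z : Scheme.{u}}
  [X.Over (Spec (CommRingCat.of A))] [Z.Over (Spec (CommRingCat.of A))]
  (g : Z ⟶ X) (hg : g ≫ (X ↘ Spec (CommRingCat.of A)) = Z ↘ Spec (CommRingCat.of A))
  (𝓘 : X.IdealSheafData) (h𝓘 : 𝓘 = (FSch.idealSpec A I).comap (X ↘ Spec (CommRingCat.of A)))
  (𝓚 : Z.IdealSheafData) (h𝓚 : 𝓚 = (FSch.idealSpec A I).comap (Z ↘ Spec (CommRingCat.of A)))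
  [IsLocallyNoetherian Z] [IsLocallyNoetherian X]
  (hX : (FSch.completionAlong X 𝓘).IsFormal) (hZ : (FSch.completionAlong Z 𝓚).IsFormal)
  (hpc : FSch.PowCompat g 𝓚 𝓘) {G : Z.Modules}

/-- The square of the direct images. -/
abbrev sqN : (toX 𝓚 hZ).push ⋙ Scheme.Modules.pushforward g ≅
    FSch.pushF (FSch.completionMap g 𝓚 𝓘 hpc) hZ hX ⋙ (toX 𝓘 hX).push :=
  FSch.schPushSq (FSch.completionMap g 𝓚 𝓘 hpc) hZ hX g (FSch.completionToX Z 𝓚) (FSch.completionToX_comm Z 𝓚)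
    (FSch.completionToX X 𝓘) (FSch.completionToX_comm X 𝓘) (FSch.completionMap_sq g 𝓚 𝓘 hpc)

variable (G) in
/-- The comparison map. -/
def pushTheta : (toX 𝓘 hX).pull.obj ((Scheme.Modules.pushforward g).obj G) ⟶
    (FSch.pushF (FSch.completionMap g 𝓚 𝓘 hpc) hZ hX).obj ((toX 𝓚 hZ).pull.obj G) :=
  ((toX 𝓘 hX).adj.homEquiv _ _).symm
    ((Scheme.Modules.pushforward g).map ((toX 𝓚 hZ).adj.unit.app G) ≫ (sqN g 𝓘 𝓚 hX hZ hpc).hom.app _)

/-- A map to a direct image factors through the levels. -/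
def levelFactor {𝔐 : FSch.ModF (FSch.completionAlong X 𝓘) hX} {𝔑 : FSch.ModF (FSch.completionAlong Z 𝓚) hZ}
    (θ : 𝔐 ⟶ (FSch.pushF (FSch.completionMap g 𝓚 𝓘 hpc) hZ hX).obj 𝔑) (k : ℕ) :
    (FSch.levelMor (FSch.completionAlong X 𝓘) hX k).push.obj (pullK k 𝔐) ⟶
      (FSch.pushF (FSch.completionMap g 𝓚 𝓘 hpc) hZ hX).obj
        ((FSch.levelMor (FSch.completionAlong Z 𝓚) hZ k).push.obj (pullK k 𝔑)) :=
  (FSch.levelMor (FSch.completionAlong X 𝓘) hX k).push.map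
      (((FSch.levelMor (FSch.completionAlong X 𝓘) hX k).adj.homEquiv _ _).symm
        (θ ≫ (FSch.pushF (FSch.completionMap g 𝓚 𝓘 hpc) hZ hX).map
          ((FSch.levelMor (FSch.completionAlong Z 𝓚) hZ k).adj.unit.app 𝔑) ≫
          (FSch.lvPushSq (FSch.completionMap g 𝓚 𝓘 hpc) hZ hX k).hom.app _)) ≫
    (FSch.lvPushSq (FSch.completionMap g 𝓚 𝓘 hpc) hZ hX k).inv.app _

lemma unit_levelFactor {𝔐 : FSch.ModF (FSch.completionAlong X 𝓘) hX} {𝔑 : FSch.ModF (FSch.completionAlong Z 𝓚) hZ}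
    (θ : 𝔐 ⟶ (FSch.pushF (FSch.completionMap g 𝓚 𝓘 hpc) hZ hX).obj 𝔑) (k : ℕ) :
    (FSch.levelMor (FSch.completionAlong X 𝓘) hX k).adj.unit.app 𝔐 ≫ levelFactor g 𝓘 𝓚 hX hZ hpc θ k =
      θ ≫ (FSch.pushF (FSch.completionMap g 𝓚 𝓘 hpc) hZ hX).map
        ((FSch.levelMor (FSch.completionAlong Z 𝓚) hZ k).adj.unit.app 𝔑) := by
  refine (Category.assoc _ _ _).symm.trans ((congrArg (· ≫ _)
    ((Adjunction.homEquiv_unit _ _ _ _).symm.trans (Equiv.apply_symm_apply _ _))).trans ?_)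
  rw [Category.assoc, Category.assoc]
  exact congrArg (θ ≫ ·) ((congrArg ((FSch.pushF (FSch.completionMap g 𝓚 𝓘 hpc) hZ hX).map
    ((FSch.levelMor (FSch.completionAlong Z 𝓚) hZ k).adj.unit.app 𝔑) ≫ ·)
      (Iso.hom_inv_id_app (FSch.lvPushSq (FSch.completionMap g 𝓚 𝓘 hpc) hZ hX k) _)).trans (Category.comp_id _))

variable (hG : Coh.IsCoh G) (hP : Coh.IsCoh ((Scheme.Modules.pushforward g).obj G))

include hg in
lemma pushTheta_proj (k : ℕ) :
    (toX 𝓘 hX).push.map (pushTheta g 𝓘 𝓚 hX hZ hpc G) ≫ (sqN g 𝓘 𝓚 hX hZ hpc).inv.app _ ≫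
        (Scheme.Modules.pushforward g).map (projC I 𝓚 h𝓚 hZ hG k) =
      projC I 𝓘 h𝓘 hX hP k ≫ ExistEasy.cMapJ g hg (I ^ (k + 1)) G := by
  haveI : IsIso (lvCmp I 𝓘 h𝓘 hX hP k) := isIso_lvCmp I 𝓘 h𝓘 hX hP k
  haveI : IsIso (lvCmp I 𝓚 h𝓚 hZ hG k) := isIso_lvCmp I 𝓚 h𝓚 hZ hG k
  haveI : Epi (Formal.modPowπ I (k + 1) ((Scheme.Modules.pushforward g).obj G)) :=
    inferInstanceAs (Epi (cokernel.π _))
  exact proj_gen (toX 𝓘 hX).adj (toX 𝓚 hZ).adj (Scheme.Modules.pushforward g)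
    (FSch.pushF (FSch.completionMap g 𝓚 𝓘 hpc) hZ hX) (sqN g 𝓘 𝓚 hX hZ hpc)
    ((FSch.levelMor (FSch.completionAlong X 𝓘) hX k).adj.unit.app
      ((toX 𝓘 hX).pull.obj ((Scheme.Modules.pushforward g).obj G)))
    ((FSch.levelMor (FSch.completionAlong Z 𝓚) hZ k).adj.unit.app ((toX 𝓚 hZ).pull.obj G))
    (lvCmp I 𝓘 h𝓘 hX hP k) (lvCmp I 𝓚 h𝓚 hZ hG k)
    (Formal.modPowπ I (k + 1) ((Scheme.Modules.pushforward g).obj G)) (Formal.modPowπ I (k + 1) G)
    (π_lvCmp I 𝓘 h𝓘 hX hP k) (π_lvCmp I 𝓚 h𝓚 hZ hG k)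
    (ExistEasy.cMapJ g hg (I ^ (k + 1)) G) (ExistEasy.π_cMapJ g hg (I ^ (k + 1)) G)
    (pushTheta g 𝓘 𝓚 hX hZ hpc G) (Equiv.apply_symm_apply _ _)
    (levelFactor g 𝓘 𝓚 hX hZ hpc (pushTheta g 𝓘 𝓚 hX hZ hpc G) k)
    (unit_levelFactor g 𝓘 𝓚 hX hZ hpc (pushTheta g 𝓘 𝓚 hX hZ hpc G) k)

variable [AlgebraicGeometry.IsNoetherian X] [IsProper g]

include hg h𝓘 h𝓚 hG hP in
/-- Completion commutes with proper direct images. -/
theorem isIso_pushTheta : IsIso (pushTheta g 𝓘 𝓚 hX hZ hpc G) := by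
  haveI : PreservesLimitsOfSize.{0, 0} (Scheme.Modules.pushforward g) :=
    (Scheme.Modules.pullbackPushforwardAdjunction g).rightAdjoint_preservesLimits
  let c : Formal.completion I ((Scheme.Modules.pushforward g).obj G) ⟶
      Formal.completion I G ⋙ Scheme.Modules.pushforward g :=
    { app := fun n => ExistEasy.cMapJ g hg (I ^ (n.unop + 1)) G
      naturality := fun i j φ => by
        obtain ⟨i⟩ := i
        obtain ⟨j⟩ := j
        show ARSys.tr _ (leOfHom φ.unop) ≫ _ =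
          _ ≫ (Scheme.Modules.pushforward g).map (ARSys.tr (Formal.completion I G) (leOfHom φ.unop))
        rw [ExistEasy.completion_map_le, ExistEasy.completion_map_le]
        exact ExistEasy.trN_cMapJ g hg I G (leOfHom φ.unop) }
  have key : IsIso ((toX 𝓘 hX).push.map (pushTheta g 𝓘 𝓚 hX hZ hpc G) ≫ (sqN g 𝓘 𝓚 hX hZ hpc).inv.app _) := by
    refine isIso_of_proIso c (coneC I 𝓘 h𝓘 hX hP) (isLimitConeC I 𝓘 h𝓘 hX hP)
      ((Scheme.Modules.pushforward g).mapCone (coneC I 𝓚 h𝓚 hZ hG))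
      (isLimitOfPreserves _ (isLimitConeC I 𝓚 h𝓚 hZ hG)) _ (fun j => ?_) (fun n => ?_) (fun n => ?_)
    · exact (Category.assoc _ _ _).trans (pushTheta_proj I g hg 𝓘 h𝓘 𝓚 h𝓚 hX hZ hpc hG hP j.unop)
    · obtain ⟨m, h, ρ, h1, h2⟩ := ExistEasy.exists_ρ g hg hG I n
      refine ⟨m, h, ρ, h1.trans (ExistEasy.completion_map_le I _ h).symm, h2.trans ?_⟩
      exact congrArg (Scheme.Modules.pushforward g).map (ExistEasy.completion_map_le I G h).symm
    · obtain ⟨m, h, him⟩ := ExistEasy.formal_functions_image g hg hG I n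
      refine ⟨m, h, fun Q d hd => ?_⟩
      rw [← cokernel.π_desc _ d hd, ← Category.assoc]
      refine (congrArg (· ≫ _) ((congrArg (· ≫ _) ?_).trans him)).trans zero_comp
      exact congrArg (Scheme.Modules.pushforward g).map (ExistEasy.completion_map_le I G h)
  exact isIso_of_isIso_toX_push 𝓘 hX _ (@IsIso.of_isIso_comp_right _ _ _ _ _ _ _ inferInstance key)

end Push

end Groth.Agent.H26.FMod
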