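import Groth.Agent.H26.FMod.TorsInd

/-!
# Direct images from the levels
-/

noncomputable section

set_option autoImplicit false
set_option maxHeartbeats 1000000
set_option linter.style.haveILetI false
set_option backward.isDefEq.respectTransparency false
set_option backward.isDefEq.respectTransparency.types false

universe u

open CategoryTheory CategoryTheory.Limits TopologicalSpace Opposite AlgebraicGeometry
open Groth.Agent.ModTensor Groth.Agent.ModPull Groth.Agent.LocalFactor Groth.Agent.SecGen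
open Groth.Agent.H26.QPres

namespace Groth.Agent.H26.FMod

variable {𝔛 : FSch.Sys.{u}} (h : 𝔛.IsLocNoethFormal) (k : ℕ)

include h in
/-- The direct image of a coherent module on a level is coherent. -/
theorem isCohF_pushLvl {N : (𝔛.X k).Modules} (hq : Coh.IsQCoh N) (hft : CohB1.IsFT N) :
    FSch.IsCohF 𝔛 h.1 ((FSch.levelMor 𝔛 h.1 k).push.obj N) := by
  classical
  let P := (FSch.levelMor 𝔛 h.1 k).push.obj N
  refine isFP_of_affine fun U hU => ?_
  haveI := noetherian h hU
  have hV := isAffineOpen_lvU h.1 k hU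
  haveI : IsLocallyNoetherian (𝔛.X k) := h.2.2 k
  haveI hfin : Module.Finite (Lv h.1 k U) Γ(N, 𝔛.lvU h.1 k U) := QCoh.finite_of_isFT hq hft hV
  obtain ⟨n, x, hx⟩ := Module.Finite.exists_fin (R := Lv h.1 k U) (M := Γ(N, 𝔛.lvU h.1 k U))
  let y : Fin n → Sec P U := x
  obtain ⟨p, A, hA⟩ := Submodule.fg_iff_exists_fin_generating_family.1 (IsNoetherian.noetherian
    (LinearMap.ker (Fintype.linearCombination (Rg h.1 U) y)))
  have hrel : ∀ j, ∑ i, A j i • y i = 0 := fun j => by
    have h1 : A j ∈ LinearMap.ker (Fintype.linearCombination (Rg h.1 U) y) :=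
      hA ▸ Submodule.subset_span ⟨j, rfl⟩
    rwa [LinearMap.mem_ker, Fintype.linearCombination_apply] at h1
  have hres : ∀ (b : Rg h.1 U) (r : Fin n → Rg h.1 U), resM P (D_le b) (∑ i, r i • y i) =
      ∑ i, res (D_le b) (r i) • resM P (D_le b) (y i) := fun b r => by
    rw [resM_sum]
  refine ⟨presD h hU y A hrel (fun b t => ?_) fun b c hc => ?_⟩
  · obtain ⟨m, z, hz⟩ := (level_locM hq hV (pr h.1 k U b)
      ((Opens.map (𝔛.gInv h.1 k)).map (homOfLE (D_le b))) (lvU_D b k)).1 t
    obtain ⟨r, hr⟩ := (Submodule.mem_span_range_iff_exists_fun _).1 (hx ▸ trivial : z ∈ Submodule.span (Lv h.1 k U) (Set.range x))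
    choose r' hr' using fun i => pr_surjective h k hU (r i)
    have hz2 : resM P (D_le b) (∑ i, r' i • y i) = (res (D_le b) b) ^ m • t := by
      have e : (∑ i, r' i • y i : Sec P U) = z := by
        refine Eq.trans (Finset.sum_congr rfl fun i _ => ?_) hr
        show pr h.1 k U (r' i) • x i = r i • x i
        rw [hr']
      rw [e]
      refine hz.trans ?_
      show _ = pr h.1 k (D h.1 b) (res (D_le b) b ^ m) • (show Γ(N, 𝔛.lvU h.1 k (D h.1 b)) from t)
      rw [map_pow, pr_res]
    obtain ⟨v, hv⟩ := ((isUnit_res h hU b).pow m).exists_left_inv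
    refine ⟨fun i => v * res (D_le b) (r' i), ?_⟩
    have h2 := congrArg (v • ·) ((hres b r').symm.trans hz2)
    simp only [Finset.smul_sum, smul_smul, hv, one_smul] at h2
    exact h2.symm
  · obtain ⟨m, r, hr⟩ := num_fun h hU b k (fun i => pr h.1 k (D h.1 b) (c i))
    have h0 : resM P (D_le b) (∑ i, r i • y i) = 0 := by
      rw [hres]
      refine Eq.trans (Finset.sum_congr rfl fun i _ => ?_)
        ((Finset.smul_sum (r := res (D_le b) b ^ m)).symm.trans ((congrArg _ hc).trans (smul_zero _)))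
      rw [smul_smul]
      show pr h.1 k (D h.1 b) (res (D_le b) (r i)) • (show Γ(N, 𝔛.lvU h.1 k (D h.1 b)) from resM P (D_le b) (y i)) =
        pr h.1 k (D h.1 b) (res (D_le b) b ^ m * c i) • (show Γ(N, 𝔛.lvU h.1 k (D h.1 b)) from resM P (D_le b) (y i))
      rw [map_mul, map_pow, hr]
    obtain ⟨N₀, hN₀⟩ := (level_locM hq hV (pr h.1 k U b)
      ((Opens.map (𝔛.gInv h.1 k)).map (homOfLE (D_le b))) (lvU_D b k)).2 _ h0
    have h1 : (fun i => b ^ N₀ * r i) ∈ Submodule.span (Rg h.1 U) (Set.range A) := by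
      rw [hA, LinearMap.mem_ker, Fintype.linearCombination_apply]
      simp only [mul_smul, ← Finset.smul_sum]
      show pr h.1 k U (b ^ N₀) • (show Γ(N, 𝔛.lvU h.1 k U) from ∑ i, r i • y i) = (0 : Γ(N, 𝔛.lvU h.1 k U))
      rw [map_pow]
      exact hN₀
    obtain ⟨d, hd⟩ := (Submodule.mem_span_range_iff_exists_fun _).1 h1
    obtain ⟨v, hv⟩ := ((isUnit_res h hU b).pow (N₀ + m)).exists_left_inv
    have hV' := isAffineOpen_D hU b
    let T := SpanRes (D_le b) (LinearMap.ker (Fintype.linearCombination (Rg h.1 U) y))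
    have hJ : ∀ (i₀ : Fin n) (e : Rg h.1 (D h.1 b)), pr h.1 k (D h.1 b) e = 0 →
        (Pi.single i₀ e : Fin n → Rg h.1 (D h.1 b)) ∈ T := fun i₀ e he => by
      have he' : e ∈ (Jd h.1 U ^ (k + 1)).map (res (D_le b)) := by
        rwa [Ideal.map_pow, Jd_map h hU b, ← ker_pr h k hV', RingHom.mem_ker]
      let φ : Rg h.1 (D h.1 b) →ₗ[Rg h.1 (D h.1 b)] (Fin n → Rg h.1 (D h.1 b)) :=
        LinearMap.single (Rg h.1 (D h.1 b)) (fun _ => Rg h.1 (D h.1 b)) i₀
      show e ∈ Submodule.comap φ T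
      refine Ideal.map_le_iff_le_comap.2 (fun z hz => ?_) he'
      refine Submodule.subset_span ⟨Pi.single i₀ z, ?_, funext fun i => ?_⟩
      · rw [SetLike.mem_coe, LinearMap.mem_ker, Fintype.linearCombination_apply]
        refine Finset.sum_eq_zero fun i _ => ?_
        show pr h.1 k U (Pi.single (M := fun _ => Rg h.1 U) i₀ z i) • x i = 0
        rcases eq_or_ne i i₀ with rfl | hne
        · rw [Pi.single_eq_same, RingHom.mem_ker.1 ((ker_pr h k hU).symm ▸ hz), zero_smul]
        · rw [Pi.single_eq_of_ne hne, map_zero, zero_smul]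
      · show res (D_le b) (Pi.single (M := fun _ => Rg h.1 U) i₀ z i) =
          Pi.single (M := fun _ => Rg h.1 (D h.1 b)) i₀ (res (D_le b) z) i
        rcases eq_or_ne i i₀ with rfl | hne
        · rw [Pi.single_eq_same, Pi.single_eq_same]
        · rw [Pi.single_eq_of_ne hne, Pi.single_eq_of_ne hne, map_zero]
    have hT : c ∈ T := by
      have e : c = v • (fun i => res (D_le b) (b ^ N₀ * r i)) +
          ∑ i, Pi.single i (c i - v * res (D_le b) (b ^ N₀ * r i)) := by
        rw [Finset.univ_sum_single]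
        funext i
        simp
      rw [e]
      refine Submodule.add_mem _ (Submodule.smul_mem _ _ (Submodule.subset_span ⟨_, hA ▸ h1, rfl⟩))
        (Submodule.sum_mem _ fun i _ => hJ i _ ?_)
      rw [map_sub, sub_eq_zero, map_mul (res (D_le b)), map_pow (res (D_le b)), map_mul, map_mul, map_pow,
        ← hr i, ← mul_assoc (pr h.1 k (D h.1 b) (res (D_le b) b) ^ N₀), ← pow_add, ← mul_assoc]
      refine (one_mul _).symm.trans (congrArg (· * _) ?_)
      have := congrArg (pr h.1 k (D h.1 b)) hv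
      rw [map_mul, map_pow, map_one] at this
      exact this.symm
    exact spanRes_le (D_le b) A hA hT

include h in
/-- The direct image of a quasi-coherent module on a level is ind-coherent. -/
theorem ind_pushLvl {G : (𝔛.X k).Modules} (hG : Coh.IsQCoh G) :
    IndCoh ((FSch.levelMor 𝔛 h.1 k).push.obj G) := by
  classical
  let Φ := FSch.levelMor 𝔛 h.1 k
  haveI : IsLocallyNoetherian (𝔛.X k) := h.2.2 k
  have key : ∀ (U : (𝔛.X 0).affineOpens) (T : Set Γ(G, 𝔛.lvU h.1 k U.1)), T.Finite →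
      ∃ (C : FSch.ModF 𝔛 h.1) (v : C ⟶ Φ.push.obj G), FSch.IsCohF 𝔛 h.1 C ∧ Mono v ∧
        ∀ t ∈ T, ∃ y, mapS v U.1 y = t := fun U T hT => by
    have hs : QCoh.ExtStep (𝔛.lvU h.1 k U.1) := QCoh.extStep_noetherian (fun z => by
      obtain ⟨_, ⟨A, hA, rfl⟩, hzA, -⟩ := (𝔛.X k).isBasis_affineOpens.exists_subset_of_mem_open
        (Set.mem_univ z) isOpen_univ
      haveI := IsLocallyNoetherian.component_noetherian (X := 𝔛.X k) ⟨A, hA⟩
      exact ⟨A, hzA, noetherianSpace_of_isAffineOpen A hA⟩) _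
    obtain ⟨N, hN, hTN⟩ := QCoh.exists_ftOn_contains hG (isAffineOpen_lvU h.1 k U.2) hs T hT
    haveI : PreservesLimitsOfSize.{0, 0} Φ.push := Φ.adj.rightAdjoint_preservesLimits
    haveI : @Mono _ _ _ _ N.ι := QCoh.SubMod.mono_ι N
    refine ⟨Φ.push.obj N.toModules, Φ.push.map N.ι, isCohF_pushLvl h k (QCoh.isQCoh_of_ftOn hG hN)
      (QCoh.isFT_of_ftOn hG hN), preserves_mono_of_preservesLimit Φ.push N.ι, fun t ht => ?_⟩
    exact N.exists_app_eq (hTN ht)
  have hrel : RelFrom (𝟙 (Φ.push.obj G)) := fun U hU n x => by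
    obtain ⟨C, v, hC, _, hv⟩ := key ⟨U, hU⟩ (Set.range fun i => mapS (𝟙 (Φ.push.obj G)) U (x i))
      (Set.finite_range _)
    choose y hy using fun i => hv _ ⟨i, rfl⟩
    intro V hle hV c hc
    have h1 : RelMod y ≤ RelMod fun i => mapS (𝟙 (Φ.push.obj G)) U (x i) := fun r hr => by
      rw [mem_RelMod] at hr ⊢
      have := congrArg (mapS v U) hr
      rw [map_sum, map_zero] at this
      refine Eq.trans (Finset.sum_congr rfl fun i _ => ?_) this
      rw [map_smul, hy]
    refine Submodule.span_mono (Set.image_mono h1) (hasRel_ind h (ind_of_coh h hC) hU y hle hV c ?_)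
    refine app_injective v (op V) (Eq.trans ?_ (map_zero (mapS v V)).symm)
    refine (map_sum (mapS v V) _ _).trans (Eq.trans (Finset.sum_congr rfl fun i _ => ?_) hc)
    rw [map_smul]
    exact congrArg (c i • ·) ((mapS_res v hle (y i)).trans (congrArg _ (hy i)))
  choose C v hC _ hv using fun a : Σ U : (𝔛.X 0).affineOpens, Γ(G, 𝔛.lvU h.1 k U.1) =>
    key a.1 {a.2} (Set.finite_singleton _)
  refine ind_of_family h (𝟙 (Φ.push.obj G)) hrel C hC v fun Z p q hpq => hom_ext_affine h fun U hU x => ?_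
  obtain ⟨y, hy⟩ := hv ⟨⟨U, hU⟩, x⟩ x rfl
  have h1 := congrArg (fun r => mapS r U y) (hpq ⟨⟨U, hU⟩, x⟩)
  simp only [mapS_comp, mapS_id, hy] at h1
  exact h1

end Groth.Agent.H26.FMod
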