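import Groth.Agent.H26.FMod.QCat
import Groth.Agent.H26.FMod.OpenCoh

/-!
# Quasi-coherent modules on affine formal schemes are ind-coherent
-/

noncomputable section

set_option autoImplicit false
set_option maxHeartbeats 1000000
set_option linter.style.haveILetI false
set_option backward.isDefEq.respectTransparency false
set_option backward.isDefEq.respectTransparency.types false

universe u

open CategoryTheory CategoryTheory.Limits TopologicalSpace Opposite AlgebraicGeometry
open Groth.Agent.ModTensor Groth.Agent.ModPull Groth.Agent.LocalFactor Groth.Agent.SecGen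
open Groth.Agent.H26.QPres

attribute [local instance] Pres.fκ Pres.fρ

namespace Groth.Agent.H26.FMod

variable {𝔛 : FSch.Sys.{u}} (h : 𝔛.IsLocNoethFormal) {𝔉 : FSch.ModF 𝔛 h.1}

lemma res_self {hF : 𝔛.IsFormal} {U : (𝔛.X 0).Opens} (r : Rg hF U) : res (le_refl U) r = r :=
  ConcreteCategory.congr_hom ((𝔛.Osh hF).obj.map_id (op U)) r

include h in
/-- Relations between finitely many generators of a module with data come from global relations. -/
theorem hasRel_gens {U : (𝔛.X 0).Opens} (hU : IsAffineOpen U) (Q : QData (O := 𝔛.Osh h.1) 𝔉 U)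
    {n : ℕ} (e : Fin n → Q.I) (he : Function.Injective e) : HasRel 𝔉 U fun l => Q.g (e l) := by
  classical
  intro V hle hV c hc
  haveI := noetherian h hU
  refine mem_spanRes_local h hV hle _ c ?_
  let s : Finset Q.I := Finset.univ.image e
  let c' : Q.I → Rg h.1 V := fun i => ∑ l, if e l = i then c l else 0
  have hc0 : ∀ i ∉ s, c' i = 0 := fun i hi => Finset.sum_eq_zero fun l _ =>
    if_neg fun hl => hi (Finset.mem_image.2 ⟨l, Finset.mem_univ l, hl⟩)
  have hce : ∀ l, c' (e l) = c l := fun l => by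
    simp only [c', he.eq_iff, Finset.sum_ite_eq', Finset.mem_univ, if_true]
  have hc' : ∑ i ∈ s, c' i • rs ((fg (𝔛.Osh h.1)).obj 𝔉) (homOfLE hle).op (Q.g i) = 0 := by
    rw [Finset.sum_image fun a _ b _ hab => he hab]
    exact (Finset.sum_congr rfl fun l _ => by rw [hce l]).trans hc
  refine (Q.exact (homOfLE hle) s c' hc0 hc').bind fun V' k ⟨T, d, hT, hd⟩ => ?_
  refine locally_D h hU ((leOfHom k).trans hle) _ (fun a ha => ?_) fun V₁ V₂ g m hm => ?_
  · let S' : Finset Q.I := s ∪ T.biUnion fun r => r.support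
    let eT : Fin T.card → T := fun q => T.equivFin.symm q
    let F := fr (𝔛.Osh h.1) (S' : Type u)
    have hmem : ∀ l, e l ∈ S' := fun l => Finset.mem_union_left _ (Finset.mem_image_of_mem e (Finset.mem_univ l))
    let Y : Fin n ⊕ Fin T.card → Sec F U := Sum.elim (fun l => fsec ⟨e l, hmem l⟩ (op U))
      fun q => ∑ i : (S' : Type u), (eT q).1 i.1 • fsec i (op U)
    have hcoord : ∀ (γ : Fin n → Rg h.1 U) (δ : Fin T.card → Rg h.1 U) (i : (S' : Type u)),
        coord i (∑ z, Sum.elim γ δ z • Y z) =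
          (∑ l, if e l = i.1 then γ l else 0) + ∑ q, δ q * (eT q).1 i.1 := fun γ δ i => by
      rw [Fintype.sum_sum_type, show coord i ((∑ a₁, Sum.elim γ δ (Sum.inl a₁) • Y (Sum.inl a₁)) + ∑ a₂, Sum.elim γ δ (Sum.inr a₂) • Y (Sum.inr a₂)) = _ from map_add (((fg (𝔛.Osh h.1)).map (LocalFactor.pr i)).app (op U)).hom _ _]
      refine congrArg₂ (· + ·) ?_ ?_
      · refine (coord_sum i _ _).trans (Finset.sum_congr rfl fun l _ => ?_)
        refine (coord_smul i _ _).trans ((congrArg (γ l * ·) (coord_fsec i _ _)).trans ?_)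
        simp only [Subtype.ext_iff, mul_ite, mul_one, mul_zero]
      · refine (coord_sum i _ _).trans (Finset.sum_congr rfl fun q _ => ?_)
        exact (coord_smul i _ _).trans (congrArg (δ q * ·) (coord_sum_smul i _))
    let cD : Fin n → Rg h.1 (D h.1 a) := fun l => res (ha.trans (leOfHom k)) (c l)
    let dD : Fin T.card → Rg h.1 (D h.1 a) := fun q => - res ha (d (eT q).1)
    have hrel : ∑ z, Sum.elim cD dD z • resM F (D_le a) (Y z) = 0 := by
      rw [decomp (∑ z, Sum.elim cD dD z • resM F (D_le a) (Y z))]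
      refine Finset.sum_eq_zero fun i _ => ?_
      suffices coord i (∑ z, Sum.elim cD dD z • resM F (D_le a) (Y z)) = 0 by rw [this]; exact zero_smul _ _
      refine (coord_sum i _ _).trans ((Fintype.sum_sum_type _).trans ?_)
      have c1 : ∀ l, coord i (Sum.elim cD dD (Sum.inl l) • resM F (D_le a) (Y (Sum.inl l))) =
          cD l * res (D_le a) (if e l = i.1 then 1 else 0) := fun l => by
        refine (coord_smul i _ _).trans (congrArg (cD l * ·) ((coord_rs i _ _).trans (congrArg (res (D_le a)) ?_)))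
        exact (coord_fsec i _ _).trans (by simp only [Subtype.ext_iff])
      have c2 : ∀ q, coord i (Sum.elim cD dD (Sum.inr q) • resM F (D_le a) (Y (Sum.inr q))) =
          dD q * res (D_le a) ((eT q).1 i.1) := fun q =>
        (coord_smul i _ _).trans (congrArg (dD q * ·) ((coord_rs i _ _).trans
          (congrArg (res (D_le a)) (coord_sum_smul i _))))
      rw [Finset.sum_congr rfl fun l _ => c1 l, Finset.sum_congr rfl fun q _ => c2 q]
      have hd' := congrArg (res ha) (hd i.1)
      simp only [map_sum, map_mul] at hd'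
      have e1 : ∑ l, cD l * res (D_le a) (if e l = i.1 then 1 else 0) = res (ha.trans (leOfHom k)) (c' i.1) := by
        rw [map_sum]
        exact Finset.sum_congr rfl fun l _ => by split_ifs <;> simp [cD]
      rw [e1, show res (ha.trans (leOfHom k)) (c' i.1) = res ha (res (leOfHom k) (c' i.1)) from (res_res h _ _ _).symm,
        show res (leOfHom k) (c' i.1) = ((𝔛.Osh h.1).obj.map k.op).hom (c' i.1) from rfl, hd']
      refine (congrArg (_ + ·) (Finset.sum_congr rfl fun q _ => neg_mul _ _)).trans ?_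
      rw [Finset.sum_neg_distrib, ← sub_eq_add_neg, sub_eq_zero]
      refine (Finset.sum_attach T _).symm.trans ((Equiv.sum_comp T.equivFin.symm _).symm.trans
        (Finset.sum_congr rfl fun q _ => congrArg (res ha (d (eT q).1) * ·) ?_))
      exact res_res h ((leOfHom k).trans hle) ha _
    obtain ⟨p, A, hA⟩ := Submodule.fg_iff_exists_fin_generating_family.1 (IsNoetherian.noetherian (RelMod Y))
    obtain ⟨dd, hdd⟩ := spanRes_le (D_le a) A hA
      (hasRel_ind h (ind_of_coh h (isCohF_free (S' : Type u))) hU Y (D_le a) (isAffineOpen_D hU a) _ hrel)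
    refine mem_spanRes _ (fun j l => A j (Sum.inl l)) (fun j => ?_) dd fun l => hdd (Sum.inl l)
    rw [mem_RelMod]
    let γ : Fin n → Rg h.1 U := fun l => A j (Sum.inl l)
    let δ : Fin T.card → Rg h.1 U := fun q => A j (Sum.inr q)
    have h0 : ∑ z, Sum.elim γ δ z • Y z = 0 := by
      rw [show Sum.elim γ δ = A j from Sum.elim_comp_inl_inr (A j)]
      exact mem_RelMod.1 (hA ▸ Submodule.subset_span ⟨j, rfl⟩)
    have h1 : ∀ i : (S' : Type u), (∑ l, if e l = i.1 then γ l else 0) + ∑ q, δ q * (eT q).1 i.1 = 0 := fun i => by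
      rw [← hcoord γ δ i, h0]
      exact map_zero (((fg (𝔛.Osh h.1)).map (LocalFactor.pr i)).app (op U)).hom
    have h2 : ∑ i : (S' : Type u), ((∑ l, if e l = i.1 then γ l else 0) + ∑ q, δ q * (eT q).1 i.1) • Q.g i.1 = 0 :=
      Finset.sum_eq_zero fun i _ => by rw [h1 i]; exact zero_smul _ _
    simp only [add_smul, Finset.sum_add_distrib, Finset.sum_smul, ite_smul, zero_smul, mul_smul] at h2
    rw [Finset.sum_comm (s := (Finset.univ : Finset (S' : Type u))) (t := (Finset.univ : Finset (Fin n))),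
      Finset.sum_comm (s := (Finset.univ : Finset (S' : Type u))) (t := (Finset.univ : Finset (Fin T.card)))] at h2
    have h3 : ∀ q : Fin T.card, ∑ i : (S' : Type u), δ q • (eT q).1 i.1 • Q.g i.1 = 0 := fun q => by
      rw [← Finset.smul_sum]
      refine (congrArg (δ q • ·) ((Finset.sum_attach S' fun i => (eT q).1 i • Q.g i).trans ?_)).trans (smul_zero _)
      refine (Finset.sum_subset (fun i hi => Finset.mem_union_right _ (Finset.mem_biUnion.2 ⟨_, (eT q).2, hi⟩))
        fun i _ hi => ?_).symm.trans (Q.rel _ (hT (eT q).2))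
      rw [Finsupp.notMem_support_iff.1 hi]
      exact zero_smul _ _
    rw [Finset.sum_eq_zero (s := (Finset.univ : Finset (Fin T.card))) fun q _ => h3 q, add_zero] at h2
    refine Eq.trans (Finset.sum_congr rfl fun l _ => ?_) h2
    rw [Finset.sum_eq_single ⟨e l, hmem l⟩ (fun i _ hi => if_neg fun hh => hi (Subtype.ext hh.symm))
      (fun hh => absurd (Finset.mem_univ _) hh), if_pos rfl]
  · have key : ∀ w : Fin n → Rg h.1 V₁, w ∈ SpanRes ((leOfHom (m ≫ k)).trans hle) (RelMod fun l => Q.g (e l)) →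
        (fun i => res (leOfHom g) (w i)) ∈ SpanRes ((leOfHom ((g ≫ m) ≫ k)).trans hle) (RelMod fun l => Q.g (e l)) := by
      intro w hw
      induction hw using Submodule.span_induction with
      | mem w hw =>
        obtain ⟨r, hr, rfl⟩ := hw
        exact Submodule.subset_span ⟨r, hr, funext fun i => (res_res h _ _ _).symm⟩
      | zero =>
        rw [show (fun i => res (leOfHom g) ((0 : Fin n → Rg h.1 V₁) i)) = 0 from funext fun i => map_zero _]
        exact Submodule.zero_mem _
      | add p q _ _ hp hq =>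
        rw [show (fun i => res (leOfHom g) ((p + q) i)) =
          (fun i => res (leOfHom g) (p i)) + fun i => res (leOfHom g) (q i) from funext fun i => map_add _ _ _]
        exact Submodule.add_mem _ hp hq
      | smul r p _ hp =>
        rw [show (fun i => res (leOfHom g) ((r • p) i)) =
          res (leOfHom g) r • fun i => res (leOfHom g) (p i) from funext fun i => map_mul _ _ _]
        exact Submodule.smul_mem _ _ hp
    have h1 := key _ hm
    rw [show (fun i => res (leOfHom g) (res _ (c i))) = _ from funext fun i => res_res h _ _ _] at h1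
    exact h1

/-- A section over the whole space, as a compatible family. -/
def topSec {hF : 𝔛.IsFormal} {𝔊 : FSch.ModF 𝔛 hF} (x : Sec 𝔊 ⊤) : 𝔊.sections :=
  ⟨fun W => resM 𝔊 (le_top : W.unop ≤ ⊤) x, fun {V W} g => (SecGen.rs_op_comp g.unop _ x).symm⟩

include h in
/-- Modules with data on an affine formal scheme are ind-coherent. -/
theorem ind_of_qdata (hT : IsAffineOpen (⊤ : (𝔛.X 0).Opens)) (Q : QData (O := 𝔛.Osh h.1) 𝔉 ⊤) :
    IndCoh 𝔉 := by
  classical
  let π : ∀ s : Finset Q.I, fr (𝔛.Osh h.1) (s : Type u) ⟶ 𝔉 := fun s => fdesc fun i => topSec (Q.g i.1)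
  have hπ : ∀ (s : Finset Q.I) (i : (s : Type u)) (W : (𝔛.X 0).Opens),
      mapS (π s) W (fsec i (op W)) = resM 𝔉 le_top (Q.g i.1) := fun s i W => fdesc_fsec _ _ _
  have hw : ∀ {s t : Finset Q.I}, s ≤ t → Abelian.image.ι (π s) ≫ cokernel.π (π t) = 0 := fun {s t} hst => by
    let i : fr (𝔛.Osh h.1) (s : Type u) ⟶ fr (𝔛.Osh h.1) (t : Type u) :=
      fdesc fun a => SheafOfModules.freeSection (R := ModSite.ringSh (𝔛.Osh h.1)) (⟨a.1, hst a.2⟩ : (t : Type u))
    have hi : i ≫ π t = π s := by
      refine 𝔉.freeHomEquiv.injective (funext fun a => ?_)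
      refine Subtype.ext (funext fun W => ?_)
      show mapS (i ≫ π t) W.unop (fsec a W) = mapS (π s) W.unop (fsec a W)
      rw [mapS_comp, hπ s a]
      refine Eq.trans (congrArg (mapS (π t) W.unop) (fdesc_fsec _ a W)) ?_
      exact hπ t ⟨a.1, hst a.2⟩ W.unop
    rw [← cancel_epi (Abelian.factorThruImage (π s)), comp_zero, ← Category.assoc, Abelian.image.fac,
      ← hi, Category.assoc, cokernel.condition, comp_zero]
  let D : Finset Q.I ⥤ MonoOver 𝔉 :=
    { obj := fun s => MonoOver.mk (Abelian.image.ι (π s))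
      map := fun {s t} f => MonoOver.homMk (kernel.lift _ _ (hw (leOfHom f))) (kernel.lift_ι _ _ _)
      map_id := fun _ => Subsingleton.elim _ _
      map_comp := fun _ _ => Subsingleton.elim _ _ }
  refine ind_of_monos D (fun s => ?_) fun Z p q hpq => hom_ext_locally p q fun W t => ?_
  · let e : Fin s.card → (s : Type u) := fun l => s.equivFin.symm l
    have hgen : Gens (fr (𝔛.Osh h.1) (s : Type u)) (fun l => fsec (e l) (op (⊤ : (𝔛.X 0).Opens))) := by
      intro W f z
      refine ⟨⊤, GrothendieckTopology.top_mem _ _, fun V g _ => ⟨fun l => coord (e l) (rs _ g.op z), ?_⟩⟩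
      refine (decomp (rs _ g.op z)).trans ((Equiv.sum_comp s.equivFin.symm _).symm.trans ?_)
      exact Finset.sum_congr rfl fun i _ => congrArg (_ • ·) (rs_fsec _ _).symm
    have hy : (fun l => mapS (Abelian.image.ι (π s)) ⊤ (mapS (Abelian.factorThruImage (π s)) ⊤ (fsec (e l) (op ⊤)))) =
        fun l => Q.g (e l).1 := funext fun l => by
      rw [← mapS_comp, Abelian.image.fac, hπ]
      exact rs_id _
    obtain ⟨P⟩ := nonempty_pres_of_hasRel h hT _ (gens_epi (Abelian.factorThruImage (π s)) _ hgen)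
      (hasRel_mono (Abelian.image.ι (π s)) _ (by
        rw [hy]
        exact hasRel_gens h hT Q _ (Subtype.val_injective.comp s.equivFin.symm.injective)))
    refine isFinitePresentation_of_pres _ fun X => ⟨⊤, GrothendieckTopology.top_mem _ _, fun V g _ => ⟨?_⟩⟩
    exact presPull P (homOfLE le_top)
  · refine (Q.gen (homOfLE (le_top : W ≤ ⊤)) t).mono fun V k ⟨s, c, hc⟩ => ?_
    have hp : π s ≫ p = π s ≫ q := by
      rw [← Abelian.image.fac (π s), Category.assoc, Category.assoc]
      exact congrArg (_ ≫ ·) (hpq s)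
    refine (congrArg (mapS p V) hc).trans (Eq.trans ?_ (congrArg (mapS q V) hc).symm)
    rw [map_sum, map_sum]
    refine Finset.sum_congr rfl fun i hi => ?_
    rw [map_smul, map_smul]
    refine congrArg (c i • ·) ?_
    have h1 := congrArg (fun r => mapS r V (fsec (⟨i, hi⟩ : (s : Type u)) (op V))) hp
    simp only [mapS_comp, hπ] at h1
    exact h1

namespace OpenRes

open OpenTransfer

variable (V : (𝔛.X 0).Opens) (M : FSch.ModF 𝔛 h.1)

lemma bijective_ph (W : Opens ((sys h V).X 0)) : Function.Bijective (ph h V W) := by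
  haveI := isIso_cSh h V
  haveI : IsIso (phi h V) := inferInstanceAs (IsIso (inv (cSh h V)))
  haveI : IsIso ((phi h V).hom.app (op W)) :=
    inferInstanceAs (IsIso (((sheafToPresheaf _ _).map (phi h V)).app (op W)))
  exact ConcreteCategory.bijective_of_isIso ((phi h V).hom.app (op W))

lemma sum_mapRange_support {ι A B N : Type*} [AddCommMonoid N] [Zero A] [Zero B] (φ : A → B) (hφ : φ 0 = 0)
    (hi : Function.Injective φ) (r : ι →₀ A) (f : ι → B → N) :
    ∑ i ∈ (r.mapRange φ hφ).support, f i (r.mapRange φ hφ i) = ∑ i ∈ r.support, f i (φ (r i)) := by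
  rw [Finsupp.support_mapRange_of_injective hφ r hi]
  exact Finset.sum_congr rfl fun i _ => by rw [Finsupp.mapRange_apply]

/-- Data of a restriction give data. -/
theorem nonempty_qimg {W : Opens ((sys h V).X 0)}
    (Q : QData (O := (sys h V).Osh (hSys h V).1) ((res h V).obj M) W) :
    Nonempty (QData (O := 𝔛.Osh h.1) M ((imgF h V).obj W)) := by
  classical
  let φ : (Q.I →₀ ((sys h V).Osh (hSys h V).1).obj.obj (op W)) → (Q.I →₀ (𝔛.Osh h.1).obj.obj (op ((imgF h V).obj W))) :=
    fun r => r.mapRange (ph h V W) (map_zero _)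
  have hφ : Function.Injective φ := fun a b hab => Finsupp.ext fun i =>
    (bijective_ph h V W).1 (by
      have := DFunLike.congr_fun hab i
      simpa [φ] using this)
  refine ⟨{ I := Q.I, g := Q.g, rows := φ '' Q.rows, rel := ?_, gen := fun W' f t => ?_,
            exact := fun W' f s c hc0 hc => ?_ }⟩
  · rintro _ ⟨r, hr, rfl⟩
    exact (sum_mapRange_support (ph h V W) (map_zero _) (bijective_ph h V W).1 r
      (fun i x => x • id (α := Sec M ((imgF h V).obj W)) (Q.g i))).trans (Q.rel r hr)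
  · obtain ⟨W'', hW, rfl⟩ := exists_pre h V (leOfHom f)
    refine locally_img h V _ (Q.gen (homOfLE hW) t) (fun W₁ g hg => ?_) fun V' V'' g k hk => ?_
    · obtain ⟨s, c, hc⟩ := hg
      refine ⟨s, fun i => ph h V W₁ (c i), ?_⟩
      rw [Subsingleton.elim f ((imgF h V).map (homOfLE hW))]
      exact hc
    · obtain ⟨s, c, hc⟩ := hk
      refine ⟨s, fun i => ((𝔛.Osh h.1).obj.map g.op).hom (c i), ?_⟩
      rw [SecGen.rs_op_comp, hc, rs_sum]
      exact Finset.sum_congr rfl fun i _ => by rw [rs_smul, ← SecGen.rs_op_comp, Category.assoc]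
  · obtain ⟨W'', hW, rfl⟩ := exists_pre h V (leOfHom f)
    obtain rfl : f = (imgF h V).map (homOfLE hW) := Subsingleton.elim _ _
    choose c' hc' using fun i => (bijective_ph h V W'').2 (c i)
    obtain rfl : (fun i => ph h V W'' (c' i)) = c := funext hc'
    have h0 : ∀ i ∉ s, c' i = 0 := fun i hi => (bijective_ph h V W'').1 ((hc0 i hi).trans (map_zero _).symm)
    refine locally_img h V _ (Q.exact (homOfLE hW) s c' h0 hc) (fun W₁ g hg => ?_) fun V' V'' g k hk => ?_
    · obtain ⟨T, d, hT, hd⟩ := hg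
      refine ⟨T.image φ, fun r' => ph h V W₁ (d (Function.invFun φ r')), ?_, fun i => ?_⟩
      · intro r hr
        obtain ⟨r₀, h₀, rfl⟩ := Finset.mem_image.1 (Finset.mem_coe.1 hr)
        exact ⟨r₀, hT h₀, rfl⟩
      rw [Finset.sum_image fun a _ b _ hab => hφ hab, ← ph_res, hd i, map_sum]
      refine Finset.sum_congr rfl fun r _ => ?_
      simp only [Function.leftInverse_invFun hφ r]
      rw [map_mul, ← Functor.map_comp, ph_res]
      simp only [φ, Finsupp.mapRange_apply]
    · obtain ⟨T, d, hT, hd⟩ := hk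
      refine ⟨T, fun r => ((𝔛.Osh h.1).obj.map g.op).hom (d r), hT, fun i => ?_⟩
      rw [op_comp, Functor.map_comp]
      refine (congrArg ((𝔛.Osh h.1).obj.map g.op).hom (hd i)).trans ?_
      rw [map_sum]
      refine Finset.sum_congr rfl fun j _ => ?_
      rw [map_mul, Category.assoc, op_comp (f := g), Functor.map_comp]
      rfl

/-- Data give data of a restriction. -/
theorem nonempty_qres {W : Opens ((sys h V).X 0)} (Q : QData (O := 𝔛.Osh h.1) M ((imgF h V).obj W)) :
    Nonempty (QData (O := (sys h V).Osh (hSys h V).1) ((res h V).obj M) W) := by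
  classical
  choose inv hinv using fun W' => (bijective_ph h V W').2
  have inv0 : ∀ W', inv W' 0 = 0 := fun W' => (bijective_ph h V W').1 ((hinv W' 0).trans (map_zero _).symm)
  have invi : ∀ W', Function.Injective (inv W') := fun W' a b hab => (hinv W' a).symm.trans ((congrArg _ hab).trans (hinv W' b))
  let φ : (Q.I →₀ (𝔛.Osh h.1).obj.obj (op ((imgF h V).obj W))) → (Q.I →₀ ((sys h V).Osh (hSys h V).1).obj.obj (op W)) :=
    fun r => r.mapRange (inv W) (inv0 W)
  have hφ : Function.Injective φ := fun a b hab => Finsupp.ext fun i => invi W (by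
    have := DFunLike.congr_fun hab i
    simpa [φ] using this)
  have locdown : ∀ {W'' : Opens ((sys h V).X 0)} (P : ∀ ⦃W₁ : Opens ((sys h V).X 0)⦄, (W₁ ⟶ W'') → Prop)
      (P' : ∀ ⦃V' : (𝔛.X 0).Opens⦄, (V' ⟶ (imgF h V).obj W'') → Prop),
      ModPull.Locally (Opens.grothendieckTopology (𝔛.X 0)) ((imgF h V).obj W'') P' →
      (∀ ⦃V' V'' : (𝔛.X 0).Opens⦄ (g : V'' ⟶ V') (k : V' ⟶ (imgF h V).obj W''), P' k → P' (g ≫ k)) →
      (∀ ⦃W₁⦄ (g : W₁ ⟶ W''), P' ((imgF h V).map g) → P g) →
      ModPull.Locally (Opens.grothendieckTopology ((sys h V).X 0)) W'' P := by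
    intro W'' P P' hloc hdown hPP
    obtain ⟨S, hS, hP⟩ := hloc
    refine ⟨{ arrows := fun W₁ g => ∃ (V' : (𝔛.X 0).Opens) (k : V' ⟶ (imgF h V).obj W''), S k ∧ (imgF h V).obj W₁ ≤ V',
              downward_closed := fun {_ _ _} ⟨V', k, h1, h2⟩ g =>
                ⟨V', k, h1, (leOfHom ((imgF h V).map g)).trans h2⟩ }, fun y hy => ?_, ?_⟩
    · obtain ⟨V', k, hk, hyV⟩ := hS y.1 ⟨y, hy, rfl⟩
      obtain ⟨W₁, hW₁, e⟩ := exists_pre h V (leOfHom k)
      refine ⟨W₁, homOfLE hW₁, ⟨V', k, hk, e.le⟩, ?_⟩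
      obtain ⟨z, hz, ez⟩ := e.ge hyV
      exact (Subtype.val_injective ez : z = y) ▸ hz
    · rintro W₁ g ⟨V', k, hk, hle⟩
      refine hPP g ?_
      rw [Subsingleton.elim ((imgF h V).map g) (homOfLE hle ≫ k)]
      exact hdown _ _ (hP k hk)
  refine ⟨{ I := Q.I, g := Q.g, rows := φ '' Q.rows, rel := ?_, gen := fun W'' f t => ?_,
            exact := fun W'' f s c hc0 hc => ?_ }⟩
  · rintro _ ⟨r, hr, rfl⟩
    refine (sum_mapRange_support (inv W) (inv0 W) (invi W) r
      (fun i x => x • id (α := ((fg ((sys h V).Osh (hSys h V).1)).obj ((res h V).obj M)).obj (op W)) (Q.g i))).trans (Eq.trans ?_ (Q.rel r hr))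
    refine Finset.sum_congr rfl fun i _ => ?_
    show ph h V W (inv W (r i)) • Q.g i = _
    rw [hinv]
  · refine locdown _ _ (Q.gen ((imgF h V).map f) t) (fun V' V'' g k hk => ?_) fun W₁ g hg => ?_
    · obtain ⟨s, c, hc⟩ := hk
      refine ⟨s, fun i => ((𝔛.Osh h.1).obj.map g.op).hom (c i), ?_⟩
      rw [SecGen.rs_op_comp, hc, rs_sum]
      exact Finset.sum_congr rfl fun i _ => by rw [rs_smul, ← SecGen.rs_op_comp, Category.assoc]
    · obtain ⟨s, c, hc⟩ := hg
      refine ⟨s, fun i => inv W₁ (c i), hc.trans (Finset.sum_congr rfl fun i _ => ?_)⟩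
      exact congrArg (fun q : (𝔛.Osh h.1).obj.obj (op ((imgF h V).obj W₁)) =>
        q • id (α := Sec M ((imgF h V).obj W₁)) (rs ((fg (𝔛.Osh h.1)).obj M) ((imgF h V).map g ≫ (imgF h V).map f).op (Q.g i)))
        (hinv W₁ (c i)).symm
  · refine locdown _ _ (Q.exact ((imgF h V).map f) s (fun i => ph h V W'' (c i))
      (fun i hi => by rw [hc0 i hi, map_zero]) hc) (fun V' V'' g k hk => ?_) fun W₁ g hg => ?_
    · obtain ⟨T, d, hT, hd⟩ := hk
      refine ⟨T, fun r => ((𝔛.Osh h.1).obj.map g.op).hom (d r), hT, fun i => ?_⟩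
      rw [op_comp, Functor.map_comp]
      refine (congrArg ((𝔛.Osh h.1).obj.map g.op).hom (hd i)).trans ?_
      rw [map_sum]
      refine Finset.sum_congr rfl fun j _ => ?_
      rw [map_mul, Category.assoc, op_comp (f := g), Functor.map_comp]
      rfl
    · obtain ⟨T, d, hT, hd⟩ := hg
      refine ⟨T.image φ, fun r' => inv W₁ (d (Function.invFun φ r')), ?_, fun i => (bijective_ph h V W₁).1 ?_⟩
      · intro r hr
        obtain ⟨r₀, h₀, rfl⟩ := Finset.mem_image.1 (Finset.mem_coe.1 hr)
        exact ⟨r₀, hT h₀, rfl⟩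
      rw [ph_res, Finset.sum_image fun a _ b _ hab => hφ hab, hd i, map_sum]
      refine Finset.sum_congr rfl fun r _ => ?_
      rw [map_mul, hinv, Function.leftInverse_invFun hφ r, ph_res]
      simp only [φ, Finsupp.mapRange_apply, hinv]
      rw [← Functor.map_comp]

end OpenRes

end Groth.Agent.H26.FMod
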