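import Groth.Agent.H26.FMod.QPres
import Groth.Agent.H26.FMod.Ker
import Groth.Agent.SiteBase.PreservesSum
import Groth.Agent.SiteBase.ColimSec
import Mathlib.CategoryTheory.Limits.Indization.Category

/-!
# Quasi-coherent modules on locally Noetherian formal schemes
-/

noncomputable section

set_option autoImplicit false
set_option linter.style.haveILetI false
set_option backward.isDefEq.respectTransparency false
set_option backward.isDefEq.respectTransparency.types false

universe u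

open CategoryTheory CategoryTheory.Limits TopologicalSpace Opposite AlgebraicGeometry
open Groth.Agent.ModTensor Groth.Agent.ModPull Groth.Agent.LocalFactor Groth.Agent.SecGen
open Groth.Agent.H26.QPres

attribute [local instance] Pres.fκ Pres.fρ

namespace Groth.Agent.H26.FMod

variable {𝔛 : FSch.Sys.{u}} (h : 𝔛.IsLocNoethFormal)

lemma res_res {U V W : (𝔛.X 0).Opens} (hVU : V ≤ U) (hWV : W ≤ V) (x : Rg h.1 U) :
    res hWV (res hVU x) = res (hWV.trans hVU) x := by
  show (((𝔛.Osh h.1).obj.map (homOfLE hVU).op) ≫ (𝔛.Osh h.1).obj.map (homOfLE hWV).op).hom x = _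
  rw [← Functor.map_comp]
  rfl

include h in
/-- Membership in a submodule of a finite free module is local. -/
theorem mem_span_local {U : (𝔛.X 0).Opens} (hU : IsAffineOpen U) {κ : Type*} [Fintype κ]
    (N : Submodule (Rg h.1 U) (κ → Rg h.1 U)) (v : κ → Rg h.1 U)
    (hloc : ∀ x ∈ U, ∃ a : Rg h.1 U, x ∈ D h.1 a ∧
      (fun i => res (D_le a) (v i)) ∈ Submodule.span (Rg h.1 (D h.1 a))
        ((fun w : κ → Rg h.1 U => fun i => res (D_le a) (w i)) '' N)) : v ∈ N := by
  classical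
  haveI := noetherian h hU
  haveI := complete h hU
  refine mem_of_forall_mem_sup (Jd h.1 U) N v fun k => ?_
  suffices v ∈ N ⊔ Jd h.1 U ^ (k + 1) • ⊤ from
    (sup_le_sup_left (Submodule.smul_mono (Ideal.pow_le_pow_right (Nat.le_succ k)) le_rfl) N) this
  let I : Ideal (Rg h.1 U) :=
    (N ⊔ Jd h.1 U ^ (k + 1) • ⊤).comap (LinearMap.toSpanSingleton (Rg h.1 U) (κ → Rg h.1 U) v)
  suffices hI : I = ⊤ by
    have h1 : (1 : Rg h.1 U) ∈ I := hI ▸ trivial
    simpa [I] using h1
  have hJ : Jd h.1 U ≤ I.radical := fun r hr => ⟨k + 1, Submodule.mem_sup_right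
    (Submodule.smul_mem_smul (Ideal.pow_mem_pow hr (k + 1)) trivial)⟩
  refine Ideal.radical_eq_top.1 ?_
  have h0 : (I.radical).map (pr h.1 0 U) = ⊤ := by
    have hU0 := isAffineOpen_lvU h.1 0 hU
    refine top_unique ((hU0.self_le_iSup_basicOpen_iff (s := pr h.1 0 U '' I.radical)).1 ?_).ge
    intro x hx
    obtain ⟨a, hxa, ha⟩ := hloc x ((lvU_zero (hF := h.1) U).le hx)
    refine Opens.mem_iSup.2 ⟨⟨_, a, ?_, rfl⟩, hxa⟩
    obtain ⟨n, w, c, hc⟩ : ∃ (n : ℕ) (w : Fin n → N) (c : Fin n → Rg h.1 (D h.1 a)),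
        ∀ i, res (D_le a) (v i) = ∑ l, c l * res (D_le a) ((w l : κ → Rg h.1 U) i) := by
      rw [Submodule.mem_span_image_iff_exists_fun] at ha
      obtain ⟨t, ht, c, hc⟩ := ha
      refine ⟨t.card, fun l => ⟨_, ht (t.equivFin.symm l).2⟩, fun l => c (t.equivFin.symm l), fun i => ?_⟩
      refine (congrFun hc i).symm.trans ?_
      rw [Finset.sum_apply]
      exact ((Equiv.sum_comp t.equivFin.symm _).symm)
    obtain ⟨m, b, hb⟩ := num_fun h hU a k (fun l => pr h.1 k (D h.1 a) (c l))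
    let z : κ → Rg h.1 U := fun i => a ^ m * v i - ∑ l, b l * (w l : κ → Rg h.1 U) i
    have hz : ∀ i, ∃ N', a ^ N' * z i ∈ Jd h.1 U ^ (k + 1) := fun i => by
      obtain ⟨N', hN'⟩ := den hU a (z i) k (by
        simp only [z, map_sub, map_mul, map_pow, map_sum, hc i, Finset.mul_sum]
        rw [sub_eq_zero]
        refine Finset.sum_congr rfl fun l _ => ?_
        rw [← hb l, mul_assoc])
      exact ⟨N', by rwa [← ker_pr h k hU, RingHom.mem_ker]⟩
    choose e he using hz
    refine ⟨Finset.univ.sup e + m, ?_⟩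
    show a ^ (Finset.univ.sup e + m) • v ∈ N ⊔ Jd h.1 U ^ (k + 1) • ⊤
    have e1 : a ^ (Finset.univ.sup e + m) • v =
        (∑ l, (a ^ Finset.univ.sup e * b l) • (w l : κ → Rg h.1 U)) + fun i => a ^ Finset.univ.sup e * z i := by
      funext i
      simp only [Pi.smul_apply, smul_eq_mul, Pi.add_apply, Finset.sum_apply, z, mul_sub, Finset.mul_sum,
        mul_assoc, pow_add]
      ring
    rw [e1]
    refine Submodule.add_mem_sup (Submodule.sum_mem _ fun l _ => Submodule.smul_mem _ _ (w l).2)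
      (mem_smul_top_fun _ _ fun i => ?_)
    have h3 := Ideal.mul_mem_left (Jd h.1 U ^ (k + 1)) (a ^ (Finset.univ.sup e - e i)) (he i)
    rwa [← mul_assoc, ← pow_add, Nat.sub_add_cancel (Finset.le_sup (f := e) (Finset.mem_univ i))] at h3
  have h2 : I.radical ⊔ Jd h.1 U = ⊤ := by
    rw [← Ideal.comap_map_of_surjective' _ (pr_surjective h 0 hU), h0, Ideal.comap_top]
  rwa [sup_eq_left.2 hJ] at h2

/-- Restriction of data. -/
def qpull {𝔉 : FSch.ModF 𝔛 h.1} {U : (𝔛.X 0).Opens} (Q : QData (O := 𝔛.Osh h.1) 𝔉 U) {V : (𝔛.X 0).Opens}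
    (hle : V ≤ U) : QData (O := 𝔛.Osh h.1) 𝔉 V where
  I := Q.I
  g i := resM 𝔉 hle (Q.g i)
  rows := (fun r : Q.I →₀ Rg h.1 U => r.mapRange (res hle) (map_zero _)) '' Q.rows
  rel := by
    classical
    rintro _ ⟨r, hr, rfl⟩
    have h1 := congrArg (resM 𝔉 hle) (Q.rel r hr)
    rw [resM, rs_sum] at h1
    refine Eq.trans ?_ (h1.trans (map_zero _))
    refine (Finset.sum_subset Finsupp.support_mapRange fun i _ hi => ?_).trans
      (Finset.sum_congr rfl fun i _ => ?_)
    · rw [Finsupp.notMem_support_iff.1 hi]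
      exact zero_smul _ _
    · rw [rs_smul, Finsupp.mapRange_apply]
  gen W f t := (Q.gen (f ≫ homOfLE hle) t).mono fun V' k ⟨s, c, hc⟩ => ⟨s, c, hc.trans
    (Finset.sum_congr rfl fun i _ => congrArg (c i • ·) (SecGen.rs_op_comp (k ≫ f) (homOfLE hle) (Q.g i)))⟩
  exact W f s c hc0 hc := by
    classical
    refine (Q.exact (f ≫ homOfLE hle) s c hc0 (Eq.trans ?_ hc)).mono fun V' k ⟨T, d, hT, hd⟩ => ?_
    · exact Finset.sum_congr rfl fun i _ => congrArg (c i • ·) (SecGen.rs_op_comp f (homOfLE hle) (Q.g i))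
    let m : (Q.I →₀ Rg h.1 U) → (Q.I →₀ Rg h.1 V) := fun r => r.mapRange (res hle) (map_zero _)
    refine ⟨T.image m, fun r' => ∑ r ∈ T.filter (fun r => m r = r'), d r, ?_, fun i => ?_⟩
    · intro r' hr'
      obtain ⟨r, hr, rfl⟩ := Finset.mem_image.1 (Finset.mem_coe.1 hr')
      exact ⟨r, hT hr, rfl⟩
    rw [hd i, ← Finset.sum_fiberwise_of_maps_to (g := m) (fun r hr => Finset.mem_image_of_mem m hr)]
    refine Finset.sum_congr rfl fun r' _ => ?_
    rw [Finset.sum_mul]
    refine Finset.sum_congr rfl fun r hr => congrArg (d r * ·) ?_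
    rw [← (Finset.mem_filter.1 hr).2]
    simp only [m, Finsupp.mapRange_apply]
    rw [← Category.assoc, op_comp (g := homOfLE hle), Functor.map_comp]
    rfl

include h in
/-- Quasi-coherent modules have data near every point. -/
lemma exists_qdata (𝔉 : FSch.ModF 𝔛 h.1) [SheafOfModules.IsQuasicoherent.{u} (R := ModSite.ringSh (𝔛.Osh h.1)) 𝔉]
    {W : (𝔛.X 0).Opens} {x : 𝔛.X 0} (hx : x ∈ W) :
    ∃ U : (𝔛.X 0).Opens, IsAffineOpen U ∧ x ∈ U ∧ U ≤ W ∧ Nonempty (QData (O := 𝔛.Osh h.1) 𝔉 U) := by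
  obtain ⟨q⟩ := SheafOfModules.IsQuasicoherent.nonempty_quasicoherentData (R := ModSite.ringSh (𝔛.Osh h.1)) (M := 𝔉)
  obtain ⟨V, g, hg, hxV⟩ := q.coversTop W x hx
  obtain ⟨i, ⟨a⟩⟩ := (Sieve.mem_ofObjects_iff ..).1 hg
  obtain ⟨_, ⟨U, hU, rfl⟩, hxU, hle⟩ := (𝔛.X 0).isBasis_affineOpens.exists_subset_of_mem_open hxV V.2
  exact ⟨U, hU, hxU, fun y hy => leOfHom g (hle hy), nonempty_qdata 𝔉 (q.presentation i) (homOfLE hle ≫ a)
    fun T hT => PreservesSum.finite_refinement_opens U hU.isCompact T hT⟩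

variable {𝔉 : FSch.ModF 𝔛 h.1}

include h in
/-- Finitely many generators of a module with data give a finite presentation. -/
theorem pres_of_qdata {U : (𝔛.X 0).Opens} (hU : IsAffineOpen U) (Q : QData (O := 𝔛.Osh h.1) 𝔉 U) {n : ℕ}
    (e : Fin n → Q.I) (hgen : Gens 𝔉 (fun l => Q.g (e l))) : Nonempty (Pres (𝔛.Osh h.1) 𝔉 U) := by
  classical
  haveI := noetherian h hU
  have step : ∀ i : Q.I, ∃ a : Fin n → Rg h.1 U, Q.g i = ∑ l, a l • Q.g (e l) := by
    intro i
    have hloc : ∀ x ∈ U, ∃ a : Rg h.1 U, x ∈ D h.1 a ∧ ∃ (c : Fin n → Rg h.1 (D h.1 a))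
        (T : Finset (Q.I →₀ Rg h.1 U)) (d : (Q.I →₀ Rg h.1 U) → Rg h.1 (D h.1 a)), ↑T ⊆ Q.rows ∧
        ∀ j, (if j = i then 1 else 0) - ∑ l, (if e l = j then c l else 0) =
          ∑ r ∈ T, d r * res (D_le a) (r j) := by
      intro x hx
      obtain ⟨S, hS, hSp⟩ := hgen (W := U) (𝟙 U) (Q.g i)
      obtain ⟨V, g, hg, hxV⟩ := hS x hx
      obtain ⟨c, hc⟩ := hSp g hg
      let s : Finset Q.I := insert i (Finset.univ.image e)
      let w : Q.I → Rg h.1 V := fun j => (if j = i then 1 else 0) - ∑ l, (if e l = j then c l else 0)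
      have hw0 : ∀ j ∉ s, w j = 0 := fun j hj => by
        simp only [s, Finset.mem_insert, Finset.mem_image, Finset.mem_univ, true_and, not_or, not_exists] at hj
        simp [w, hj.1, hj.2]
      have hw : ∑ j ∈ s, w j • rs ((fg (𝔛.Osh h.1)).obj 𝔉) g.op (Q.g j) = 0 := by
        simp only [w, sub_smul, Finset.sum_sub_distrib, ite_smul, one_smul, zero_smul, Finset.sum_ite_eq',
          Finset.sum_smul]
        rw [if_pos (Finset.mem_insert_self _ _), hc, sub_eq_zero, Finset.sum_comm (s := s)]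
        refine Finset.sum_congr rfl fun l _ => ?_
        rw [Finset.sum_ite_eq, if_pos (Finset.mem_insert_of_mem (Finset.mem_image_of_mem e (Finset.mem_univ l)))]
        exact congrArg (c l • ·) (congrArg (fun q => rs ((fg (𝔛.Osh h.1)).obj 𝔉) q (Q.g (e l)))
          (Subsingleton.elim _ _))
      obtain ⟨S', hS', hSp'⟩ := Q.exact g s w hw0 hw
      obtain ⟨V', g', hg', hxV'⟩ := hS' x hxV
      obtain ⟨T, d, hT, hd⟩ := hSp' g' hg'
      obtain ⟨a, hxa, ha⟩ := exists_D h hU ((leOfHom g').trans (leOfHom g)) hxV'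
      refine ⟨a, hxa, fun l => res ha (res (leOfHom g') (c l)), T, fun r => res ha (d r), hT, fun j => ?_⟩
      have h1 := congrArg (res ha) (hd j)
      simp only [w, map_sub, map_sum, map_mul, apply_ite (DFunLike.coe ((((𝔛.Osh h.1)).obj.map g'.op).hom)),
        apply_ite (DFunLike.coe (res ha)), map_one, map_zero] at h1
      refine h1.trans (Finset.sum_congr rfl fun r _ => congrArg (res ha (d r) * ·) ?_)
      show res ha (res ((leOfHom g').trans (leOfHom g)) (r j)) = _
      rw [res_res h]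
    choose a hxa c T d hT hd using hloc
    obtain ⟨P, hP⟩ := hU.isCompact.elim_finite_subcover (fun x : U => (D h.1 (a x.1 x.2) : Set (𝔛.X 0)))
      (fun x => (D h.1 _).2) fun x hx => Set.mem_iUnion.2 ⟨⟨x, hx⟩, hxa x hx⟩
    let TT : Finset (Q.I →₀ Rg h.1 U) := P.biUnion fun x => T x.1 x.2
    let S' : Finset Q.I := insert i (Finset.univ.image e) ∪ TT.biUnion fun r => r.support
    let E : Finset (S' → Rg h.1 U) := (TT.image fun r => fun j : S' => r j.1) ∪
      (Finset.univ.image fun l => fun j : S' => if e l = j.1 then 1 else 0)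
    let N := Submodule.span (Rg h.1 U) (E : Set (S' → Rg h.1 U))
    have hv : (fun j : S' => (if j.1 = i then 1 else 0 : Rg h.1 U)) ∈ N := by
      refine mem_span_local h hU N _ fun x hx => ?_
      obtain ⟨y, hy, hxy⟩ := Set.mem_iUnion₂.1 (hP hx)
      refine ⟨a y.1 y.2, hxy, ?_⟩
      have e1 : (fun j : S' => res (D_le (a y.1 y.2)) (if j.1 = i then 1 else 0)) =
          (∑ r ∈ T y.1 y.2, d y.1 y.2 r • fun j : S' => res (D_le (a y.1 y.2)) (r j.1)) +
            ∑ l, c y.1 y.2 l • fun j : S' => res (D_le (a y.1 y.2)) (if e l = j.1 then 1 else 0) := by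
        funext j
        simp only [Pi.add_apply, Finset.sum_apply, Pi.smul_apply, smul_eq_mul, ← hd y.1 y.2 j.1,
          apply_ite (DFunLike.coe (res (D_le (a y.1 y.2)))), map_one, map_zero, mul_ite, mul_one, mul_zero,
          sub_add_cancel]
      rw [e1]
      refine Submodule.add_mem _ (Submodule.sum_mem _ fun r hr => Submodule.smul_mem _ _ ?_)
        (Submodule.sum_mem _ fun l _ => Submodule.smul_mem _ _ ?_)
      · exact Submodule.subset_span ⟨_, Submodule.subset_span (Finset.mem_coe.2 (Finset.mem_union_left _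
          (Finset.mem_image.2 ⟨r, Finset.mem_biUnion.2 ⟨y, hy, hr⟩, rfl⟩))), rfl⟩
      · exact Submodule.subset_span ⟨_, Submodule.subset_span (Finset.mem_coe.2 (Finset.mem_union_right _
          (Finset.mem_image.2 ⟨l, Finset.mem_univ l, rfl⟩))), rfl⟩
    let L : (S' → Rg h.1 U) →ₗ[Rg h.1 U] Sec 𝔉 U :=
      Fintype.linearCombination (Rg h.1 U) fun j : S' => Q.g j.1
    have hL : ∀ w ∈ N, L w ∈ Submodule.span (Rg h.1 U) (Set.range fun l => Q.g (e l)) := by
      intro w hw
      induction hw using Submodule.span_induction with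
      | mem w hw =>
        rcases Finset.mem_union.1 (Finset.mem_coe.1 hw) with hw | hw
        · obtain ⟨r, hr, rfl⟩ := Finset.mem_image.1 hw
          have h0 : L (fun j : S' => r j.1) = 0 := by
            rw [Fintype.linearCombination_apply]
            obtain ⟨y, hy, hr'⟩ := Finset.mem_biUnion.1 hr
            refine Eq.trans ?_ (Q.rel r (hT y.1 y.2 hr'))
            refine (Finset.sum_attach S' fun j => r j • Q.g j).trans
              (Finset.sum_subset (fun j hj => Finset.mem_union_right _ (Finset.mem_biUnion.2 ⟨r, hr, hj⟩))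
                fun j _ hj => ?_).symm
            rw [Finsupp.notMem_support_iff.1 hj]
            exact zero_smul _ _
          rw [h0]
          exact zero_mem _
        · obtain ⟨l, -, rfl⟩ := Finset.mem_image.1 hw
          refine Submodule.subset_span ⟨l, ?_⟩
          rw [Fintype.linearCombination_apply, Finset.sum_eq_single ⟨e l, Finset.mem_union_left _
            (Finset.mem_insert_of_mem (Finset.mem_image_of_mem e (Finset.mem_univ l)))⟩]
          · simp
          · intro j _ hj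
            rw [if_neg fun hh => hj (Subtype.ext hh.symm), zero_smul]
          · simp
      | zero => rw [map_zero]; exact zero_mem _
      | add _ _ _ _ h1 h2 => rw [map_add]; exact add_mem h1 h2
      | smul r _ _ h1 => rw [map_smul]; exact Submodule.smul_mem _ r h1
    have hi := hL _ hv
    rw [Fintype.linearCombination_apply, Finset.sum_eq_single ⟨i, Finset.mem_union_left _
      (Finset.mem_insert_self _ _)⟩ (fun j _ hj => by rw [if_neg fun hh => hj (Subtype.ext hh), zero_smul])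
      (by simp), if_pos rfl, one_smul] at hi
    obtain ⟨co, hco⟩ := (Submodule.mem_span_range_iff_exists_fun _).1 hi
    exact ⟨co, hco.symm⟩
  choose co hco using step
  let ι' := Set.range e
  let a' : Q.I → Fin n → Rg h.1 U := fun i =>
    if hi : i ∈ ι' then Pi.single hi.choose 1 else co i
  have ha' : ∀ i, Q.g i = ∑ l, a' i l • Q.g (e l) := fun i => by
    by_cases hi : i ∈ ι'
    · simp only [a', dif_pos hi, Pi.single_apply, ite_smul, one_smul, zero_smul, Finset.sum_ite_eq',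
        Finset.mem_univ, if_true]
      exact congrArg Q.g hi.choose_spec.symm
    · simp only [a', dif_neg hi]
      exact hco i
  let σ : (Q.I →₀ Rg h.1 U) → Fin n → Rg h.1 U := fun r l => ∑ i ∈ r.support, r i * a' i l
  let extra : Fin n × Fin n → Fin n → Rg h.1 U := fun p l => (Pi.single p.1 1 : Fin n → Rg h.1 U) l - (Pi.single p.2 1 : Fin n → Rg h.1 U) l
  let Ext : Set (Fin n → Rg h.1 U) := extra '' {p | e p.1 = e p.2}
  obtain ⟨p, A, hA⟩ := Submodule.fg_iff_exists_fin_generating_family.1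
    (IsNoetherian.noetherian (Submodule.span (Rg h.1 U) (σ '' Q.rows ∪ Ext)))
  have hrel0 : ∀ w ∈ Submodule.span (Rg h.1 U) (σ '' Q.rows ∪ Ext), ∑ l, w l • Q.g (e l) = 0 := by
    intro w hw
    induction hw using Submodule.span_induction with
    | mem w hw =>
      rcases hw with ⟨r, hr, rfl⟩ | ⟨q, hq, rfl⟩
      · refine Eq.trans ?_ (Q.rel r hr)
        simp only [σ, Finset.sum_smul, mul_smul]
        rw [Finset.sum_comm]
        refine Finset.sum_congr rfl fun i _ => ?_
        rw [← Finset.smul_sum, ← ha' i]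
      · simp only [extra, sub_smul, Finset.sum_sub_distrib, Pi.single_apply, ite_smul, one_smul, zero_smul,
          Finset.sum_ite_eq', Finset.mem_univ, if_true]
        rw [show e q.1 = e q.2 from hq, sub_self]
    | zero => simp
    | add x y _ _ hx hy => simp only [Pi.add_apply, add_smul, Finset.sum_add_distrib, hx, hy, add_zero]
    | smul r x _ hx => simp only [Pi.smul_apply, smul_eq_mul, mul_smul, ← Finset.smul_sum, hx, smul_zero]
  refine ⟨{ κ := Fin n, ρ := Fin p, fκ := inferInstance, fρ := inferInstance,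
            s := fun l => Q.g (e l), A := A,
            rel := fun j => hrel0 _ (hA ▸ Submodule.subset_span ⟨j, rfl⟩), gen := hgen,
            exact := fun W f c hc => ?_ }⟩
  let s : Finset Q.I := Finset.univ.image e
  let c' : Q.I → Rg h.1 W := fun i => ∑ l, if e l = i then c l else 0
  have hc0 : ∀ i ∉ s, c' i = 0 := fun i hi => by
    simp only [s, Finset.mem_image, Finset.mem_univ, true_and, not_exists] at hi
    simp [c', hi]
  have hc' : ∑ i ∈ s, c' i • rs ((fg (𝔛.Osh h.1)).obj 𝔉) f.op (Q.g i) = 0 := by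
    refine Eq.trans ?_ hc
    simp only [c', Finset.sum_smul, ite_smul, zero_smul]
    rw [Finset.sum_comm]
    exact Finset.sum_congr rfl fun l _ => by
      rw [Finset.sum_ite_eq, if_pos (Finset.mem_image_of_mem e (Finset.mem_univ l))]
  refine (Q.exact f s c' hc0 hc').mono fun V k ⟨T, d, hT, hd⟩ => ?_
  let hVU : V ≤ U := leOfHom (k ≫ f)
  have key : (fun l => res (leOfHom k) (c l)) ∈ Submodule.span (Rg h.1 V)
      ((fun w : Fin n → Rg h.1 U => fun l => res hVU (w l)) '' (σ '' Q.rows ∪ Ext)) := by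
    let s'' : Finset Q.I := s ∪ T.biUnion fun r => r.support
    have h1 : (fun l => ∑ i ∈ s'', res (leOfHom k) (c' i) * res hVU (a' i l)) =
        ∑ r ∈ T, d r • fun l => res hVU (σ r l) := by
      funext l
      simp only [Finset.sum_apply, Pi.smul_apply, smul_eq_mul, σ, map_sum, map_mul, Finset.mul_sum]
      rw [Finset.sum_congr rfl fun r hr => Finset.sum_subset (s₂ := s'')
        (fun i hi => Finset.mem_union_right _ (Finset.mem_biUnion.2 ⟨r, hr, hi⟩))
        (fun i _ hi => by rw [Finsupp.notMem_support_iff.1 hi]; simp), Finset.sum_comm]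
      refine Finset.sum_congr rfl fun i _ => ?_
      rw [show res (leOfHom k) (c' i) = _ from hd i, Finset.sum_mul]
      exact Finset.sum_congr rfl fun r _ => mul_assoc _ _ _
    have h2 : (fun l => res (leOfHom k) (c l)) = (fun l => ∑ i ∈ s'', res (leOfHom k) (c' i) * res hVU (a' i l)) +
        ∑ m, res (leOfHom k) (c m) • fun l => res hVU
          (extra (m, if hm : e m ∈ ι' then hm.choose else m) l) := by
      funext l
      simp only [c', map_sum, apply_ite (DFunLike.coe (res (leOfHom k))), map_zero, Finset.sum_mul, ite_mul,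
        zero_mul, Pi.add_apply, Finset.sum_apply, Pi.smul_apply, smul_eq_mul, extra]
      rw [Finset.sum_comm, ← Finset.sum_add_distrib]
      refine Eq.trans (b := ∑ m, res (leOfHom k) (c m) * res hVU ((Pi.single m 1 : Fin n → Rg h.1 U) l)) ?_
        (Finset.sum_congr rfl fun m _ => ?_).symm
      rotate_left
      · rw [Finset.sum_ite_eq, if_pos (Finset.mem_union_left _ (Finset.mem_image_of_mem e (Finset.mem_univ m))),
          ← mul_add]
        simp only [a', dif_pos (show e m ∈ ι' from ⟨m, rfl⟩), Pi.single_apply, map_sub, add_sub_cancel]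
      rw [Finset.sum_eq_single l (fun m _ hm => by rw [Pi.single_eq_of_ne hm.symm, map_zero, mul_zero])
        (fun hl => absurd (Finset.mem_univ l) hl), Pi.single_eq_same, map_one, mul_one]
    rw [h2, h1]
    refine Submodule.add_mem _ (Submodule.sum_mem _ fun r hr => Submodule.smul_mem _ _ ?_)
      (Submodule.sum_mem _ fun m _ => Submodule.smul_mem _ _ ?_)
    · exact Submodule.subset_span ⟨_, Or.inl ⟨r, hT hr, rfl⟩, rfl⟩
    · refine Submodule.subset_span ⟨_, Or.inr ⟨_, ?_, rfl⟩, rfl⟩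
      show e m = e (if hm : e m ∈ ι' then hm.choose else m)
      rw [dif_pos (show e m ∈ ι' from ⟨m, rfl⟩)]
      exact (show e m ∈ ι' from ⟨m, rfl⟩).choose_spec.symm
  have hle : Submodule.span (Rg h.1 V) ((fun w : Fin n → Rg h.1 U => fun l => res hVU (w l)) '' (σ '' Q.rows ∪ Ext)) ≤
      Submodule.span (Rg h.1 V) (Set.range fun j => fun l => res hVU (A j l)) := by
    rw [Submodule.span_le]
    rintro _ ⟨w, hw, rfl⟩
    obtain ⟨q, hq⟩ := (Submodule.mem_span_range_iff_exists_fun _).1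
      (hA.symm ▸ Submodule.subset_span hw : w ∈ Submodule.span (Rg h.1 U) (Set.range A))
    refine (Submodule.mem_span_range_iff_exists_fun _).2 ⟨fun j => res hVU (q j), funext fun l => ?_⟩
    refine (Finset.sum_apply l _ _).trans ?_
    show ∑ j, res hVU (q j) * res hVU (A j l) = res hVU (w l)
    rw [← congrFun hq l, Finset.sum_apply, map_sum]
    exact Finset.sum_congr rfl fun j _ => (map_mul _ _ _).symm
  obtain ⟨D', hD'⟩ := (Submodule.mem_span_range_iff_exists_fun _).1 (hle key)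
  refine ⟨D', fun l => ?_⟩
  have h3 := congrFun hD' l
  rw [Finset.sum_apply] at h3
  exact h3.symm.trans (Finset.sum_congr rfl fun j _ => rfl)

include h in
/-- Quasi-coherent modules of finite type are coherent. -/
theorem isCohF_of_qc_ft [SheafOfModules.IsQuasicoherent.{u} (R := ModSite.ringSh (𝔛.Osh h.1)) 𝔉]
    [SheafOfModules.IsFiniteType (R := ModSite.ringSh (𝔛.Osh h.1)) 𝔉] : FSch.IsCohF 𝔛 h.1 𝔉 := by
  classical
  refine isFinitePresentation_of_pres _ fun X => ?_
  refine ⟨{ arrows := fun V g => Nonempty (Pres (𝔛.Osh h.1) 𝔉 V),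
            downward_closed := fun {V V' f} ⟨P⟩ g => ⟨presPull P g⟩ }, ?_, fun V g hg => hg⟩
  intro x hx
  obtain ⟨U, hU, hxU, hUX, ⟨Q⟩⟩ := exists_qdata h 𝔉 hx
  obtain ⟨S, hS, hSp⟩ := locally_exists_gens 𝔉 U
  obtain ⟨V, g, hg, hxV⟩ := hS x hxU
  obtain ⟨n, t, ht⟩ := hSp g hg
  obtain ⟨S₁, hS₁, hSp₁⟩ := ModPull.Locally.forall_fintype fun l : Fin n => Q.gen g (t l)
  obtain ⟨V₁, g₁, hg₁, hxV₁⟩ := hS₁ x hxV
  choose s c hc using hSp₁ g₁ hg₁
  obtain ⟨a, hxa, ha⟩ := exists_D h hU ((leOfHom g₁).trans (leOfHom g)) hxV₁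
  refine ⟨D h.1 a, homOfLE ((D_le a).trans hUX), ?_, hxa⟩
  let T := Finset.univ.biUnion s
  refine pres_of_qdata h (isAffineOpen_D hU a) (qpull h Q (D_le a))
    (fun l : Fin T.card => (T.equivFin.symm l).1) (fun W f z => ?_)
  refine ((ht.pull g₁).pull (homOfLE ha) f z).mono fun V₂ k ⟨b, hb⟩ => ?_
  refine ⟨fun q => ∑ l, b l * ((if (T.equivFin.symm q).1 ∈ s l then
      (((𝔛.Osh h.1).obj.map ((k ≫ f) ≫ homOfLE ha).op).hom (c l (T.equivFin.symm q).1)) else 0)),
    hb.trans ?_⟩
  simp only [Finset.sum_smul, mul_smul]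
  rw [Finset.sum_comm]
  refine Finset.sum_congr rfl fun l _ => ?_
  rw [← Finset.smul_sum]
  refine congrArg (b l • ·) ?_
  rw [← SecGen.rs_op_comp (k ≫ f) (homOfLE ha), hc l, rs_sum]
  simp only [rs_smul, ite_smul, zero_smul]
  refine Eq.trans ?_ (Equiv.sum_comp T.equivFin.symm (fun x : T => if x.1 ∈ s l then
    (((𝔛.Osh h.1).obj.map ((k ≫ f) ≫ homOfLE ha).op)).hom (c l x.1) •
      rs ((fg (𝔛.Osh h.1)).obj 𝔉) (k ≫ f).op ((qpull h Q (D_le a)).g x.1) else 0)).symm
  refine Eq.trans ?_ (Finset.sum_attach T (fun i => if i ∈ s l then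
    (((𝔛.Osh h.1).obj.map ((k ≫ f) ≫ homOfLE ha).op)).hom (c l i) •
      rs ((fg (𝔛.Osh h.1)).obj 𝔉) (k ≫ f).op ((qpull h Q (D_le a)).g i) else 0)).symm
  rw [← Finset.sum_filter, Finset.filter_mem_eq_inter, Finset.inter_eq_right.2
    (Finset.subset_biUnion_of_mem s (Finset.mem_univ l))]
  refine Finset.sum_congr rfl fun i _ => congrArg (_ • ·) ?_
  simp only [qpull, resM, ← SecGen.rs_op_comp]
  rfl

include h in
/-- A quasi-coherent submodule of a coherent module is coherent. -/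
theorem isCohF_sub [SheafOfModules.IsQuasicoherent.{u} (R := ModSite.ringSh (𝔛.Osh h.1)) 𝔉]
    {𝔊 : FSch.ModF 𝔛 h.1} (h𝔊 : FSch.IsCohF 𝔛 h.1 𝔊) (ι : 𝔉 ⟶ 𝔊) [Mono ι] : FSch.IsCohF 𝔛 h.1 𝔉 := by
  classical
  haveI : SheafOfModules.IsFiniteType (R := ModSite.ringSh (𝔛.Osh h.1)) 𝔉 := by
    refine isFiniteType_of_gens _ fun X => ?_
    refine ⟨{ arrows := fun V g => ∃ (n : ℕ) (s : Fin n → Sec 𝔉 V), Gens 𝔉 s,
              downward_closed := fun {V V' f} ⟨n, s, hs⟩ g => ⟨n, _, hs.pull g⟩ }, ?_, fun V g hg => hg⟩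
    intro x hx
    obtain ⟨U, hU, hxU, hUX, ⟨Q⟩⟩ := exists_qdata h 𝔉 hx
    haveI := noetherian h hU
    haveI := finite_sec h h𝔊 hU
    haveI : Module.Finite (Rg h.1 U) (Sec 𝔉 U) := Module.Finite.of_injective (mapS ι U) (app_injective ι (op U))
    haveI := isNoetherian_of_isNoetherianRing_of_finite (Rg h.1 U) (Sec 𝔉 U)
    obtain ⟨t, ht, hspan⟩ := Submodule.fg_span_iff_fg_span_finset_subset (Set.range Q.g) |>.1
      (IsNoetherian.noetherian (Submodule.span (Rg h.1 U) (Set.range Q.g)))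
    refine ⟨U, homOfLE hUX, ⟨t.card, fun l => (t.equivFin.symm l).1, fun W f z => ?_⟩, hxU⟩
    refine (Q.gen f z).mono fun V k ⟨s, c, hc⟩ => ?_
    have hs : ∀ i, rs ((fg (𝔛.Osh h.1)).obj 𝔉) (k ≫ f).op (Q.g i) ∈ Submodule.span (Rg h.1 V)
        (Set.range fun l => rs ((fg (𝔛.Osh h.1)).obj 𝔉) (k ≫ f).op ((t.equivFin.symm l).1)) := fun i => by
      have h1 : Q.g i ∈ Submodule.span (Rg h.1 U) (Set.range fun l => (t.equivFin.symm l).1) := by
        have : Set.range (fun l => (t.equivFin.symm l).1) = (t : Set (Sec 𝔉 U)) := by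
          ext z
          exact ⟨fun ⟨l, hl⟩ => hl ▸ (t.equivFin.symm l).2,
            fun hz => ⟨t.equivFin ⟨z, hz⟩, by simp⟩⟩
        rw [this, ← hspan]
        exact Submodule.subset_span ⟨i, rfl⟩
      obtain ⟨q, hq⟩ := (Submodule.mem_span_range_iff_exists_fun _).1 h1
      rw [← hq, rs_sum]
      exact Submodule.sum_mem _ fun l _ => by
        rw [rs_smul]; exact Submodule.smul_mem _ _ (Submodule.subset_span ⟨l, rfl⟩)
    have h2 : rs ((fg (𝔛.Osh h.1)).obj 𝔉) k.op z ∈ _ :=
      hc ▸ Submodule.sum_mem _ fun i _ => Submodule.smul_mem _ (c i) (hs i)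
    obtain ⟨q, hq⟩ := (Submodule.mem_span_range_iff_exists_fun _).1 h2
    exact ⟨q, hq.symm⟩
  exact isCohF_of_qc_ft h

include h in
/-- A quasi-coherent quotient of a coherent module is coherent. -/
theorem isCohF_quot [SheafOfModules.IsQuasicoherent.{u} (R := ModSite.ringSh (𝔛.Osh h.1)) 𝔉]
    {𝔊 : FSch.ModF 𝔛 h.1} (h𝔊 : FSch.IsCohF 𝔛 h.1 𝔊) (π : 𝔊 ⟶ 𝔉) [Epi π] : FSch.IsCohF 𝔛 h.1 𝔉 := by
  classical
  haveI := h𝔊
  haveI : SheafOfModules.IsFiniteType (R := ModSite.ringSh (𝔛.Osh h.1)) 𝔉 := by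
    refine isFiniteType_of_gens _ fun X => (locally_exists_gens 𝔊 X).mono fun V g ⟨n, s, hs⟩ => ?_
    refine ⟨n, fun l => mapS π V (s l), fun W f z => ?_⟩
    refine (locally_exists_app_eq π z).bind fun W₁ g₁ ⟨m, hm⟩ => (hs (g₁ ≫ f) m).mono fun W₂ g₂ ⟨c, hc⟩ => ?_
    refine ⟨c, ?_⟩
    rw [SecGen.rs_op_comp, ← hm, ← app_rs, hc, map_sum]
    refine Finset.sum_congr rfl fun l _ => ?_
    rw [map_smul, app_rs, Category.assoc]
  exact isCohF_of_qc_ft h

end Groth.Agent.H26.FMod
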