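import Groth.Agent.SiteBase.SecGen
import Groth.Agent.SiteBase.QcSum

/-!
# Presentations with arbitrary index types, elementwise
-/

noncomputable section

set_option autoImplicit false
set_option linter.style.haveILetI false
set_option linter.unusedSectionVars false
set_option backward.isDefEq.respectTransparency false

universe u

open CategoryTheory CategoryTheory.Limits Opposite
open Groth.Agent.ModTensor Groth.Agent.ModPull Groth.Agent.LocalFactor Groth.Agent.SecGen

namespace Groth.Agent.H26.QPres

variable {C : Type u} [SmallCategory C] {J : GrothendieckTopology C} {O : Sheaf J CommRingCat.{u}}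

section Free

variable {ι : Type u}

open Classical in
lemma coord_fsec' (i k : ι) (X : Cᵒᵖ) : coord i (fsec (O := O) k X) = if k = i then 1 else 0 := by
  refine (fdesc_fsec _ k X).trans ?_
  by_cases hk : k = i
  · rw [if_pos hk, if_pos hk]; rfl
  · rw [if_neg hk, if_neg hk]; rfl

open Classical in
lemma coord_finset (i : ι) {X : Cᵒᵖ} (s : Finset ι) (a : ι → O.obj.obj X) :
    coord i (∑ k ∈ s, a k • fsec (O := O) k X) = if i ∈ s then a i else 0 := by
  refine (map_sum (((fg O).map (pr i)).app X).hom _ s).trans ?_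
  have h : ∀ k, ((fg O).map (pr i)).app X (a k • fsec (O := O) k X) = if k = i then a k else 0 := fun k => by
    refine (map_smul (((fg O).map (pr i)).app X).hom _ _).trans ?_
    show a k * coord i (fsec (O := O) k X) = _
    rw [coord_fsec', mul_ite, mul_one, mul_zero]
  rw [Finset.sum_congr rfl fun k _ => h k, Finset.sum_ite_eq']

lemma coord_map (i : ι) {X Y : Cᵒᵖ} (g : X ⟶ Y) (z : ((fg O).obj (fr O ι)).obj X) :
    coord i (rs ((fg O).obj (fr O ι)) g z) = (O.obj.map g).hom (coord i z) :=
  app_rs ((fg O).map (pr i)) g z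

/-- Sections of free modules are locally finite combinations of the basis. -/
theorem decomp_local {W : C} (z : ((fg O).obj (fr O ι)).obj (op W)) :
    ModPull.Locally J W (fun V g => ∃ s : Finset ι, rs ((fg O).obj (fr O ι)) g.op z =
      ∑ i ∈ s, coord i (rs ((fg O).obj (fr O ι)) g.op z) • fsec i (op V)) := by
  classical
  obtain ⟨T, hT, hTs⟩ := QcSum.exists_local_sum O (fun _ : ι => ModSite.unit O) (U := W) z
  refine ⟨T, hT, fun V g hg => ?_⟩
  obtain ⟨s, y, hy⟩ := hTs V g hg
  let a : ι → O.obj.obj (op V) := y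
  have h1 : rs ((fg O).obj (fr O ι)) g.op z = ∑ i ∈ s, a i • fsec i (op V) := by
    refine hy.trans (Finset.sum_congr rfl fun i _ => ?_)
    have e : Sigma.ι (fun _ : ι => ModSite.unit O) i =
        (fr O ι).unitHomEquiv.symm (SheafOfModules.freeSection i) :=
      ((fr O ι).unitHomEquiv.eq_symm_apply.2 (congrArg _ (Category.comp_id (SheafOfModules.ιFree (R := ModSite.ringSh O) i)).symm))
    rw [e]
    exact unitDesc_app _ _
  refine ⟨s, h1.trans (Finset.sum_congr rfl fun i hi => ?_)⟩
  rw [h1, coord_finset, if_pos hi]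

end Free

/-- Presentation data with arbitrary index types. -/
structure QData (F : ModSite.Mod O) (U : C) where
  /-- The indices of the generators. -/
  I : Type u
  /-- The generators. -/
  g : I → ((fg O).obj F).obj (op U)
  /-- The relations. -/
  rows : Set (I →₀ O.obj.obj (op U))
  rel : ∀ r ∈ rows, ∑ i ∈ r.support, r i • g i = 0
  gen : ∀ ⦃W : C⦄ (f : W ⟶ U) (t : ((fg O).obj F).obj (op W)),
    ModPull.Locally J W (fun V k => ∃ (s : Finset I) (c : I → O.obj.obj (op V)),
      rs ((fg O).obj F) k.op t = ∑ i ∈ s, c i • rs ((fg O).obj F) (k ≫ f).op (g i))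
  exact : ∀ ⦃W : C⦄ (f : W ⟶ U) (s : Finset I) (c : I → O.obj.obj (op W)), (∀ i ∉ s, c i = 0) →
    ∑ i ∈ s, c i • rs ((fg O).obj F) f.op (g i) = 0 →
    ModPull.Locally J W (fun V k => ∃ (T : Finset (I →₀ O.obj.obj (op U))) (d : (I →₀ O.obj.obj (op U)) → O.obj.obj (op V)),
      ↑T ⊆ rows ∧ ∀ i, (O.obj.map k.op).hom (c i) = ∑ r ∈ T, d r * (O.obj.map (k ≫ f).op).hom (r i))

/-- Arbitrary presentations give data over quasi-compact objects below. -/
theorem nonempty_qdata (F : ModSite.Mod O) {U₀ : C} (P : (SheafOfModules.over F U₀).Presentation) {U : C}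
    (a : U ⟶ U₀) (hfin : ∀ T ∈ J U, ∃ (n : Type u) (_ : Finite n) (Y : n → C) (f : ∀ i, Y i ⟶ U),
      (∀ i, (T : Sieve U) (f i)) ∧ Sieve.ofArrows Y f ∈ J U) :
    Nonempty (QData F U) := by
  classical
  let OU := O.over U₀
  let FU := (ModSite.restr O U₀).obj F
  let π : fr OU P.generators.I ⟶ FU := P.generators.π
  haveI : Epi π := P.generators.epi
  let g' : fr OU P.relations.I ⟶ kernel π := P.relations.π
  haveI : Epi g' := P.relations.epi
  let θ : fr OU P.relations.I ⟶ fr OU P.generators.I := g' ≫ kernel.ι π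
  let T : Over U₀ := Over.mk a
  let gs : P.generators.I → ((fg O).obj F).obj (op U) := fun i => ((fg OU).map π).app (op T) (fsec i (op T))
  have hs : ∀ (W : Over U₀) (h : W ⟶ T) (i : P.generators.I), ((fg OU).map π).app (op W) (fsec i (op W)) =
      rs ((fg O).obj F) h.left.op (gs i) := fun W h i => by
    rw [← rs_fsec (O := OU) i h.op, app_rs]
    rfl
  have hsum : ∀ (W : Over U₀) (h : W ⟶ T) (s : Finset P.generators.I) (c : P.generators.I → O.obj.obj (op W.left)),
      ((fg OU).map π).app (op W) (∑ i ∈ s, (c i : OU.obj.obj (op W)) • fsec i (op W)) =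
        ∑ i ∈ s, c i • rs ((fg O).obj F) h.left.op (gs i) := fun W h s c => by
    refine (map_sum (((fg OU).map π).app (op W)).hom _ _).trans (Finset.sum_congr rfl fun i _ => ?_)
    exact (map_smul (((fg OU).map π).app (op W)).hom _ _).trans (congrArg (fun z => c i • z) (hs W h i))
  let row : P.relations.I → ((fg OU).obj (fr OU P.generators.I)).obj (op T) := fun j =>
    ((fg OU).map θ).app (op T) (fsec j (op T))
  have hrow : ∀ j, ∃ s : Finset P.generators.I,
      row j = ∑ i ∈ s, coord (O := OU) i (row j) • fsec i (op T) := by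
    intro j
    obtain ⟨S, hS, hSp⟩ := decomp_local (O := OU) (W := T) (row j)
    obtain ⟨n, hn, Y, f, hf, hcov⟩ := hfin (Sieve.overEquiv T S) ((J.mem_over_iff S).1 hS)
    have := Fintype.ofFinite n
    choose s hsk using fun k => hSp _ ((Sieve.overEquiv_iff S (f k)).1 (hf k))
    refine ⟨Finset.univ.biUnion s, eq_of_locally' (fr OU P.generators.I) ?_⟩
    refine ⟨(Sieve.overEquiv T).symm (Sieve.ofArrows Y f), J.overEquiv_symm_mem_over T _ hcov, fun W' l hl => ?_⟩
    rw [Sieve.overEquiv_symm_iff] at hl
    obtain ⟨Z, b, c', ⟨k⟩, e⟩ := hl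
    let Y' : Over U₀ := Over.mk (f k ≫ a)
    let l₁ : W' ⟶ Y' := Over.homMk b ((Category.assoc b (f k) a).symm.trans
      ((congrArg (· ≫ a) e).trans (Over.w l)))
    let l₂ : Y' ⟶ T := Over.homMk (f k) rfl
    rw [show l = l₁ ≫ l₂ from Over.OverMorphism.ext e.symm]
    rw [SecGen.rs_op_comp, SecGen.rs_op_comp]
    refine congrArg (rs _ l₁.op) ?_
    refine (hsk k).trans (Eq.trans ?_ (rs_sum _ _ _).symm)
    refine Eq.trans ?_ (Finset.sum_congr rfl fun i _ => (by rw [rs_smul, rs_fsec, ← coord_map] :
      coord (O := OU) i (rs ((fg OU).obj (fr OU P.generators.I)) l₂.op (row j)) • fsec i (op Y') =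
        rs ((fg OU).obj (fr OU P.generators.I)) l₂.op (coord (O := OU) i (row j) • fsec i (op T))))
    refine Finset.sum_subset (Finset.subset_biUnion_of_mem s (Finset.mem_univ k)) fun i _ hi => ?_
    have h0 := congrArg (coord (O := OU) i) (hsk k)
    rw [coord_finset, if_neg hi] at h0
    rw [h0, zero_smul]
  choose sj hsj using hrow
  have hA : ∀ j i, coord (O := OU) i (row j) ≠ 0 → i ∈ sj j := fun j i hi => by
    by_contra hn
    apply hi
    rw [hsj j, coord_finset, if_neg hn]
  let R : P.relations.I → (P.generators.I →₀ O.obj.obj (op U)) := fun j =>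
    Finsupp.onFinset (sj j) (fun i => (coord (O := OU) i (row j) : O.obj.obj (op U))) (hA j)
  refine ⟨{ I := P.generators.I, g := gs, rows := Set.range R, rel := ?_, gen := fun W f t => ?_,
            exact := fun W f s c hc0 hc => ?_ }⟩
  · rintro _ ⟨j, rfl⟩
    have h0 : ((fg OU).map π).app (op T) (row j) = 0 :=
      congrArg (fun k : fr OU P.relations.I ⟶ _ => ((fg OU).map k).app (op T) (fsec j (op T)))
        ((Category.assoc g' (kernel.ι π) π).trans ((congrArg (g' ≫ ·) (kernel.condition π)).trans comp_zero))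
    rw [hsj j] at h0
    have h1 := (hsum T (𝟙 T) (sj j) fun i => coord (O := OU) i (row j)).symm.trans h0
    refine Eq.trans ?_ h1
    refine (Finset.sum_subset (Finsupp.support_onFinset_subset) fun i _ hi => ?_).trans
      (Finset.sum_congr rfl fun i _ => congrArg (_ • ·) (rs_id (gs i)).symm)
    rw [Finsupp.notMem_support_iff.1 hi]
    exact zero_smul _ _
  · let W' : Over U₀ := Over.mk (f ≫ a)
    refine Locally.of_over W' ((locally_exists_app_eq (O := OU) π (W := W') t).bind
      fun V k hk => (show ModPull.Locally (J.over U₀) V (fun V' k' =>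
        ∃ (s : Finset P.generators.I) (c : P.generators.I → O.obj.obj (op V'.left)),
        rs ((fg O).obj F) (k' ≫ k).left.op t =
          ∑ i ∈ s, c i • rs ((fg O).obj F) ((k' ≫ k).left ≫ f).op (gs i)) from ?_)) fun V k hk => hk
    obtain ⟨m, hm⟩ := hk
    refine (decomp_local (O := OU) m).mono fun V' k' ⟨s, hs'⟩ => ⟨s, fun i => coord (O := OU) i (rs _ k'.op m), ?_⟩
    let h : V' ⟶ T := Over.homMk ((k' ≫ k).left ≫ f) ((Category.assoc _ _ _).trans (Over.w (k' ≫ k)))
    refine Eq.trans ?_ ((congrArg (((fg OU).map π).app (op V')).hom hs').trans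
      (hsum V' h s (fun i => coord (O := OU) i (rs _ k'.op m))))
    refine Eq.trans ?_ (app_rs ((fg OU).map π) k'.op m).symm
    exact (SecGen.rs_op_comp k'.left k.left t).trans (congrArg (rs ((fg O).obj F) k'.left.op) hm.symm)
  · let W' : Over U₀ := Over.mk (f ≫ a)
    let hW : W' ⟶ T := Over.homMk f rfl
    let z : ((fg OU).obj (fr OU P.generators.I)).obj (op W') :=
      ∑ i ∈ s, (c i : OU.obj.obj (op W')) • fsec i (op W')
    have hz : ((fg OU).map π).app (op W') z = 0 := (hsum W' hW s c).trans hc
    let SS := ShortComplex.mk (kernel.ι π) π (kernel.condition π)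
    have hSS : SS.ShortExact :=
      { exact := ShortComplex.exact_of_f_is_kernel _ (kernelIsKernel π), epi_g := ‹Epi π› }
    obtain ⟨w, hw⟩ := exists_app_eq_of_exact (O := OU) hSS (U := W') z hz
    refine Locally.of_over W' ((locally_exists_app_eq (O := OU) g' (W := W') w).bind
      fun V k hk => (show ModPull.Locally (J.over U₀) V (fun V' k' =>
        ∃ (T' : Finset (P.generators.I →₀ O.obj.obj (op U)))
          (d : (P.generators.I →₀ O.obj.obj (op U)) → O.obj.obj (op V'.left)),
          ↑T' ⊆ Set.range R ∧ ∀ i, (O.obj.map (k' ≫ k).left.op).hom (c i) =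
            ∑ r ∈ T', d r * (O.obj.map ((k' ≫ k).left ≫ f).op).hom (r i)) from ?_)) fun V k hk => hk
    obtain ⟨p, hp⟩ := hk
    refine (decomp_local (O := OU) p).mono fun V' k' ⟨t, ht⟩ => ?_
    let q := rs ((fg OU).obj (fr OU P.relations.I)) k'.op p
    let h : V' ⟶ T := Over.homMk ((k' ≫ k).left ≫ f) ((Category.assoc _ _ _).trans (Over.w (k' ≫ k)))
    let co : P.relations.I → O.obj.obj (op V'.left) := fun j => coord (O := OU) j q
    refine ⟨t.image R, fun r => ∑ j ∈ t.filter (fun j => R j = r), co j, ?_, fun i => ?_⟩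
    · intro r hr
      obtain ⟨j, -, rfl⟩ := Finset.mem_image.1 (Finset.mem_coe.1 hr)
      exact ⟨j, rfl⟩
    have h1 : ((fg OU).map θ).app (op V') q = rs ((fg OU).obj (fr OU P.generators.I)) (k' ≫ k).op z := by
      refine (app_rs ((fg OU).map θ) k'.op p).trans (Eq.trans ?_ (SecGen.rs_op_comp (O := OU) k' k z).symm)
      refine congrArg (rs _ k'.op) ?_
      refine (congrArg (((fg OU).map (kernel.ι π)).app (op V)).hom hp).trans ?_
      refine (app_rs ((fg OU).map (kernel.ι π)) k.op w).trans ?_
      exact congrArg (fun q => rs ((fg OU).obj (fr OU P.generators.I)) k.op q) hw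
    have hL : coord (O := OU) i (rs ((fg OU).obj (fr OU P.generators.I)) (k' ≫ k).op z) =
        (O.obj.map (k' ≫ k).left.op).hom (c i) := by
      refine (coord_map i (k' ≫ k).op z).trans ?_
      refine congrArg (fun q => (O.obj.map (k' ≫ k).left.op).hom q) ?_
      refine (coord_finset i s _).trans ?_
      by_cases hi : i ∈ s
      · rw [if_pos hi]
      · rw [if_neg hi, hc0 i hi]
    have hR : coord (O := OU) i (((fg OU).map θ).app (op V') q) =
        ∑ j ∈ t, co j * (O.obj.map ((k' ≫ k).left ≫ f).op).hom (R j i) := by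
      refine (congrArg (fun q => coord (O := OU) i (((fg OU).map θ).app (op V') q)) ht).trans ?_
      refine (congrArg (coord (O := OU) i) (map_sum (((fg OU).map θ).app (op V')).hom _ _)).trans ?_
      refine (map_sum (((fg OU).map (pr i)).app (op V')).hom _ _).trans (Finset.sum_congr rfl fun j _ => ?_)
      refine (congrArg (coord (O := OU) i) (map_smul (((fg OU).map θ).app (op V')).hom _ _)).trans ?_
      refine (map_smul (((fg OU).map (pr i)).app (op V')).hom _ _).trans ?_
      refine congrArg (fun q : O.obj.obj (op V'.left) => co j * q) ?_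
      refine (congrArg (fun q => coord (O := OU) i (((fg OU).map θ).app (op V') q)) (rs_fsec (O := OU) j h.op).symm).trans ?_
      refine (congrArg (coord (O := OU) i) (app_rs ((fg OU).map θ) h.op _)).trans ?_
      exact coord_map i h.op _
    refine hL.symm.trans ((congrArg (coord (O := OU) i) h1).symm.trans (hR.trans ?_))
    rw [← Finset.sum_fiberwise_of_maps_to (g := R) (fun j hj => Finset.mem_image_of_mem R hj)]
    refine Finset.sum_congr rfl fun r _ => ?_
    rw [Finset.sum_mul]
    exact Finset.sum_congr rfl fun j hj => by rw [(Finset.mem_filter.1 hj).2]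

/-- Data give presentations. -/
theorem nonempty_presentation {F : ModSite.Mod O} {U : C} (Q : QData F U) :
    Nonempty (SheafOfModules.over F U).Presentation := by
  classical
  let OU := O.over U
  let FU := (ModSite.restr O U).obj F
  let π : fr OU Q.I ⟶ FU := fdesc fun i => (restrSectionsEquiv O U F).symm (Q.g i)
  have hπs : ∀ (W : Over U) (i : Q.I), ((fg OU).map π).app (op W) (fsec i (op W)) =
      rs ((fg O).obj F) W.hom.op (Q.g i) := fun W i =>
    fdesc_fsec (fun i => (restrSectionsEquiv O U F).symm (Q.g i)) i (op W)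
  have hsum : ∀ (W : Over U) (s : Finset Q.I) (c : Q.I → O.obj.obj (op W.left)),
      ((fg OU).map π).app (op W) (∑ i ∈ s, (c i : OU.obj.obj (op W)) • fsec i (op W)) =
        ∑ i ∈ s, c i • rs ((fg O).obj F) W.hom.op (Q.g i) := fun W s c => by
    refine (map_sum (((fg OU).map π).app (op W)).hom _ _).trans (Finset.sum_congr rfl fun i _ => ?_)
    exact (map_smul (((fg OU).map π).app (op W)).hom _ _).trans (congrArg (fun z => c i • z) (hπs W i))
  haveI : Epi π := ⟨fun {Z} p q hpq => (fg OU).map_injective (PresheafOfModules.hom_ext fun W =>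
    ModuleCat.hom_ext (LinearMap.ext fun z => by
      refine eq_of_locally' Z ?_
      obtain ⟨S, hS, hSp⟩ := Q.gen W.unop.hom z
      refine ⟨(Sieve.overEquiv W.unop).symm S, (J.overEquiv_symm_mem_over W.unop S hS), fun W' k hk => ?_⟩
      rw [Sieve.overEquiv_symm_iff] at hk
      obtain ⟨s, cf, hcf⟩ := hSp k.left hk
      have hm : ((fg OU).map π).app (op W') (∑ i ∈ s, (cf i : OU.obj.obj (op W')) • fsec i (op W')) =
          rs ((fg OU).obj FU) k.op z := by
        refine (hsum W' s cf).trans (Eq.trans ?_ hcf.symm)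
        exact Finset.sum_congr rfl fun i _ => congrArg (fun q => cf i • rs ((fg O).obj F) q.op (Q.g i)) (Over.w k).symm
      refine (app_rs ((fg OU).map p) k.op z).symm.trans (Eq.trans ?_ (app_rs ((fg OU).map q) k.op z))
      refine (congrArg (((fg OU).map p).app (op W')).hom hm.symm).trans
        (Eq.trans ?_ (congrArg (((fg OU).map q).app (op W')).hom hm))
      exact congrArg (fun r : fr OU Q.I ⟶ Z => ((fg OU).map r).app (op W') _) hpq))⟩
  let row : ∀ (r : Q.rows) (W : Over U), ((fg OU).obj (fr OU Q.I)).obj (op W) := fun r W =>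
    ∑ i ∈ r.1.support, ((O.obj.map W.hom.op).hom (r.1 i) : OU.obj.obj (op W)) • fsec i (op W)
  let rsec : Q.rows → (fr OU Q.I).sections := fun r => ⟨fun W => row r W.unop, fun {V W} g => by
    refine (rs_sum g _ _).trans (Finset.sum_congr rfl fun i _ => ?_)
    refine (rs_smul g _ _).trans ?_
    refine congrArg₂ (fun (q : OU.obj.obj W) (w : ((fg OU).obj (fr OU Q.I)).obj W) => q • w) ?_
      (rs_fsec (O := OU) i g)
    refine Eq.trans ?_ (congrArg (fun q => (O.obj.map q.op).hom (r.1 i)) (Over.w g.unop))
    rw [op_comp, Functor.map_comp]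
    rfl⟩
  let θ : fr OU (Q.rows : Type u) ⟶ fr OU Q.I := fdesc rsec
  have hθ : θ ≫ π = 0 := by
    refine FU.freeHomEquiv.injective (funext fun r => (restrSectionsEquiv O U F).injective ?_)
    show ((fg OU).map π).app (op (Over.mk (𝟙 U))) (((fg OU).map θ).app (op (Over.mk (𝟙 U))) (fsec r (op (Over.mk (𝟙 U))))) = 0
    rw [show ((fg OU).map θ).app (op (Over.mk (𝟙 U))) (fsec r (op (Over.mk (𝟙 U)))) = row r (Over.mk (𝟙 U)) from
      fdesc_fsec rsec r _]
    refine (hsum (Over.mk (𝟙 U)) r.1.support fun i => (O.obj.map (𝟙 U).op).hom (r.1 i)).trans ?_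
    refine Eq.trans (Finset.sum_congr rfl fun i _ => ?_) (Q.rel r.1 r.2)
    refine congrArg₂ (fun (q : O.obj.obj (op U)) (w : ((fg O).obj F).obj (op U)) => q • w) ?_ (rs_id (Q.g i))
    exact ConcreteCategory.congr_hom (O.obj.map_id (op U)) _
  let θ' : fr OU (Q.rows : Type u) ⟶ kernel π := kernel.lift π θ hθ
  haveI : Epi θ' := ⟨fun {Z} p q hpq => (fg OU).map_injective (PresheafOfModules.hom_ext fun W =>
    ModuleCat.hom_ext (LinearMap.ext fun z => by
      refine eq_of_locally' Z ?_
      let w : ((fg OU).obj (fr OU Q.I)).obj W := ((fg OU).map (kernel.ι π)).app W z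
      have hw : ((fg OU).map π).app W w = 0 :=
        congrArg (fun r : kernel π ⟶ FU => ((fg OU).map r).app W z) (kernel.condition π)
      refine (decomp_local (O := OU) (W := W.unop) w).bind fun V k hk => ?_
      obtain ⟨s, hs⟩ := hk
      let c : Q.I → O.obj.obj (op V.left) := fun i => if i ∈ s then coord (O := OU) i (rs _ k.op w) else 0
      have hc : ∑ i ∈ s, c i • rs ((fg O).obj F) V.hom.op (Q.g i) = 0 := by
        have h0 : ((fg OU).map π).app (op V) (rs _ k.op w) = 0 :=
          (app_rs ((fg OU).map π) k.op w).trans ((congrArg (rs _ k.op) hw).trans (map_zero _))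
        rw [hs] at h0
        refine Eq.trans ?_ ((hsum V s fun i => coord (O := OU) i (rs _ k.op w)).symm.trans h0)
        exact Finset.sum_congr rfl fun i hi => congrArg (· • _) (if_pos hi)
      obtain ⟨S, hS, hSp⟩ := Q.exact V.hom s c (fun i hi => if_neg hi) hc
      refine ⟨(Sieve.overEquiv V).symm S, (J.overEquiv_symm_mem_over V S hS), fun W' l hl => ?_⟩
      rw [Sieve.overEquiv_symm_iff] at hl
      obtain ⟨T, d, hT, hd⟩ := hSp l.left hl
      let m : ((fg OU).obj (fr OU (Q.rows : Type u))).obj (op W') :=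
        ∑ r ∈ T.attach, (d r.1 : OU.obj.obj (op W')) • fsec (⟨r.1, hT r.2⟩ : Q.rows) (op W')
      have hm : ((fg OU).map θ').app (op W') m = rs ((fg OU).obj (kernel π)) (l ≫ k).op z := by
        apply app_injective (O := OU) (kernel.ι π) (op W')
        refine Eq.trans ?_ (app_rs ((fg OU).map (kernel.ι π)) (l ≫ k).op z).symm
        show ((fg OU).map (θ' ≫ kernel.ι π)).app (op W') m = rs _ (l ≫ k).op w
        rw [kernel.lift_ι, SecGen.rs_op_comp (O := OU) l k w, hs, rs_sum]
        refine (map_sum (((fg OU).map θ).app (op W')).hom _ _).trans ?_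
        let s' : Finset Q.I := s ∪ T.biUnion fun r => r.support
        have eR : ∀ r : {x // x ∈ T}, ((fg OU).map θ).app (op W')
            ((d r.1 : OU.obj.obj (op W')) • fsec (⟨r.1, hT r.2⟩ : Q.rows) (op W')) =
            ∑ i ∈ s', ((d r.1 * (O.obj.map W'.hom.op).hom (r.1 i) : O.obj.obj (op W'.left)) :
              OU.obj.obj (op W')) • fsec i (op W') := fun r => by
          refine (map_smul (((fg OU).map θ).app (op W')).hom _ _).trans ?_
          refine (congrArg (fun q => (d r.1 : OU.obj.obj (op W')) • q) (fdesc_fsec rsec _ (op W'))).trans ?_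
          refine (Finset.smul_sum).trans (Eq.trans ?_ (Finset.sum_subset (s₁ := r.1.support)
            (fun i hi => Finset.mem_union_right _ (Finset.mem_biUnion.2 ⟨r.1, r.2, hi⟩)) fun i _ hi => ?_))
          · exact Finset.sum_congr rfl fun i _ => smul_smul _ _ _
          · rw [Finsupp.notMem_support_iff.1 hi, map_zero, mul_zero]
            exact zero_smul _ _
        rw [Finset.sum_congr rfl fun r _ => eR r, Finset.sum_comm]
        refine (Finset.sum_congr rfl fun i _ => (Finset.sum_smul).symm).trans ?_
        refine Eq.trans ?_ (Finset.sum_congr rfl fun i hi => (by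
          rw [rs_smul, rs_fsec]
          refine congrArg (fun q : O.obj.obj (op W'.left) => (q : OU.obj.obj (op W')) • fsec i (op W')) ?_
          show (O.obj.map l.left.op).hom (c i) = (O.obj.map l.left.op).hom (coord (O := OU) i (rs _ k.op w))
          rw [show c i = coord (O := OU) i (rs _ k.op w) from if_pos hi] :
          ((O.obj.map l.left.op).hom (c i) : OU.obj.obj (op W')) • fsec i (op W') =
            rs ((fg OU).obj (fr OU Q.I)) l.op (coord (O := OU) i (rs _ k.op w) • fsec i (op V))))
        refine Eq.trans (Finset.sum_congr rfl fun i _ => ?_)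
          (Finset.sum_subset (Finset.subset_union_left : s ⊆ s') fun i _ hi => ?_).symm
        · refine congrArg (fun q : O.obj.obj (op W'.left) => (q : OU.obj.obj (op W')) • fsec i (op W')) ?_
          refine Eq.trans ?_ (hd i).symm
          refine Eq.trans ?_ (Finset.sum_attach T fun r => d r * (O.obj.map (l.left ≫ V.hom).op).hom (r i))
          exact Finset.sum_congr rfl fun r _ => congrArg (fun q => d r.1 * (O.obj.map q.op).hom (r.1 i)) (Over.w l).symm
        · rw [show c i = 0 from if_neg hi, map_zero]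
          exact zero_smul _ _
      refine (app_rs ((fg OU).map p) (l ≫ k).op z).symm.trans (Eq.trans ?_ (app_rs ((fg OU).map q) (l ≫ k).op z))
      refine (congrArg (((fg OU).map p).app (op W')).hom hm.symm).trans
        (Eq.trans ?_ (congrArg (((fg OU).map q).app (op W')).hom hm))
      exact congrArg (fun r : fr OU (Q.rows : Type u) ⟶ Z => ((fg OU).map r).app (op W') m) hpq))⟩
  let G : (SheafOfModules.over F U).GeneratingSections :=
    { I := Q.I
      s := fun i => (restrSectionsEquiv O U F).symm (Q.g i)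
      epi := ‹Epi π› }
  let R : (kernel G.π).GeneratingSections :=
    { I := (Q.rows : Type u)
      s := (kernel π).freeHomEquiv θ'
      epi := by
        show Epi ((kernel π).freeHomEquiv.symm ((kernel π).freeHomEquiv θ'))
        rw [Equiv.symm_apply_apply]
        infer_instance }
  exact ⟨⟨G, R⟩⟩

end Groth.Agent.H26.QPres
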