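import Groth.Agent.H26.FMod.TorsGood
import Groth.Agent.H26.FMod.GammaLoc
import Groth.Agent.H26.FMod.QCClose
import Groth.Agent.H26.FMod.TorsClose
import Groth.Agent.H26.FMod.CohSerre

/-!
# Derived torsion of complexes with quasi-coherent cohomology
-/

noncomputable section

set_option autoImplicit false
set_option maxHeartbeats 1000000
set_option linter.style.haveILetI false
set_option backward.isDefEq.respectTransparency false
set_option backward.isDefEq.respectTransparency.types false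
set_option synthInstance.maxSize 1000
set_option synthInstance.maxHeartbeats 200000

universe u

open CategoryTheory CategoryTheory.Limits TopologicalSpace Opposite AlgebraicGeometry
open Groth.Agent.ModTensor Groth.Agent.ModPull Groth.Agent.LocalFactor Groth.Agent.SecGen
open Groth.Agent.H26.QPres
open Groth.Agent.H26.FMod.HomSec

attribute [local instance] HasDerivedCategory.standard

namespace Groth.Agent.H26.FMod

open OpenTransfer

section Families

variable {T : TopCat.{u}} {O : Sheaf (Opens.grothendieckTopology T) CommRingCat.{u}} {r : ℕ}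
  (g : Fin r → O.obj.obj (op (⊤ : Opens T)))

/-- Powers of the first global sections. -/
def famJ (j : ℕ) : FTors.IdealFam O where
  ideal n W := Ideal.span {x | ∃ i : Fin r, i.1 < j ∧ x = GLoc.at' (g i) W ^ (n + 1)}
  antitone' n W := Ideal.span_le.2 <| by
    rintro _ ⟨i, hi, rfl⟩
    rw [pow_succ]
    exact Ideal.mul_mem_right _ _ (Ideal.subset_span ⟨i, hi, rfl⟩)
  map_mem' n W W' f b hb := by
    refine Ideal.mem_comap.1 ((Ideal.map_le_iff_le_comap (f := (O.obj.map f.op).hom)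
      (K := Ideal.span {x | ∃ i : Fin r, i.1 < j ∧ x = GLoc.at' (g i) W' ^ (n + 1)})).1 ?_ hb)
    rw [Ideal.map_span, Ideal.span_le]
    rintro _ ⟨_, ⟨i, hi, rfl⟩, rfl⟩
    refine Ideal.subset_span ⟨i, hi, ?_⟩
    rw [map_pow]
    exact congrArg (· ^ (n + 1)) (GStab.ρ_ρ le_top (leOfHom f) (g i))

lemma killedBy_famJ {j n : ℕ} {M : ModSite.Mod O} {W : Opens T} (x : GStab.Se M W) :
    FTors.KilledBy (famJ g j) M n (V := W) x ↔ ∀ i : Fin r, i.1 < j → GLoc.at' (g i) W ^ (n + 1) • x = 0 := by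
  refine ⟨fun hx i hi => ?_, fun hx W' k b hb => ?_⟩
  · have h1 := hx (𝟙 W) _ (Ideal.subset_span ⟨i, hi, rfl⟩)
    rwa [FTors.res_id] at h1
  · refine (show b ∈ LinearMap.ker (LinearMap.toSpanSingleton (O.obj.obj (op W')) (GStab.Se M W')
      (rz M k x)) from ?_)
    refine Ideal.span_le.2 ?_ hb
    rintro _ ⟨i, hi, rfl⟩
    rw [SetLike.mem_coe, LinearMap.mem_ker, LinearMap.toSpanSingleton_apply]
    refine Eq.trans ?_ ((congrArg (rz M k) (hx i hi)).trans (rz_zero M k))
    refine Eq.symm ((GStab.rm_smul M (leOfHom k) _ x).trans ?_)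
    rw [map_pow, GStab.ρ_ρ]
    rfl

lemma isTorsSect_famJ {j : ℕ} {M : ModSite.Mod O} {V : Opens T} (x : GStab.Se M V) :
    FTors.IsTorsSect (famJ g j) M (U := V) x ↔ ∀ y ∈ V, ∃ (W : Opens T) (hW : W ≤ V) (k : ℕ), y ∈ W ∧
      ∀ i : Fin r, i.1 < j → GLoc.at' (g i) W ^ k • GStab.rm M hW x = 0 := by
  refine ⟨fun hx y hy => ?_, fun hx => ?_⟩
  · obtain ⟨W, hW, hyW, n, hn⟩ := GStab.point_of_locally ((FTors.IsTorsSect.iff_exists _).1 hx) hy
    exact ⟨W, hW, n + 1, hyW, (killedBy_famJ g _).1 hn⟩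
  · refine (FTors.IsTorsSect.iff_exists _).2 (GStab.locally_of_point (fun y hy => ?_)
      fun W W' k k' ⟨n, hn⟩ => ⟨n, by rw [FTors.res_comp]; exact hn.res k'⟩)
    obtain ⟨W, hW, k, hyW, hk⟩ := hx y hy
    refine ⟨W, hW, hyW, k, (killedBy_famJ g _).2 fun i hi => ?_⟩
    exact GStab.pow_smul_eq_zero (Nat.le_succ k) (hk i hi)

lemma isStep_famJ {j : ℕ} (hj : j < r) : GLoc.IsStep (g ⟨j, hj⟩) (famJ g j) (famJ g (j + 1)) where
  iff M V x := by
    simp only [isTorsSect_famJ]
    refine ⟨fun hx => ⟨fun y hy => ?_, fun y hy => ?_⟩, fun ⟨h1, h2⟩ y hy => ?_⟩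
    · obtain ⟨W, hW, k, hyW, hk⟩ := hx y hy
      exact ⟨W, hW, k, hyW, fun i hi => hk i (Nat.lt_succ_of_lt hi)⟩
    · obtain ⟨W, hW, k, hyW, hk⟩ := hx y hy
      exact ⟨W, hW, k, hyW, hk ⟨j, hj⟩ (Nat.lt_succ_self j)⟩
    · obtain ⟨W, hW, k, hyW, hk⟩ := h1 y hy
      obtain ⟨W', hW', k', hyW', hk'⟩ := h2 y hy
      refine ⟨W ⊓ W', inf_le_left.trans hW, max k k', ⟨hyW, hyW'⟩, fun i hi => ?_⟩
      rcases Nat.lt_succ_iff_lt_or_eq.1 hi with h | h
      · refine GStab.pow_smul_eq_zero (le_max_left k k') ?_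
        have e := congrArg (GStab.rm M (inf_le_left : W ⊓ W' ≤ W)) (hk i h)
        rw [GStab.rm_smul, GStab.rm_rm, map_pow, GStab.ρ_ρ] at e
        exact e.trans (rz_zero _ _)
      · obtain rfl : i = ⟨j, hj⟩ := Fin.ext h
        refine GStab.pow_smul_eq_zero (le_max_right k k') ?_
        have e := congrArg (GStab.rm M (inf_le_right : W ⊓ W' ≤ W')) hk'
        rw [GStab.rm_smul, GStab.rm_rm, map_pow, GStab.ρ_ρ] at e
        exact e.trans (rz_zero _ _)

end Families

variable {𝔛 : FSch.Sys.{u}} (h : 𝔛.IsLocNoethFormal)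

section QC

include h in
/-- Restrictions of quasi-coherent modules are quasi-coherent. -/
theorem isQC_res (V : (𝔛.X 0).Opens) (M : FSch.ModF 𝔛 h.1)
    [SheafOfModules.IsQuasicoherent.{u} (R := ModSite.ringSh (𝔛.Osh h.1)) M] :
    SheafOfModules.IsQuasicoherent.{u} (R := ModSite.ringSh ((sys h V).Osh (hSys h V).1))
      ((OpenRes.res h V).obj M) := by
  refine isQC_of_qdata (hSys h V) fun x W hx => ?_
  obtain ⟨U, -, hxU, hUW, ⟨Q⟩⟩ := exists_qdata h M (W := (OpenRes.imgF h V).obj W) ⟨x, hx, rfl⟩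
  obtain ⟨W', hW', e⟩ := OpenRes.exists_pre h V hUW
  obtain ⟨z, hz, ez⟩ := e.ge hxU
  refine ⟨W', (Subtype.val_injective ez : z = x) ▸ hz, hW', ?_⟩
  subst e
  exact OpenRes.nonempty_qres h V M Q

include h in
/-- Quasi-coherence of a restriction gives data near the points of the open. -/
theorem exists_qdata_of_res (V : (𝔛.X 0).Opens) (M : FSch.ModF 𝔛 h.1)
    [SheafOfModules.IsQuasicoherent.{u} (R := ModSite.ringSh ((sys h V).Osh (hSys h V).1))
      ((OpenRes.res h V).obj M)]
    {W : (𝔛.X 0).Opens} {x : 𝔛.X 0} (hx : x ∈ W) (hWV : W ≤ V) :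
    ∃ U : (𝔛.X 0).Opens, x ∈ U ∧ U ≤ W ∧ Nonempty (QData (O := 𝔛.Osh h.1) M U) := by
  obtain ⟨W₀, -, e⟩ := OpenRes.exists_pre h V (W := ⊤) (hWV.trans (img_top h V).ge)
  obtain ⟨z, hz, ez⟩ := e.ge hx
  obtain ⟨W₁, -, hzW, hW₁, ⟨Q⟩⟩ := exists_qdata (hSys h V) ((OpenRes.res h V).obj M) hz
  exact ⟨(OpenRes.imgF h V).obj W₁, ⟨z, hzW, ez⟩, (leOfHom ((OpenRes.imgF h V).map (homOfLE hW₁))).trans e.le,
    OpenRes.nonempty_qimg h V M Q⟩

include h in
/-- Localisations of quasi-coherent modules are quasi-coherent. -/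
theorem isQC_locF (a : (𝔛.Osh h.1).obj.obj (op (⊤ : (𝔛.X 0).Opens))) (M : FSch.ModF 𝔛 h.1)
    [SheafOfModules.IsQuasicoherent.{u} (R := ModSite.ringSh (𝔛.Osh h.1)) M] :
    SheafOfModules.IsQuasicoherent.{u} (R := ModSite.ringSh (𝔛.Osh h.1)) ((GLoc.locF a).obj M) := by
  refine isQC_of_ind_res h fun x W hx => ?_
  obtain ⟨U, hU, hxU, hUW, hind, -⟩ := exists_ind_res h (𝔉 := M) (𝔊 := M) hx
  refine ⟨U, hU, hxU, hUW, ?_⟩
  haveI : PreservesColimitsOfSize.{u, u} (OpenRes.res h U) := (OpenRes.resAdj h U).leftAdjoint_preservesColimits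
  haveI : PreservesColimitsOfSize.{0, 0} (OpenRes.res h U) := preservesColimitsOfSize_shrink _
  let F := (GLoc.seqF a).obj M
  let e : ULift.{u} ℕ ≌ ℕ :=
    { functor := (Monotone.functor (f := ULift.down) fun _ _ hab => hab)
      inverse := (Monotone.functor (f := ULift.up) fun _ _ hab => hab)
      unitIso := NatIso.ofComponents (fun _ => Iso.refl _) fun _ => Subsingleton.elim _ _
      counitIso := NatIso.ofComponents (fun _ => Iso.refl _) fun _ => Subsingleton.elim _ _
      functor_unitIso_comp := fun _ => Subsingleton.elim _ _ }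
  exact ind_colimit (hSys h U) ((isColimitOfPreserves (OpenRes.res h U) (colimit.isColimit F)).whiskerEquivalence e)
    fun n => hind

end QC

section Transport

variable (V : (𝔛.X 0).Opens) {r : ℕ} (g : Fin r → Rg h.1 V)

/-- The sections of the restricted system attached to sections on the open. -/
def gres (i : Fin r) : ((sys h V).Osh (hSys h V).1).obj.obj (op (⊤ : Opens ((sys h V).X 0))) :=
  ((OpenRes.bijective_ph h V ⊤).2 (GStab.ρ (O := 𝔛.Osh h.1) (OpenRes.img_le h V ⊤) (g i))).choose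

/-- A section of a restriction as a section of the module. -/
abbrev imgSec (M : FSch.ModF 𝔛 h.1) (W : Opens ((sys h V).X 0)) (x : GStab.Se ((OpenRes.res h V).obj M) W) :
    Sec M ((OpenRes.imgF h V).obj W) := x

lemma at'_smul (M : FSch.ModF 𝔛 h.1) (i : Fin r) (k : ℕ) (W : Opens ((sys h V).X 0))
    (x : GStab.Se ((OpenRes.res h V).obj M) W) :
    imgSec h V M W (GLoc.at' (gres h V g i) W ^ k • x) =
      GStab.ρ (O := 𝔛.Osh h.1) (OpenRes.img_le h V W) (g i) ^ k • imgSec h V M W x := by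
  have h1 : OpenRes.ph h V W (GLoc.at' (gres h V g i) W) =
      GStab.ρ (O := 𝔛.Osh h.1) (OpenRes.img_le h V W) (g i) := by
    rw [show GLoc.at' (gres h V g i) W = (((sys h V).Osh (hSys h V).1).obj.map (homOfLE (le_top : W ≤ ⊤)).op).hom
      (gres h V g i) from rfl, OpenRes.ph_res, gres,
      ((OpenRes.bijective_ph h V ⊤).2 (GStab.ρ (O := 𝔛.Osh h.1) (OpenRes.img_le h V ⊤) (g i))).choose_spec]
    exact GStab.ρ_ρ (OpenRes.img_le h V ⊤) (leOfHom ((OpenRes.imgF h V).map (homOfLE (le_top : W ≤ ⊤)))) (g i)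
  refine Eq.trans ?_ (congrArg (· • imgSec h V M W x)
    ((map_pow (OpenRes.ph h V W) (GLoc.at' (gres h V g i) W) k).trans (congrArg (· ^ k) h1)))
  rfl

variable (hg : ∀ i n, g i ^ (n + 1) ∈ (opI h).ideal n V)
  (hgens : ∀ (M : FSch.ModF 𝔛 h.1) (A : (𝔛.X 0).Opens) (hA : A ≤ V) (x : GStab.Se M A) (K : ℕ),
    (∀ i, GStab.ρ hA (g i) ^ K • x = 0) → FTors.IsTorsSect (opI h) M (U := A) x)

include hg hgens in
lemma isTorsSect_res (M : FSch.ModF 𝔛 h.1) (W : Opens ((sys h V).X 0))
    (x : GStab.Se ((OpenRes.res h V).obj M) W) :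
    FTors.IsTorsSect (famJ (gres h V g) r) ((OpenRes.res h V).obj M) (U := W) x ↔
      FTors.IsTorsSect (opI h) M (U := (OpenRes.imgF h V).obj W) (x : Sec M ((OpenRes.imgF h V).obj W)) := by
  rw [isTorsSect_famJ]
  refine ⟨fun hx => ?_, fun hx y hy => ?_⟩
  · have hloc : ModPull.Locally (Opens.grothendieckTopology (𝔛.X 0)) ((OpenRes.imgF h V).obj W)
        fun A k => FTors.IsTorsSect (opI h) M (U := A) (FTors.res M k (x : Sec M ((OpenRes.imgF h V).obj W))) := by
      refine GStab.locally_of_point (fun p hp => ?_) fun A A' k k' hA => ?_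
      · obtain ⟨y, hy, rfl⟩ := hp
        obtain ⟨W', hW', K, hyW', hK⟩ := hx y hy
        refine ⟨(OpenRes.imgF h V).obj W', leOfHom ((OpenRes.imgF h V).map (homOfLE hW')), ⟨y, hyW', rfl⟩,
          hgens M _ (OpenRes.img_le h V W') _ K fun i => ?_⟩
        exact (at'_smul h V g M i K W' _).symm.trans (hK i i.2)
      · rw [FTors.res_comp]
        exact hA.res k'
    obtain ⟨S, hS, hSp⟩ := hloc
    exact FTors.IsTorsSect.of_cover hS hSp
  · obtain ⟨A, hA, hyA, n, hn⟩ := GStab.point_of_locally ((FTors.IsTorsSect.iff_exists _).1 hx)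
      (show y.1 ∈ (OpenRes.imgF h V).obj W from ⟨y, hy, rfl⟩)
    obtain ⟨W', hW', rfl⟩ := OpenRes.exists_pre h V hA
    obtain ⟨z, hz, ez⟩ := hyA
    refine ⟨W', hW', n + 1, (Subtype.val_injective ez : z = y) ▸ hz, fun i _ => ?_⟩
    refine (at'_smul h V g M i (n + 1) W' _).trans ?_
    have h1 := hn (𝟙 _) (GStab.ρ (OpenRes.img_le h V W') (g i) ^ (n + 1)) (by
      rw [← map_pow]
      exact (opI h).map_mem n (homOfLE (OpenRes.img_le h V W')) (hg i n))
    rw [FTors.res_id] at h1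
    exact h1

/-- Torsion sections commute with restriction. -/
def gammaRes (M : FSch.ModF 𝔛 h.1) :
    (OpenRes.res h V).obj ((FTors.gammaT 𝔛 h.1).obj M) ≅
      (FTors.gamma _ (famJ (gres h V g) r)).obj ((OpenRes.res h V).obj M) where
  hom := ⟨PresheafOfModules.homMk
    { app := fun X => AddCommGrpCat.ofHom
        { toFun := fun s => (⟨(s : FTors.torsSub (opI h) M ((OpenRes.imgF h V).obj X.unop)).1,
            (isTorsSect_res h V g hg hgens M X.unop _).2
              (s : FTors.torsSub (opI h) M ((OpenRes.imgF h V).obj X.unop)).2⟩ :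
            FTors.torsSub (famJ (gres h V g) r) ((OpenRes.res h V).obj M) X.unop)
          map_zero' := Subtype.ext rfl
          map_add' := fun _ _ => Subtype.ext rfl }
      naturality := fun X Y f => by ext s; exact Subtype.ext rfl }
    fun X c s => Subtype.ext rfl⟩
  inv := ⟨PresheafOfModules.homMk
    { app := fun X => AddCommGrpCat.ofHom
        { toFun := fun s => (⟨(s : FTors.torsSub (famJ (gres h V g) r) ((OpenRes.res h V).obj M) X.unop).1,
            (isTorsSect_res h V g hg hgens M X.unop _).1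
              (s : FTors.torsSub (famJ (gres h V g) r) ((OpenRes.res h V).obj M) X.unop).2⟩ :
            FTors.torsSub (opI h) M ((OpenRes.imgF h V).obj X.unop))
          map_zero' := Subtype.ext rfl
          map_add' := fun _ _ => Subtype.ext rfl }
      naturality := fun X Y f => by ext s; exact Subtype.ext rfl }
    fun X c s => Subtype.ext rfl⟩
  hom_inv_id := by apply SheafOfModules.hom_ext; ext X s; exact Subtype.ext rfl
  inv_hom_id := by apply SheafOfModules.hom_ext; ext X s; exact Subtype.ext rfl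

include h in
lemma hasDiv_res (hV : IsAffineOpen V) (E : FSch.ModF 𝔛 h.1) [Injective E] {j : ℕ} (hj : j < r) :
    GLoc.HasDiv (gres h V g ⟨j, hj⟩) (famJ (gres h V g) j) ((OpenRes.res h V).obj E) := by
  intro W x hx y hy
  obtain ⟨W', hW', k, hyW', hk⟩ := (isTorsSect_famJ _ x).1 hx y hy
  obtain ⟨m, hm⟩ := GStab.exists_div (opI h) (good_of_isAffineOpen h hV) E g j k (g ⟨j, hj⟩)
  obtain ⟨z, hz, hzk⟩ := hm 1 ((OpenRes.imgF h V).obj W') (OpenRes.img_le h V W')
    (GStab.rm ((OpenRes.res h V).obj E) hW' x : Sec E ((OpenRes.imgF h V).obj W'))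
    fun i hi => (at'_smul h V g E i k W' _).symm.trans (hk i hi)
  refine ⟨W', hW', m, z, hyW', (isTorsSect_famJ _ _).2 fun y' hy' => ⟨W', le_rfl, k, hy', fun i hi => ?_⟩, ?_⟩
  · rw [show GStab.rm ((OpenRes.res h V).obj E) (le_refl W') z = z from FTors.res_id _ _]
    exact (at'_smul h V g E i k W' _).trans (hzk i hi)
  · exact (at'_smul h V g E ⟨j, hj⟩ (m + 1) W' _).trans (hz.trans (at'_smul h V g E ⟨j, hj⟩ m W' _).symm)

end Transport

section Main

include h in
/-- Quasi-coherent modules form a weak Serre class. -/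
theorem isWeakSerre_qc :
    WSerre.IsWeakSerre (fun M : FSch.ModF 𝔛 h.1 =>
      SheafOfModules.IsQuasicoherent.{u} (R := ModSite.ringSh (𝔛.Osh h.1)) M) :=
  have hiso : ∀ {M N : FSch.ModF 𝔛 h.1}, (M ≅ N) →
      SheafOfModules.IsQuasicoherent.{u} (R := ModSite.ringSh (𝔛.Osh h.1)) M →
      SheafOfModules.IsQuasicoherent.{u} (R := ModSite.ringSh (𝔛.Osh h.1)) N := fun e hM =>
    (SheafOfModules.isQuasicoherent (R := ModSite.ringSh (𝔛.Osh h.1))).prop_of_iso e hM
  { exists_zero := ⟨kernel (𝟙 (FSch.unitF 𝔛 h.1)), isZero_kernel_of_mono _,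
      isQC_of_ind h (ind_of_coh h (isCohF_zero (isZero_kernel_of_mono _)))⟩
    kernels_le := fun Z => by
      rintro ⟨φ, c, hc, hX, hY⟩
      exact hiso ((kernelIsKernel φ).conePointUniqueUpToIso hc) (isQC_kernel h φ)
    cokernels_le := fun Z => by
      rintro ⟨φ, c, hc, hX, hY⟩
      exact hiso ((cokernelIsCokernel φ).coconePointUniqueUpToIso hc) (isQC_cokernel h φ)
    prop_X₂_of_shortExact := fun {S} hS h₁ h₃ => isQC_ext h hS }

variable [FTors.HasRgammaT 𝔛 h.1]

/-- Derived torsion of complexes with quasi-coherent cohomology has quasi-coherent cohomology. -/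
theorem isQC_hMod_rgammaT (E : DerivedCategory (FSch.ModF 𝔛 h.1))
    (hE : ∀ i : ℤ, SheafOfModules.IsQuasicoherent.{u} (R := ModSite.ringSh (𝔛.Osh h.1)) (SiteCmp.HMod E i))
    (i : ℤ) :
    SheafOfModules.IsQuasicoherent.{u} (R := ModSite.ringSh (𝔛.Osh h.1))
      (SiteCmp.HMod ((FTors.RgammaT 𝔛 h.1).obj E) i) := by
  haveI := isWeakSerre_qc h
  obtain ⟨J, hJ, hinj, ⟨eE⟩⟩ := GStab.exists_model E
  haveI := hJ
  obtain ⟨eΓ, -⟩ := GStab.exists_rgamma_iso (opI h) J
  let G := ((FTors.gammaT 𝔛 h.1).mapHomologicalComplex (ComplexShape.up ℤ)).obj J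
  let eH : G.homology i ≅ SiteCmp.HMod ((FTors.RgammaT 𝔛 h.1).obj E) i :=
    ((DerivedCategory.homologyFunctorFactors _ i).app G).symm ≪≫
      (DerivedCategory.homologyFunctor _ i).mapIso (eΓ ≪≫ ((FTors.RgammaT 𝔛 h.1).mapIso eE).symm)
  suffices hG : SheafOfModules.IsQuasicoherent.{u} (R := ModSite.ringSh (𝔛.Osh h.1)) (G.homology i) from
    (SheafOfModules.isQuasicoherent (R := ModSite.ringSh (𝔛.Osh h.1))).prop_of_iso eH hG
  refine isQC_of_qdata h fun x A hx => ?_
  obtain ⟨_, ⟨U, hU, rfl⟩, hxU, hle⟩ := (𝔛.X 0).isBasis_affineOpens.exists_subset_of_mem_open hx A.2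
  obtain ⟨r, g, hg, hgens⟩ := (good_of_isAffineOpen h hU).gens
  haveI := isWeakSerre_qc (hSys h U)
  haveI := OpenRes.preservesFiniteLimits_res h U
  haveI := OpenRes.preservesFiniteColimits_res h U
  haveI : (OpenRes.res h U).Additive := Functor.additive_of_preserves_binary_products _
  let P : ObjectProperty (FSch.ModF (sys h U) (hSys h U).1) := fun M =>
    SheafOfModules.IsQuasicoherent.{u} (R := ModSite.ringSh ((sys h U).Osh (hSys h U).1)) M
  let K := ((OpenRes.res h U).mapHomologicalComplex (ComplexShape.up ℤ)).obj J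
  have hall : ∀ M, FTors.IsTors (famJ (gres h U g) 0) M := fun M W s =>
    (isTorsSect_famJ _ s).2 fun y hy => ⟨W, le_rfl, 0, hy, fun i hi => absurd hi (Nat.not_lt_zero _)⟩
  have hstep : ∀ j, j ≤ r → ∀ n,
      P ((((FTors.gamma _ (famJ (gres h U g) j)).mapHomologicalComplex (ComplexShape.up ℤ)).obj K).homology n) := by
    intro j
    induction j with
    | zero =>
      intro _ n
      haveI : ∀ m, IsIso ((GStab.gIncl (famJ (gres h U g) 0) K).f m) := fun m =>
        GStab.isIso_gammaι' _ (hall (K.X m))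
      haveI : IsIso (GStab.gIncl (famJ (gres h U g) 0) K) := HomologicalComplex.Hom.isIso_of_components _
      have hJn : SheafOfModules.IsQuasicoherent.{u} (R := ModSite.ringSh (𝔛.Osh h.1)) (J.homology n) :=
        (SheafOfModules.isQuasicoherent (R := ModSite.ringSh (𝔛.Osh h.1))).prop_of_iso
          ((DerivedCategory.homologyFunctor _ n).mapIso eE ≪≫ (DerivedCategory.homologyFunctorFactors _ n).app J)
          (hE n)
      exact P.prop_of_iso (((HomologicalComplex.homologyFunctor _ _ n).mapIso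
        (asIso (GStab.gIncl (famJ (gres h U g) 0) K))).trans ((J.sc n).mapHomologyIso (OpenRes.res h U))).symm
          (isQC_res h U (J.homology n))
    | succ j ih =>
      intro hj n
      exact GLoc.prop_homology_step (isStep_famJ (gres h U g) (j := j) hj) K
        (fun m => haveI := hinj m; hasDiv_res h U g hU (J.X m) hj) P
        (fun M hM => @isQC_locF _ (hSys h U) _ M hM) (ih (Nat.le_of_succ_le hj)) n
  let φ : ((OpenRes.res h U).mapHomologicalComplex (ComplexShape.up ℤ)).obj G ≅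
      ((FTors.gamma _ (famJ (gres h U g) r)).mapHomologicalComplex (ComplexShape.up ℤ)).obj K :=
    HomologicalComplex.Hom.isoOfComponents (fun m => gammaRes h U g hg hgens (J.X m)) fun a b _ => by
      apply SheafOfModules.hom_ext
      ext X s
      exact Subtype.ext rfl
  have hP : P ((OpenRes.res h U).obj (G.homology i)) := P.prop_of_iso
    (((HomologicalComplex.homologyFunctor _ _ i).mapIso φ).symm.trans ((G.sc i).mapHomologyIso (OpenRes.res h U)))
    (hstep r le_rfl i)
  obtain ⟨W, hxW, hWU, hQ⟩ := @exists_qdata_of_res _ h U (G.homology i) hP _ _ hxU le_rfl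
  exact ⟨W, hxW, hWU.trans hle, hQ⟩

end Main

end Groth.Agent.H26.FMod
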