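import Groth.Agent.H26.FMod.IndAcyclic
import Groth.Agent.SiteBase.Cohom

/-!
# Relations between sections of ind-coherent modules
-/

noncomputable section

set_option autoImplicit false
set_option maxHeartbeats 1000000
set_option linter.style.haveILetI false
set_option backward.isDefEq.respectTransparency false
set_option backward.isDefEq.respectTransparency.types false

universe u

open CategoryTheory CategoryTheory.Limits TopologicalSpace Opposite AlgebraicGeometry
open Groth.Agent.ModTensor Groth.Agent.ModPull Groth.Agent.LocalFactor Groth.Agent.SecGen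

attribute [local instance] Pres.fκ Pres.fρ

namespace Groth.Agent.H26.FMod

variable {𝔛 : FSch.Sys.{u}}

/-- The relations between finitely many sections. -/
abbrev RelMod {hF : 𝔛.IsFormal} {𝔉 : FSch.ModF 𝔛 hF} {U : (𝔛.X 0).Opens} {κ : Type} [Fintype κ]
    (y : κ → Sec 𝔉 U) : Submodule (Rg hF U) (κ → Rg hF U) :=
  LinearMap.ker (Fintype.linearCombination (Rg hF U) y)

/-- The span of the restrictions of a submodule. -/
abbrev SpanRes {hF : 𝔛.IsFormal} {U V : (𝔛.X 0).Opens} (hle : V ≤ U) {κ : Type}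
    (N : Submodule (Rg hF U) (κ → Rg hF U)) : Submodule (Rg hF V) (κ → Rg hF V) :=
  Submodule.span (Rg hF V) ((fun r : κ → Rg hF U => fun i => res hle (r i)) '' N)

/-- Every relation on an affine open below comes from the global relations. -/
def HasRel {hF : 𝔛.IsFormal} (𝔉 : FSch.ModF 𝔛 hF) (U : (𝔛.X 0).Opens) {κ : Type} [Fintype κ]
    (y : κ → Sec 𝔉 U) : Prop :=
  ∀ ⦃V : (𝔛.X 0).Opens⦄ (hle : V ≤ U), IsAffineOpen V → ∀ c : κ → Rg hF V,
    ∑ i, c i • resM 𝔉 hle (y i) = 0 → c ∈ SpanRes hle (RelMod y)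

lemma mem_RelMod {hF : 𝔛.IsFormal} {𝔉 : FSch.ModF 𝔛 hF} {U : (𝔛.X 0).Opens} {κ : Type} [Fintype κ]
    {y : κ → Sec 𝔉 U} {r : κ → Rg hF U} : r ∈ RelMod y ↔ ∑ i, r i • y i = 0 := by
  rw [LinearMap.mem_ker, Fintype.linearCombination_apply]

lemma spanRes_le {hF : 𝔛.IsFormal} {U V : (𝔛.X 0).Opens} (hle : V ≤ U) {κ ρ : Type} [Fintype ρ]
    {N : Submodule (Rg hF U) (κ → Rg hF U)} (A : ρ → κ → Rg hF U)
    (hA : Submodule.span (Rg hF U) (Set.range A) = N) {c : κ → Rg hF V} (hc : c ∈ SpanRes hle N) :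
    ∃ d : ρ → Rg hF V, ∀ i, c i = ∑ j, d j * res hle (A j i) := by
  have hle' : SpanRes hle N ≤ Submodule.span (Rg hF V) (Set.range fun j => fun i => res hle (A j i)) := by
    rw [Submodule.span_le]
    rintro _ ⟨r, hr, rfl⟩
    obtain ⟨q, hq⟩ := (Submodule.mem_span_range_iff_exists_fun _).1 (hA.symm ▸ hr : r ∈ Submodule.span _ _)
    refine (Submodule.mem_span_range_iff_exists_fun _).2 ⟨fun j => res hle (q j), funext fun i => ?_⟩
    show _ = res hle (r i)
    rw [Finset.sum_apply, ← hq, Finset.sum_apply, map_sum]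
    exact Finset.sum_congr rfl fun j _ => (map_mul _ _ _).symm
  obtain ⟨d, hd⟩ := (Submodule.mem_span_range_iff_exists_fun _).1 (hle' hc)
  exact ⟨d, fun i => by rw [← hd, Finset.sum_apply]; rfl⟩

lemma mem_spanRes {hF : 𝔛.IsFormal} {U V : (𝔛.X 0).Opens} (hle : V ≤ U) {κ ρ : Type} [Fintype ρ]
    {N : Submodule (Rg hF U) (κ → Rg hF U)} (A : ρ → κ → Rg hF U) (hA : ∀ j, A j ∈ N) (d : ρ → Rg hF V)
    {c : κ → Rg hF V} (hc : ∀ i, c i = ∑ j, d j * res hle (A j i)) : c ∈ SpanRes hle N := by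
  rw [show c = ∑ j, d j • fun i => res hle (A j i) from funext fun i => by
    rw [hc i, Finset.sum_apply]; rfl]
  exact Submodule.sum_mem _ fun j _ => Submodule.smul_mem _ _ (Submodule.subset_span ⟨_, hA j, rfl⟩)

variable (h : 𝔛.IsLocNoethFormal)

include h in
/-- Local membership in the span of restrictions is membership. -/
theorem mem_spanRes_local {U V : (𝔛.X 0).Opens} (hV : IsAffineOpen V) (hle : V ≤ U) {κ : Type} [Fintype κ]
    (N : Submodule (Rg h.1 U) (κ → Rg h.1 U)) (c : κ → Rg h.1 V)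
    (hloc : ModPull.Locally (Opens.grothendieckTopology (𝔛.X 0)) V (fun V' k =>
      (fun i => res (leOfHom k) (c i)) ∈ SpanRes ((leOfHom k).trans hle) N)) :
    c ∈ SpanRes hle N := by
  refine mem_span_local h hV _ c fun x hx => ?_
  obtain ⟨S, hS, hSp⟩ := hloc
  obtain ⟨V', k, hk, hxV'⟩ := hS x hx
  obtain ⟨a, hxa, ha⟩ := exists_D h hV (leOfHom k) hxV'
  refine ⟨a, hxa, ?_⟩
  have key : ∀ w : κ → Rg h.1 V', w ∈ SpanRes ((leOfHom k).trans hle) N →
      (fun i => res ha (w i)) ∈ Submodule.span (Rg h.1 (D h.1 a))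
        ((fun w : κ → Rg h.1 V => fun i => res (D_le a) (w i)) '' (SpanRes hle N)) := by
    intro w hw
    induction hw using Submodule.span_induction with
    | mem w hw =>
      obtain ⟨r, hr, rfl⟩ := hw
      refine Submodule.subset_span ⟨fun i => res hle (r i), Submodule.subset_span ⟨r, hr, rfl⟩, funext fun i => ?_⟩
      show res (D_le a) (res hle (r i)) = res ha (res ((leOfHom k).trans hle) (r i))
      rw [res_res h, res_res h]
    | zero =>
      rw [show (fun i => res ha ((0 : κ → Rg h.1 V') i)) = (0 : κ → Rg h.1 (D h.1 a)) from funext fun i => map_zero _]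
      exact Submodule.zero_mem _
    | add p q _ _ hp hq =>
      have e : (fun i => res ha ((p + q) i)) = (fun i => res ha (p i)) + fun i => res ha (q i) :=
        funext fun i => map_add _ _ _
      rw [e]
      exact Submodule.add_mem _ hp hq
    | smul r p _ hp =>
      have e : (fun i => res ha ((r • p) i)) = res ha r • fun i => res ha (p i) :=
        funext fun i => map_mul _ _ _
      rw [e]
      exact Submodule.smul_mem _ _ hp
  have h1 := key _ (hSp k hk)
  rw [show (fun i => res (D_le a) (c i)) = fun i => res ha (res (leOfHom k) (c i)) from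
    funext fun i => (res_res h _ _ _).symm]
  exact h1

include h in
/-- Sections of a filtered colimit over an affine open come from a stage. -/
theorem exists_stage {J : Type u} [SmallCategory J] [IsFiltered J] {F : J ⥤ FSch.ModF 𝔛 h.1}
    {c : Cocone F} (hc : IsColimit c) {U : (𝔛.X 0).Opens} (hU : IsAffineOpen U) (z : Sec c.pt U) :
    ∃ (j : J) (x : Sec (F.obj j) U), mapS (c.ι.app j) U x = z := by
  haveI : PreservesColimitsOfSize.{u, u} (Sh h.1) := ModTensor.preservesColimits_toSheaf (𝔛.Osh h.1)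
  let e : colimit (F ⋙ Sh h.1) ≅ (Sh h.1).obj c.pt :=
    (colimit.isColimit (F ⋙ Sh h.1)).coconePointUniqueUpToIso (isColimitOfPreserves (Sh h.1) hc)
  let φ : CohCx.freeSheaf (Opens.grothendieckTopology (𝔛.X 0)) U ⟶ colimit (F ⋙ Sh h.1) :=
    (SiteBase.secEquiv (Opens.grothendieckTopology (𝔛.X 0)) U ((Sh h.1).obj c.pt)).symm z ≫ e.inv
  obtain ⟨j, y, hy⟩ := (IndAc.comm_affine (F ⋙ Sh h.1) hU 0).surj (CategoryTheory.Abelian.Ext.mk₀ φ)
  obtain ⟨ψ, rfl⟩ := (CategoryTheory.Abelian.Ext.mk₀_bijective _ _).2 y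
  rw [CategoryTheory.Abelian.Ext.mk₀_comp_mk₀] at hy
  have h1 := (CategoryTheory.Abelian.Ext.mk₀_bijective _ _).1 hy
  have h2 : ψ ≫ (Sh h.1).map (c.ι.app j) =
      (SiteBase.secEquiv (Opens.grothendieckTopology (𝔛.X 0)) U ((Sh h.1).obj c.pt)).symm z := by
    have h3 : colimit.ι (F ⋙ Sh h.1) j ≫ e.hom = (Sh h.1).map (c.ι.app j) :=
      IsColimit.comp_coconePointUniqueUpToIso_hom (colimit.isColimit (F ⋙ Sh h.1)) (isColimitOfPreserves (Sh h.1) hc) j
    rw [← h3, ← Category.assoc, h1]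
    exact (Category.assoc _ _ _).trans ((congrArg (_ ≫ ·) e.inv_hom_id).trans (Category.comp_id _))
  refine ⟨j, SiteBase.secEquiv (Opens.grothendieckTopology (𝔛.X 0)) U _ ψ, ?_⟩
  have h4 := congrArg (SiteBase.secEquiv (Opens.grothendieckTopology (𝔛.X 0)) U ((Sh h.1).obj c.pt)) h2
  rw [SiteBase.secEquiv_comp, AddEquiv.apply_symm_apply] at h4
  exact h4

include h in
/-- Finitely many sections come from one stage. -/
theorem exists_stage_fun {J : Type u} [SmallCategory J] [IsFiltered J] {F : J ⥤ FSch.ModF 𝔛 h.1}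
    {c : Cocone F} (hc : IsColimit c) {U : (𝔛.X 0).Opens} (hU : IsAffineOpen U) {κ : Type} [Fintype κ]
    (y : κ → Sec c.pt U) :
    ∃ (j : J) (x : κ → Sec (F.obj j) U), ∀ i, mapS (c.ι.app j) U (x i) = y i := by
  classical
  choose j x hx using fun i => exists_stage h hc hU (y i)
  obtain ⟨l, hl⟩ := IsFiltered.sup_objs_exists (Finset.univ.image j)
  let t : ∀ i, j i ⟶ l := fun i => (hl (Finset.mem_image_of_mem j (Finset.mem_univ i))).some
  refine ⟨l, fun i => mapS (F.map (t i)) U (x i), fun i => ?_⟩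
  exact ((mapS_comp _ _ _ _).symm.trans (congrArg (fun v => mapS v U (x i)) (c.w (t i)))).trans (hx i)

include h in
/-- Relations in ind-coherent modules come from global relations. -/
theorem hasRel_ind {𝔉 : FSch.ModF 𝔛 h.1}
    (h𝔉 : (ObjectProperty.ind.{u} fun 𝔊 : FSch.ModF 𝔛 h.1 => FSch.IsCohF 𝔛 h.1 𝔊) 𝔉)
    {U : (𝔛.X 0).Opens} (hU : IsAffineOpen U) {κ : Type} [Fintype κ] (y : κ → Sec 𝔉 U) :
    HasRel 𝔉 U y := by
  intro V hle hV c hc
  haveI := noetherian h hU
  obtain ⟨J, _, _, pres, hp⟩ := h𝔉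
  obtain ⟨j, x, hx⟩ := exists_stage_fun h pres.isColimit hU y
  obtain ⟨p, A, hA⟩ := Submodule.fg_iff_exists_fin_generating_family.1 (IsNoetherian.noetherian (RelMod y))
  refine mem_spanRes_local h hV hle _ c ?_
  refine (exact_colim h pres.isColimit hp hU x A (fun r hr => ?_) (homOfLE hle) c ?_).mono fun V' k ⟨d, hd⟩ => ?_
  · rw [hA, mem_RelMod]
    exact (Finset.sum_congr rfl fun i _ => congrArg (r i • ·) (hx i).symm).trans hr
  · exact (Finset.sum_congr rfl fun i _ => congrArg (fun q => c i • resM 𝔉 hle q) (hx i)).trans hc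
  · exact mem_spanRes _ A (fun l => hA ▸ Submodule.subset_span ⟨l, rfl⟩) d hd

variable {𝔉 : FSch.ModF 𝔛 h.1}

include h in
/-- A presentation from generators with global relations. -/
theorem nonempty_pres_of_hasRel {U : (𝔛.X 0).Opens} (hU : IsAffineOpen U) {κ : Type} [Fintype κ]
    (y : κ → Sec 𝔉 U)
    (hgen : ∀ ⦃W : (𝔛.X 0).Opens⦄ (f : W ⟶ U) (t : Sec 𝔉 W),
      ModPull.Locally (Opens.grothendieckTopology (𝔛.X 0)) W (fun V k => ∃ c : κ → Rg h.1 V,
        rs ((fg (𝔛.Osh h.1)).obj 𝔉) k.op t = ∑ i, c i • rs ((fg (𝔛.Osh h.1)).obj 𝔉) (k ≫ f).op (y i)))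
    (hrel : HasRel 𝔉 U y) : Nonempty (Pres (𝔛.Osh h.1) 𝔉 U) := by
  haveI := noetherian h hU
  obtain ⟨p, A, hA⟩ := Submodule.fg_iff_exists_fin_generating_family.1 (IsNoetherian.noetherian (RelMod y))
  refine ⟨{ κ := κ, ρ := Fin p, fκ := inferInstance, fρ := inferInstance, s := y, A := A,
            rel := fun j => mem_RelMod.1 (hA ▸ Submodule.subset_span ⟨j, rfl⟩), gen := hgen,
            exact := fun W f c hc => ?_ }⟩
  refine locally_D h hU (leOfHom f) _ (fun b hb => ?_) fun V V' g k hk => ?_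
  · have h1 := congrArg (rs ((fg (𝔛.Osh h.1)).obj 𝔉) (homOfLE hb).op) hc
    rw [rs_sum] at h1
    obtain ⟨d, hd⟩ := spanRes_le (D_le b) A hA (hrel (D_le b) (isAffineOpen_D hU b) (fun i => res hb (c i)) (by
      refine Eq.trans (Finset.sum_congr rfl fun i _ => ?_) (h1.trans (map_zero _))
      rw [rs_smul, ← SecGen.rs_op_comp]
      rfl))
    exact ⟨d, hd⟩
  · obtain ⟨d, hd⟩ := hk
    refine ⟨fun j => ((𝔛.Osh h.1).obj.map g.op).hom (d j), fun i => ?_⟩
    rw [op_comp, Functor.map_comp]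
    refine (congrArg ((𝔛.Osh h.1).obj.map g.op).hom (hd i)).trans ?_
    rw [map_sum]
    refine Finset.sum_congr rfl fun j _ => ?_
    rw [map_mul, Category.assoc, op_comp (f := g), Functor.map_comp]
    rfl

end Groth.Agent.H26.FMod
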