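import Groth.Agent.H26.FMod.RpushAffine
import Groth.Agent.H26.FMod.Compl
import Groth.Agent.FComplLib.Sys
import Groth.Prelude.Def_FSch6

/-!
# Higher direct images and the maps of completions to their schemes
-/

noncomputable section

set_option autoImplicit false
set_option maxHeartbeats 1000000
set_option linter.style.haveILetI false
set_option backward.isDefEq.respectTransparency false
set_option backward.isDefEq.respectTransparency.types false

universe u

open CategoryTheory CategoryTheory.Limits TopologicalSpace Opposite AlgebraicGeometry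
open Groth.Agent.ModTensor Groth.Agent.ModPull

namespace Groth.Agent.H26.FMod

variable {X : Scheme.{u}} (𝓚 : X.IdealSheafData) (hX : (FSch.completionAlong X 𝓚).IsFormal)

lemma preservesFiniteLimits_toX_push : PreservesFiniteLimits (toX 𝓚 hX).push :=
  haveI : PreservesLimitsOfSize.{0, 0} (toX 𝓚 hX).push := (toX 𝓚 hX).adj.rightAdjoint_preservesLimits
  PreservesLimitsOfSize.preservesFiniteLimits _

lemma isClosedEmbedding_completionToX : Topology.IsClosedEmbedding (FSch.completionToX X 𝓚 0).base :=
  Scheme.Hom.isClosedEmbedding _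

lemma preservesFiniteColimits_toX_push : PreservesFiniteColimits (toX 𝓚 hX).push := by
  haveI : PreservesFiniteColimits (CohTop.push (FSch.completionToX X 𝓚 0).base) :=
    ClosedEmb.preservesFiniteColimits_push (isClosedEmbedding_completionToX 𝓚)
  let e : (toX 𝓚 hX).push ⋙ SheafOfModules.toSheaf.{u} X.ringCatSheaf ≅
      Sh hX ⋙ CohTop.push (FSch.completionToX X 𝓚 0).base :=
    NatIso.ofComponents (fun _ => Iso.refl _) fun _ => (Category.comp_id _).trans (Category.id_comp _).symm
  haveI : PreservesFiniteColimits ((toX 𝓚 hX).push ⋙ SheafOfModules.toSheaf.{u} X.ringCatSheaf) :=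
    preservesFiniteColimits_of_natIso e.symm
  haveI : ReflectsFiniteColimits (SheafOfModules.toSheaf.{u} X.ringCatSheaf) :=
    { reflects := fun {J} _ _ => reflectsColimitsOfShape_of_reflectsIsomorphisms }
  exact preservesFiniteColimits_of_reflects_of_preserves (toX 𝓚 hX).push (SheafOfModules.toSheaf.{u} X.ringCatSheaf)

variable {Y : Scheme.{u}} (f : X ⟶ Y) (𝓘 : Y.IdealSheafData) (hpc : FSch.PowCompat f 𝓚 𝓘)
  (hY : (FSch.completionAlong Y 𝓘).IsFormal)
  [HasInjectiveResolutions (FSch.ModF (FSch.completionAlong X 𝓚) hX)] [HasInjectiveResolutions X.Modules]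

/-- Higher direct images commute with the maps of completions to their schemes. -/
theorem nonempty_rpush_toX (q : ℕ) :
    Nonempty ((toX 𝓚 hX).push ⋙ Coh.Rpush f q ≅
      FSch.RpushF (FSch.completionMap f 𝓚 𝓘 hpc) hX hY q ⋙ (toX 𝓘 hY).push) := by
  haveI := SpObjSS.enoughInjectives_of_hasInjectiveResolutions (C := FSch.ModF (FSch.completionAlong X 𝓚) hX)
  haveI := SpObjSS.enoughInjectives_of_hasInjectiveResolutions (C := X.Modules)
  let E' : FSch.ModF (FSch.completionAlong X 𝓚) hX ⥤ X.Modules := (toX 𝓚 hX).push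
  let P' : FSch.ModF (FSch.completionAlong Y 𝓘) hY ⥤ Y.Modules := (toX 𝓘 hY).push
  haveI : E'.Additive := inferInstanceAs ((toX 𝓚 hX).push).Additive
  haveI : P'.Additive := inferInstanceAs ((toX 𝓘 hY).push).Additive
  haveI : PreservesFiniteLimits E' := preservesFiniteLimits_toX_push 𝓚 hX
  haveI : PreservesFiniteColimits E' := preservesFiniteColimits_toX_push 𝓚 hX
  haveI : PreservesFiniteLimits P' := preservesFiniteLimits_toX_push 𝓘 hY
  haveI : PreservesFiniteColimits P' := preservesFiniteColimits_toX_push 𝓘 hY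
  haveI : PreservesFiniteLimits (Scheme.Modules.pushforward f) := QCoh.preservesFiniteLimits_push _
  obtain ⟨e⟩ := SiteBase.nonempty_rightDerived_precomp_of_acyclic E' (Scheme.Modules.pushforward f)
    (fun Q hQ i => by
      haveI : HasInjectiveResolutions (ModSite.Mod X.sheaf) := inferInstanceAs (HasInjectiveResolutions X.Modules)
      obtain ⟨eY⟩ := Edge.nonempty_rpush_toSheaf (ModSite.RMor.ofScheme f) (i + 1)
      have z := SiteBase.isZero_rpush_of_subsingleton (Opens.grothendieckTopology X.toPresheafedSpace.carrier)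
        (Opens.grothendieckTopology Y.toPresheafedSpace.carrier) (Opens.map f.base) (i + 1)
        (QCoh.abSheaf (E'.obj Q)) (fun W => by
          haveI := hQ
          have hs : Subsingleton (CohSite.HU ((Sh hX).obj Q) (i + 1)
              ((Opens.map (FSch.completionToX X 𝓚 0).base).obj ((Opens.map f.base).obj W))) :=
            SiteBase.subsingleton_HU_of_totallyAcyclic
              (SiteBase.isTotallyAcyclic_toSheaf_injective
                (ModSite.ringSh ((FSch.completionAlong X 𝓚).Osh hX)) Q) _ i
          exact @Function.Surjective.subsingleton _ _ _ hs (Edge.bijective_pushHU (FSch.completionToX X 𝓚 0).base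
            (isClosedEmbedding_completionToX 𝓚) ((Sh hX).obj Q) (i + 1) ((Opens.map f.base).obj W)).2)
      have z' := z.of_iso (eY.app (E'.obj Q))
      rw [IsZero.iff_id_eq_zero] at z' ⊢
      exact (SheafOfModules.toSheaf Y.ringCatSheaf).map_injective
        (((SheafOfModules.toSheaf Y.ringCatSheaf).map_id _).trans
          (z'.trans ((SheafOfModules.toSheaf Y.ringCatSheaf).map_zero _ _).symm))) q
  exact ⟨e.symm ≪≫ SiteBase.rightDerivedCongr
      (show E' ⋙ Scheme.Modules.pushforward f ≅ FSch.pushF (FSch.completionMap f 𝓚 𝓘 hpc) hX hY ⋙ P' from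
        FSch.schPushSq (FSch.completionMap f 𝓚 𝓘 hpc) hX hY f (FSch.completionToX X 𝓚) (FSch.completionToX_comm X 𝓚)
          (FSch.completionToX Y 𝓘) (FSch.completionToX_comm Y 𝓘) (FSch.completionMap_sq f 𝓚 𝓘 hpc)) q ≪≫
    SiteBase.rightDerivedCompIso (FSch.pushF (FSch.completionMap f 𝓚 𝓘 hpc) hX hY) P' q⟩

omit [HasInjectiveResolutions (FSch.ModF (FSch.completionAlong X 𝓚) hX)] [HasInjectiveResolutions X.Modules] in
/-- The completion of a proper morphism is proper. -/
theorem isProperHom_completionMap [IsProper f] (h𝓚 : 𝓚 = 𝓘.comap f) :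
    FSch.IsProperHom (FSch.completionMap f 𝓚 𝓘 hpc) := by
  subst h𝓚
  exact ⟨FComplLib.isAdicHom_completionMap f 𝓘 hpc,
    MorphismProperty.of_isPullback (FComplLib.isPullback_completionMap_app f 𝓘 hpc 0) inferInstance⟩

end Groth.Agent.H26.FMod
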