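import Groth.Agent.H26.FMod.FFLocal
import Groth.Agent.H26.FMod.RpushCompl
import Groth.Agent.H26.FMod.PresLim
import Groth.Agent.H26.FMod.PushCompletion

/-!
# Higher direct images commute with completion
-/

noncomputable section

set_option autoImplicit false
set_option maxHeartbeats 1000000
set_option linter.style.haveILetI false
set_option backward.isDefEq.respectTransparency false
set_option backward.isDefEq.respectTransparency.types false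

universe u

open CategoryTheory CategoryTheory.Limits TopologicalSpace Opposite AlgebraicGeometry
open Groth.Agent.ModTensor Groth.Agent.ModPull

namespace Groth.Agent.H26.FMod

/-- A map from a completion onto a limit of levels is bijective. -/
lemma bijective_of_adic {R P N : Type*} [CommRing R] [IsNoetherianRing R] (J : Ideal R) [IsAdicComplete J R]
    [AddCommGroup P] [Module R P] [Module.Finite R P] [AddCommGroup N] [Module R N] (θ : P →ₗ[R] N)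
    {M : Type*} [AddCommGroup M] (u : M →+ P) (hu : ∀ k p, ∃ m, p - u m ∈ J ^ (k + 1) • (⊤ : Submodule R P))
    {H : ℕ → Type*} [∀ k, AddCommGroup (H k)] [∀ k, Module R (H k)] (qk : ∀ k, N →ₗ[R] H k)
    (hext : ∀ z, (∀ k, qk k z = 0) → z = 0) (hkill : ∀ k, ∀ r ∈ J ^ (k + 1), ∀ y : H k, r • y = 0)
    (c : ℕ) (hK : ∀ k m, qk k (θ (u m)) = 0 → u m ∈ J ^ (k - c) • (⊤ : Submodule R P))
    (hI : ∀ k (z : N), ∃ m, qk k (θ (u m)) = qk k z ∧ ∀ j, j ≤ k → qk j (θ (u m)) = qk j z) :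
    Function.Bijective θ := by
  have h0 : ∀ k (p : P), p ∈ J ^ (k + 1) • (⊤ : Submodule R P) → qk k (θ p) = 0 := fun k p hp => by
    refine Submodule.smul_induction_on hp (fun r hr y _ => ?_) fun x y hx hy => ?_
    · rw [map_smul, map_smul]; exact hkill k r hr _
    · rw [map_add, map_add, hx, hy, add_zero]
  have hstep : ∀ k (p : P) m, p - u m ∈ J ^ (k + 1) • (⊤ : Submodule R P) → qk k (θ p) = qk k (θ (u m)) :=
    fun k p m hm => by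
      have := h0 k _ hm
      rwa [map_sub, map_sub, sub_eq_zero] at this
  haveI := AdicLib.isAdicComplete_of_finite J P
  refine ⟨(injective_iff_map_eq_zero θ).2 fun p hp => ?_, fun z => ?_⟩
  · refine IsHausdorff.haus (inferInstance : IsHausdorff J P) p fun i => SModEq.zero.2 ?_
    obtain ⟨m, hm⟩ := hu (i + c) p
    have h1 := hK (i + c) m (by rw [← hstep _ p m hm, hp, map_zero])
    rw [Nat.add_sub_cancel] at h1
    have h2 := Submodule.add_mem _ (Submodule.smul_mono_left (Ideal.pow_le_pow_right (by omega : i ≤ i + c + 1)) hm) h1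
    rwa [sub_add_cancel] at h2
  · choose m hm hm' using fun k => hI (k + c) z
    obtain ⟨L, hL⟩ := exists_limit_of_cauchy J (fun k => u (m k)) fun k => by
      rw [← map_sub]
      have h3 := hK (k + c) (m (k + 1) - m k) (by
        rw [map_sub, map_sub, map_sub, hm k, hm' (k + 1) (k + c) (by omega), sub_self])
      rwa [Nat.add_sub_cancel] at h3
    refine ⟨L, sub_eq_zero.1 (hext _ fun k => ?_)⟩
    have h4 : L - u (m (k + 1)) ∈ J ^ (k + 1) • (⊤ : Submodule R P) := by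
      rw [← neg_sub]; exact neg_mem (hL (k + 1))
    rw [map_sub, hstep k L _ h4, hm' (k + 1) k (by omega), sub_self]

/-- A square over the map of a completion to its scheme, on sections. -/
lemma app_square {Z : Scheme.{u}} (𝓛 : Z.IdealSheafData) (hZ : (FSch.completionAlong Z 𝓛).IsFormal)
    {A B : Z.Modules} {P P' : FSch.ModF (FSch.completionAlong Z 𝓛) hZ} (α : A ⟶ B)
    (ψ : B ⟶ (toX 𝓛 hZ).push.obj P') (φ : A ⟶ (toX 𝓛 hZ).push.obj P) (β : P ⟶ P')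
    (e : α ≫ ψ = φ ≫ (toX 𝓛 hZ).push.map β) (V : Z.Opens) (z : Γ(A, V)) :
    ψ.app V (α.app V z) = mapS β (hatU 𝓛 V) (φ.app V z) :=
  congrArg (fun t => Scheme.Modules.Hom.app (M := A) (N := (toX 𝓛 hZ).push.obj P') t V z) e

section Main

variable {X Y : Scheme.{u}} [IsLocallyNoetherian X] [IsLocallyNoetherian Y] (f : X ⟶ Y) [IsProper f]
  (𝓘 : Y.IdealSheafData) (𝓚 : X.IdealSheafData) (h𝓚 : 𝓚 = 𝓘.comap f) (hpc : FSch.PowCompat f 𝓚 𝓘)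
  [HasInjectiveResolutions X.Modules]
  [HasInjectiveResolutions (FSch.ModF (FSch.completionAlong X 𝓚) (S3854.result X 𝓚).1)]
  {F : X.Modules} (hF : Coh.IsCoh F) (q : ℕ)

/-- The target functor. -/
abbrev Rh := FSch.RpushF (FSch.completionMap f 𝓚 𝓘 hpc) (S3854.result X 𝓚).1 (S3854.result Y 𝓘).1 q

/-- The completed module. -/
abbrev Fh (F : X.Modules) := (toX 𝓚 (S3854.result X 𝓚).1).pull.obj F

variable (Ψ : (toX 𝓚 (S3854.result X 𝓚).1).push ⋙ Coh.Rpush f q ≅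
  Rh f 𝓘 𝓚 hpc q ⋙ (toX 𝓘 (S3854.result Y 𝓘).1).push)

/-- The comparison map. -/
def rpushTheta (F : X.Modules) :
    (toX 𝓘 (S3854.result Y 𝓘).1).pull.obj ((Coh.Rpush f q).obj F) ⟶ (Rh f 𝓘 𝓚 hpc q).obj (Fh 𝓚 F) :=
  ((toX 𝓘 (S3854.result Y 𝓘).1).adj.homEquiv _ _).symm
    ((Coh.Rpush f q).map ((toX 𝓚 (S3854.result X 𝓚).1).adj.unit.app F) ≫ Ψ.hom.app (Fh 𝓚 F))

/-- The comparison at a level. -/
abbrev psiL (F : X.Modules) (k : ℕ) :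
    (Coh.Rpush f q).obj (lvPush 𝓚 (S3854.result X 𝓚).1 (M := F) k) ⟶
      (toX 𝓘 (S3854.result Y 𝓘).1).push.obj ((Rh f 𝓘 𝓚 hpc q).obj (lvl k (Fh 𝓚 F))) :=
  Ψ.hom.app (lvl k (Fh 𝓚 F))

lemma unit_rpushTheta (F : X.Modules) (k : ℕ) :
    (toX 𝓘 (S3854.result Y 𝓘).1).adj.unit.app ((Coh.Rpush f q).obj F) ≫ (toX 𝓘 (S3854.result Y 𝓘).1).push.map
        (rpushTheta f 𝓘 𝓚 hpc q Ψ F ≫ (Rh f 𝓘 𝓚 hpc q).map (toLvl k (Fh 𝓚 F))) =
      (Coh.Rpush f q).map (lvEta 𝓚 (S3854.result X 𝓚).1 (M := F) k) ≫ psiL f 𝓘 𝓚 hpc q Ψ F k := by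
  refine ((congrArg (_ ≫ ·) ((toX 𝓘 (S3854.result Y 𝓘).1).push.map_comp _ _)).trans (Category.assoc _ _ _).symm).trans ?_
  refine (congrArg (· ≫ _) (((toX 𝓘 (S3854.result Y 𝓘).1).adj.homEquiv_unit _ _ _).symm.trans
    (Equiv.apply_symm_apply _ _))).trans ?_
  refine (Category.assoc _ _ _).trans ((congrArg ((Coh.Rpush f q).map _ ≫ ·)
    (Ψ.hom.naturality (toLvl k (Fh 𝓚 F))).symm).trans ?_)
  exact (Category.assoc _ _ _).symm.trans (congrArg (· ≫ _) ((Coh.Rpush f q).map_comp _ _).symm)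

lemma psiL_trP (F : X.Modules) (k c : ℕ) :
    (Coh.Rpush f q).map (trP 𝓚 F k c) ≫ psiL f 𝓘 𝓚 hpc q Ψ F k =
      psiL f 𝓘 𝓚 hpc q Ψ F (k + c) ≫ (toX 𝓘 (S3854.result Y 𝓘).1).push.map
        ((Rh f 𝓘 𝓚 hpc q).map (RpushLim.trF (S3854.result X 𝓚) (Fh 𝓚 F) k c)) :=
  Ψ.hom.naturality (RpushLim.trF (S3854.result X 𝓚) (Fh 𝓚 F) k c)

/-- Sections of the map to a level. -/
abbrev qS (F : X.Modules) (V : Y.Opens) (k : ℕ) :=
  mapS (RpushLim.qR (S3854.result X 𝓚) (S3854.result Y 𝓘) (FSch.completionMap f 𝓚 𝓘 hpc) (Fh 𝓚 F) q k) (hatU 𝓘 V)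

/-- The comparison at a level, on sections. -/
abbrev psiS (F : X.Modules) (V : Y.Opens) (k : ℕ) :
    Γ((Coh.Rpush f q).obj (lvPush 𝓚 (S3854.result X 𝓚).1 (M := F) k), V) →+
      Sec ((Rh f 𝓘 𝓚 hpc q).obj (lvl k (Fh 𝓚 F))) (hatU 𝓘 V) :=
  (Scheme.Modules.Hom.app (M := (Coh.Rpush f q).obj (lvPush 𝓚 (S3854.result X 𝓚).1 (M := F) k))
    (N := (toX 𝓘 (S3854.result Y 𝓘).1).push.obj ((Rh f 𝓘 𝓚 hpc q).obj (lvl k (Fh 𝓚 F))))
    (psiL f 𝓘 𝓚 hpc q Ψ F k) V).hom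

include h𝓚 hF in
lemma bijective_rpushTheta {V : Y.Opens} (hV : IsAffineOpen V) :
    Function.Bijective (mapS (rpushTheta f 𝓘 𝓚 hpc q Ψ F) (hatU 𝓘 V)) := by
  have h := S3854.result X 𝓚
  have h' := S3854.result Y 𝓘
  have hfh : FSch.IsProperHom (FSch.completionMap f 𝓚 𝓘 hpc) := isProperHom_completionMap 𝓚 f 𝓘 hpc h𝓚
  have hG : Coh.IsCoh ((Coh.Rpush f q).obj F) := S0036.result f F hF q
  have h𝔉 : FSch.IsCohF (FSch.completionAlong X 𝓚) h.1 (Fh 𝓚 F) := isFP_pull 𝓚 h.1 hF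
  have hW := isAffineOpen_hatU 𝓘 hV
  haveI := noetherian h' hW
  haveI := complete h' hW
  haveI := finite_sec h' (isFP_pull 𝓘 h'.1 hG) hW
  let θ := mapS (rpushTheta f 𝓘 𝓚 hpc q Ψ F) (hatU 𝓘 V)
  have hq : ∀ k (m : Γ((Coh.Rpush f q).obj F, V)),
      qS f 𝓘 𝓚 hpc q F V k (θ (uU 𝓘 h'.1 ((Coh.Rpush f q).obj F) V m)) =
        psiS f 𝓘 𝓚 hpc q Ψ F V k (((Coh.Rpush f q).map (lvEta 𝓚 h.1 (M := F) k)).app V m) := fun k m =>
    (mapS_comp _ _ _ _).symm.trans (congrArg (fun t => Scheme.Modules.Hom.app (M := (Coh.Rpush f q).obj F)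
      (N := (toX 𝓘 h'.1).push.obj ((Rh f 𝓘 𝓚 hpc q).obj (lvl k (Fh 𝓚 F)))) t V m) (unit_rpushTheta f 𝓘 𝓚 hpc q Ψ F k))
  have hΨb : ∀ k, Function.Bijective (psiS f 𝓘 𝓚 hpc q Ψ F V k) := fun k => by
    haveI : IsIso (psiL f 𝓘 𝓚 hpc q Ψ F k) := inferInstanceAs (IsIso (Ψ.hom.app _))
    haveI := Scheme.Modules.Hom.isIso_iff_isIso_app.mp (inferInstance : IsIso (psiL f 𝓘 𝓚 hpc q Ψ F k)) V
    exact ConcreteCategory.bijective_of_isIso (Scheme.Modules.Hom.app (M := (Coh.Rpush f q).obj (lvPush 𝓚 h.1 (M := F) k))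
      (N := (toX 𝓘 h'.1).push.obj ((Rh f 𝓘 𝓚 hpc q).obj (lvl k (Fh 𝓚 F)))) (psiL f 𝓘 𝓚 hpc q Ψ F k) V)
  have htr : ∀ k c (z : Γ((Coh.Rpush f q).obj (lvPush 𝓚 h.1 (M := F) (k + c)), V)),
      psiS f 𝓘 𝓚 hpc q Ψ F V k (((Coh.Rpush f q).map (trP 𝓚 F k c)).app V z) =
        mapS ((Rh f 𝓘 𝓚 hpc q).map (RpushLim.trF h (Fh 𝓚 F) k c)) (hatU 𝓘 V) (psiS f 𝓘 𝓚 hpc q Ψ F V (k + c) z) :=
    fun k c z => app_square 𝓘 h'.1 ((Coh.Rpush f q).map (trP 𝓚 F k c)) (psiL f 𝓘 𝓚 hpc q Ψ F k)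
      (psiL f 𝓘 𝓚 hpc q Ψ F (k + c)) ((Rh f 𝓘 𝓚 hpc q).map (RpushLim.trF h (Fh 𝓚 F) k c))
      (psiL_trP f 𝓘 𝓚 hpc q Ψ F k c) V z
  have hqtr : ∀ k c (x : Sec ((Rh f 𝓘 𝓚 hpc q).obj (Fh 𝓚 F)) (hatU 𝓘 V)),
      mapS ((Rh f 𝓘 𝓚 hpc q).map (RpushLim.trF h (Fh 𝓚 F) k c)) (hatU 𝓘 V) (qS f 𝓘 𝓚 hpc q F V (k + c) x) =
        qS f 𝓘 𝓚 hpc q F V k x := fun k c x =>
    (mapS_comp _ _ _ _).symm.trans (congrArg (fun t => mapS t (hatU 𝓘 V) x)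
      (((Rh f 𝓘 𝓚 hpc q).map_comp _ _).symm.trans
        (congrArg (Rh f 𝓘 𝓚 hpc q).map (RpushLim.toLvl_trF h (Fh 𝓚 F) k c))))
  obtain ⟨c, hK, hI⟩ := exists_ff 𝓚 f 𝓘 hV h𝓚 hF q
  refine bijective_of_adic (Jd h'.1 (hatU 𝓘 V)) θ (uU 𝓘 h'.1 ((Coh.Rpush f q).obj F) V)
    (fun k p => exists_uU_approx 𝓘 h' hG hV k p) (fun k => qS f 𝓘 𝓚 hpc q F V k)
    (fun z hz => RpushLim.qR_ext h h' (FSch.completionMap f 𝓚 𝓘 hpc) hfh (Fh 𝓚 F) h𝔉 q (hatU 𝓘 V) z hz)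
    (fun k r hr y => RpushLim.kill_Rl h h' (FSch.completionMap f 𝓚 𝓘 hpc) hfh (Fh 𝓚 F) h𝔉 q k hW r hr y)
    c (fun k m hm => ?_) (fun k z => ?_)
  · rw [hq] at hm
    exact uU_mem 𝓘 h'.1 hV _ (k - c) (hK k m ((hΨb k).1 (hm.trans (map_zero _).symm)))
  · obtain ⟨w, hw⟩ := (hΨb (k + c)).2 (qS f 𝓘 𝓚 hpc q F V (k + c) z)
    obtain ⟨m, hm⟩ := hI k w
    have e1 : qS f 𝓘 𝓚 hpc q F V k (θ (uU 𝓘 h'.1 ((Coh.Rpush f q).obj F) V m)) = qS f 𝓘 𝓚 hpc q F V k z := by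
      rw [hq]
      exact (congrArg _ hm).trans ((htr k c w).trans ((congrArg _ hw).trans (hqtr k c z)))
    refine ⟨m, e1, fun j hj => ?_⟩
    obtain ⟨d, rfl⟩ := Nat.exists_eq_add_of_le hj
    exact (hqtr j d _).symm.trans ((congrArg _ e1).trans (hqtr j d z))

include h𝓚 hF in
/-- The completion of a higher direct image is the higher direct image of the completion. -/
theorem isIso_rpushTheta : IsIso (rpushTheta f 𝓘 𝓚 hpc q Ψ F) :=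
  isIso_of_isIso_toX_push 𝓘 (S3854.result Y 𝓘).1 _
    (QCoh.isIso_of_isBasis (M := (toX 𝓘 (S3854.result Y 𝓘).1).push.obj
        ((toX 𝓘 (S3854.result Y 𝓘).1).pull.obj ((Coh.Rpush f q).obj F)))
      (N := (toX 𝓘 (S3854.result Y 𝓘).1).push.obj ((Rh f 𝓘 𝓚 hpc q).obj (Fh 𝓚 F))) _ Y.isBasis_affineOpens
      fun V (hV : IsAffineOpen V) => bijective_rpushTheta f 𝓘 𝓚 h𝓚 hpc hF q Ψ hV)

include h𝓚 hF in
theorem nonempty_iso_rpush_completion :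
    Nonempty ((toX 𝓘 (S3854.result Y 𝓘).1).pull.obj ((Coh.Rpush f q).obj F) ≅ (Rh f 𝓘 𝓚 hpc q).obj (Fh 𝓚 F)) := by
  obtain ⟨Ψ⟩ := nonempty_rpush_toX 𝓚 (S3854.result X 𝓚).1 f 𝓘 hpc (S3854.result Y 𝓘).1 q
  haveI := isIso_rpushTheta f 𝓘 𝓚 h𝓚 hpc hF q Ψ
  exact ⟨asIso (rpushTheta f 𝓘 𝓚 hpc q Ψ F)⟩

end Main

end Groth.Agent.H26.FMod
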