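import Groth.Agent.H26.FMod.RpushFormal
import Groth.Agent.S0485

/-!
# Base change to completions for direct images
-/

noncomputable section

set_option autoImplicit false
set_option maxHeartbeats 1000000
set_option linter.style.haveILetI false
set_option backward.isDefEq.respectTransparency false
set_option backward.isDefEq.respectTransparency.types false

universe u

open CategoryTheory CategoryTheory.Limits TopologicalSpace Opposite AlgebraicGeometry
open Groth.Agent.ModTensor Groth.Agent.ModPull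

namespace Groth.Agent.H26.FMod

/-- Adjuncts of maps corresponding under natural isomorphisms. -/
lemma theta_conj {A B C : Type*} [Category A] [Category B] [Category C] {L : B ⥤ C} {R : C ⥤ B} (adj : L ⊣ R)
    {a : A} {p : A} (u : a ⟶ p) {P P0 : A ⥤ B} (e : P ≅ P0) {T T0 : C} (eh : T ≅ T0)
    (s : P0.obj p ⟶ R.obj T0) :
    (adj.homEquiv _ _).symm (P.map u ≫ e.hom.app p ≫ s ≫ R.map eh.inv) =
      L.map (e.hom.app a) ≫ (adj.homEquiv _ _).symm (P0.map u ≫ s) ≫ eh.inv := by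
  apply (adj.homEquiv _ _).injective
  rw [Equiv.apply_symm_apply, Adjunction.homEquiv_naturality_left, Adjunction.homEquiv_naturality_right,
    Equiv.apply_symm_apply]
  simp only [Category.assoc]
  exact (Category.assoc _ _ _).symm.trans ((congrArg (· ≫ _) (e.hom.naturality u)).trans (Category.assoc _ _ _))

variable {X Y : Scheme.{u}} [IsLocallyNoetherian X] [IsLocallyNoetherian Y] (f : X ⟶ Y) [IsProper f]
  (𝓘 : Y.IdealSheafData) (𝓚 : X.IdealSheafData) (h𝓚 : 𝓚 = 𝓘.comap f) (hpc : FSch.PowCompat f 𝓚 𝓘)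
  {F : X.Modules} (hF : Coh.IsCoh F)

include h𝓚 hF in
/-- Base change to completions is an isomorphism for coherent modules. -/
theorem isIso_schBcMap_completion :
    IsIso (FSch.schBcMap (FSch.completionMap f 𝓚 𝓘 hpc) (S3854.result X 𝓚).1 (S3854.result Y 𝓘).1 f
      (FSch.completionToX X 𝓚) (FSch.completionToX_comm X 𝓚) (FSch.completionToX Y 𝓘) (FSch.completionToX_comm Y 𝓘)
      (FSch.completionMap_sq f 𝓚 𝓘 hpc) F) := by
  haveI : HasInjectiveResolutions X.Modules := KFlatLib.hasInjectiveResolutions_modules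
  haveI : EnoughInjectives (FSch.ModF (FSch.completionAlong X 𝓚) (S3854.result X 𝓚).1) :=
    S0485.result _ (ModSite.ringSh ((FSch.completionAlong X 𝓚).Osh (S3854.result X 𝓚).1))
  haveI : EnoughInjectives X.Modules := SpObjSS.enoughInjectives_of_hasInjectiveResolutions (C := X.Modules)
  haveI : PreservesFiniteLimits (Scheme.Modules.pushforward f) := QCoh.preservesFiniteLimits_push f
  let fh := FSch.completionMap f 𝓚 𝓘 hpc
  haveI : PreservesLimitsOfSize.{0, 0} (FSch.pushF fh (S3854.result X 𝓚).1 (S3854.result Y 𝓘).1) :=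
    (FSch.homMor fh (S3854.result X 𝓚).1 (S3854.result Y 𝓘).1).adj.rightAdjoint_preservesLimits
  haveI : PreservesFiniteLimits (FSch.pushF fh (S3854.result X 𝓚).1 (S3854.result Y 𝓘).1) :=
    PreservesLimitsOfSize.preservesFiniteLimits _
  let e : Coh.Rpush f 0 ≅ Scheme.Modules.pushforward f := (Scheme.Modules.pushforward f).rightDerivedZeroIsoSelf
  let eh : Rh f 𝓘 𝓚 hpc 0 ≅ FSch.pushF fh (S3854.result X 𝓚).1 (S3854.result Y 𝓘).1 :=
    (FSch.pushF fh (S3854.result X 𝓚).1 (S3854.result Y 𝓘).1).rightDerivedZeroIsoSelf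
  let sq := FSch.schPushSq fh (S3854.result X 𝓚).1 (S3854.result Y 𝓘).1 f (FSch.completionToX X 𝓚)
    (FSch.completionToX_comm X 𝓚) (FSch.completionToX Y 𝓘) (FSch.completionToX_comm Y 𝓘)
    (FSch.completionMap_sq f 𝓚 𝓘 hpc)
  let Ψ : (toX 𝓚 (S3854.result X 𝓚).1).push ⋙ Coh.Rpush f 0 ≅
      Rh f 𝓘 𝓚 hpc 0 ⋙ (toX 𝓘 (S3854.result Y 𝓘).1).push :=
    Functor.isoWhiskerLeft _ e ≪≫ sq ≪≫ Functor.isoWhiskerRight eh.symm _
  haveI := isIso_rpushTheta f 𝓘 𝓚 h𝓚 hpc hF 0 Ψ
  have key : rpushTheta f 𝓘 𝓚 hpc 0 Ψ F = (toX 𝓘 (S3854.result Y 𝓘).1).pull.map (e.hom.app F) ≫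
      FSch.schBcMap fh (S3854.result X 𝓚).1 (S3854.result Y 𝓘).1 f (FSch.completionToX X 𝓚)
        (FSch.completionToX_comm X 𝓚) (FSch.completionToX Y 𝓘) (FSch.completionToX_comm Y 𝓘)
        (FSch.completionMap_sq f 𝓚 𝓘 hpc) F ≫ eh.inv.app (Fh 𝓚 F) :=
    theta_conj (toX 𝓘 (S3854.result Y 𝓘).1).adj ((toX 𝓚 (S3854.result X 𝓚).1).adj.unit.app F) e
      (eh.app (Fh 𝓚 F)) (sq.hom.app (Fh 𝓚 F))
  have h1 : IsIso (rpushTheta f 𝓘 𝓚 hpc 0 Ψ F) := inferInstance
  rw [key] at h1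
  haveI := @IsIso.of_isIso_comp_left _ _ _ _ _ _ _ inferInstance h1
  exact IsIso.of_isIso_comp_right (FSch.schBcMap fh (S3854.result X 𝓚).1 (S3854.result Y 𝓘).1 f
    (FSch.completionToX X 𝓚) (FSch.completionToX_comm X 𝓚) (FSch.completionToX Y 𝓘) (FSch.completionToX_comm Y 𝓘)
    (FSch.completionMap_sq f 𝓚 𝓘 hpc) F) (eh.inv.app (Fh 𝓚 F))

end Groth.Agent.H26.FMod
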