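import Groth.Agent.H26.FMod.OpenProper
import Groth.Agent.H26.Edge.Scheme
import Groth.Agent.H26.Edge.RpushMod
import Groth.Agent.H26.Edge.BasisIso
import Groth.Agent.S5738

/-!
# Higher direct images of coherent modules as limits over the levels
-/

noncomputable section

set_option autoImplicit false
set_option maxHeartbeats 1000000
set_option linter.style.haveILetI false
set_option backward.isDefEq.respectTransparency false
set_option backward.isDefEq.respectTransparency.types false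

universe u

open CategoryTheory CategoryTheory.Limits TopologicalSpace Opposite AlgebraicGeometry
open Groth.Agent.ModTensor Groth.Agent.ModPull

namespace Groth.Agent.H26.FMod.RpushLim

open OpenTransfer

variable {𝔛 𝔜 : FSch.Sys.{u}} (h : 𝔛.IsLocNoethFormal) (h𝔜 : 𝔜.IsLocNoethFormal) (f : 𝔛 ⟶ 𝔜)
  (hf : FSch.IsProperHom f) (𝔉 : FSch.ModF 𝔛 h.1) (h𝔉 : FSch.IsCohF 𝔛 h.1 𝔉)

/-- The map of the first levels. -/
abbrev f0 : (𝔛.X 0).toPresheafedSpace.carrier ⟶ (𝔜.X 0).toPresheafedSpace.carrier :=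
  ((f : FSch.Hom 𝔛 𝔜).app 0).base

/-- The cohomology presheaves of a sheaf. -/
abbrev P (q : ℕ) := Edge.Hp (Opens.grothendieckTopology (𝔛.X 0).toPresheafedSpace.carrier) (Opens.map (f0 f)) q

include h h𝔜 hf h𝔉 in
/-- The cohomology of a level over inverse images of affine opens gives the sections of its higher direct image. -/
theorem good_lvS (q k : ℕ) :
    Edge.Good (Opens.grothendieckTopology (𝔛.X 0).toPresheafedSpace.carrier)
      (Opens.grothendieckTopology (𝔜.X 0).toPresheafedSpace.carrier) (Opens.map (f0 f))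
      (fun U : (𝔜.X 0).Opens => IsAffineOpen U) q (lvS h.1 𝔉 k) := by
  haveI := hf.2
  haveI : IsProper ((f : FSch.Hom 𝔛 𝔜).app k) := S5738.result f h h𝔜 hf.1 k
  exact Edge.good_push (f0 f) ((f : FSch.Hom 𝔛 𝔜).app k).base (𝔛.gInv h.1 k) (𝔜.gInv h𝔜.1 k)
    (FSch.Hom.base_gInv f h.1 h𝔜.1 k).symm (𝔛.levelHomeo h.1 k).symm.isClosedEmbedding
    (B' := fun U : (𝔜.X k).Opens => IsAffineOpen U)
    (fun V hV => isAffineOpen_lvU h𝔜.1 k hV) (QCoh.abSheaf (pullK k 𝔉)) q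
    (Edge.good_qcoh ((f : FSch.Hom 𝔛 𝔜).app k) (isCoh_pullK k 𝔉 h𝔉).1 q)

variable [HasInjectiveResolutions (FSch.ModF 𝔛 h.1)] (q : ℕ)
  (E : FSch.RpushF f h.1 h𝔜.1 q ⋙ Sh h𝔜.1 ≅
    Sh h.1 ⋙ Edge.Hs (Opens.grothendieckTopology (𝔛.X 0).toPresheafedSpace.carrier)
      (Opens.grothendieckTopology (𝔜.X 0).toPresheafedSpace.carrier) (Opens.map (f0 f)) q)

lemma nonempty_E : Nonempty (FSch.RpushF f h.1 h𝔜.1 q ⋙ Sh h𝔜.1 ≅
    Sh h.1 ⋙ Edge.Hs (Opens.grothendieckTopology (𝔛.X 0).toPresheafedSpace.carrier)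
      (Opens.grothendieckTopology (𝔜.X 0).toPresheafedSpace.carrier) (Opens.map (f0 f)) q) := by
  obtain ⟨e⟩ := Edge.nonempty_rpush_toSheaf (FSch.homMor f h.1 h𝔜.1) q
  exact ⟨e ≪≫ Functor.isoWhiskerLeft (Sh h.1) (SiteBase.rpushIso
    (Opens.grothendieckTopology (𝔛.X 0).toPresheafedSpace.carrier)
    (Opens.grothendieckTopology (𝔜.X 0).toPresheafedSpace.carrier) (Opens.map (f0 f)) q)⟩

/-- Classes over an inverse image as sections of the higher direct image. -/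
def eta (G : FSch.ModF 𝔛 h.1) :
    (P f q).obj ((Sh h.1).obj G) ⟶ ((Sh h𝔜.1).obj ((FSch.RpushF f h.1 h𝔜.1 q).obj G)).obj :=
  CategoryTheory.toSheafify _ _ ≫ (E.inv.app G).hom

lemma eta_natural {G G' : FSch.ModF 𝔛 h.1} (α : G ⟶ G') :
    (P f q).map ((Sh h.1).map α) ≫ eta h h𝔜 f q E G' =
      eta h h𝔜 f q E G ≫ ((Sh h𝔜.1).map ((FSch.RpushF f h.1 h𝔜.1 q).map α)).hom := by
  rw [eta, eta, ← Category.assoc, toSheafify_naturality, Category.assoc, Category.assoc]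
  exact congrArg (_ ≫ ·) (congrArg (sheafToPresheaf _ AddCommGrpCat.{u}).map (E.inv.naturality α))

include hf h𝔉 in
lemma bijective_eta (k : ℕ) {U : (𝔜.X 0).Opens} (hU : IsAffineOpen U) :
    Function.Bijective ((eta h h𝔜 f q E (lvl k 𝔉)).app (op U)).hom := by
  haveI : IsIso ((E.inv.app (lvl k 𝔉)).hom.app (op U)) :=
    inferInstanceAs (IsIso (((sheafToPresheaf _ _).map (E.inv.app (lvl k 𝔉))).app (op U)))
  exact (ConcreteCategory.bijective_of_isIso ((E.inv.app (lvl k 𝔉)).hom.app (op U))).comp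
    (good_lvS h h𝔜 f hf 𝔉 h𝔉 q k U hU)

/-- The levels of a higher direct image. -/
abbrev D (𝔉 : FSch.ModF 𝔛 h.1) : ℕᵒᵖ ⥤ FSch.ModF 𝔜 h𝔜.1 :=
  Functor.ofOpSequence (X := fun k => (FSch.RpushF f h.1 h𝔜.1 q).obj (lvl k 𝔉))
    (fun k => (FSch.RpushF f h.1 h𝔜.1 q).map (FSch.levelTrans 𝔛 h.1 𝔉 k))

/-- The cone of the higher direct image. -/
def cone : Cone (D h h𝔜 f q 𝔉) :=
  ⟨(FSch.RpushF f h.1 h𝔜.1 q).obj 𝔉,
    NatTrans.ofOpSequence (fun k => (FSch.RpushF f h.1 h𝔜.1 q).map ((FSch.levelMor 𝔛 h.1 k).adj.unit.app 𝔉))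
      fun k => by
        simp only [Functor.const_obj_obj, Functor.const_obj_map, Category.id_comp]
        rw [show (D h h𝔜 f q 𝔉).map (homOfLE (Nat.le_add_right k 1)).op = _ from
          Functor.ofOpSequence_map_homOfLE_succ _ k]
        exact ((Functor.map_comp _ _ _).symm.trans (congrArg (FSch.RpushF f h.1 h𝔜.1 q).map
          (FSch.unit_levelTrans 𝔛 h.1 𝔉 k))).symm⟩

/-- The comparison with the limit. -/
def rho : (FSch.RpushF f h.1 h𝔜.1 q).obj 𝔉 ⟶ limit (D h h𝔜 f q 𝔉) :=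
  limit.lift _ (cone h h𝔜 f 𝔉 q)

lemma rho_π (k : ℕ) : rho h h𝔜 f 𝔉 q ≫ limit.π (D h h𝔜 f q 𝔉) (op k) =
    (FSch.RpushF f h.1 h𝔜.1 q).map ((FSch.levelMor 𝔛 h.1 k).adj.unit.app 𝔉) :=
  limit.lift_π _ (op k)

/-- Sections over an open of modules. -/
abbrev secF (U : (𝔜.X 0).Opens) : FSch.ModF 𝔜 h𝔜.1 ⥤ AddCommGrpCat.{u} :=
  (SheafOfModules.forget (ModSite.ringSh (𝔜.Osh h𝔜.1)) ⋙ PresheafOfModules.toPresheaf _) ⋙
    (evaluation _ _).obj (op U)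

include h hf h𝔉 in
lemma bijective_psi_rho {U : (𝔜.X 0).Opens} (hU : IsAffineOpen U) :
    Function.Bijective ((eta h h𝔜 f q E 𝔉 ≫ ((Sh h𝔜.1).map (rho h h𝔜 f 𝔉 q)).hom).app (op U)).hom := by
  let R := FSch.RpushF f h.1 h𝔜.1 q
  let S := secF h𝔜 U
  let hl := isLimitOfPreserves S (limit.isLimit (D h h𝔜 f q 𝔉))
  let ψ := ((eta h h𝔜 f q E 𝔉 ≫ ((Sh h𝔜.1).map (rho h h𝔜 f 𝔉 q)).hom).app (op U)).hom
  let η := fun k => ((eta h h𝔜 f q E (lvl k 𝔉)).app (op U)).hom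
  let W := preU f U
  -- the components of the map
  have hψ : ∀ (x : CohSite.HU ((Sh h.1).obj 𝔉) q W) k,
      (S.map (limit.π (D h h𝔜 f q 𝔉) (op k))).hom (ψ x) = η k (uU h 𝔉 W q k x) := fun x k => by
    have e1 : (S.map (limit.π (D h h𝔜 f q 𝔉) (op k))).hom (ψ x) =
        (S.map (R.map ((FSch.levelMor 𝔛 h.1 k).adj.unit.app 𝔉))).hom
          (((eta h h𝔜 f q E 𝔉).app (op U)).hom x) :=
      congrArg (fun t : R.obj 𝔉 ⟶ R.obj (lvl k 𝔉) => (S.map t).hom (((eta h h𝔜 f q E 𝔉).app (op U)).hom x))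
        (rho_π h h𝔜 f 𝔉 q k)
    exact e1.trans (congrArg (fun t => t.app (op U) x)
      (eta_natural h h𝔜 f q E ((FSch.levelMor 𝔛 h.1 k).adj.unit.app 𝔉))).symm
  have hη : ∀ k (y : CohSite.HU (lvS h.1 𝔉 (k + 1)) q W),
      (S.map (R.map (FSch.levelTrans 𝔛 h.1 𝔉 k))).hom (η (k + 1) y) = η k (tU h 𝔉 W q k y) := fun k y =>
    (congrArg (fun t => t.app (op U) y) (eta_natural h h𝔜 f q E (FSch.levelTrans 𝔛 h.1 𝔉 k))).symm
  constructor
  · refine (injective_iff_map_eq_zero _).2 fun x hx => ?_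
    refine HU_eq_zero h 𝔉 h𝔉 W q (fun m _ => limOne_HU h𝔜 f h 𝔉 h𝔉 hf hU m) x fun k => ?_
    refine (bijective_eta h h𝔜 f hf 𝔉 h𝔉 q E k hU).1 ((hψ x k).symm.trans ?_)
    rw [show ψ x = 0 from hx, map_zero]
    exact (map_zero _).symm
  · intro z
    choose y hy using fun k => (bijective_eta h h𝔜 f hf 𝔉 h𝔉 q E k hU).2
      ((S.map (limit.π (D h h𝔜 f q 𝔉) (op k))).hom z)
    have hc : ∀ k, tU h 𝔉 W q k (y (k + 1)) = y k := fun k => by
      refine (bijective_eta h h𝔜 f hf 𝔉 h𝔉 q E k hU).1 ((hη k (y (k + 1))).symm.trans ?_)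
      rw [hy, hy]
      refine (congrArg (fun t => t.hom z) (S.map_comp (limit.π (D h h𝔜 f q 𝔉) (op (k + 1)))
        (R.map (FSch.levelTrans 𝔛 h.1 𝔉 k))).symm).trans ?_
      refine congrArg (fun t => (S.map t).hom z) ?_
      exact ((congrArg (limit.π (D h h𝔜 f q 𝔉) (op (k + 1)) ≫ ·)
        (Functor.ofOpSequence_map_homOfLE_succ (X := fun k => R.obj (lvl k 𝔉))
          (fun k => R.map (FSch.levelTrans 𝔛 h.1 𝔉 k)) k)).symm.trans (limit.w (D h h𝔜 f q 𝔉) _))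
    obtain ⟨x, hx⟩ := exists_HU_lift h 𝔉 h𝔉 W q y hc
    refine ⟨x, Concrete.isLimit_ext _ hl _ _ fun j => ?_⟩
    exact (hψ x j.unop).trans ((congrArg (η j.unop) (hx j.unop)).trans (hy j.unop))

include hf h𝔉 in
/-- The higher direct image is the limit over the levels. -/
theorem isIso_rho : IsIso (rho h h𝔜 f 𝔉 q) := by
  obtain ⟨E⟩ := nonempty_E h h𝔜 f q
  haveI := Edge.isIso_of_basis (B := fun U : (𝔜.X 0).Opens => IsAffineOpen U) (𝔜.X 0).isBasis_affineOpens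
    (E.inv.app 𝔉 ≫ (Sh h𝔜.1).map (rho h h𝔜 f 𝔉 q))
    (fun U hU => by
      have key := bijective_psi_rho h h𝔜 f hf 𝔉 h𝔉 q E hU
      rw [eta, Category.assoc] at key
      exact key)
  haveI : IsIso ((Sh h𝔜.1).map (rho h h𝔜 f 𝔉 q)) := IsIso.of_isIso_comp_left (E.inv.app 𝔉) _
  exact isIso_of_reflects_iso _ (Sh h𝔜.1)

include hf h𝔉 in
theorem exists_iso_limit : ∃ e : (FSch.RpushF f h.1 h𝔜.1 q).obj 𝔉 ≅ limit (D h h𝔜 f q 𝔉),
    ∀ k : ℕ, e.hom ≫ limit.π (D h h𝔜 f q 𝔉) (op k) =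
      (FSch.RpushF f h.1 h𝔜.1 q).map ((FSch.levelMor 𝔛 h.1 k).adj.unit.app 𝔉) :=
  haveI := isIso_rho h h𝔜 f hf 𝔉 h𝔉 q
  ⟨asIso (rho h h𝔜 f 𝔉 q), rho_π h h𝔜 f 𝔉 q⟩

end Groth.Agent.H26.FMod.RpushLim
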