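import Groth.Agent.H26.FMod.RpushAffine
import Groth.Agent.H26.FMod.GradedPieces
import Groth.Agent.H26.FMod.Ind
import Groth.Agent.ARLib.Basic

/-!
# The levels of a higher direct image form a Mittag-Leffler system
-/

noncomputable section

set_option autoImplicit false
set_option maxHeartbeats 1000000
set_option linter.style.haveILetI false
set_option backward.isDefEq.respectTransparency false
set_option backward.isDefEq.respectTransparency.types false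

universe u

open CategoryTheory CategoryTheory.Limits TopologicalSpace Opposite AlgebraicGeometry
open Groth.Agent.ModTensor Groth.Agent.ModPull Groth.Agent.LocalFactor Groth.Agent.SecGen

namespace Groth.Agent.H26.FMod

variable {𝔜 : FSch.Sys.{u}} (h𝔜 : 𝔜.IsLocNoethFormal)

lemma mapS_id' {A : FSch.ModF 𝔜 h𝔜.1} (U : (𝔜.X 0).Opens) (x : Sec A U) : mapS (𝟙 A) U x = x := by
  show ((fg (𝔜.Osh h𝔜.1)).map (𝟙 A)).app (op U) x = x
  rw [CategoryTheory.Functor.map_id]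
  rfl

lemma mapS_hom_add {A B : FSch.ModF 𝔜 h𝔜.1} (φ ψ : A ⟶ B) (U : (𝔜.X 0).Opens) (x : Sec A U) :
    mapS (φ + ψ) U x = mapS φ U x + mapS ψ U x := rfl

lemma mapS_hom_neg {A B : FSch.ModF 𝔜 h𝔜.1} (φ : A ⟶ B) (U : (𝔜.X 0).Opens) (x : Sec A U) :
    mapS (-φ) U x = -mapS φ U x := rfl

lemma mapS_hom_zero {A B : FSch.ModF 𝔜 h𝔜.1} (U : (𝔜.X 0).Opens) (x : Sec A U) :
    mapS (0 : A ⟶ B) U x = 0 := rfl

include h𝔜 in
/-- Epimorphisms are tested on a neighbourhood basis. -/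
lemma epi_of_local {A B : FSch.ModF 𝔜 h𝔜.1} (π : A ⟶ B)
    (e : ∀ (W : (𝔜.X 0).Opens) (y : 𝔜.X 0), y ∈ W → ∀ x : Sec B W,
      ∃ (V : (𝔜.X 0).Opens) (hle : V ≤ W), y ∈ V ∧ ∃ z, mapS π V z = resM B hle x) : Epi π :=
  ⟨fun {C} a b hab => ext_mapS fun W x => eq_of_locally' C (by
    refine ⟨{ arrows := fun V g => rs ((fg (𝔜.Osh h𝔜.1)).obj C) g.op (mapS a W x) =
                rs ((fg (𝔜.Osh h𝔜.1)).obj C) g.op (mapS b W x),
              downward_closed := fun {V V' f} hf g => by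
                rw [SecGen.rs_op_comp, SecGen.rs_op_comp, hf] }, ?_, fun V g hg => hg⟩
    intro y hy
    obtain ⟨V, hle, hyV, z, hz⟩ := e W y hy x
    refine ⟨V, homOfLE hle, ?_, hyV⟩
    show resM C hle (mapS a W x) = resM C hle (mapS b W x)
    rw [← mapS_res, ← mapS_res, ← hz, ← mapS_comp, ← mapS_comp, hab])⟩

include h𝔜 in
/-- Equal images, tested on a neighbourhood basis. -/
lemma image_le_of_local {A A' B : FSch.ModF 𝔜 h𝔜.1} (f : A ⟶ B) (g : A' ⟶ B)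
    (e : ∀ (W : (𝔜.X 0).Opens) (y : 𝔜.X 0), y ∈ W → ∀ x : Sec A W,
      ∃ (V : (𝔜.X 0).Opens) (hle : V ≤ W), y ∈ V ∧ ∃ z, mapS g V z = mapS f V (resM A hle x)) :
    imageSubobject f ≤ imageSubobject g := by
  let φ : A ⊞ A' ⟶ B := biprod.fst ≫ f + (-(biprod.snd ≫ g))
  have hφ : ∀ (V : (𝔜.X 0).Opens) (t : Sec (A ⊞ A') V),
      mapS φ V t = mapS f V (mapS biprod.fst V t) + -mapS g V (mapS biprod.snd V t) := fun V t => by
    rw [mapS_hom_add h𝔜, mapS_hom_neg h𝔜, mapS_comp, mapS_comp]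
  have hfi : ∀ (V : (𝔜.X 0).Opens) (a : Sec A V) (a' : Sec A' V),
      mapS biprod.fst V (mapS biprod.inl V a + mapS biprod.inr V a') = a ∧
      mapS biprod.snd V (mapS (biprod.inl : A ⟶ A ⊞ A') V a + mapS biprod.inr V a') = a' := fun V a a' => by
    constructor <;> rw [map_add, ← mapS_comp, ← mapS_comp]
    · rw [biprod.inl_fst, biprod.inr_fst, mapS_id' h𝔜, mapS_hom_zero h𝔜, add_zero]
    · rw [biprod.inl_snd, biprod.inr_snd, mapS_id' h𝔜, mapS_hom_zero h𝔜, zero_add]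
  refine (ARLib.imageSubobject_le_iff f g).2
    ⟨kernel φ, kernel.ι φ ≫ biprod.fst, epi_of_local h𝔜 _ fun W y hy x => ?_, kernel.ι φ ≫ biprod.snd, ?_⟩
  · obtain ⟨V, hle, hyV, z, hz⟩ := e W y hy x
    obtain ⟨t, ht⟩ := exists_kernel_sec φ V (mapS biprod.inl V (resM A hle x) + mapS biprod.inr V z) (by
      rw [hφ, (hfi V _ z).1, (hfi V _ z).2, hz, add_neg_cancel])
    refine ⟨V, hle, hyV, t, ?_⟩
    rw [mapS_comp, ht, (hfi V _ z).1]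
  · have h1 := kernel.condition φ
    rw [Preadditive.comp_add, Preadditive.comp_neg, ← sub_eq_add_neg, sub_eq_zero] at h1
    exact (Category.assoc _ _ _).trans (h1.trans (Category.assoc _ _ _).symm)

end Groth.Agent.H26.FMod

namespace Groth.Agent.H26.FMod.RpushLim

open OpenTransfer

variable {𝔛 𝔜 : FSch.Sys.{u}} (h : 𝔛.IsLocNoethFormal) (h𝔜 : 𝔜.IsLocNoethFormal) (f : 𝔛 ⟶ 𝔜)
  [HasInjectiveResolutions (FSch.ModF 𝔛 h.1)] (hf : FSch.IsProperHom f)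
  (𝔉 : FSch.ModF 𝔛 h.1) (h𝔉 : FSch.IsCohF 𝔛 h.1 𝔉) (q : ℕ)
  (E : FSch.RpushF f h.1 h𝔜.1 q ⋙ Sh h𝔜.1 ≅
    Sh h.1 ⋙ Edge.Hs (Opens.grothendieckTopology (𝔛.X 0).toPresheafedSpace.carrier)
      (Opens.grothendieckTopology (𝔜.X 0).toPresheafedSpace.carrier) (Opens.map (f0 f)) q)

/-- Classes of a level as sections of the higher direct image. -/
abbrev etaS (k : ℕ) (U : (𝔜.X 0).Opens) (z : CohSite.HU (lvS h.1 𝔉 k) q (preU f U)) :
    Sec (Rl h h𝔜 f 𝔉 q k) U :=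
  ((eta h h𝔜 f q E (lvl k 𝔉)).app (op U)).hom z

lemma mapS_tr (U : (𝔜.X 0).Opens) {n m : ℕ} (hnm : n ≤ m) (z : CohSite.HU (lvS h.1 𝔉 m) q (preU f U)) :
    mapS (ARSys.tr (D h h𝔜 f q 𝔉) hnm) U (etaS h h𝔜 f 𝔉 q E m U z) =
      etaS h h𝔜 f 𝔉 q E n U (trU h 𝔉 (preU f U) q hnm z) := by
  induction m, hnm using Nat.le_induction with
  | base => rw [ARLib.tr_refl, trU_self]; exact mapS_id' h𝔜 U _
  | succ m hnm ih =>
    rw [← ARLib.tr_tr (D h h𝔜 f q 𝔉) hnm (Nat.le_succ m), ← trU_trU h 𝔉 _ q hnm (Nat.le_succ m), ← ih, ← tU_eq]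
    refine (mapS_comp _ _ U _).trans (congrArg (mapS (ARSys.tr (D h h𝔜 f q 𝔉) hnm) U) ?_)
    rw [show ARSys.tr (D h h𝔜 f q 𝔉) (Nat.le_succ m) = (FSch.RpushF f h.1 h𝔜.1 q).map (FSch.levelTrans 𝔛 h.1 𝔉 m)
      from Functor.ofOpSequence_map_homOfLE_succ _ m]
    exact (congrArg (fun t => t.app (op U) z) (eta_natural h h𝔜 f q E (FSch.levelTrans 𝔛 h.1 𝔉 m))).symm

include hf h𝔉 in
lemma exists_bound (n : ℕ) {U : (𝔜.X 0).Opens} (hU : IsAffineOpen U) :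
    ∃ N, ∀ (a : ℕ) (ha : n ≤ a), N ≤ a → ∀ (m : ℕ) (hm : a ≤ m) (x : Sec (Rl h h𝔜 f 𝔉 q a) U),
      ∃ y : Sec (Rl h h𝔜 f 𝔉 q m) U, mapS (ARSys.tr (D h h𝔜 f q 𝔉) (ha.trans hm)) U y =
        mapS (ARSys.tr (D h h𝔜 f q 𝔉) ha) U x := by
  obtain ⟨E⟩ := nonempty_E h h𝔜 f q
  obtain ⟨N, hN⟩ := stab_trU h𝔜 f h 𝔉 h𝔉 hf hU q n
  refine ⟨N, fun a ha hNa m hm x => ?_⟩
  obtain ⟨z, rfl⟩ := (bijective_eta h h𝔜 f hf 𝔉 h𝔉 q E a hU).2 x
  obtain ⟨y, hy⟩ := hN a ha hNa m hm z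
  exact ⟨etaS h h𝔜 f 𝔉 q E m U y, (mapS_tr h h𝔜 f 𝔉 q E U (ha.trans hm) y).trans
    ((congrArg (etaS h h𝔜 f 𝔉 q E n U) hy).trans (mapS_tr h h𝔜 f 𝔉 q E U ha z).symm)⟩

include hf h𝔉 in
theorem isML_levels [CompactSpace (𝔜.X 0)] : ARSys.IsML (D h h𝔜 f q 𝔉) := by
  classical
  intro n
  obtain ⟨T, hT⟩ := isCompact_univ.elim_finite_subcover
    (fun U : {U : (𝔜.X 0).Opens // IsAffineOpen U} => ((U.1 : (𝔜.X 0).Opens) : Set (𝔜.X 0))) (fun U => U.1.2)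
    fun y _ => by
      obtain ⟨_, ⟨U, hU, rfl⟩, hyU, -⟩ :=
        (𝔜.X 0).isBasis_affineOpens.exists_subset_of_mem_open (Set.mem_univ y) isOpen_univ
      exact Set.mem_iUnion.2 ⟨⟨U, hU⟩, hyU⟩
  choose N hN using fun U : {U : (𝔜.X 0).Opens // IsAffineOpen U} => exists_bound h h𝔜 f hf 𝔉 h𝔉 q n U.2
  refine ⟨T.sup N, fun s hs => le_antisymm ?_ ?_⟩
  · exact (ARLib.imageSubobject_le_iff (ARSys.shiftMap (D h h𝔜 f q 𝔉) s n)
      (ARSys.shiftMap (D h h𝔜 f q 𝔉) (T.sup N) n)).2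
      ⟨_, 𝟙 _, inferInstance, ARSys.tr (D h h𝔜 f q 𝔉) (show n + T.sup N ≤ n + s by omega),
        (Category.id_comp _).trans (ARLib.tr_tr (D h h𝔜 f q 𝔉) _ _).symm⟩
  · refine image_le_of_local h𝔜 (ARSys.tr (D h h𝔜 f q 𝔉) (Nat.le_add_right n (T.sup N)))
      (ARSys.tr (D h h𝔜 f q 𝔉) (Nat.le_add_right n s)) fun W y hy x => ?_
    obtain ⟨U, hUT, hyU⟩ := Set.mem_iUnion₂.1 (hT (Set.mem_univ y))
    obtain ⟨a, hya, hle⟩ := exists_D h𝔜 U.2 (inf_le_right : W ⊓ U.1 ≤ U.1) ⟨hy, hyU⟩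
    have hDW : FMod.D h𝔜.1 a ≤ W := hle.trans inf_le_left
    refine ⟨FMod.D h𝔜.1 a, hDW, hya, ?_⟩
    obtain ⟨p, b, hb⟩ := num_Rl h h𝔜 f hf 𝔉 h𝔉 q _ U.2 a (resM _ hDW x)
    obtain ⟨y', hy'⟩ := hN U (n + T.sup N) (Nat.le_add_right _ _)
      ((Finset.le_sup hUT).trans (Nat.le_add_left _ _)) (n + s) (by omega) b
    obtain ⟨v, hv⟩ := ((isUnit_res h𝔜 U.2 a).pow p).exists_left_inv
    refine ⟨v • resM _ (D_le a) y', ?_⟩
    refine (map_smul _ _ _).trans ?_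
    refine (congrArg (v • ·) ((mapS_res _ (D_le a) y').trans ((congrArg (resM _ (D_le a)) hy').trans
      ((mapS_res _ (D_le a) b).symm.trans ((congrArg _ hb).trans (map_smul _ _ _)))))).trans ?_
    show v • res (D_le a) a ^ p • _ = _
    rw [smul_smul, hv, one_smul]
    rfl

end Groth.Agent.H26.FMod.RpushLim
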