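import Groth.Agent.H26.FMod.RpushLim
import Groth.Agent.H26.Edge.DerivedSmul
import Groth.Agent.H26.FMod.GradedPieces

/-!
# Scalars and global classes of higher direct images
-/

noncomputable section

set_option autoImplicit false
set_option maxHeartbeats 1000000
set_option linter.style.haveILetI false
set_option backward.isDefEq.respectTransparency false
set_option backward.isDefEq.respectTransparency.types false

universe u

open CategoryTheory CategoryTheory.Limits TopologicalSpace Opposite AlgebraicGeometry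
open Groth.Agent.ModTensor Groth.Agent.ModPull

namespace Groth.Agent.H26.FMod.RpushLim

open OpenTransfer

variable {𝔛 𝔜 : FSch.Sys.{u}} (h : 𝔛.IsLocNoethFormal) (h𝔜 : 𝔜.IsLocNoethFormal) (f : 𝔛 ⟶ 𝔜)

/-- The image of a scalar of the base. -/
abbrev rX (r : Rg h𝔜.1 ⊤) : Rg h.1 ⊤ := ((FSch.Hom.sharp f h.1 h𝔜.1).hom.app (op ⊤)).hom r

lemma push_smulF (r : Rg h𝔜.1 ⊤) (G : FSch.ModF 𝔛 h.1) :
    (FSch.pushF f h.1 h𝔜.1).map (smulF (rX h h𝔜 f r) G) = smulF r ((FSch.pushF f h.1 h𝔜.1).obj G) :=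
  ext_mapS fun W x => by
    show (rTop (rX h h𝔜 f r) (preU f W)) • (show Sec G (preU f W) from x) =
      (((FSch.Hom.sharp f h.1 h𝔜.1).hom.app (op W)).hom (rTop r W)) • (show Sec G (preU f W) from x)
    refine congrArg (· • (show Sec G (preU f W) from x)) ?_
    exact (congrArg (fun t : (𝔜.Osh h𝔜.1).obj.obj (op ⊤) ⟶ (𝔛.Osh h.1).obj.obj (op (preU f W)) => t.hom r)
      ((FSch.Hom.sharp f h.1 h𝔜.1).hom.naturality (homOfLE (le_top : W ≤ ⊤)).op)).symm

variable [HasInjectiveResolutions (FSch.ModF 𝔛 h.1)] (q : ℕ)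

lemma rpush_smulF (r : Rg h𝔜.1 ⊤) (G : FSch.ModF 𝔛 h.1) :
    (FSch.RpushF f h.1 h𝔜.1 q).map (smulF (rX h h𝔜 f r) G) =
      smulF r ((FSch.RpushF f h.1 h𝔜.1 q).obj G) :=
  Edge.rightDerived_map_end (FSch.pushF f h.1 h𝔜.1)
    ⟨fun M => smulF (rX h h𝔜 f r) M, fun _ _ φ => (smulF_naturality _ φ).symm⟩
    ⟨fun M => smulF r M, fun _ _ φ => (smulF_naturality _ φ).symm⟩ (fun M => push_smulF h h𝔜 f r M) q G

variable (E : FSch.RpushF f h.1 h𝔜.1 q ⋙ Sh h𝔜.1 ≅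
    Sh h.1 ⋙ Edge.Hs (Opens.grothendieckTopology (𝔛.X 0).toPresheafedSpace.carrier)
      (Opens.grothendieckTopology (𝔜.X 0).toPresheafedSpace.carrier) (Opens.map (f0 f)) q)

/-- Global classes as global sections of the higher direct image. -/
def xi (G : FSch.ModF 𝔛 h.1) :
    Sheaf.H ((Sh h.1).obj G) q →+ Sec ((FSch.RpushF f h.1 h𝔜.1 q).obj G) ⊤ :=
  AddMonoidHom.comp ((eta h h𝔜 f q E G).app (op ⊤)).hom
    (SiteBase.huTerminalEquiv (T := preU f ⊤) isTerminalTop ((Sh h.1).obj G) q).symm.toAddMonoidHom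

lemma xi_map {G G' : FSch.ModF 𝔛 h.1} (α : G ⟶ G') (x : Sheaf.H ((Sh h.1).obj G) q) :
    xi h h𝔜 f q E G' (Sheaf.H.map ((Sh h.1).map α) q x) =
      mapS ((FSch.RpushF f h.1 h𝔜.1 q).map α) ⊤ (xi h h𝔜 f q E G x) := by
  refine Eq.trans (congrArg ((eta h h𝔜 f q E G').app (op ⊤)).hom ?_)
    (congrArg (fun t => t.app (op ⊤) ((SiteBase.huTerminalEquiv (T := preU f ⊤) isTerminalTop ((Sh h.1).obj G) q).symm x))
      (eta_natural h h𝔜 f q E α))
  show (CategoryTheory.Abelian.Ext.mk₀ _).comp (CategoryTheory.Abelian.Ext.comp x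
      (CategoryTheory.Abelian.Ext.mk₀ ((Sh h.1).map α)) (add_zero q)) (zero_add q) =
    CategoryTheory.Abelian.Ext.comp ((CategoryTheory.Abelian.Ext.mk₀ _).comp x (zero_add q))
      (CategoryTheory.Abelian.Ext.mk₀ ((Sh h.1).map α)) (add_zero q)
  rw [CategoryTheory.Abelian.Ext.comp_assoc_of_third_deg_zero]

variable (hf : FSch.IsProperHom f) (𝔉 : FSch.ModF 𝔛 h.1) (h𝔉 : FSch.IsCohF 𝔛 h.1 𝔉)
  (hT : IsAffineOpen (⊤ : (𝔜.X 0).Opens))

include hf h𝔉 hT in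
lemma bijective_xi_lvl (k : ℕ) : Function.Bijective (xi h h𝔜 f q E (lvl k 𝔉)) :=
  (bijective_eta h h𝔜 f hf 𝔉 h𝔉 q E k hT).comp (AddEquiv.bijective _)

include hf h𝔉 hT in
lemma bijective_xi : Function.Bijective (xi h h𝔜 f q E 𝔉) := by
  haveI := isIso_rho h h𝔜 f hf 𝔉 h𝔉 q
  have key := bijective_psi_rho h h𝔜 f hf 𝔉 h𝔉 q E hT
  have hb : Function.Bijective ((eta h h𝔜 f q E 𝔉).app (op ⊤)).hom := by
    have hr : Function.Bijective (((Sh h𝔜.1).map (rho h h𝔜 f 𝔉 q)).hom.app (op ⊤)).hom := by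
      haveI : IsIso (((sheafToPresheaf _ _).map ((Sh h𝔜.1).map (rho h h𝔜 f 𝔉 q))).app (op (⊤ : (𝔜.X 0).Opens))) :=
        inferInstance
      exact ConcreteCategory.bijective_of_isIso
        (((sheafToPresheaf _ _).map ((Sh h𝔜.1).map (rho h h𝔜 f 𝔉 q))).app (op (⊤ : (𝔜.X 0).Opens)))
    exact (Function.Bijective.of_comp_iff' hr _).1 key
  exact hb.comp (AddEquiv.bijective _)

end Groth.Agent.H26.FMod.RpushLim
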