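import Groth.Agent.H26.FMod.GradedPieces
import Groth.Agent.FComplLib.IdealComap
import Groth.Agent.ModPairLib.Basic
import Groth.Prelude.Def_FSch4

/-!
# Scalars of an adic morphism to a formal spectrum
-/

noncomputable section

set_option autoImplicit false
set_option maxHeartbeats 1000000
set_option linter.style.haveILetI false
set_option backward.isDefEq.respectTransparency false
set_option backward.isDefEq.respectTransparency.types false

universe u

open CategoryTheory CategoryTheory.Limits TopologicalSpace Opposite AlgebraicGeometry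
open Groth.Agent.ModTensor Groth.Agent.ModPull

namespace Groth.Agent.H26.FMod

variable {A : Type u} [CommRing A] {J : Ideal A} {𝔛 : FSch.Sys.{u}} (f : 𝔛 ⟶ FSch.spf A J)

/-- The maps of the levels to the spectrum. -/
abbrev pA (k : ℕ) : 𝔛.X k ⟶ Spec (CommRingCat.of A) := (f : FSch.Hom 𝔛 _).app k ≫ FSch.spfToSpec A J k

lemma pA_comm (k : ℕ) : 𝔛.ι k ≫ pA f (k + 1) = pA f k := by
  rw [← Category.assoc, ← (f : FSch.Hom 𝔛 _).comm k, Category.assoc, FSch.spfToSpec_comm]

variable (h : 𝔛.IsFormal)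

/-- The image of a scalar. -/
def rA (a : A) : Rg h ⊤ :=
  (FSch.schSharp 𝔛 h (pA f) (pA_comm f)).hom.app (op ⊤) ((Scheme.ΓSpecIso (CommRingCat.of A)).inv.hom a)

lemma pr_rA (k : ℕ) (a : A) : pr h k ⊤ (rA f h a) = Coh.toGlobal (pA f k) a := by
  refine (congrArg (fun t => t.hom.app (op ⊤) ((Scheme.ΓSpecIso (CommRingCat.of A)).inv.hom a))
    (FSch.schSharp_proj 𝔛 h (pA f) (pA_comm f) k)).trans ?_
  show ((pA f k).app ⊤ ≫ (𝔛.X k).presheaf.map (homOfLE _).op) _ = (pA f k).app ⊤ _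
  rw [show (homOfLE (le_refl (⊤ : (𝔛.X k).Opens))).op = 𝟙 (op ⊤) from rfl] at *
  exact congrArg (fun g => g ((pA f k).app ⊤ ((Scheme.ΓSpecIso (CommRingCat.of A)).inv.hom a)))
    ((𝔛.X k).presheaf.map_id (op ⊤))

lemma pr_rTop (k : ℕ) (a : A) (U : (𝔛.X 0).Opens) :
    pr h k U (rTop (rA f h a) U) = (pA f k).appLE ⊤ (𝔛.lvU h k U) le_top ((Scheme.ΓSpecIso (CommRingCat.of A)).inv.hom a) := by
  rw [rTop, pr_res, pr_rA]
  rfl

lemma pr_zero_rA {a : A} (ha : a ∈ J) (U : (𝔛.X 0).Opens) : pr h 0 U (rTop (rA f h a) U) = 0 := by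
  rw [rTop, pr_res, pr_rA]
  have h0 : Coh.toGlobal (FSch.spfToSpec A J 0) a = 0 := by
    show ((Scheme.ΓSpecIso (CommRingCat.of A)).inv ≫ (Spec.map (CommRingCat.ofHom (Ideal.Quotient.mk (J ^ (0 + 1))))).appTop) a = 0
    rw [← Scheme.ΓSpecIso_inv_naturality]
    have : Ideal.Quotient.mk (J ^ (0 + 1)) a = 0 := Ideal.Quotient.eq_zero_iff_mem.2 (by rwa [zero_add, pow_one])
    show (Scheme.ΓSpecIso (CommRingCat.of (A ⧸ J ^ (0 + 1)))).inv.hom (Ideal.Quotient.mk (J ^ (0 + 1)) a) = 0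
    rw [this, map_zero]
  have h1 : Coh.toGlobal (pA f 0) a = 0 := by
    refine Eq.trans ?_ (map_zero ((f : FSch.Hom 𝔛 _).app 0).appTop.hom)
    rw [← h0]
    rfl
  rw [h1, map_zero]

variable (hl : 𝔛.IsLocNoethFormal) (hf : FSch.IsAdicHom f) {s : ℕ} (a : Fin s → A) (ha : Ideal.span (Set.range a) = J)

include hf in
lemma ker_ι_zero : (𝔛.ι 0).ker = (FSch.idealSpec A (J ^ (0 + 1))).comap (pA f 1) := by
  haveI : IsClosedImmersion (FSch.spfToSpec A J 1) :=
    IsClosedImmersion.spec_of_surjective (CommRingCat.ofHom (Ideal.Quotient.mk (J ^ (1 + 1)))) Ideal.Quotient.mk_surjective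
  haveI h00 : IsClosedImmersion (FSch.spfToSpec A J 0) :=
    IsClosedImmersion.spec_of_surjective (CommRingCat.ofHom (Ideal.Quotient.mk (J ^ (0 + 1)))) Ideal.Quotient.mk_surjective
  haveI : IsClosedImmersion (Spec.map (CommRingCat.ofHom (Ideal.Quotient.mk (J ^ (0 + 1))))) := h00
  have h1 : IsPullback ((FSch.spf A J).ι 0) (𝟙 _) (FSch.spfToSpec A J 1) (FSch.spfToSpec A J 0) :=
    ⟨⟨by rw [Category.id_comp]; exact FSch.spfToSpec_comm A J 0⟩,
      ⟨PullbackCone.IsLimit.mk _ (fun t => t.snd)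
        (fun t => by
          rw [← cancel_mono (FSch.spfToSpec A J 1), Category.assoc, FSch.spfToSpec_comm]
          exact t.condition.symm)
        (fun t => Category.comp_id _) (fun t m _ hm => by rw [← hm, Category.comp_id])⟩⟩
  exact FComplLib.ker_of_isPullback ((hf 0).paste_vert h1)

include hl hf ha in
/-- The ideal of definition is generated by the scalars. -/
theorem Jd_eq_span (U : (𝔛.X 0).Opens) (hU : IsAffineOpen U) :
    Jd hl.1 U = Ideal.span (Set.range fun i => rTop (rA f hl.1 (a i)) U) := by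
  let I' : Ideal (Rg hl.1 U) := Ideal.span (Set.range fun i => rTop (rA f hl.1 (a i)) U)
  haveI := noetherian hl hU
  haveI := complete hl hU
  refine le_antisymm (fun x hx => ?_) (Ideal.span_le.2 ?_)
  swap
  · rintro _ ⟨i, rfl⟩
    exact pr_zero_rA f hl.1 (ha ▸ Ideal.subset_span ⟨i, rfl⟩) U
  have h2 : Jd hl.1 U ≤ I' ⊔ Jd hl.1 U ^ 2 := by
    intro y hy
    let W : (𝔛.X 1).affineOpens := ⟨_, isAffineOpen_lvU hl.1 1 hU⟩
    haveI := (hl.1 0).1
    have hk : RingHom.ker (tr hl.1 0 U) = (𝔛.ι 0).ker.ideal W :=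
      (ComplFlat.appLE_closedImmersion (𝔛.ι 0) W _ (𝔛.lvU_succ hl.1 0 U).symm).2
    have h3 : pr hl.1 1 U y ∈ RingHom.ker (tr hl.1 0 U) := by
      rw [RingHom.mem_ker, tr_pr]; exact hy
    have hJ : (FSch.idealSpec A (J ^ (0 + 1))) = FSch.idealSpec A J := by rw [zero_add, pow_one]
    rw [hk, ker_ι_zero f hf, hJ, ModPairLib.ideal_comap _ _ ⟨⊤, isAffineOpen_top _⟩ W le_top,
      FComplLib.AffData.idealSpec_ideal_top] at h3
    have hJ2 : Ideal.map (Scheme.ΓSpecIso (CommRingCat.of A)).inv.hom J =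
        Ideal.span ((Scheme.ΓSpecIso (CommRingCat.of A)).inv.hom '' Set.range a) := by
      rw [← ha, Ideal.map_span]
    rw [hJ2, Ideal.map_span] at h3
    have e : (pA f 1).appLE ⊤ W.1 le_top '' ((Scheme.ΓSpecIso (CommRingCat.of A)).inv.hom '' Set.range a) =
        pr hl.1 1 U '' Set.range fun i => rTop (rA f hl.1 (a i)) U := by
      rw [← Set.range_comp, ← Set.range_comp, ← Set.range_comp]
      exact congrArg Set.range (funext fun i => (pr_rTop f hl.1 1 (a i) U).symm)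
    rw [e, ← Ideal.map_span] at h3
    obtain ⟨z, hz, hz'⟩ := (Ideal.mem_map_iff_of_surjective (pr hl.1 1 U) (pr_surjective hl 1 hU)).1 h3
    refine Submodule.mem_sup.2 ⟨z, hz, y - z, ?_, add_sub_cancel _ _⟩
    rw [← ker_pr hl 1 hU, RingHom.mem_ker, map_sub, hz', sub_self]
  have h4 : ∀ k, Jd hl.1 U ≤ I' ⊔ Jd hl.1 U ^ (k + 1) := by
    intro k
    induction k with
    | zero => rw [zero_add, pow_one]; exact le_sup_right
    | succ k ih =>
      refine ih.trans (sup_le le_sup_left ?_)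
      rw [pow_succ', pow_succ' _ (k + 1)]
      refine (Ideal.mul_mono_left h2).trans ?_
      rw [Ideal.sup_mul, pow_two, mul_assoc, ← pow_succ']
      exact sup_le_sup Ideal.mul_le_left le_rfl
  refine mem_of_forall_mem_sup (Jd hl.1 U) I' x fun k => ?_
  rw [smul_eq_mul, Ideal.mul_top]
  exact (sup_le_sup (le_refl I') (Ideal.pow_le_pow_right (Nat.le_succ k)) :
    I' ⊔ Jd hl.1 U ^ (k + 1) ≤ I' ⊔ Jd hl.1 U ^ k) (h4 k hx)

end Groth.Agent.H26.FMod
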