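import Groth.Agent.H26.FMod.Chart
import Groth.Agent.SiteBase.SecGenOps
import Groth.Agent.FComplLib.AffSysMod
import Groth.Agent.QCoh.ClosedPush
import Groth.Agent.QCoh.Support

/-!
# Sections of the module of a coherent system over affine opens
-/

noncomputable section

set_option autoImplicit false
set_option linter.style.haveILetI false
set_option backward.isDefEq.respectTransparency false
set_option backward.isDefEq.respectTransparency.types false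

universe u

open CategoryTheory CategoryTheory.Limits TopologicalSpace Opposite AlgebraicGeometry
open Groth.Agent.ModTensor Groth.Agent.ModPull

namespace Groth.Agent.H26.FMod

variable {𝔛 : FSch.Sys.{u}} {hF : 𝔛.IsFormal}

/-- Sections of a module. -/
abbrev Sec (𝔉 : FSch.ModF 𝔛 hF) (U : (𝔛.X 0).Opens) := ((fg (𝔛.Osh hF)).obj 𝔉).obj (op U)

/-- Restriction of sections of a module. -/
abbrev resM (𝔉 : FSch.ModF 𝔛 hF) {U V : (𝔛.X 0).Opens} (h : V ≤ U) (x : Sec 𝔉 U) : Sec 𝔉 V :=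
  rs ((fg (𝔛.Osh hF)).obj 𝔉) (homOfLE h).op x

variable (hF) (𝔐 : FSch.ModSys 𝔛)

/-- Sections of a level of a system. -/
abbrev Sm (n : ℕ) (U : (𝔛.X 0).Opens) := Γ(𝔐.F n, 𝔛.lvU hF n U)

/-- The projection of the module of a system to a level. -/
def qm (n : ℕ) (U : (𝔛.X 0).Opens) : Sec (𝔐.realMod hF) U →+ Sm hF 𝔐 n U :=
  AddMonoidHom.mk' (fun x => ((fg (𝔛.Osh hF)).map (FSch.realProj 𝔛 hF 𝔐.F 𝔐.toPush n)).app (op U) x)
    fun x y => map_add (((fg (𝔛.Osh hF)).map (FSch.realProj 𝔛 hF 𝔐.F 𝔐.toPush n)).app (op U)).hom x y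

/-- The transition of the levels. -/
def tm (n : ℕ) (U : (𝔛.X 0).Opens) : Sm hF 𝔐 (n + 1) U →+ Sm hF 𝔐 n U :=
  AddMonoidHom.mk' (fun x => (𝔐.F n).presheaf.map (homOfLE (𝔛.lvU_le hF n U)).op
      ((𝔐.toPush n).app (𝔛.lvU hF (n + 1) U) x))
    fun x y => (congrArg _ (map_add ((𝔐.toPush n).app (𝔛.lvU hF (n + 1) U)).hom x y)).trans
      (map_add ((𝔐.F n).presheaf.map (homOfLE (𝔛.lvU_le hF n U)).op).hom _ _)

variable {hF}

lemma qm_smul (n : ℕ) (U : (𝔛.X 0).Opens) (r : Rg hF U) (x : Sec (𝔐.realMod hF) U) :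
    qm hF 𝔐 n U (r • x) = pr hF n U r • qm hF 𝔐 n U x :=
  map_smul (((fg (𝔛.Osh hF)).map (FSch.realProj 𝔛 hF 𝔐.F 𝔐.toPush n)).app (op U)).hom r x

lemma qm_res (n : ℕ) {U V : (𝔛.X 0).Opens} (h : V ≤ U) (x : Sec (𝔐.realMod hF) U) :
    qm hF 𝔐 n V (resM (𝔐.realMod hF) h x) =
      (𝔐.F n).presheaf.map ((Opens.map (𝔛.gInv hF n)).map (homOfLE h)).op (qm hF 𝔐 n U x) :=
  app_rs ((fg (𝔛.Osh hF)).map (FSch.realProj 𝔛 hF 𝔐.F 𝔐.toPush n)) (homOfLE h).op x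

lemma tm_qm (n : ℕ) (U : (𝔛.X 0).Opens) (x : Sec (𝔐.realMod hF) U) :
    tm hF 𝔐 n U (qm hF 𝔐 (n + 1) U x) = qm hF 𝔐 n U x :=
  congrArg (fun f : 𝔐.realMod hF ⟶ (FSch.levelMor 𝔛 hF n).push.obj (𝔐.F n) =>
    ((fg (𝔛.Osh hF)).map f).app (op U) x) (FSch.realProj_map 𝔛 hF 𝔐.F 𝔐.toPush n)

lemma tm_smul (n : ℕ) (U : (𝔛.X 0).Opens) (r : Lv hF (n + 1) U) (x : Sm hF 𝔐 (n + 1) U) :
    tm hF 𝔐 n U (r • x) = tr hF n U r • tm hF 𝔐 n U x := by
  refine (congrArg ((𝔐.F n).presheaf.map (homOfLE (𝔛.lvU_le hF n U)).op).hom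
    (Scheme.Modules.Hom.app_smul (𝔐.toPush n) r x)).trans ?_
  exact QCoh.map_smul' (homOfLE (𝔛.lvU_le hF n U)) _ _

/-- Evaluation of modules at an open. -/
abbrev evM (U : (𝔛.X 0).Opens) : FSch.ModF 𝔛 hF ⥤ Type u :=
  SheafOfModules.evaluation (ModSite.ringSh (𝔛.Osh hF)) (op U) ⋙ CategoryTheory.forget _

lemma qm_ext (U : (𝔛.X 0).Opens) {x y : Sec (𝔐.realMod hF) U}
    (h : ∀ n, qm hF 𝔐 n U x = qm hF 𝔐 n U y) : x = y := by
  have hlim : IsLimit ((evM U).mapCone (limit.cone (FSch.levelSysOf 𝔛 hF 𝔐.F 𝔐.toPush))) :=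
    isLimitOfPreserves _ (limit.isLimit _)
  exact (Types.isLimitEquivSections hlim).injective (Subtype.ext (funext fun n => h n.unop))

lemma qm_lift (U : (𝔛.X 0).Opens) (y : ∀ n, Sm hF 𝔐 n U) (hy : ∀ n, tm hF 𝔐 n U (y (n + 1)) = y n) :
    ∃ x : Sec (𝔐.realMod hF) U, ∀ n, qm hF 𝔐 n U x = y n := by
  let S := FSch.levelSysOf 𝔛 hF 𝔐.F 𝔐.toPush ⋙ evM U
  have hlim : IsLimit ((evM U).mapCone (limit.cone (FSch.levelSysOf 𝔛 hF 𝔐.F 𝔐.toPush))) :=
    isLimitOfPreserves _ (limit.isLimit _)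
  let v : ∀ j : ℕᵒᵖ, S.obj j := fun j => y j.unop
  have hv : ∀ n : ℕ, S.map (homOfLE (Nat.le_add_right n 1)).op (v (op (n + 1))) = v (op n) := fun n => by
    rw [Functor.comp_map, FSch.levelSysOf_map_succ]
    exact hy n
  exact ⟨(Types.isLimitEquivSections hlim).symm ⟨v, fun {a b} r => ComplFlat.map_eq_of_step S v hv r⟩,
    fun n => Types.isLimitEquivSections_symm_apply hlim
      ⟨v, fun {a b} r => ComplFlat.map_eq_of_step S v hv r⟩ (op n)⟩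

lemma bijective_map_of_eq {X : Scheme.{u}} (M : X.Modules) {A B : X.Opens} (i : A ⟶ B) (e : A = B) :
    Function.Bijective (M.presheaf.map i.op) := by
  subst e
  exact ⟨fun x y hxy => (QCoh.map_id' i x).symm.trans (hxy.trans (QCoh.map_id' i y)),
    fun x => ⟨x, QCoh.map_id' i x⟩⟩

variable (h : 𝔛.IsLocNoethFormal) (h𝔐 : 𝔐.IsCoh)

include h h𝔐 in
lemma tm_surjective_ker (n : ℕ) {U : (𝔛.X 0).Opens} (hU : IsAffineOpen U) :
    Function.Surjective (tm h.1 𝔐 n U) ∧ ∀ x, tm h.1 𝔐 n U x = 0 ↔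
      x ∈ RingHom.ker (tr h.1 n U) • (⊤ : Submodule (Lv h.1 (n + 1) U) (Sm h.1 𝔐 (n + 1) U)) := by
  haveI := (h.1 n).1
  let W : (𝔛.X (n + 1)).affineOpens := ⟨_, isAffineOpen_lvU h.1 (n + 1) hU⟩
  let adj := Scheme.Modules.pullbackPushforwardAdjunction (𝔛.ι n)
  have he : Function.Bijective ((𝔐.e n).hom.app ((𝔛.ι n) ⁻¹ᵁ W.1)) := by
    have : IsIso ((𝔐.e n).hom.app ((𝔛.ι n) ⁻¹ᵁ W.1)) :=
      Scheme.Modules.Hom.isIso_iff_isIso_app.mp inferInstance _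
    exact ConcreteCategory.bijective_of_isIso _
  have hb := bijective_map_of_eq (𝔐.F n) (homOfLE (𝔛.lvU_le h.1 n U)) (𝔛.lvU_succ h.1 n U).symm
  have hc : ∀ x, tm h.1 𝔐 n U x = (𝔐.F n).presheaf.map (homOfLE (𝔛.lvU_le h.1 n U)).op
      ((𝔐.e n).hom.app ((𝔛.ι n) ⁻¹ᵁ W.1) ((adj.unit.app (𝔐.F (n + 1))).app W.1 x)) := fun x =>
    congrArg (fun f : 𝔐.F (n + 1) ⟶ (Scheme.Modules.pushforward (𝔛.ι n)).obj (𝔐.F n) =>
      (𝔐.F n).presheaf.map (homOfLE (𝔛.lvU_le h.1 n U)).op (f.app W.1 x))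
      (Adjunction.homEquiv_unit adj _ _ _)
  have hu := QCoh.unit_app_closed (𝔛.ι n) (h𝔐 (n + 1)).1 W.2
  have hk : RingHom.ker (tr h.1 n U) = (𝔛.ι n).ker.ideal W :=
    (ComplFlat.appLE_closedImmersion (𝔛.ι n) W _ (𝔛.lvU_succ h.1 n U).symm).2
  refine ⟨fun y => ?_, fun x => ?_⟩
  · obtain ⟨z, hz⟩ := hb.2 y
    obtain ⟨w, hw⟩ := he.2 z
    obtain ⟨x, hx⟩ := hu.1 w
    exact ⟨x, by rw [hc, hx, hw, hz]⟩
  · rw [hc, hk]
    exact ((map_eq_zero_iff _ hb.1).trans (map_eq_zero_iff _ he.1)).trans (hu.2 x)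

include h h𝔐 in
/-- Sections over an affine open. -/
theorem chartM {U : (𝔛.X 0).Opens} (hU : IsAffineOpen U) :
    Module.Finite (Rg h.1 U) (Sec (𝔐.realMod h.1) U) ∧
      ∀ n, Function.Surjective (qm h.1 𝔐 n U) ∧ ∀ x, qm h.1 𝔐 n U x = 0 ↔
        x ∈ Jd h.1 U ^ (n + 1) • (⊤ : Submodule (Rg h.1 U) (Sec (𝔐.realMod h.1) U)) := by
  haveI := noetherian h hU
  haveI := complete h hU
  let M : ℕ → Type u := fun n => Sm h.1 𝔐 n U
  letI : ∀ n, AddCommGroup (M n) := fun n => inferInstanceAs (AddCommGroup (Sm h.1 𝔐 n U))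
  letI : ∀ n, Module (Rg h.1 U) (M n) := fun n => Module.compHom (Sm h.1 𝔐 n U) (pr h.1 n U)
  let f : ∀ n, M (n + 1) →ₗ[Rg h.1 U] M n := fun n =>
    { toFun := tm h.1 𝔐 n U
      map_add' := map_add _
      map_smul' := fun a x => (tm_smul 𝔐 n U (pr h.1 (n + 1) U a) x).trans
        (congrArg (fun r : Lv h.1 n U => r • tm h.1 𝔐 n U x) (tr_pr n U a)) }
  have hker : ∀ n, LinearMap.ker (f n) = Jd h.1 U ^ (n + 1) • (⊤ : Submodule (Rg h.1 U) (M (n + 1))) := by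
    intro n
    have hI : RingHom.ker (tr h.1 n U) = (Jd h.1 U ^ (n + 1)).map (pr h.1 (n + 1) U) := by
      rw [← ker_pr h n hU, show RingHom.ker (pr h.1 n U) =
          (RingHom.ker (tr h.1 n U)).comap (pr h.1 (n + 1) U) from ?_,
        Ideal.map_comap_of_surjective _ (pr_surjective h (n + 1) hU)]
      refine Ideal.ext fun x => ?_
      rw [Ideal.mem_comap, RingHom.mem_ker, RingHom.mem_ker, tr_pr]
    refine SetLike.ext fun x => Iff.trans ((tm_surjective_ker 𝔐 h h𝔐 n hU).2 x) ⟨fun hx => ?_, fun hx => ?_⟩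
    · rw [hI] at hx
      obtain ⟨y, hy, rfl⟩ := FComplLib.exists_mem_smul_top (R := Rg h.1 U) (M := M (n + 1))
        (pr h.1 (n + 1) U) (pr_surjective h (n + 1) hU) (AddMonoidHom.id _) Function.surjective_id
        (fun _ _ => rfl) _ hx
      exact hy
    · rw [hI]
      exact FComplLib.map_mem_smul_top (R := Rg h.1 U) (M := M (n + 1)) (P := Sm h.1 𝔐 (n + 1) U)
        (pr h.1 (n + 1) U) (AddMonoidHom.id _) (fun _ _ => rfl) _ hx
  let q : ∀ n, Sec (𝔐.realMod h.1) U →ₗ[Rg h.1 U] M n := fun n =>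
    { toFun := qm h.1 𝔐 n U
      map_add' := map_add _
      map_smul' := qm_smul 𝔐 n U }
  obtain ⟨-, hπ, hfin⟩ := Adic7.limit_quotient_system (Rg h.1 U) (Jd h.1 U) (IsNoetherian.noetherian _) M f
    (fun n => (tm_surjective_ker 𝔐 h h𝔐 n hU).1) hker (Sec (𝔐.realMod h.1) U) q
    (fun n => LinearMap.ext fun x => tm_qm 𝔐 n U x)
    (fun x hx => qm_ext 𝔐 U fun n => (hx n).trans (map_zero _).symm) (fun y hy => qm_lift 𝔐 U y hy)
  have hM0 : Module.Finite (Rg h.1 U) (M 0) := by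
    have := QCoh.finite_sections (h𝔐 0) (isAffineOpen_lvU h.1 0 hU)
    obtain ⟨s, hs⟩ := this.fg_top
    refine ⟨⟨s, eq_top_iff.mpr fun x _ => ?_⟩⟩
    have key : ∀ z : Sm h.1 𝔐 0 U, z ∈ Submodule.span (Lv h.1 0 U) (s : Set (Sm h.1 𝔐 0 U)) →
        (show M 0 from z) ∈ Submodule.span (Rg h.1 U) ((s : Set (Sm h.1 𝔐 0 U)) : Set (M 0)) := by
      intro z hz
      induction hz using Submodule.span_induction with
      | mem y hy => exact Submodule.subset_span hy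
      | zero => exact Submodule.zero_mem _
      | add y w _ _ hy hw => exact Submodule.add_mem _ hy hw
      | smul c y _ hy =>
        obtain ⟨a, rfl⟩ := pr_surjective h 0 hU c
        exact Submodule.smul_mem _ a hy
    exact key x (by rw [hs]; trivial)
  refine ⟨hfin inferInstance hM0, fun n => ⟨(hπ n).1, fun x => ?_⟩⟩
  exact (LinearMap.mem_ker (f := q n)).symm.trans (SetLike.ext_iff.mp (hπ n).2 x)

end Groth.Agent.H26.FMod
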