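import Groth.Agent.H26.FMod.Union

/-!
# Submodules given by local conditions on sections
-/

noncomputable section

set_option autoImplicit false
set_option maxHeartbeats 1000000
set_option linter.style.haveILetI false
set_option backward.isDefEq.respectTransparency false
set_option backward.isDefEq.respectTransparency.types false

universe u

open CategoryTheory CategoryTheory.Limits TopologicalSpace Opposite AlgebraicGeometry
open Groth.Agent.ModTensor Groth.Agent.ModPull Groth.Agent.LocalFactor Groth.Agent.SecGen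

namespace Groth.Agent.H26.FMod

variable {𝔛 : FSch.Sys.{u}} {hF : 𝔛.IsFormal}

/-- A family of submodules of sections, stable under restriction and local. -/
structure SubData (𝔉 : FSch.ModF 𝔛 hF) where
  /-- The sections. -/
  mem : ∀ U : (𝔛.X 0).Opens, Submodule (Rg hF U) (Sec 𝔉 U)
  res_mem : ∀ {U V : (𝔛.X 0).Opens} (hle : V ≤ U) (x : Sec 𝔉 U), x ∈ mem U → resM 𝔉 hle x ∈ mem V
  loc : ∀ (U : (𝔛.X 0).Opens) (x : Sec 𝔉 U), ModPull.Locally (Opens.grothendieckTopology (𝔛.X 0)) U
    (fun V k => resM 𝔉 (leOfHom k) x ∈ mem V) → x ∈ mem U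

namespace SubData

variable {𝔉 : FSch.ModF 𝔛 hF} (S : SubData 𝔉)

/-- The underlying presheaf of groups. -/
def pre : ((𝔛.X 0).Opens)ᵒᵖ ⥤ Ab.{u} where
  obj X := AddCommGrpCat.of (S.mem X.unop)
  map {X Y} f := AddCommGrpCat.ofHom
    { toFun := fun s => ⟨resM 𝔉 (leOfHom f.unop) s.1, S.res_mem _ _ s.2⟩
      map_zero' := Subtype.ext (map_zero _)
      map_add' := fun s t => Subtype.ext (map_add _ _ _) }
  map_id X := by
    ext s
    exact rs_id (X := X) (show Sec 𝔉 X.unop from Subtype.val s)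
  map_comp {X Y Z} f g := by
    ext s
    exact SecGen.rs_op_comp g.unop f.unop (show Sec 𝔉 X.unop from Subtype.val s)

instance instModule (X : ((𝔛.X 0).Opens)ᵒᵖ) : Module ((ModSite.ringSh (𝔛.Osh hF)).obj.obj X) (S.pre.obj X) :=
  inferInstanceAs (Module (Rg hF X.unop) (S.mem X.unop))

lemma pre_map_smul ⦃X Y : ((𝔛.X 0).Opens)ᵒᵖ⦄ (f : X ⟶ Y) (r : (ModSite.ringSh (𝔛.Osh hF)).obj.obj X)
    (m : S.pre.obj X) : S.pre.map f (r • m) = (ModSite.ringSh (𝔛.Osh hF)).obj.map f r • S.pre.map f m :=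
  Subtype.ext (rs_smul f r m.1)

/-- The sections as a subfunctor. -/
def subfunctor : Subfunctor (𝔉.val.presheaf ⋙ CategoryTheory.forget Ab.{u}) where
  obj X := {s | (show Sec 𝔉 X.unop from s) ∈ S.mem X.unop}
  map f _ hs := S.res_mem (leOfHom f.unop) _ hs

/-- The underlying presheaves agree. -/
def preIso : S.pre ⋙ CategoryTheory.forget Ab.{u} ≅ S.subfunctor.toFunctor :=
  NatIso.ofComponents (fun X => Equiv.toIso
    { toFun := fun s => ⟨s.1, s.2⟩
      invFun := fun s => ⟨s.1, s.2⟩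
      left_inv := fun _ => rfl
      right_inv := fun _ => rfl }) (fun _ => rfl)

lemma isSheaf_pre : Presheaf.IsSheaf (Opens.grothendieckTopology (𝔛.X 0)) S.pre := by
  have hM : Presieve.IsSheaf (Opens.grothendieckTopology (𝔛.X 0)) (𝔉.val.presheaf ⋙ CategoryTheory.forget Ab.{u}) :=
    (isSheaf_iff_isSheaf_of_type _ _).1
      ((Presheaf.isSheaf_iff_isSheaf_forget _ 𝔉.val.presheaf (CategoryTheory.forget Ab.{u})).1 𝔉.isSheaf)
  rw [Presheaf.isSheaf_iff_isSheaf_forget _ S.pre (CategoryTheory.forget Ab.{u}), isSheaf_iff_isSheaf_of_type]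
  refine Presieve.isSheaf_iso _ S.preIso.symm ((S.subfunctor.isSheaf_iff hM).2 ?_)
  intro X s hs
  exact S.loc X.unop s ⟨_, hs, fun V g hg => hg⟩

/-- The submodule. -/
def obj : FSch.ModF 𝔛 hF where
  val := PresheafOfModules.ofPresheaf S.pre S.pre_map_smul
  isSheaf := S.isSheaf_pre

/-- The inclusion. -/
def ι : S.obj ⟶ 𝔉 :=
  ⟨PresheafOfModules.homMk
    { app := fun X => AddCommGrpCat.ofHom
        { toFun := fun s => s.1
          map_zero' := rfl
          map_add' := fun _ _ => rfl }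
      naturality := fun X Y g => by
        ext s
        rfl }
    (fun _ _ _ => rfl)⟩

instance mono_ι : Mono S.ι := ⟨fun {Z} p q hpq => hom_ext_locally p q fun W t => by
  refine ⟨⊤, GrothendieckTopology.top_mem _ _, fun V k _ => Subtype.ext ?_⟩
  exact (mapS_comp p S.ι V _).symm.trans ((congrArg (fun r => mapS r V (resM Z (leOfHom k) t)) hpq).trans
    (mapS_comp q S.ι V _))⟩

lemma exists_pre {U : (𝔛.X 0).Opens} {x : Sec 𝔉 U} (hx : x ∈ S.mem U) : ∃ y : Sec S.obj U, mapS S.ι U y = x :=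
  ⟨⟨x, hx⟩, rfl⟩

lemma ι_mem {U : (𝔛.X 0).Opens} (y : Sec S.obj U) : mapS S.ι U y ∈ S.mem U := Subtype.property y

end SubData

end Groth.Agent.H26.FMod
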