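import Groth.Agent.H26.FMod.GammaDerived
import Groth.Agent.H26.FMod.ComplTorsBase

/-!
# Affine opens of locally Noetherian schemes are good for torsion along an ideal sheaf
-/

noncomputable section

set_option autoImplicit false
set_option maxHeartbeats 1000000
set_option linter.style.haveILetI false
set_option backward.isDefEq.respectTransparency false
set_option backward.isDefEq.respectTransparency.types false

universe u

open CategoryTheory CategoryTheory.Limits TopologicalSpace Opposite AlgebraicGeometry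

namespace Groth.Agent.H26.FMod

variable {X : Scheme.{u}} (𝓚 : X.IdealSheafData) {U : X.Opens}

variable [IsLocallyNoetherian X]

/-- Generators of an ideal sheaf compute the torsion. -/
theorem gensX_of_span (hU : IsAffineOpen U) {q : ℕ} (g : Fin q → Γ(X, U))
    (hg : Ideal.span (Set.range g) = 𝓚.ideal ⟨U, hU⟩) :
    GStab.Gens (FTors.powIdealFam X 𝓚) (U := U) g where
  mem i n := (FTors.mem_powIdealFam_iff X 𝓚 n U _).2 fun W hW => by
    refine Ideal.pow_le_pow_right (Nat.le_succ n) ?_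
    rw [← 𝓚.map_ideal (U := W) (V := ⟨U, hU⟩) hW, ← Ideal.map_pow]
    exact Ideal.mem_map_of_mem _ (Ideal.pow_mem_pow (hg ▸ Submodule.subset_span ⟨i, rfl⟩) _)
  tors M V hV x K hx := by
    classical
    refine (FTors.IsTorsSect.iff_exists _).2 (GStab.locally_of_point (P := fun W k => ∃ n,
      FTors.KilledBy (FTors.powIdealFam X 𝓚) M n (V := W) (FTors.res M k x)) (fun y hy => ?_)
      fun W W' k' k ⟨n, hn⟩ => ⟨n, by rw [FTors.res_comp]; exact hn.res k⟩)
    obtain ⟨_, ⟨W, hW, rfl⟩, hyW, hle⟩ := X.isBasis_affineOpens.exists_subset_of_mem_open hy V.2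
    refine ⟨W, hle, hyW, ?_⟩
    let z := FTors.res M (homOfLE hle) x
    haveI : IsNoetherianRing Γ(X, W) := IsLocallyNoetherian.component_noetherian (X := X) ⟨W, hW⟩
    let A := LinearMap.ker (LinearMap.toSpanSingleton (X.sheaf.obj.obj (op W)) (ModSite.sect M W) z)
    have hle' : 𝓚.ideal ⟨W, hW⟩ ≤ Ideal.radical A := by
      rw [← 𝓚.map_ideal (U := ⟨W, hW⟩) (V := ⟨U, hU⟩) (show W ≤ U from hle.trans hV), ← hg]
      refine Ideal.map_le_iff_le_comap.2 (Ideal.span_le.2 ?_)
      rintro _ ⟨i, rfl⟩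
      refine ⟨K, ?_⟩
      have h1 := congrArg (FTors.res M (homOfLE hle)) (hx i)
      rw [FTors.res_smul, map_pow, FTors.res_zero] at h1
      show (GStab.ρ (hle.trans hV) (g i) : X.sheaf.obj.obj (op W)) ^ K • z = 0
      rw [← GStab.ρ_ρ hV hle]
      exact h1
    obtain ⟨N, hN⟩ := Ideal.exists_pow_le_of_le_radical_of_fg hle' (IsNoetherian.noetherian _)
    exact ⟨N, (killedZp_iff 𝓚 hW _).2 fun a ha => hN ha⟩

/-- Affine opens are good for the powers of an ideal sheaf. -/
theorem good_powIdealFam (hU : IsAffineOpen U) : GStab.Good (FTors.powIdealFam X 𝓚) U where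
  noeth := IsLocallyNoetherian.component_noetherian (X := X) ⟨U, hU⟩
  gens := by
    haveI : IsNoetherianRing Γ(X, U) := IsLocallyNoetherian.component_noetherian (X := X) ⟨U, hU⟩
    obtain ⟨q, g, hg⟩ := Submodule.fg_iff_exists_fin_generating_family.1
      (IsNoetherian.noetherian (𝓚.ideal ⟨U, hU⟩))
    exact ⟨q, g, (gensX_of_span 𝓚 hU g hg).mem, (gensX_of_span 𝓚 hU g hg).tors⟩
  colon L a V hV c hc y hy := by
    obtain ⟨b, hbV, hyb⟩ := hU.exists_basicOpen_le (V := V) ⟨y, hy⟩ (hV hy)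
    haveI := hU.isLocalization_basicOpen b
    have hb : X.basicOpen b ≤ U := X.basicOpen_le b
    have halg : algebraMap Γ(X, U) Γ(X, X.basicOpen b) = GStab.ρ (O := X.sheaf) hb := rfl
    let c' : Γ(X, X.basicOpen b) := GStab.ρ (O := X.sheaf) hbV c
    obtain ⟨⟨c0, s⟩, hs⟩ := IsLocalization.surj (Submonoid.powers b) c'
    let a' : Γ(X, U) := a
    have h1 : algebraMap Γ(X, U) Γ(X, X.basicOpen b) (c0 * a') ∈
        (L : Ideal Γ(X, U)).map (algebraMap Γ(X, U) Γ(X, X.basicOpen b)) := by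
      rw [map_mul, ← hs, mul_right_comm]
      refine Ideal.mul_mem_right _ _ ?_
      have h2 := Ideal.mem_map_of_mem (GStab.ρ (O := X.sheaf) hbV) hc
      rw [map_mul, GStab.ρ_ρ, Ideal.map_map] at h2
      rw [show ((GStab.ρ (O := X.sheaf) hbV).comp (GStab.ρ hV)) = GStab.ρ (O := X.sheaf) hb from
        RingHom.ext fun z => GStab.ρ_ρ (O := X.sheaf) hV hbV z] at h2
      exact h2
    obtain ⟨t, ht, htm⟩ := (IsLocalization.algebraMap_mem_map_algebraMap_iff (Submonoid.powers b) _ L _).1 h1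
    refine ⟨X.basicOpen b, hbV, hyb, ?_⟩
    show c' ∈ _
    have h3 : algebraMap Γ(X, U) Γ(X, X.basicOpen b) (t * c0) ∈
        (L.colon {a} : Ideal Γ(X, U)).map (GStab.ρ (O := X.sheaf) hb) :=
      Ideal.mem_map_of_mem _ (Submodule.mem_colon_singleton.2 (by rw [smul_eq_mul, mul_assoc]; exact htm))
    rw [map_mul, ← hs, mul_left_comm] at h3
    refine (Ideal.mul_unit_mem_iff_mem _ ?_).1 h3
    exact (IsLocalization.map_units _ (⟨t, ht⟩ : Submonoid.powers b)).mul (IsLocalization.map_units _ s)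

/-- The powers of an ideal sheaf are stable. -/
theorem stable_powIdealFam : GStab.Stable (FTors.powIdealFam X 𝓚) :=
  GStab.stable_of_good _ fun V y hy => by
    obtain ⟨_, ⟨U, hU, rfl⟩, hyU, hle⟩ := X.isBasis_affineOpens.exists_subset_of_mem_open hy V.2
    exact ⟨U, hle, hyU, good_powIdealFam 𝓚 hU⟩

end Groth.Agent.H26.FMod
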