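import Groth.Agent.H26.FMod.Tors
import Groth.Agent.SiteBase.ClosedPushEq
import Groth.Agent.QCoh.ExtendFT

/-!
# Quasi-coherent torsion modules are unions of coherent modules
-/

noncomputable section

set_option autoImplicit false
set_option maxHeartbeats 1000000
set_option linter.style.haveILetI false
set_option backward.isDefEq.respectTransparency false
set_option backward.isDefEq.respectTransparency.types false

universe u

open CategoryTheory CategoryTheory.Limits TopologicalSpace Opposite AlgebraicGeometry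
open Groth.Agent.ModTensor Groth.Agent.ModPull Groth.Agent.LocalFactor Groth.Agent.SecGen
open Groth.Agent.H26.QPres

namespace Groth.Agent.H26.FMod

open OpenTransfer

variable {𝔛 : FSch.Sys.{u}} (h : 𝔛.IsLocNoethFormal) {M N : FSch.ModF 𝔛 h.1}

include h in
/-- Images of coherent modules in quasi-coherent modules are coherent. -/
theorem isCohF_image_qc [SheafOfModules.IsQuasicoherent.{u} (R := ModSite.ringSh (𝔛.Osh h.1)) M]
    {C : FSch.ModF 𝔛 h.1} (hC : FSch.IsCohF 𝔛 h.1 C) (v : C ⟶ M) : FSch.IsCohF 𝔛 h.1 (Abelian.image v) := by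
  haveI := hC
  haveI : SheafOfModules.IsQuasicoherent.{u} (R := ModSite.ringSh (𝔛.Osh h.1)) (cokernel v) :=
    isQC_cokernel h v
  haveI : SheafOfModules.IsQuasicoherent.{u} (R := ModSite.ringSh (𝔛.Osh h.1)) (Abelian.image v) :=
    isQC_kernel h (cokernel.π v)
  exact isCohF_quot h hC (Abelian.factorThruImage v)

include h in
/-- A quasi-coherent module jointly covered by coherent modules is ind-coherent. -/
theorem ind_of_family_qc [SheafOfModules.IsQuasicoherent.{u} (R := ModSite.ringSh (𝔛.Osh h.1)) M]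
    {α : Type u} (C : α → FSch.ModF 𝔛 h.1) (hC : ∀ a, FSch.IsCohF 𝔛 h.1 (C a)) (v : ∀ a, C a ⟶ M)
    (hepi : ∀ (Z : FSch.ModF 𝔛 h.1) (p q : M ⟶ Z), (∀ a, v a ≫ p = v a ≫ q) → p = q) : IndCoh M := by
  classical
  let w : ∀ s : Finset α, (∐ fun a : (s : Type u) => C a.1) ⟶ M := fun s => Sigma.desc (fun a => v a.1)
  let i : ∀ {s t : Finset α}, s ≤ t → ((∐ fun a : (s : Type u) => C a.1) ⟶ ∐ fun a : (t : Type u) => C a.1) :=
    fun {s t} hst => Sigma.desc fun a : (s : Type u) => Sigma.ι (fun a : (t : Type u) => C a.1) ⟨a.1, hst a.2⟩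
  have hi : ∀ {s t : Finset α} (hst : s ≤ t), i hst ≫ w t = w s := fun {s t} hst => by
    refine Sigma.hom_ext _ _ fun a => ?_
    simp [i, w]
  have hw : ∀ {s t : Finset α} (hst : s ≤ t), Abelian.image.ι (w s) ≫ cokernel.π (w t) = 0 := fun {s t} hst => by
    rw [← cancel_epi (Abelian.factorThruImage (w s)), comp_zero, ← Category.assoc, Abelian.image.fac,
      ← hi hst, Category.assoc, cokernel.condition, comp_zero]
  let D : Finset α ⥤ MonoOver M :=
    { obj := fun s => MonoOver.mk (Abelian.image.ι (w s))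
      map := fun {s t} f => MonoOver.homMk (kernel.lift _ _ (hw (leOfHom f))) (kernel.lift_ι _ _ _)
      map_id := fun _ => Subsingleton.elim _ _
      map_comp := fun _ _ => Subsingleton.elim _ _ }
  refine ind_of_monos D (fun s => ?_) fun Z p q hpq => hepi Z p q fun a => ?_
  · exact isCohF_image_qc h (isCohF_sigma _ fun a : (s : Type u) => hC a.1) _
  · have h1 : w {a} ≫ p = w {a} ≫ q := by
      rw [← Abelian.image.fac (w {a}), Category.assoc, Category.assoc]
      exact congrArg (_ ≫ ·) (hpq {a})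
    simpa [w] using congrArg
      (fun r => Sigma.ι (fun b : (({a} : Finset α) : Type u) => C b.1) ⟨a, Finset.mem_singleton_self a⟩ ≫ r) h1

include h in
/-- Submodules of finite type of quasi-coherent modules are coherent. -/
theorem isCohF_of_ft_sub [SheafOfModules.IsQuasicoherent.{u} (R := ModSite.ringSh (𝔛.Osh h.1)) M]
    [SheafOfModules.IsFiniteType (R := ModSite.ringSh (𝔛.Osh h.1)) N] (ι : N ⟶ M) [Mono ι] :
    FSch.IsCohF 𝔛 h.1 N := by
  refine isFinitePresentation_of_pres _ fun X => ?_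
  refine ⟨{ arrows := fun V g => Nonempty (Pres (𝔛.Osh h.1) N V),
            downward_closed := fun {V V' f} ⟨P⟩ g => ⟨presPull P g⟩ }, ?_, fun V g hg => hg⟩
  intro y hy
  obtain ⟨S, hS, hSp⟩ := locally_exists_gens N X
  obtain ⟨V, g, hg, hyV⟩ := hS y hy
  obtain ⟨n, s, hs⟩ := hSp g hg
  obtain ⟨U, hU, hyU, hUV, hM, -⟩ := exists_ind_res h (𝔉 := M) (𝔊 := M) hyV
  haveI := OpenRes.preservesFiniteLimits_res h U
  haveI : Mono ((OpenRes.res h U).map ι) := preserves_mono_of_preservesLimit _ _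
  have hle : (OpenRes.imgF h U).obj ⊤ ≤ V := (img_top h U).le.trans hUV
  let s' : Fin n → Sec ((OpenRes.res h U).obj N) ⊤ := fun i => resM N hle (s i)
  have hgen : Gens ((OpenRes.res h U).obj N) s' := by
    intro W f t
    obtain ⟨T, hT, hTp⟩ := hs.pull (homOfLE hle) ((OpenRes.imgF h U).map f) t
    refine ⟨T.functorPullback (OpenRes.imgF h U), fun z hz => ?_, fun W' k hk => ?_⟩
    · obtain ⟨V', k, hk, hzV⟩ := hT z.1 ⟨z, hz, rfl⟩
      obtain ⟨W₁, hW₁, e⟩ := OpenRes.exists_pre h U (leOfHom k)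
      refine ⟨W₁, homOfLE hW₁, ?_, ?_⟩
      · show T ((OpenRes.imgF h U).map (homOfLE hW₁))
        rw [Subsingleton.elim ((OpenRes.imgF h U).map (homOfLE hW₁)) (homOfLE e.le ≫ k)]
        exact T.downward_closed hk _
      · obtain ⟨z', hz', ez⟩ := e.ge hzV
        exact (Subtype.val_injective ez : z' = z) ▸ hz'
    · obtain ⟨c, hc⟩ := hTp _ hk
      choose c' hc' using fun i => (OpenRes.bijective_ph h U W').2 (c i)
      refine ⟨c', ?_⟩
      obtain rfl : (fun i => OpenRes.ph h U W' (c' i)) = c := funext hc'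
      exact hc
  obtain ⟨P⟩ := nonempty_pres_of_hasRel (hSys h U) (isAffineOpen_top_sys h hU) s' hgen
    (hasRel_mono ((OpenRes.res h U).map ι) _ (hasRel_ind (hSys h U) hM (isAffineOpen_top_sys h hU) _))
  exact ⟨(OpenRes.imgF h U).obj ⊤, homOfLE (hle.trans (leOfHom g)), ⟨OpenRes.presImg h U N P⟩,
    (img_top h U).ge hyU⟩

/-- The sections killed by a member of the open ideals. -/
def killSub (M : FSch.ModF 𝔛 h.1) (n : ℕ) : SubData M where
  mem U :=
    { carrier := {x | FTors.KilledBy (opI h) M n (V := U) x}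
      zero_mem' := FTors.KilledBy.zero _ _ n U
      add_mem' := fun hx hy => FTors.KilledBy.add hx hy
      smul_mem' := fun c _ hx => FTors.KilledBy.smul c hx }
  res_mem hle _ hx := hx.res (homOfLE hle)
  loc _ x hx := killedBy_of_locally h x hx

include h in
/-- The projection to a level is locally surjective. -/
theorem isLocallySurjective_OshProj (n : ℕ) : Sheaf.IsLocallySurjective (𝔛.OshProj h.1 n) := by
  refine ⟨fun {W} r => ?_⟩
  intro x hx
  obtain ⟨_, ⟨U, hU, rfl⟩, hxU, hle⟩ := (𝔛.X 0).isBasis_affineOpens.exists_subset_of_mem_open hx W.2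
  exact ⟨U, homOfLE hle, pr_surjective h n hU _, hxU⟩

include h in
/-- A killed section of a quasi-coherent module lies in the image of a coherent module. -/
theorem exists_coh_killed [SheafOfModules.IsQuasicoherent.{u} (R := ModSite.ringSh (𝔛.Osh h.1)) M] {n : ℕ}
    {U : (𝔛.X 0).Opens} (hU : IsAffineOpen U) (x : Sec M U) (hx : FTors.KilledBy (opI h) M n (V := U) x) :
    ∃ (C : FSch.ModF 𝔛 h.1) (v : C ⟶ M) (y : Sec C U), FSch.IsCohF 𝔛 h.1 C ∧ mapS v U y = x := by
  let S := killSub h M n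
  haveI : SheafOfModules.IsQuasicoherent.{u} (R := ModSite.ringSh (𝔛.Osh h.1)) S.obj :=
    isQC_sub h S.ι {n} (fun W t => ModPull.Locally.of_id fun V g =>
        ⟨n, rfl, FTors.KilledBy.res g (S.ι_mem t)⟩)
      fun U _ m hm z hz => S.exists_pre (show z ∈ S.mem U from by
        obtain rfl : m = n := hm
        exact hz)
  let i := 𝔛.gInv h.1 n
  have hi : Topology.IsClosedEmbedding i.hom := (𝔛.levelHomeo h.1 n).symm.isClosedEmbedding
  have hc := isLocallySurjective_OshProj h n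
  have hK : ClosedPushEq.Killed i (𝔛.OshProj h.1 n) S.obj := fun W a ha s =>
    app_injective S.ι (op W) (by
      refine (map_smul (mapS S.ι W) a _).trans (Eq.trans ?_ (map_zero (mapS S.ι W)).symm)
      have h1 := S.ι_mem s (𝟙 W) a ((mem_opI h a).2 ha)
      rwa [FTors.res_id] at h1)
  let Φ := FSch.levelMor 𝔛 h.1 n
  obtain ⟨F, ⟨e⟩⟩ := ClosedPushEq.essImage_of_killed i (𝔛.OshProj h.1 n) S.obj (hi := hi) hc hK
  haveI : Φ.push.Faithful := ClosedPushEq.faithful_push i (𝔛.OshProj h.1 n) hi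
  haveI : Φ.push.Full := ClosedPushEq.full_push i (𝔛.OshProj h.1 n) hi hc
  haveI : IsIso Φ.adj.counit := inferInstance
  let e' : Φ.push.obj F ≅ S.obj := e
  have hF : Coh.IsQCoh F := by
    haveI := PullQc.isQuasicoherent_pull Φ S.obj
    exact (SheafOfModules.isQuasicoherent (R := (𝔛.X n).ringCatSheaf)).prop_of_iso
      (Φ.pull.mapIso e'.symm ≪≫ asIso (Φ.adj.counit.app F))
      (inferInstanceAs (SheafOfModules.IsQuasicoherent (R := ModSite.ringSh (𝔛.X n).sheaf) (Φ.pull.obj S.obj)))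
  obtain ⟨y, hy⟩ := S.exists_pre (show x ∈ S.mem U from hx)
  let V := 𝔛.lvU h.1 n U
  let t : Γ(F, V) := mapS e'.inv U y
  haveI : IsLocallyNoetherian (𝔛.X n) := h.2.2 n
  have hs : QCoh.ExtStep V := QCoh.extStep_noetherian (fun z => by
    obtain ⟨_, ⟨A, hA, rfl⟩, hzA, -⟩ := (𝔛.X n).isBasis_affineOpens.exists_subset_of_mem_open
      (Set.mem_univ z) isOpen_univ
    haveI := IsLocallyNoetherian.component_noetherian (X := 𝔛.X n) ⟨A, hA⟩
    exact ⟨A, hzA, noetherianSpace_of_isAffineOpen A hA⟩) V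
  obtain ⟨N', hN', hT⟩ := QCoh.exists_ftOn_contains hF (isAffineOpen_lvU h.1 n hU) hs {t} (Set.finite_singleton t)
  obtain ⟨s, hs'⟩ := N'.exists_app_eq (hT rfl)
  haveI hft : SheafOfModules.IsFiniteType (R := ModSite.ringSh (𝔛.X n).sheaf) N'.toModules :=
    QCoh.isFT_of_ftOn hF hN'
  haveI : SheafOfModules.IsFiniteType (R := ModSite.ringSh (𝔛.Osh h.1)) (Φ.push.obj N'.toModules) :=
    ClosedPushFT.isFiniteType_push i (𝔛.OshProj h.1 n) hi N'.toModules hc
  haveI : PreservesLimitsOfSize.{0, 0} Φ.push := Φ.adj.rightAdjoint_preservesLimits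
  haveI : @Mono _ _ _ _ N'.ι := QCoh.SubMod.mono_ι N'
  haveI : Mono (Φ.push.map N'.ι) := preserves_mono_of_preservesLimit Φ.push N'.ι
  refine ⟨Φ.push.obj N'.toModules, Φ.push.map N'.ι ≫ e'.hom ≫ S.ι, s,
    isCohF_of_ft_sub h (Φ.push.map N'.ι ≫ e'.hom ≫ S.ι), ?_⟩
  rw [mapS_comp, mapS_comp, ← hy]
  refine congrArg (mapS S.ι U) ?_
  have h1 : mapS (Φ.push.map N'.ι) U s = mapS e'.inv U y := hs'
  rw [h1, ← mapS_comp, e'.inv_hom_id, mapS_id]

include h in
/-- Quasi-coherent torsion modules are ind-coherent. -/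
theorem ind_of_qct (hM : FTors.IsQCT 𝔛 h.1 M) : IndCoh M := by
  classical
  haveI := hM.2
  choose n hn using fun a : Σ U : (𝔛.X 0).affineOpens, Sec M U.1 =>
    exists_killedBy_of_tors h a.1.2 a.2 (hM.1 a.1.1 a.2)
  choose C v y hC hy using fun a : Σ U : (𝔛.X 0).affineOpens, Sec M U.1 =>
    exists_coh_killed h a.1.2 a.2 (hn a)
  refine ind_of_family_qc h C hC v fun Z p q hpq => hom_ext_affine h fun U hU x => ?_
  have h1 := congrArg (fun r => mapS r U (y ⟨⟨U, hU⟩, x⟩)) (hpq ⟨⟨U, hU⟩, x⟩)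
  simp only [mapS_comp, hy] at h1
  exact h1

end Groth.Agent.H26.FMod
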