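import Groth.Agent.H26.FMod.DimPush
import Groth.Agent.H26.FMod.TorsPush
import Groth.Agent.H26.FMod.RpushLevel
import Groth.Agent.QCoh.RpushGod

/-!
# Higher direct images of quasi-coherent torsion modules
-/

noncomputable section

set_option autoImplicit false
set_option maxHeartbeats 1000000
set_option linter.style.haveILetI false
set_option backward.isDefEq.respectTransparency false
set_option backward.isDefEq.respectTransparency.types false

universe u

open CategoryTheory CategoryTheory.Limits TopologicalSpace Opposite AlgebraicGeometry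
open Groth.Agent.ModTensor Groth.Agent.ModPull Groth.Agent.LocalFactor Groth.Agent.SecGen

attribute [local instance] HasDerivedCategory.standard

namespace Groth.Agent.H26.FMod

variable {𝔛 𝔜 : FSch.Sys.{u}} (h : 𝔛.IsLocNoethFormal) (h𝔜 : 𝔜.IsLocNoethFormal) (f : 𝔛 ⟶ 𝔜)

include h in
/-- Quasi-coherent torsion modules on compact formal schemes form a weak Serre class. -/
theorem isWeakSerre_qct [CompactSpace (𝔛.X 0)] : WSerre.IsWeakSerre (FTors.IsQCT 𝔛 h.1) :=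
  { exists_zero := ⟨kernel (𝟙 (FTors.gammaT 𝔛 h.1 |>.obj (FSch.unitF 𝔛 h.1))), isZero_kernel_of_mono _,
      isTorsF_of_mono h (kernel.ι _) (isTorsF_gamma h),
      isQC_of_ind h (ind_of_coh h (isCohF_zero (isZero_kernel_of_mono _)))⟩
    kernels_le := fun Z => by
      rintro ⟨φ, c, hc, hX, hY⟩
      let e := (kernelIsKernel φ).conePointUniqueUpToIso hc
      exact ⟨isTorsF_of_mono h (e.inv ≫ kernel.ι φ) hX.1,
        isQC_of_ind h (ind_of_iso h e (ind_kernel h (ind_of_qct h hX) (ind_of_qct h hY) φ))⟩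
    cokernels_le := fun Z => by
      rintro ⟨φ, c, hc, hX, hY⟩
      let e := (cokernelIsCokernel φ).coconePointUniqueUpToIso hc
      exact ⟨isTorsF_of_epi h (cokernel.π φ ≫ e.hom) hY.1,
        isQC_of_ind h (ind_of_iso h e (ind_cokernel h (ind_of_qct h hX) (ind_of_qct h hY) φ))⟩
    prop_X₂_of_shortExact := fun hS h₁ h₃ => ⟨isTorsF_ext h hS h₁.1 h₃.1,
      isQC_of_ind h (ind_ext_compact h hS (ind_of_qct h h₁) (ind_of_qct h h₃))⟩ }

include h in
/-- Coherent torsion modules form a weak Serre class. -/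
theorem isWeakSerre_cohTors [CompactSpace (𝔛.X 0)] :
    WSerre.IsWeakSerre (fun M : FSch.ModF 𝔛 h.1 => FTors.IsQCT 𝔛 h.1 M ∧ FSch.IsCohF 𝔛 h.1 M) := by
  haveI := isWeakSerre_qct h
  haveI := isWeakSerre_coh h
  exact
  { exists_zero := ⟨kernel (𝟙 (FSch.unitF 𝔛 h.1)), isZero_kernel_of_mono _,
      (FTors.IsQCT 𝔛 h.1).prop_of_isZero (isZero_kernel_of_mono _), isCohF_zero (isZero_kernel_of_mono _)⟩
    kernels_le := fun Z => by
      rintro ⟨φ, c, hc, hX, hY⟩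
      exact ⟨(FTors.IsQCT 𝔛 h.1).prop_of_isLimit_kernelFork hc hX.1 hY.1,
        ObjectProperty.prop_of_isLimit_kernelFork (fun M : FSch.ModF 𝔛 h.1 => FSch.IsCohF 𝔛 h.1 M) hc hX.2 hY.2⟩
    cokernels_le := fun Z => by
      rintro ⟨φ, c, hc, hX, hY⟩
      exact ⟨(FTors.IsQCT 𝔛 h.1).prop_of_isColimit_cokernelCofork hc hX.1 hY.1,
        ObjectProperty.prop_of_isColimit_cokernelCofork (fun M : FSch.ModF 𝔛 h.1 => FSch.IsCohF 𝔛 h.1 M) hc hX.2 hY.2⟩
    prop_X₂_of_shortExact := fun hS h₁ h₃ =>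
      ⟨(FTors.IsQCT 𝔛 h.1).prop_X₂_of_shortExact hS h₁.1 h₃.1, isCohF_extension h hS h₁.2 h₃.2⟩ }

variable [CompactSpace (𝔛.X 0)] [HasInjectiveResolutions (FSch.ModF 𝔛 h.1)]

include h h𝔜 in
/-- Higher direct images of modules on a level. -/
theorem rpush_pushLvl_qct (q n : ℕ) {F : (𝔛.X n).Modules} (hF : Coh.IsQCoh F) :
    FTors.IsQCT 𝔜 h𝔜.1 ((FSch.RpushF f h.1 h𝔜.1 q).obj ((FSch.levelMor 𝔛 h.1 n).push.obj F)) ∧
      (Coh.IsCoh F → IsProper ((f : FSch.Hom 𝔛 𝔜).app 0) →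
        FSch.IsCohF 𝔜 h𝔜.1 ((FSch.RpushF f h.1 h𝔜.1 q).obj ((FSch.levelMor 𝔛 h.1 n).push.obj F))) := by
  haveI : HasInjectiveResolutions (𝔛.X n).Modules := KFlatLib.hasInjectiveResolutions_modules
  haveI := noetherianSpace_sys h n
  haveI := h.2.2 n
  haveI := h𝔜.2.2 n
  haveI : QuasiCompact ((f : FSch.Hom 𝔛 𝔜).app n) := ⟨fun U _ _ => NoetherianSpace.isCompact _⟩
  haveI : QuasiSeparated ((f : FSch.Hom 𝔛 𝔜).app n) := inferInstance
  obtain ⟨e⟩ := RpushLim.nonempty_rpush_lvl h n h𝔜 f q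
  let N := (Coh.Rpush ((f : FSch.Hom 𝔛 𝔜).app n) q).obj F
  have hN : Coh.IsQCoh N := QCoh.isQCoh_Rpush _ hF q
  refine ⟨⟨isTorsF_of_mono h𝔜 (e.app F).hom (isTorsF_pushLvl h𝔜 _ _),
    isQC_of_ind h𝔜 (ind_of_iso h𝔜 (e.app F).symm (ind_pushLvl h𝔜 n hN))⟩, fun hc hp => ?_⟩
  haveI := hp
  haveI := isProper_app h h𝔜 f n
  have hNc := S0036.result ((f : FSch.Hom 𝔛 𝔜).app n) F hc q
  exact isCohF_of_iso (e.app F).symm (isCohF_pushLvl h𝔜 n hNc.1 hNc.2)

include h h𝔜 in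
/-- Higher direct images of quasi-coherent torsion modules are quasi-coherent torsion. -/
theorem rpush_qct {M : FSch.ModF 𝔛 h.1} (hM : FTors.IsQCT 𝔛 h.1 M) (q : ℕ) :
    FTors.IsQCT 𝔜 h𝔜.1 ((FSch.RpushF f h.1 h𝔜.1 q).obj M) := by
  haveI := hM.2
  haveI := SiteBase.isGrothendieckAbelian_sheafOfModules (ModSite.ringSh (𝔛.Osh h.1))
  let S := fun n : ULift.{u} ℕ => killSub h M n.down
  let D : ULift.{u} ℕ ⥤ MonoOver M :=
    { obj := fun n => MonoOver.mk (S n).ι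
      map := fun {m n} g => MonoOver.homMk
        ((Abelian.monoIsKernelOfCokernel _ (colimit.isColimit _)).lift
          (KernelFork.ofι (S m).ι (killSub_mono h (m := m.down) (n := n.down) (show m ≤ n from leOfHom g))))
        ((Abelian.monoIsKernelOfCokernel _ (colimit.isColimit _)).fac _ WalkingParallelPair.zero)
      map_id := fun _ => Subsingleton.elim _ _
      map_comp := fun _ _ => Subsingleton.elim _ _ }
  let E : ULift.{u} ℕ ⥤ FSch.ModF 𝔛 h.1 := D ⋙ MonoOver.forget _ ⋙ Over.forget _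
  let v : colimit E ⟶ M := colimit.desc E (Cocone.mk M
    { app := fun n => (D.obj n).obj.hom
      naturality := fun {j j'} g => (MonoOver.w (D.map g)).trans (Category.comp_id _).symm })
  haveI : Mono v := IsGrothendieckAbelian.mono_of_isColimit_monoOver D (colimit.isColimit E) v
    (fun j => colimit.ι_desc _ _)
  haveI : Epi v := ⟨fun {Z} a b e => hom_ext_affine h fun W hW t => by
    obtain ⟨n, hn⟩ := exists_killedBy_of_tors h hW t (hM.1 _ _)
    obtain ⟨y, hy⟩ := (killSub h M n).exists_pre hn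
    have h1 := congrArg (colimit.ι E ⟨n⟩ ≫ ·) e
    rw [← Category.assoc, ← Category.assoc, colimit.ι_desc] at h1
    have h2 := congrArg (fun r => mapS r W (show Sec (killSub h M n).obj W from y)) h1
    simp only [mapS_comp] at h2
    have hy' : mapS (killSub h M n).ι W (show Sec (killSub h M n).obj W from y) = t := hy
    rw [← hy']
    exact h2⟩
  haveI : IsIso v := isIso_of_mono_of_epi v
  haveI := preservesColimit_rpushF h f h𝔜.1 q (ULift.{u} ℕ)
  let R := FSch.RpushF f h.1 h𝔜.1 q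
  have hobj : ∀ n, FTors.IsQCT 𝔜 h𝔜.1 (R.obj (E.obj n)) := fun n => by
    obtain ⟨F, hF, ⟨e⟩, -⟩ := exists_level_iso h (M := M) n.down
    have hn := (rpush_pushLvl_qct h h𝔜 f q n.down hF).1
    exact ⟨isTorsF_of_mono h𝔜 (R.mapIso e).inv hn.1,
      isQC_of_ind h𝔜 (ind_of_iso h𝔜 (R.mapIso e) (ind_of_qct h𝔜 hn))⟩
  have hc := isColimitOfPreserves R (colimit.isColimit E)
  exact ⟨isTorsF_of_mono h𝔜 (R.map (inv v)) (isTorsF_colimit h𝔜 hc fun n => (hobj n).1),
    isQC_of_ind h𝔜 (ind_of_iso h𝔜 (R.mapIso (asIso v)) (ind_colimit h𝔜 hc fun n => ind_of_qct h𝔜 (hobj n)))⟩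

include h h𝔜 in
/-- Pseudo-proper higher direct images of coherent torsion modules are coherent. -/
theorem rpush_cohTors [IsProper ((f : FSch.Hom 𝔛 𝔜).app 0)] {M : FSch.ModF 𝔛 h.1} (hM : FTors.IsQCT 𝔛 h.1 M)
    (hc : FSch.IsCohF 𝔛 h.1 M) (q : ℕ) : FSch.IsCohF 𝔜 h𝔜.1 ((FSch.RpushF f h.1 h𝔜.1 q).obj M) := by
  haveI := hM.2
  obtain ⟨n, hn⟩ := exists_isIso_killSub h hc hM.1
  obtain ⟨F, hF, ⟨e⟩, ⟨e₂⟩⟩ := exists_level_iso h (M := M) n
  have hFc : Coh.IsCoh F := SheafHomX.isCoh_of_iso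
    (((FSch.levelMor 𝔛 h.1 n).pull.mapIso (asIso (killSub h M n).ι)).symm ≪≫ e₂) (isCoh_pullK n M hc)
  exact isCohF_of_iso ((FSch.RpushF f h.1 h𝔜.1 q).mapIso (e ≪≫ asIso (killSub h M n).ι))
    ((rpush_pushLvl_qct h h𝔜 f q n hF).2 hFc inferInstance)

end Groth.Agent.H26.FMod
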