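import Groth.Agent.H26.FMod.Rel
import Groth.Agent.SiteBase.ModGroth
import Mathlib.CategoryTheory.Abelian.GrothendieckCategory.Subobject
import Mathlib.CategoryTheory.Limits.Constructions.Filtered

/-!
# Unions of coherent modules
-/

noncomputable section

set_option autoImplicit false
set_option maxHeartbeats 1000000
set_option linter.style.haveILetI false
set_option backward.isDefEq.respectTransparency false
set_option backward.isDefEq.respectTransparency.types false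

universe u

open CategoryTheory CategoryTheory.Limits TopologicalSpace Opposite AlgebraicGeometry
open Groth.Agent.ModTensor Groth.Agent.ModPull Groth.Agent.LocalFactor Groth.Agent.SecGen

attribute [local instance] Pres.fκ Pres.fρ

namespace Groth.Agent.H26.FMod

variable {𝔛 : FSch.Sys.{u}}

section Gen

variable {hF : 𝔛.IsFormal} {𝔉 𝔊 : FSch.ModF 𝔛 hF}

lemma mapS_id (U : (𝔛.X 0).Opens) (x : Sec 𝔉 U) : mapS (𝟙 𝔉) U x = x :=
  congrArg (fun t : (fg (𝔛.Osh hF)).obj 𝔉 ⟶ _ => t.app (op U) x) ((fg (𝔛.Osh hF)).map_id 𝔉)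

lemma mapS_zero (U : (𝔛.X 0).Opens) (x : Sec 𝔉 U) : mapS (0 : 𝔉 ⟶ 𝔊) U x = 0 :=
  congrArg (fun t : (fg (𝔛.Osh hF)).obj 𝔉 ⟶ (fg (𝔛.Osh hF)).obj 𝔊 => t.app (op U) x) ((fg (𝔛.Osh hF)).map_zero 𝔉 𝔊)

lemma mapS_add (φ ψ : 𝔉 ⟶ 𝔊) (U : (𝔛.X 0).Opens) (x : Sec 𝔉 U) : mapS (φ + ψ) U x = mapS φ U x + mapS ψ U x :=
  rfl

lemma mapS_sum {α : Type*} (s : Finset α) (φ : α → (𝔉 ⟶ 𝔊)) (U : (𝔛.X 0).Opens) (x : Sec 𝔉 U) :
    mapS (∑ a ∈ s, φ a) U x = ∑ a ∈ s, mapS (φ a) U x := by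
  classical
  induction s using Finset.induction_on with
  | empty => simpa using mapS_zero (𝔉 := 𝔉) (𝔊 := 𝔊) U x
  | insert a s ha ih => rw [Finset.sum_insert ha, Finset.sum_insert ha, mapS_add, ih]

/-- Morphisms agreeing locally on sections agree. -/
theorem hom_ext_locally (p q : 𝔉 ⟶ 𝔊)
    (hpq : ∀ (W : (𝔛.X 0).Opens) (t : Sec 𝔉 W), ModPull.Locally (Opens.grothendieckTopology (𝔛.X 0)) W
      (fun V k => mapS p V (resM 𝔉 (leOfHom k) t) = mapS q V (resM 𝔉 (leOfHom k) t))) : p = q := by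
  refine (fg (𝔛.Osh hF)).map_injective (PresheafOfModules.hom_ext fun W =>
    ModuleCat.hom_ext (LinearMap.ext fun z => eq_of_locally' 𝔊 ?_))
  refine (hpq W.unop z).mono fun V k hk => ?_
  exact (app_rs ((fg (𝔛.Osh hF)).map p) k.op z).symm.trans (hk.trans (app_rs ((fg (𝔛.Osh hF)).map q) k.op z))

/-- Relations are not changed by monomorphisms. -/
theorem hasRel_mono (ι : 𝔉 ⟶ 𝔊) [Mono ι] {U : (𝔛.X 0).Opens} {κ : Type} [Fintype κ] (y : κ → Sec 𝔉 U)
    (hy : HasRel 𝔊 U fun i => mapS ι U (y i)) : HasRel 𝔉 U y := by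
  intro V hle hV c hc
  have h1 : c ∈ SpanRes hle (RelMod fun i => mapS ι U (y i)) := hy hle hV c (by
    refine Eq.trans ?_ ((congrArg (mapS ι V) hc).trans (map_zero _))
    rw [map_sum]
    exact Finset.sum_congr rfl fun i _ => ((map_smul _ _ _).trans (congrArg (c i • ·) (mapS_res ι hle (y i)))).symm)
  have e : RelMod (fun i => mapS ι U (y i)) = RelMod y := by
    ext r
    rw [mem_RelMod, mem_RelMod, ← (app_injective ι (op U)).eq_iff (a := ∑ i, r i • y i) (b := 0)]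
    refine Iff.of_eq (congrArg₂ Eq ?_ (map_zero _).symm)
    refine ((map_sum (mapS ι U) _ _).trans ?_).symm
    exact Finset.sum_congr rfl fun i _ => map_smul _ _ _
  rwa [e] at h1

/-- Images of generators generate. -/
theorem gens_epi (π : 𝔉 ⟶ 𝔊) [Epi π] {U : (𝔛.X 0).Opens} {κ : Type} [Fintype κ] (x : κ → Sec 𝔉 U)
    (hx : Gens 𝔉 x) : Gens 𝔊 fun i => mapS π U (x i) := by
  intro W f t
  refine (locally_exists_app_eq π t).bind fun V k ⟨m, hm⟩ => (hx (k ≫ f) m).mono fun V₂ k₂ ⟨c, hc⟩ => ⟨c, ?_⟩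
  rw [SecGen.rs_op_comp, ← hm, ← app_rs, hc, map_sum]
  refine Finset.sum_congr rfl fun l _ => ?_
  rw [map_smul, app_rs, Category.assoc]

/-- Modules which are directed unions of coherent submodules. -/
theorem ind_of_monos {J : Type u} [SmallCategory J] [IsFiltered J] (D : J ⥤ MonoOver 𝔉)
    (hcoh : ∀ j, FSch.IsCohF 𝔛 hF (D.obj j).obj.left)
    (hepi : ∀ (Z : FSch.ModF 𝔛 hF) (p q : 𝔉 ⟶ Z),
      (∀ j, (D.obj j).obj.hom ≫ p = (D.obj j).obj.hom ≫ q) → p = q) :
    (ObjectProperty.ind.{u} fun 𝔊 : FSch.ModF 𝔛 hF => FSch.IsCohF 𝔛 hF 𝔊) 𝔉 := by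
  haveI := SiteBase.isGrothendieckAbelian_sheafOfModules (ModSite.ringSh (𝔛.Osh hF))
  let E : J ⥤ FSch.ModF 𝔛 hF := D ⋙ MonoOver.forget _ ⋙ Over.forget _
  let f : colimit E ⟶ 𝔉 := colimit.desc E (Cocone.mk 𝔉
    { app := fun j => (D.obj j).obj.hom
      naturality := fun {j j'} g => (MonoOver.w (D.map g)).trans (Category.comp_id _).symm })
  haveI : Mono f := IsGrothendieckAbelian.mono_of_isColimit_monoOver D (colimit.isColimit E) f
    (fun j => colimit.ι_desc _ _)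
  haveI : Epi f := ⟨fun {Z} p q e => hepi Z p q fun j => by
    have h1 := congrArg (colimit.ι E j ≫ ·) e
    rw [← Category.assoc, ← Category.assoc, colimit.ι_desc] at h1
    exact h1⟩
  haveI : IsIso f := isIso_of_mono_of_epi f
  exact ⟨J, inferInstance, inferInstance, (ColimitPresentation.colimit E).ofIso (asIso f), hcoh⟩

/-- Finite sums of coherent modules are coherent. -/
theorem isCohF_sigma {ι : Type u} [Finite ι] (C₀ : ι → FSch.ModF 𝔛 hF)
    (hC₀ : ∀ a, FSch.IsCohF 𝔛 hF (C₀ a)) : FSch.IsCohF 𝔛 hF (∐ C₀) := by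
  classical
  haveI : HasFiniteBiproducts (FSch.ModF 𝔛 hF) := Abelian.hasFiniteBiproducts
  obtain ⟨m, ⟨e⟩⟩ := Finite.exists_equiv_fin ι
  let C : Fin m → FSch.ModF 𝔛 hF := fun k => C₀ (e.symm k)
  have hC : ∀ k, FSch.IsCohF 𝔛 hF (C k) := fun k => hC₀ _
  suffices FSch.IsCohF 𝔛 hF (⨁ C) from
    ObjectProperty.prop_of_iso (SheafOfModules.isFinitePresentation (ModSite.ringSh (𝔛.Osh hF)))
      (biproduct.isoCoproduct C ≪≫ Sigma.whiskerEquiv e.symm (fun _ => Iso.refl _)) this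
  refine isFinitePresentation_of_pres _ fun X => ?_
  refine (ModPull.Locally.forall_fintype fun k : Fin m => haveI := hC k; locally_exists_pres (C k) X).mono
      fun V g hg => ?_
  let P' : ∀ k : Fin m, Pres (𝔛.Osh hF) (C k) V := fun k => (hg k).some
  let s : (Σ k : Fin m, (P' k).κ) → Sec (⨁ C) V := fun q =>
    mapS (biproduct.ι C q.1) V ((P' q.1).s q.2)
  let A : (Σ k : Fin m, (P' k).ρ) → (Σ k : Fin m, (P' k).κ) → Rg hF V := fun j q =>
    if hq : q.1 = j.1 then (P' j.1).A j.2 (hq ▸ q.2) else 0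
  have hπι : ∀ (a b : Fin m) (W : (𝔛.X 0).Opens) (z : Sec (C a) W), mapS (biproduct.π C b) W (mapS (biproduct.ι C a) W z) =
      if hab : a = b then hab ▸ z else 0 := fun a b W z => by
    rw [← mapS_comp]
    by_cases hab : a = b
    · subst hab
      rw [biproduct.ι_π_self, dif_pos rfl]
      exact mapS_id W z
    · rw [biproduct.ι_π_ne C hab, dif_neg hab]
      exact mapS_zero W z
  refine ⟨{ κ := Σ k : Fin m, (P' k).κ, ρ := Σ k : Fin m, (P' k).ρ,
            fκ := inferInstance, fρ := inferInstance, s := s, A := A, rel := fun j => ?_,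
            gen := fun W f t => ?_, exact := fun W f c hc => ?_ }⟩
  · rw [Fintype.sum_sigma, Finset.sum_eq_single j.1 (fun k _ hk => Finset.sum_eq_zero fun q _ => by
      simp only [A, dif_neg hk]; exact zero_smul _ _) (fun hh => absurd (Finset.mem_univ _) hh)]
    refine Eq.trans ?_ ((congrArg (mapS (biproduct.ι C j.1) V) ((P' j.1).rel j.2)).trans (map_zero _))
    rw [map_sum]
    refine Finset.sum_congr rfl fun q _ => ?_
    simp only [A, s, dite_true]
    exact (map_smul _ _ _).symm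
  · have h1 : ∀ k : Fin m, ModPull.Locally (Opens.grothendieckTopology (𝔛.X 0)) W (fun V' k' => ∃ c : (P' k).κ → Rg hF V',
        rs ((fg (𝔛.Osh hF)).obj (C k)) k'.op (mapS (biproduct.π C k) W t) =
          ∑ i, c i • rs ((fg (𝔛.Osh hF)).obj (C k)) (k' ≫ f).op ((P' k).s i)) :=
      fun k => (P' k).gen f _
    refine (ModPull.Locally.forall_fintype h1).mono
      fun V' k' hk' => ?_
    choose c hc using hk'
    refine ⟨fun q => c q.1 q.2, ?_⟩
    rw [Fintype.sum_sigma]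
    have htot : rs ((fg (𝔛.Osh hF)).obj (⨁ C)) k'.op t = ∑ k : Fin m, mapS (biproduct.ι C k) V'
        (rs ((fg (𝔛.Osh hF)).obj (C k)) k'.op (mapS (biproduct.π C k) W t)) := by
      refine (mapS_id V' _).symm.trans ((congrArg (fun p => mapS p V' (rs ((fg (𝔛.Osh hF)).obj (⨁ C)) k'.op t))
        (biproduct.total (f := C)).symm).trans ((mapS_sum _ _ _ _).trans ?_))
      refine Finset.sum_congr rfl fun a _ => ?_
      rw [mapS_comp]
      exact congrArg (mapS (biproduct.ι C a) V') (app_rs ((fg (𝔛.Osh hF)).map (biproduct.π C a)) k'.op t)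
    rw [htot]
    refine Finset.sum_congr rfl fun k _ => ?_
    rw [hc k, map_sum]
    refine Finset.sum_congr rfl fun i _ => ?_
    rw [map_smul]
    exact congrArg (c k i • ·) (app_rs ((fg (𝔛.Osh hF)).map (biproduct.ι C k)) (k' ≫ f).op _)
  · have h1 : ∀ k : Fin m, ModPull.Locally (Opens.grothendieckTopology (𝔛.X 0)) W (fun V' k' => ∃ d : (P' k).ρ → Rg hF V', ∀ i,
        ((𝔛.Osh hF).obj.map k'.op).hom (c ⟨k, i⟩) = ∑ j, d j * ((𝔛.Osh hF).obj.map (k' ≫ f).op).hom ((P' k).A j i)) := by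
      intro k
      refine (P' k).exact f (fun i => c ⟨k, i⟩) ?_
      have h2 := congrArg (mapS (biproduct.π C k) W) hc
      rw [map_sum, map_zero, Fintype.sum_sigma, Finset.sum_eq_single k] at h2
      · refine Eq.trans (Finset.sum_congr rfl fun i _ => ?_) h2
        rw [map_smul]
        refine congrArg (c ⟨k, i⟩ • ·) ?_
        refine Eq.trans ?_ (app_rs ((fg (𝔛.Osh hF)).map (biproduct.π C k)) f.op _).symm
        exact congrArg (rs ((fg (𝔛.Osh hF)).obj (C k)) f.op) ((hπι _ _ _ _).trans (dif_pos rfl)).symm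
      · intro l _ hl
        refine Finset.sum_eq_zero fun i _ => ?_
        rw [map_smul]
        refine (congrArg (c ⟨l, i⟩ • ·) ((app_rs ((fg (𝔛.Osh hF)).map (biproduct.π C k)) f.op _).trans
          ((congrArg (rs ((fg (𝔛.Osh hF)).obj (C k)) f.op) ((hπι _ _ _ _).trans
            (dif_neg hl))).trans (map_zero _)))).trans (smul_zero _)
      · exact fun hh => absurd (Finset.mem_univ _) hh
    refine (ModPull.Locally.forall_fintype h1).mono fun V' k' hk' => ?_
    choose d hd using hk'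
    refine ⟨fun j => d j.1 j.2, fun q => ?_⟩
    rw [Fintype.sum_sigma, Finset.sum_eq_single q.1]
    · rw [hd q.1 q.2]
      simp [A]
    · intro l _ hl
      refine Finset.sum_eq_zero fun i _ => ?_
      simp [A, dif_neg (Ne.symm hl)]
    · exact fun hh => absurd (Finset.mem_univ _) hh

end Gen

variable (h : 𝔛.IsLocNoethFormal) {𝔉 𝔊 : FSch.ModF 𝔛 h.1}

include h in
/-- Coherent modules have finitely many generators on affine opens. -/
theorem exists_gens_coh (h𝔉 : FSch.IsCohF 𝔛 h.1 𝔉) {U : (𝔛.X 0).Opens} (hU : IsAffineOpen U) :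
    ∃ (n : ℕ) (x : Fin n → Sec 𝔉 U), Gens 𝔉 x ∧ Submodule.span (Rg h.1 U) (Set.range x) = ⊤ := by
  haveI := finite_sec h h𝔉 hU
  obtain ⟨n, x, hx⟩ := Module.Finite.exists_fin (R := Rg h.1 U) (M := Sec 𝔉 U)
  refine ⟨n, x, fun W f t => ?_, hx⟩
  refine locally_D h hU (leOfHom f) _ (fun b hb => ?_) fun V V' g k hk => ?_
  · obtain ⟨c, hc⟩ := genC_D h h𝔉 hU b x hx (resM 𝔉 hb t)
    exact ⟨c, hc⟩
  · obtain ⟨c, hc⟩ := hk
    refine ⟨fun i => ((𝔛.Osh h.1).obj.map g.op).hom (c i), ?_⟩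
    rw [SecGen.rs_op_comp, hc, rs_sum]
    exact Finset.sum_congr rfl fun i _ => by rw [rs_smul, ← SecGen.rs_op_comp, Category.assoc]

/-- Relations between images of sections under a morphism come from global relations. -/
def RelFrom {hF : 𝔛.IsFormal} {𝔄 𝔅 : FSch.ModF 𝔛 hF} (π : 𝔄 ⟶ 𝔅) : Prop :=
  ∀ ⦃U : (𝔛.X 0).Opens⦄, IsAffineOpen U → ∀ {n : ℕ} (x : Fin n → Sec 𝔄 U), HasRel 𝔅 U fun i => mapS π U (x i)

include h in
theorem relFrom_of_ind (h𝔊 : (ObjectProperty.ind.{u} fun 𝔊 : FSch.ModF 𝔛 h.1 => FSch.IsCohF 𝔛 h.1 𝔊) 𝔊)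
    (π : 𝔉 ⟶ 𝔊) : RelFrom π := fun _U hU _n _x => hasRel_ind h h𝔊 hU _

include h in
/-- The image of a coherent module with global relations is coherent. -/
theorem isCohF_image {ℭ : FSch.ModF 𝔛 h.1} (hℭ : FSch.IsCohF 𝔛 h.1 ℭ) (v : ℭ ⟶ 𝔉) (π : 𝔉 ⟶ 𝔊) (hπ : RelFrom π) :
    FSch.IsCohF 𝔛 h.1 (Abelian.image (v ≫ π)) := by
  refine isFP_of_affine fun U hU => ?_
  obtain ⟨n, x, hx, -⟩ := exists_gens_coh h hℭ hU
  refine nonempty_pres_of_hasRel h hU _ (gens_epi (Abelian.factorThruImage (v ≫ π)) x hx)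
    (hasRel_mono (Abelian.image.ι (v ≫ π)) _ ?_)
  have e : (fun i => mapS (Abelian.image.ι (v ≫ π)) U (mapS (Abelian.factorThruImage (v ≫ π)) U (x i))) =
      fun i => mapS π U (mapS v U (x i)) := funext fun i => by
    rw [← mapS_comp, ← mapS_comp, Abelian.image.fac]
  rw [e]
  exact hπ hU _

include h in
/-- A module jointly covered by coherent modules, with global relations, is ind-coherent. -/
theorem ind_of_family (π : 𝔉 ⟶ 𝔊) (hπ : RelFrom π) {α : Type u} (C : α → FSch.ModF 𝔛 h.1)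
    (hC : ∀ a, FSch.IsCohF 𝔛 h.1 (C a)) (v : ∀ a, C a ⟶ 𝔉)
    (hepi : ∀ (Z : FSch.ModF 𝔛 h.1) (p q : 𝔊 ⟶ Z), (∀ a, v a ≫ π ≫ p = v a ≫ π ≫ q) → p = q) :
    (ObjectProperty.ind.{u} fun 𝔊 : FSch.ModF 𝔛 h.1 => FSch.IsCohF 𝔛 h.1 𝔊) 𝔊 := by
  classical
  let w : ∀ s : Finset α, (∐ fun a : (s : Type u) => C a.1) ⟶ 𝔊 := fun s => Sigma.desc (fun a => v a.1) ≫ π
  let i : ∀ {s t : Finset α}, s ≤ t → ((∐ fun a : (s : Type u) => C a.1) ⟶ ∐ fun a : (t : Type u) => C a.1) :=
    fun {s t} hst => Sigma.desc fun a : (s : Type u) => Sigma.ι (fun a : (t : Type u) => C a.1) ⟨a.1, hst a.2⟩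
  have hi : ∀ {s t : Finset α} (hst : s ≤ t), i hst ≫ w t = w s := fun {s t} hst => by
    refine Sigma.hom_ext _ _ fun a => ?_
    simp [i, w]
  have hw : ∀ {s t : Finset α} (hst : s ≤ t), Abelian.image.ι (w s) ≫ cokernel.π (w t) = 0 := fun {s t} hst => by
    rw [← cancel_epi (Abelian.factorThruImage (w s)), comp_zero, ← Category.assoc, Abelian.image.fac,
      ← hi hst, Category.assoc, cokernel.condition, comp_zero]
  let D : Finset α ⥤ MonoOver 𝔊 :=
    { obj := fun s => MonoOver.mk (Abelian.image.ι (w s))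
      map := fun {s t} f => MonoOver.homMk (kernel.lift _ _ (hw (leOfHom f))) (kernel.lift_ι _ _ _)
      map_id := fun _ => Subsingleton.elim _ _
      map_comp := fun _ _ => Subsingleton.elim _ _ }
  refine ind_of_monos D (fun s => ?_) fun Z p q hpq => hepi Z p q fun a => ?_
  · exact isCohF_image h (isCohF_sigma _ fun a : (s : Type u) => hC a.1) _ π hπ
  · have h1 : Abelian.image.ι (w {a}) ≫ p = Abelian.image.ι (w {a}) ≫ q := hpq {a}
    have h2 := congrArg (fun r => Sigma.ι (fun b : (({a} : Finset α) : Type u) => C b.1) ⟨a, Finset.mem_singleton_self a⟩ ≫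
      Abelian.factorThruImage (w {a}) ≫ r) h1
    simp only [← Category.assoc] at h2
    simp only [Category.assoc] at h2
    rw [← Category.assoc (Abelian.factorThruImage (w {a})), ← Category.assoc (Abelian.factorThruImage (w {a})),
      Abelian.image.fac] at h2
    simpa [w] using h2

end Groth.Agent.H26.FMod
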